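import Cfsg.Agent.Lib.FGS.FrobeniusCount
import Mathlib.GroupTheory.Sylow

/-!
Small Sylow-theoretic helpers: `p`-parts, inversion, trivial intersection Sylow subgroups.
-/

namespace CfsgLib.FGS

open Subgroup
open scoped Pointwise

variable {G : Type*} [Group G]

/-- Splitting an element into its `p`-part and its `p'`-part, both powers of it. -/
theorem exists_p_parts [Finite G] (p : ℕ) [hp : Fact p.Prime] (g : G) :
    ∃ a b : ℕ, (∃ k : ℕ, orderOf (g ^ a) = p ^ k) ∧ (orderOf (g ^ b)).Coprime p ∧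
      g ^ a * g ^ b = g ∧ ¬ p ∣ a := by
  obtain ⟨k, r, hr, hk⟩ := Nat.exists_eq_pow_mul_and_not_dvd (orderOf_pos g).ne' p hp.out.ne_one
  have hcop : (p ^ k).Coprime r := Nat.Coprime.pow_left _ (hp.out.coprime_iff_not_dvd.2 hr)
  obtain ⟨E, F, hE1, hEr, hF1, hFq, hEF⟩ := exists_idempotent_exponents hcop
  have hg : g ^ (p ^ k * r) = 1 := hk ▸ pow_orderOf_eq_one g
  by_cases hk0 : k = 0
  · subst hk0
    rw [pow_zero, one_mul] at hk hg
    refine ⟨r * (if p ∣ r then 1 else 1), 1, ⟨0, ?_⟩, ?_, ?_, ?_⟩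
    · simp [hg]
    · rw [pow_one, hk]; exact (hp.out.coprime_iff_not_dvd.2 hr).symm
    · simp [hg]
    · simpa using hr
  refine ⟨E, F, ?_, ?_, ?_, ?_⟩
  · obtain ⟨i, -, hi⟩ := (Nat.dvd_prime_pow hp.out).1 (orderOf_dvd_of_pow_eq_one (x := g ^ E)
      (by rw [← pow_mul]; exact pow_eq_one_of_dvd' hg (mul_comm (p ^ k) r ▸ Nat.mul_dvd_mul hEr dvd_rfl)))
    exact ⟨i, hi⟩
  · refine Nat.Coprime.coprime_dvd_left (orderOf_dvd_of_pow_eq_one (x := g ^ F) (n := r) ?_) ?_
    · rw [← pow_mul]; exact pow_eq_one_of_dvd' hg (Nat.mul_dvd_mul hFq dvd_rfl)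
    · exact (hp.out.coprime_iff_not_dvd.2 hr).symm
  · rw [← pow_add]; exact pow_eq_self_of_modEq hg hEF
  · intro hd
    have h1 : E ≡ 1 [MOD p] := hE1.of_dvd (dvd_pow_self p hk0)
    have h2 := h1.symm.trans (Nat.modEq_zero_iff_dvd.2 hd)
    exact hp.out.one_lt.ne' (Nat.eq_one_of_dvd_one ((Nat.modEq_zero_iff_dvd).1 h2))

theorem isPGroup_zpowers {p : ℕ} [hp : Fact p.Prime] {u : G} {k : ℕ} (h : orderOf u = p ^ k) :
    IsPGroup p (zpowers u) := IsPGroup.of_card (n := k) (by rw [Nat.card_zpowers, h])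

/-- A `p`-element normalising a Sylow `p`-subgroup lies in it. -/
theorem mem_of_mem_normalizer [Finite G] {p : ℕ} [Fact p.Prime] (P : Sylow p G) {u : G}
    (hu : ∃ k : ℕ, orderOf u = p ^ k) (hN : u ∈ normalizer ((P : Subgroup G) : Set G)) :
    u ∈ (P : Subgroup G) := by
  obtain ⟨k, hk⟩ := hu
  have h : u ∈ zpowers u ⊓ normalizer ((P : Subgroup G) : Set G) := ⟨mem_zpowers u, hN⟩
  exact ((isPGroup_zpowers hk).inf_normalizer_sylow P).le h |>.2

/-- An element centralised by a Sylow 2-subgroup and conjugate to its inverse has order ≤ 2. -/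
theorem sq_eq_one_of_inverted [Finite G] (S : Sylow 2 G) {x g : G}
    (hS : (S : Subgroup G) ≤ centralizer ({x} : Set G)) (hg : g * x * g⁻¹ = x⁻¹) : x ^ 2 = 1 := by
  haveI : Fact (Nat.Prime 2) := ⟨Nat.prime_two⟩
  obtain ⟨a, b, ⟨k, hk⟩, -, -, ha⟩ := exists_p_parts 2 g
  set t := g ^ a
  have hpow : ∀ n : ℕ, g ^ n * x * (g ^ n)⁻¹ = if 2 ∣ n then x else x⁻¹ := by
    intro n
    induction n with
    | zero => simp
    | succ n ih =>
      have e : g ^ (n + 1) * x * (g ^ (n + 1))⁻¹ = g * (g ^ n * x * (g ^ n)⁻¹) * g⁻¹ := by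
        rw [pow_succ']; group
      rw [e, ih]
      by_cases h : 2 ∣ n
      · rw [if_pos h, hg, if_neg (by omega)]
      · rw [if_neg h, if_pos (by omega), ← conj_inv, hg, inv_inv]
  have ht : t * x * t⁻¹ = x⁻¹ := by rw [hpow a, if_neg ha]
  set C := centralizer ({x} : Set G)
  have hkey : ∀ j : ℕ, t ^ 2 ^ j ∈ C → t ∈ C → x ^ 2 = 1 := by
    intro _ _ htC
    rw [mem_centralizer_singleton_iff] at htC
    have : x⁻¹ = x := by rw [← ht, htC, mul_inv_cancel_right]
    rw [pow_two]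
    calc x * x = x * x⁻¹ := by rw [this]
      _ = 1 := mul_inv_cancel x
  refine hkey k (by rw [← hk, pow_orderOf_eq_one]; exact one_mem _) ?_
  -- `t` normalises `C`, whose index is odd
  have htN : zpowers t ≤ normalizer (C : Set G) := by
    rw [zpowers_le, mem_normalizer_iff]
    intro y
    simp only [C, mem_centralizer_singleton_iff]
    constructor
    · intro hy
      have e : ∀ z : G, z * x = x * z → z * x⁻¹ = x⁻¹ * z := fun z hz => (Commute.inv_right hz).eq
      calc t * y * t⁻¹ * x = t * (y * (t⁻¹ * x * t)) * t⁻¹ := by group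
        _ = x * (t * y * t⁻¹) := by
          have h2 : t⁻¹ * x * t = x⁻¹ := by
            have := congrArg (fun z => (t⁻¹ * z * t)⁻¹) ht
            simpa [mul_assoc] using this.symm
          rw [h2, e y hy, ← h2]; group
    · intro hy
      have h2 : t⁻¹ * x * t = x⁻¹ := by
        have := congrArg (fun z => (t⁻¹ * z * t)⁻¹) ht
        simpa [mul_assoc] using this.symm
      calc y * x = t⁻¹ * (t * y * t⁻¹ * (t * x * t⁻¹)) * t := by group
        _ = t⁻¹ * ((t * x * t⁻¹) * (t * y * t⁻¹)) * t := by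
          rw [ht]; rw [(Commute.inv_right (hy : Commute (t * y * t⁻¹) x)).eq]
        _ = x * y := by group
  by_contra htC
  have hSidx : ¬ 2 ∣ C.index := fun h => S.not_dvd_index (h.trans (index_dvd_of_le hS))
  set N := normalizer (C : Set G)
  have htn : t ∈ N := htN (mem_zpowers t)
  have hCn : (C.subgroupOf N).Normal := normal_in_normalizer
  have h1 : Nat.card (↥N ⧸ C.subgroupOf N) ∣ C.index := by
    rw [← index_eq_card, ← relIndex_mul_index (le_normalizer : C ≤ N)]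
    exact Dvd.intro _ rfl
  set q : ↥N ⧸ C.subgroupOf N := QuotientGroup.mk ⟨t, htn⟩
  have hq : orderOf q ∣ 2 ^ k := by
    refine orderOf_dvd_of_pow_eq_one ?_
    have : (⟨t, htn⟩ : N) ^ 2 ^ k = 1 := by
      refine Subtype.ext ?_
      push_cast
      rw [← hk, pow_orderOf_eq_one]
    show ((⟨t, htn⟩ : N) : ↥N ⧸ C.subgroupOf N) ^ 2 ^ k = 1
    rw [← QuotientGroup.mk_pow, this]
    rfl
  obtain ⟨i, -, hi⟩ := (Nat.dvd_prime_pow Nat.prime_two).1 hq
  rcases Nat.eq_zero_or_pos i with h0 | h0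
  · rw [h0, pow_zero, orderOf_eq_one_iff, QuotientGroup.eq_one_iff, mem_subgroupOf] at hi
    exact htC hi
  · exact hSidx (((dvd_pow_self 2 h0.ne').trans hi.symm.dvd).trans ((orderOf_dvd_natCard q).trans h1))

end CfsgLib.FGS

namespace CfsgLib.FGS

open Subgroup
open scoped Pointwise

variable {G : Type*} [Group G]

theorem mem_conj_smul {H : Subgroup G} {g x : G} :
    x ∈ MulAut.conj g • H ↔ g⁻¹ * x * g ∈ H := by
  rw [Subgroup.mem_pointwise_smul_iff_inv_smul_mem, ← map_inv, MulAut.smul_def,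
    MulAut.conj_apply, inv_inv]

/-- If a Sylow subgroup is a TI set, two Sylow subgroups meeting nontrivially are equal. -/
theorem sylow_eq_of_common [Finite G] {p : ℕ} [Fact p.Prime] (P : Sylow p G)
    (hTI : ∀ g : G, g ∉ normalizer ((P : Subgroup G) : Set G) →
      (P : Subgroup G) ⊓ (MulAut.conj g • (P : Subgroup G)) = ⊥)
    (R R' : Sylow p G) {y : G} (hy : y ∈ (R : Subgroup G)) (hy' : y ∈ (R' : Subgroup G)) (hy1 : y ≠ 1) :
    R = R' := by
  obtain ⟨g, rfl⟩ := MulAction.exists_smul_eq G P R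
  obtain ⟨g', rfl⟩ := MulAction.exists_smul_eq G P R'
  rw [Sylow.coe_subgroup_smul, mem_conj_smul] at hy hy'
  have hmem : g⁻¹ * y * g ∈ (P : Subgroup G) ⊓ (MulAut.conj (g⁻¹ * g') • (P : Subgroup G)) := by
    refine ⟨hy, mem_conj_smul.2 ?_⟩
    convert hy' using 1
    group
  by_cases hN : g⁻¹ * g' ∈ normalizer ((P : Subgroup G) : Set G)
  · have h2 : (g⁻¹ * g') • P = P := Sylow.smul_eq_iff_mem_normalizer.2 hN
    calc g • P = g • ((g⁻¹ * g') • P) := by rw [h2]
      _ = g' • P := by rw [smul_smul, mul_inv_cancel_left]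
  · rw [hTI _ hN, mem_bot] at hmem
    refine absurd ?_ hy1
    calc y = g * (g⁻¹ * y * g) * g⁻¹ := by group
      _ = 1 := by rw [hmem]; group

end CfsgLib.FGS
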