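import Mathlib.GroupTheory.GroupAction.ConjAct
import Mathlib.GroupTheory.GroupAction.Quotient
import Mathlib.GroupTheory.Index

/-!
Conjugacy class sizes as centralizer indices.
-/

namespace CfsgLib.FGS

open Subgroup

variable {G : Type*} [Group G]

theorem index_centralizer_eq_ncard (g : G) :
    (centralizer ({g} : Set G)).index = {h : G | IsConj g h}.ncard := by
  have h1 : (centralizer ({g} : Set G)).index = (MulAction.stabilizer (ConjAct G) g).index := by
    rw [← index_comap_of_surjective (MulAction.stabilizer (ConjAct G) g)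
      (f := (ConjAct.toConjAct (G := G)).toMonoidHom) ConjAct.toConjAct.surjective]
    congr 1
    ext x
    rw [mem_centralizer_singleton_iff, mem_comap, MulAction.mem_stabilizer_iff,
      ConjAct.smul_def, mul_inv_eq_iff_eq_mul]
    rfl
  rw [h1, MulAction.index_stabilizer]
  congr 1
  ext x
  rw [ConjAct.mem_orbit_conjAct]
  exact ⟨IsConj.symm, IsConj.symm⟩

theorem carrier_mk_eq (g : G) : (ConjClasses.mk g).carrier = {h : G | IsConj g h} := by
  ext x
  rw [ConjClasses.mem_carrier_iff_mk_eq, ConjClasses.mk_eq_mk_iff_isConj]
  exact ⟨IsConj.symm, IsConj.symm⟩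

theorem ncard_carrier_mk (g : G) :
    (ConjClasses.mk g).carrier.ncard = (centralizer ({g} : Set G)).index := by
  rw [index_centralizer_eq_ncard, carrier_mk_eq]

theorem card_carrier_mk (g : G) :
    Nat.card (ConjClasses.mk g).carrier = (centralizer ({g} : Set G)).index := by
  rw [Nat.card_coe_set_eq, ncard_carrier_mk]

end CfsgLib.FGS
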