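import Cfsg.Agent.Lib.FGS.Basics

/-!
Jordan's covering lemma and generation by prime power order elements.
-/

namespace CfsgLib.FGS

open Subgroup

variable {G : Type*} [Group G] [Finite G]

/-- An element whose powers of prime power order all lie in `H` lies in `H`. -/
theorem mem_of_prime_powers (H : Subgroup G) (g : G)
    (h : ∀ a : ℕ, (∃ q k : ℕ, q.Prime ∧ orderOf (g ^ a) = q ^ k) → g ^ a ∈ H) : g ∈ H := by
  induction hn : orderOf g using Nat.strong_induction_on generalizing g with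
  | _ n ih =>
    by_cases h1 : orderOf g = 1
    · rw [orderOf_eq_one_iff.1 h1]; exact one_mem _
    obtain ⟨q, hq, hqd⟩ := Nat.exists_prime_and_dvd h1
    haveI := Fact.mk hq
    obtain ⟨a, b, ⟨k, hk⟩, hcop, hab, -⟩ := exists_p_parts q g
    rw [← hab]
    refine mul_mem (h a ⟨q, k, hq, hk⟩) ?_
    refine ih _ ?_ (g ^ b) (fun c hc => ?_) rfl
    · rw [← hn]
      have hd : orderOf (g ^ b) ∣ orderOf g := orderOf_pow_dvd b
      refine lt_of_le_of_ne (Nat.le_of_dvd (orderOf_pos g) hd) fun e => ?_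
      rw [e] at hcop
      exact hq.one_lt.ne' (Nat.eq_one_of_dvd_coprimes hcop hqd dvd_rfl)
    · rw [← pow_mul] at hc ⊢
      exact h _ hc

/-- Jordan: a proper subgroup and its conjugates do not cover a finite group. -/
theorem eq_top_of_forall_exists_conj {H : Subgroup G}
    (h : ∀ g : G, ∃ c : G, c * g * c⁻¹ ∈ H) : H = ⊤ := by
  classical
  by_contra hH
  let F : (G ⧸ H) × {x : H // x ≠ 1} → {g : G // g ≠ 1} := fun z =>
    ⟨z.1.out * (z.2.1 : G) * z.1.out⁻¹, fun e => z.2.2 (Subtype.ext (conj_eq_one_iff.1 e))⟩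
  have hF : Function.Surjective F := by
    rintro ⟨g, hg⟩
    obtain ⟨c, hc⟩ := h g
    obtain ⟨u, hu⟩ := QuotientGroup.mk_out_eq_mul H c⁻¹
    refine ⟨(QuotientGroup.mk c⁻¹, ⟨⟨(u : G)⁻¹ * (c * g * c⁻¹) * u, mul_mem (mul_mem (inv_mem u.2) hc) u.2⟩,
      fun e => hg ?_⟩), Subtype.ext ?_⟩
    · have e' : (u : G)⁻¹ * (c * g * c⁻¹) * u = 1 := congrArg Subtype.val e
      have e2 := conj_eq_one_iff.1 (show (u : G)⁻¹ * (c * g * c⁻¹) * ((u : G)⁻¹)⁻¹ = 1 by rwa [inv_inv])
      exact conj_eq_one_iff.1 e2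
    · show Quotient.out (QuotientGroup.mk c⁻¹ : G ⧸ H) * _ * _ = g
      rw [hu]
      group
  have hle0 := Nat.card_le_card_of_surjective F hF
  haveI := Fintype.ofFinite G
  haveI := Fintype.ofFinite H
  have e1 : ∀ {α : Type _} [Group α] [Fintype α], Nat.card {x : α // x ≠ 1} = Nat.card α - 1 := by
    intro α _ _
    rw [Nat.card_eq_fintype_card, Nat.card_eq_fintype_card, Fintype.card_subtype_compl,
      Fintype.card_subtype_eq]
  rw [Nat.card_prod, e1, e1, ← index_eq_card, Nat.mul_sub, mul_one, index_mul_card] at hle0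
  have hi : 2 ≤ H.index := by
    have h0 : H.index ≠ 0 := index_ne_zero_of_finite
    have h1 : H.index ≠ 1 := fun e => hH (index_eq_one.1 e)
    omega
  have hle : H.index ≤ Nat.card G := Nat.le_of_dvd Nat.card_pos H.index_dvd_card
  omega

end CfsgLib.FGS
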