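import Cfsg.Agent.Lib.Transfer.Critical
import Cfsg.Agent.Lib.Transfer.Frobenius

/-!
Coprime automorphisms and elements of order `p` (or `4`) with prime power class sizes.
-/

namespace CfsgLib.FGS

open Subgroup
open scoped commutatorElement

variable {p : ℕ} [hp : Fact p.Prime]

/-- `x` has order dividing `p`, or dividing `4` when `p = 2`. -/
def IsSmall (p : ℕ) {G : Type*} [Group G] (x : G) : Prop := x ^ p = 1 ∨ (p = 2 ∧ x ^ 4 = 1)

/-- A coprime automorphism of a `p`-group fixing the small elements is trivial. -/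
theorem aut_eq_one_of_fix_small {G : Type*} [Group G] [Finite G] (hG : IsPGroup p G)
    (a : MulAut G) (ha : (orderOf a).Coprime p) (h : ∀ x : G, IsSmall p x → a x = x) : a = 1 := by
  rcases eq_or_ne p 2 with rfl | hp2
  swap
  · exact Transfer.aut_eq_one_of_fix_omega hp2 hG a ha fun x hx => h x (Or.inl hx)
  obtain ⟨H, hHc, hpow, hcomm, hC⟩ := Transfer.exists_critical hG
  have hHn : H.Normal := inferInstance
  refine Transfer.aut_eq_one_of_fix_normal hG H hC a ha fun x hx => ?_
  have haH : ∀ y ∈ H, a y ∈ H := fun y hy => characteristic_iff_map_le.1 hHc a ⟨y, hy, rfl⟩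
  suffices ∀ k, ∀ y ∈ H, y ^ 2 ^ k = 1 → a y = y by
    obtain ⟨k, hk⟩ := hG x
    exact this k x hx hk
  intro k
  induction k with
  | zero => exact fun y _ hy => by rw [pow_zero, pow_one] at hy; subst hy; exact map_one a
  | succ k ih =>
    intro y hy hyk
    have hfix : a (y ^ 2) = y ^ 2 :=
      ih _ (H.pow_mem hy 2) (by rw [← pow_mul, ← pow_succ', hyk])
    set c := y⁻¹ * a y with hc
    have hcH : c ∈ H := mul_mem (inv_mem hy) (haH y hy)
    have hay : a y = y * c := by rw [hc, mul_inv_cancel_left]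
    -- `c ^ 4 = 1`
    have hc4 : c ^ 4 = 1 := by
      have h1 : y * c * (y * c) = y * y := by rw [← hay, ← map_mul, ← pow_two, hfix]
      set w := ⁅c, y⁆ with hw
      have hwc : ∀ v ∈ H, Commute w v := fun v hv =>
        (mem_centralizer_iff.1 (hcomm (commutator_mem_commutator hcH (mem_top y))).2 v hv).symm
      have h2 : c * y = w * y * c := by rw [hw, commutatorElement_def]; group
      have h3 : c * c = w⁻¹ := by
        have h4 : y * y * (w * (c * c)) = y * y * 1 := by
          calc y * y * (w * (c * c)) = y * (y * w) * (c * c) := by group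
            _ = y * (w * y) * (c * c) := by rw [(hwc y hy).eq]
            _ = y * (w * y * c) * c := by group
            _ = y * (c * y) * c := by rw [h2]
            _ = y * y * 1 := by rw [mul_one, ← h1]; group
        exact (inv_eq_of_mul_eq_one_right (mul_left_cancel h4)).symm
      have hc2 : Commute (c * c) y := by
        have := (mem_centralizer_iff.1 (hpow c hcH).2 y hy).symm
        rwa [pow_two] at this
      have hw2 : w * w = 1 := by
        have h5 : c * c * y = w * (w * y) * (c * c) := by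
          calc c * c * y = c * (c * y) := by group
            _ = c * w * y * c := by rw [h2]; group
            _ = w * (c * y) * c := by rw [← (hwc c hcH).eq]; group
            _ = w * (w * y) * (c * c) := by rw [h2]; group
        rw [hc2.eq] at h5
        have h6 := mul_right_cancel h5
        rw [← mul_assoc] at h6
        exact (mul_eq_right.1 h6.symm)
      rw [show (4 : ℕ) = 2 + 2 from rfl, pow_add, pow_two, h3, ← mul_inv_rev, hw2, inv_one]
    have hn : ∀ n : ℕ, (a ^ n) y = y * c ^ n := by
      intro n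
      induction n with
      | zero => simp
      | succ n ihn =>
        rw [pow_succ', MulAut.mul_apply, ihn, map_mul, map_pow, h c (Or.inr ⟨rfl, hc4⟩), pow_succ',
          hay, mul_assoc]
    have h2 : c ^ orderOf a = 1 := by
      have := hn (orderOf a)
      rw [pow_orderOf_eq_one, MulAut.one_apply] at this
      exact left_eq_mul.1 this
    have h3 : c = 1 := (hG.powEquiv ha.symm).injective (show c ^ orderOf a = 1 ^ orderOf a by
      rw [one_pow, h2])
    rw [hay, h3, mul_one]

/-- An element of prime-to-`p` order normalising a `p`-subgroup and centralising its small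
elements centralises it. -/
theorem mem_centralizer_of_fix_small {G : Type*} [Group G] [Finite G] (Q : Subgroup G)
    (hQ : IsPGroup p Q) {g : G} (hg : g ∈ normalizer (Q : Set G)) (hgo : (orderOf g).Coprime p)
    (h : ∀ x ∈ Q, IsSmall p x → Commute g x) : g ∈ centralizer (Q : Set G) := by
  set a := Q.normalizerMonoidHom ⟨g, hg⟩ with ha
  have hao : (orderOf a).Coprime p := Nat.Coprime.coprime_dvd_left
    ((orderOf_map_dvd _ _).trans (dvd_of_eq (Subgroup.orderOf_mk g hg))) hgo
  have h1 : a = 1 := aut_eq_one_of_fix_small hQ a hao fun x hx => Subtype.ext (by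
    show g * (x : G) * g⁻¹ = x
    rw [(h x x.2 ?_).eq, mul_inv_cancel_right]
    rcases hx with hx | ⟨h2, hx⟩
    · exact Or.inl (by simpa using congrArg Subtype.val hx)
    · exact Or.inr ⟨h2, by simpa using congrArg Subtype.val hx⟩)
  refine mem_centralizer_iff.2 fun x hx => ?_
  have h2 : g * x * g⁻¹ = x := congrArg Subtype.val (DFunLike.congr_fun h1 (⟨x, hx⟩ : Q))
  exact (mul_inv_eq_iff_eq_mul.1 h2).symm

/-- A `p`-element with class of `p`-power size has all its conjugates in each Sylow `p`-subgroup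
containing it. -/
theorem conj_mem_sylow_of_class_size {G : Type*} [Group G] [Finite G] (P : Sylow p G) {x : G}
    (hx : x ∈ (P : Subgroup G)) {m : ℕ} (hm : (centralizer ({x} : Set G)).index = p ^ m) (g : G) :
    g * x * g⁻¹ ∈ (P : Subgroup G) := by
  set C := centralizer ({x} : Set G)
  set Pg : Subgroup G := (P : Subgroup G) with hPg
  obtain ⟨c, hc⟩ := IsPGroup.iff_card.1 (P.2.to_le (inf_le_right : C ⊓ Pg ≤ Pg))
  obtain ⟨n, hn⟩ := IsPGroup.iff_card.1 P.2
  have hcm : c + m ≤ n := by
    have h1 : p ^ (c + m) ∣ Nat.card G := by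
      rw [← C.card_mul_index, hm, pow_add]
      exact Nat.mul_dvd_mul_right (hc ▸ card_dvd_of_le inf_le_left) _
    have h2 := P.pow_dvd_card_of_pow_dvd_card h1
    rw [hn] at h2
    exact (Nat.pow_dvd_pow_iff_le_right hp.out.one_lt).1 h2
  have hrel : C.relIndex Pg * p ^ c = p ^ n := by
    rw [← hc, ← hn, mul_comm, ← inf_relIndex_right]
    exact relIndex_bot_left (H := C ⊓ Pg) ▸ relIndex_bot_left (H := Pg) ▸
      relIndex_mul_relIndex ⊥ (C ⊓ Pg) Pg bot_le inf_le_right
  have hge : Nat.card (G ⧸ C) ≤ Nat.card (↥Pg ⧸ C.subgroupOf Pg) := by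
    rw [← index_eq_card, hm, ← index_eq_card]
    show p ^ m ≤ C.relIndex Pg
    refine Nat.le_of_mul_le_mul_right ?_ (pow_pos hp.out.pos c)
    rw [hrel, ← pow_add]
    exact Nat.pow_le_pow_right hp.out.pos (by omega)
  let f : ↥Pg ⧸ C.subgroupOf Pg → G ⧸ C := Quotient.map' (fun s => (s : G)) fun a b h => by
    rw [QuotientGroup.leftRel_apply] at h ⊢
    simpa [mem_subgroupOf] using h
  have hf : Function.Injective f := by
    intro a b h
    induction a using QuotientGroup.induction_on with
    | _ a =>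
      induction b using QuotientGroup.induction_on with
      | _ b =>
        have h' : ((a : G) : G ⧸ C) = ((b : G) : G ⧸ C) := h
        rw [QuotientGroup.eq] at h'
        exact QuotientGroup.eq.2 (by simpa [mem_subgroupOf] using h')
  have hbij := (hf.bijective_of_nat_card_le hge)
  obtain ⟨q, hq⟩ := hbij.2 (g : G ⧸ C)
  induction q using QuotientGroup.induction_on with
  | _ s =>
    have h' : ((s : G) : G ⧸ C) = ((g : G) : G ⧸ C) := hq
    rw [QuotientGroup.eq, mem_centralizer_singleton_iff] at h'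
    have : g * x * g⁻¹ = s * x * (s : G)⁻¹ := by
      calc g * x * g⁻¹ = s * ((s : G)⁻¹ * g * x) * g⁻¹ := by group
        _ = _ := by rw [h']; group
    rw [this]
    exact mul_mem (mul_mem s.2 hx) (inv_mem s.2)

omit hp in
theorem IsSmall.conj {G : Type*} [Group G] {x : G} (hx : IsSmall p x) (g : G) :
    IsSmall p (g * x * g⁻¹) := by
  rcases hx with hx | ⟨h2, hx⟩
  · exact Or.inl (by rw [conj_pow, hx, mul_one, mul_inv_cancel])
  · exact Or.inr ⟨h2, by rw [conj_pow, hx, mul_one, mul_inv_cancel]⟩

/-- If the small elements have classes of `p`-power size, there is a normal `p`-complement. -/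
theorem hasNormalPComplement_of_small_classes {G : Type*} [Group G] [Finite G]
    (h : ∀ x : G, IsSmall p x → ∃ m : ℕ, (centralizer ({x} : Set G)).index = p ^ m) :
    Cfsg.HasNormalPComplement p G := by
  obtain ⟨P⟩ : Nonempty (Sylow p G) := inferInstance
  set V := (P : Subgroup G).normalCore with hV
  have hVP : IsPGroup p V := P.2.to_le (normalCore_le _)
  haveI : V.Normal := normalCore_normal _
  have hsmallV : ∀ x : G, IsSmall p x → x ∈ V := by
    intro x hx
    obtain ⟨m, hm⟩ := h x hx
    have hxp : IsPGroup p (zpowers x) := by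
      obtain ⟨i, hi⟩ : ∃ i, orderOf x ∣ p ^ i := by
        rcases hx with hx | ⟨h2, hx⟩
        · exact ⟨1, by rw [pow_one]; exact orderOf_dvd_of_pow_eq_one hx⟩
        · exact ⟨2, by subst h2; exact orderOf_dvd_of_pow_eq_one hx⟩
      obtain ⟨j, -, hj⟩ := (Nat.dvd_prime_pow hp.out).1 hi
      exact IsPGroup.of_card (n := j) (by rw [Nat.card_zpowers, hj])
    obtain ⟨R, hR⟩ := hxp.exists_le_sylow
    obtain ⟨k, hk⟩ := MulAction.exists_smul_eq G R P
    have hconj := conj_mem_sylow_of_class_size R (hR (mem_zpowers x)) hm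
    intro b
    rw [← hk, Sylow.coe_subgroup_smul]
    refine mem_pointwise_smul_iff_inv_smul_mem.2 ?_
    rw [← map_inv, MulAut.smul_def, MulAut.conj_apply]
    have := hconj (k⁻¹ * b)
    simpa [mul_assoc] using this
  obtain ⟨H, hHc, hpow, hcomm, hC⟩ := Transfer.exists_critical hVP
  set HG := H.map V.subtype with hHG
  haveI : HG.Normal := ConjAct.normal_of_characteristic_of_normal (H := V) (K := H)
  have hcen : ∀ u ∈ H, ∀ v ∈ H, ⁅u, v⁆ ∈ centralizer (H : Set V) := fun u hu v _ =>
    (hcomm (commutator_mem_commutator hu (mem_top v))).2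
  -- the small elements of the critical subgroup form a subgroup
  have hmulS : ∀ u ∈ H, ∀ v ∈ H, IsSmall p u → IsSmall p v → IsSmall p (u * v) := by
    intro u hu v hv hus hvs
    have hz : ∀ s t : H, ⁅s, t⁆ ∈ center H := fun s t => mem_center_iff.2 fun w => Subtype.ext (by
      have := mem_centralizer_iff.1 (hcen s s.2 t t.2) w w.2
      push_cast [commutatorElement_def]
      rw [commutatorElement_def] at this
      exact this)
    have hpc : (⟨v, hv⟩ : H) ^ p ∈ center H := mem_center_iff.2 fun w =>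
      Subtype.ext (mem_centralizer_iff.1 (hpow v hv).2 w w.2)
    set w : H := ⁅(⟨v, hv⟩ : H), (⟨u, hu⟩ : H)⁆ with hwdef
    have hwp : w ^ p = 1 := by
      rw [hwdef, ← PGroup.comm_pow_left (hz _ _)]
      exact commutatorElement_eq_one_iff_mul_comm.2 (mem_center_iff.1 hpc ⟨u, hu⟩).symm
    have key : ∀ e : ℕ, p ∣ e.choose 2 → (⟨u, hu⟩ * ⟨v, hv⟩ : H) ^ e = ⟨u, hu⟩ ^ e * ⟨v, hv⟩ ^ e := by
      intro e he
      obtain ⟨j, hj⟩ := he
      rw [PGroup.mul_pow_of_comm_mem_center (hz _ _), ← hwdef, hj, pow_mul, hwp, one_pow, mul_one]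
    rcases eq_or_ne p 2 with h2 | h2
    · subst h2
      have h4 : ∀ y : V, IsSmall 2 y → y ^ 4 = 1 := by
        rintro y (hy | ⟨-, hy⟩)
        · rw [show (4 : ℕ) = 2 * 2 from rfl, pow_mul, hy, one_pow]
        · exact hy
      refine Or.inr ⟨rfl, ?_⟩
      have := congrArg Subtype.val (key 4 (by decide))
      simpa [h4 u hus, h4 v hvs] using this
    · have hy : ∀ y : V, IsSmall p y → y ^ p = 1 := fun y hy =>
        hy.elim id fun h => absurd h.1 h2
      refine Or.inl ?_
      have := congrArg Subtype.val (key p (hp.out.dvd_choose_self (by norm_num)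
        (lt_of_le_of_ne hp.out.two_le (Ne.symm h2))))
      simpa [hy u hus, hy v hvs] using this
  have hsmallsub : ∀ y : V, IsSmall p y ↔ IsSmall p (y : G) := fun y => by
    simp [IsSmall, Subtype.ext_iff]
  -- the small elements of the critical subgroup commute with the `p'`-elements
  let M : Subgroup G :=
    { carrier := {u | u ∈ HG ∧ IsSmall p u ∧ ∀ y : G, (orderOf y).Coprime p → Commute y u}
      one_mem' := ⟨one_mem _, Or.inl (one_pow p), fun y _ => Commute.one_right y⟩
      mul_mem' := by
        rintro _ _ ⟨⟨u, hu, rfl⟩, hus, huc⟩ ⟨⟨v, hv, rfl⟩, hvs, hvc⟩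
        refine ⟨⟨u * v, mul_mem hu hv, map_mul _ _ _⟩, ?_, fun y hy => (huc y hy).mul_right (hvc y hy)⟩
        have := (hsmallsub (u * v)).1 (hmulS u hu v hv ((hsmallsub u).2 hus) ((hsmallsub v).2 hvs))
        simpa using this
      inv_mem' := by
        rintro u ⟨hu, hus, huc⟩
        refine ⟨inv_mem hu, ?_, fun y hy => (huc y hy).inv_right⟩
        rcases hus with h1 | ⟨h2, h1⟩
        · exact Or.inl (by rw [inv_pow, h1, inv_one])
        · exact Or.inr ⟨h2, by rw [inv_pow, h1, inv_one]⟩ }
  haveI : M.Normal := ⟨by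
    rintro u ⟨hu, hus, huc⟩ g
    refine ⟨Normal.conj_mem inferInstance u hu g, hus.conj g, fun y hy => ?_⟩
    have := huc (g⁻¹ * y * g) (by
      rw [show g⁻¹ * y * g = MulAut.conj g⁻¹ y by simp, MulEquiv.orderOf_eq]; exact hy)
    calc y * (g * u * g⁻¹) = g * (g⁻¹ * y * g * u) * g⁻¹ := by group
      _ = g * (u * (g⁻¹ * y * g)) * g⁻¹ := by rw [this.eq]
      _ = g * u * g⁻¹ * y := by group⟩
  let U : Subgroup G :=
    { carrier := {u | u ∈ HG ∧ IsSmall p u}
      one_mem' := ⟨one_mem _, Or.inl (one_pow p)⟩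
      mul_mem' := by
        rintro _ _ ⟨⟨u, hu, rfl⟩, hus⟩ ⟨⟨v, hv, rfl⟩, hvs⟩
        refine ⟨⟨u * v, mul_mem hu hv, map_mul _ _ _⟩, ?_⟩
        have := (hsmallsub (u * v)).1 (hmulS u hu v hv ((hsmallsub u).2 hus) ((hsmallsub v).2 hvs))
        simpa using this
      inv_mem' := by
        rintro u ⟨hu, hus⟩
        refine ⟨inv_mem hu, ?_⟩
        rcases hus with h1 | ⟨h2, h1⟩
        · exact Or.inl (by rw [inv_pow, h1, inv_one])
        · exact Or.inr ⟨h2, by rw [inv_pow, h1, inv_one]⟩ }
  haveI : U.Normal := ⟨fun u hu g => ⟨Normal.conj_mem inferInstance u hu.1 g, hu.2.conj g⟩⟩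
  have hUM : U ≤ M := by
    by_contra hle
    set π := QuotientGroup.mk' M with hπ
    set Ub := U.map π with hUb
    have hUbn : Ub.Normal := Normal.map inferInstance π (QuotientGroup.mk'_surjective M)
    have hUbne : Ub ≠ ⊥ := by
      rw [Ne, Subgroup.map_eq_bot_iff, QuotientGroup.ker_mk']
      exact hle
    set Pb := (P : Subgroup G).map π with hPb
    have hUP : U ≤ (P : Subgroup G) := fun u hu => by
      obtain ⟨v, -, rfl⟩ := hu.1
      exact normalCore_le _ v.2
    have hUbP : Ub ≤ Pb := map_mono hUP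
    haveI : (Ub.subgroupOf Pb).Normal := Normal.subgroupOf hUbn _
    obtain ⟨Z, hZU, hZc, -, hZp⟩ := PGroup.exists_card_eq_le_center (P.2.map π)
      (Ub.subgroupOf Pb) (by rwa [Ne, subgroupOf_eq_bot, disjoint_iff, inf_eq_left.2 hUbP])
    obtain ⟨⟨z, hz⟩, hzne⟩ : ∃ z : Z, z ≠ 1 := by
      haveI : Nontrivial Z := Finite.one_lt_card_iff_nontrivial.1 (hp.out.one_lt.trans_eq hZp.symm)
      exact exists_ne 1
    obtain ⟨x, hxU, hxz⟩ := (mem_subgroupOf.1 (hZU hz) : (z : G ⧸ M) ∈ Ub)
    obtain ⟨m, hm⟩ := h x hxU.2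
    set C' := (centralizer ({π x} : Set (G ⧸ M))).comap π with hC'
    have hPC : (P : Subgroup G) ≤ C' := fun s hs => mem_centralizer_singleton_iff.2 (by
      have := congrArg Subtype.val (mem_center_iff.1 (hZc hz) ⟨π s, mem_map_of_mem π hs⟩)
      rw [hxz]; exact this)
    have hCC : centralizer ({x} : Set G) ≤ C' := fun s hs => mem_centralizer_singleton_iff.2 (by
      rw [← map_mul, mem_centralizer_singleton_iff.1 hs, map_mul])
    have hCtop : C' = ⊤ := by
      rw [← index_eq_one]
      obtain ⟨i, -, hi⟩ := (Nat.dvd_prime_pow hp.out).1 ((index_dvd_of_le hCC).trans hm.dvd)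
      rcases Nat.eq_zero_or_pos i with h0 | h0
      · rw [hi, h0, pow_zero]
      · exact absurd ((dvd_pow_self p h0.ne').trans (hi.symm.dvd.trans (index_dvd_of_le hPC)))
          P.not_dvd_index
    have hxM : x ∈ M := by
      refine ⟨hxU.1, hxU.2, fun y hy => ?_⟩
      set c := x⁻¹ * (y * x * y⁻¹) with hc
      have hcM : c ∈ M := by
        refine (QuotientGroup.eq_one_iff _).1 ?_
        have h1 := mem_centralizer_singleton_iff.1 ((hCtop ▸ mem_top y : y ∈ C') : π y ∈ _)
        show π c = 1
        rw [hc, map_mul, map_mul, map_mul, h1, map_inv, map_inv, mul_inv_cancel_right, inv_mul_cancel]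
      have hyc : Commute y c := hcM.2.2 y hy
      have hn : ∀ n : ℕ, y ^ n * x * (y ^ n)⁻¹ = x * c ^ n := by
        intro n
        induction n with
        | zero => simp
        | succ n ih =>
          rw [pow_succ', pow_succ' c,
            show y * y ^ n * x * (y * y ^ n)⁻¹ = y * (y ^ n * x * (y ^ n)⁻¹) * y⁻¹ by group, ih]
          calc y * (x * c ^ n) * y⁻¹ = y * x * y⁻¹ * (y * c ^ n * y⁻¹) := by group
            _ = x * c * c ^ n := by rw [(hyc.pow_right n).eq, mul_inv_cancel_right, hc]; group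
            _ = x * (c * c ^ n) := mul_assoc _ _ _
      have h1 := hn (orderOf y)
      rw [pow_orderOf_eq_one, one_mul, inv_one, mul_one, left_eq_mul] at h1
      have hc1 : c = 1 := by
        rw [← orderOf_eq_one_iff]
        refine Nat.eq_one_of_dvd_coprimes hy (orderOf_dvd_of_pow_eq_one h1) ?_
        rcases hcM.2.1 with h2 | ⟨rfl, h2⟩
        · exact orderOf_dvd_of_pow_eq_one h2
        · have h4 : orderOf c ∣ 2 ^ 2 := orderOf_dvd_of_pow_eq_one h2
          obtain ⟨i, hi, hi'⟩ := (Nat.dvd_prime_pow Nat.prime_two).1 h4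
          have hcop : (orderOf c).Coprime 2 := (hy.coprime_dvd_left (orderOf_dvd_of_pow_eq_one h1))
          rcases Nat.eq_zero_or_pos i with h0 | h0
          · rw [hi', h0, pow_zero]; exact one_dvd _
          · exact absurd (Nat.eq_one_of_dvd_coprimes hcop (hi' ▸ dvd_pow_self 2 h0.ne') dvd_rfl)
              (by norm_num)
      rw [hc, inv_mul_eq_one] at hc1
      exact (mul_inv_eq_iff_eq_mul.1 hc1.symm)
    refine hzne (Subtype.ext (Subtype.ext ?_))
    rw [← hxz]
    exact (QuotientGroup.eq_one_iff x).2 hxM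
  -- `p'`-elements centralise `O_p(G)`
  have hfix : ∀ y : G, (orderOf y).Coprime p → y ∈ centralizer (V : Set G) := by
    intro y hy
    have hyH : y ∈ centralizer (HG : Set G) :=
      mem_centralizer_of_fix_small HG ((hVP.to_subgroup H).map V.subtype) (by rw [normalizer_eq_top]; exact mem_top y) hy
        fun x hx hxs => (hUM ⟨hx, hxs⟩).2.2 y hy
    set a := (MulAut.conjNormal y : MulAut V) with ha
    have hao : (orderOf a).Coprime p :=
      Nat.Coprime.coprime_dvd_left (orderOf_map_dvd MulAut.conjNormal y) hy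
    have ha1 : a = 1 := Transfer.aut_eq_one_of_fix_normal hVP H hC a hao fun x hx => Subtype.ext (by
      rw [ha, MulAut.conjNormal_apply, (mem_centralizer_iff.1 hyH x (mem_map_of_mem _ hx)).symm,
        mul_inv_cancel_right])
    refine mem_centralizer_iff.2 fun x hx => ?_
    have := congrArg Subtype.val (DFunLike.congr_fun ha1 ⟨x, hx⟩)
    rw [ha, MulAut.conjNormal_apply] at this
    exact (mul_inv_eq_iff_eq_mul.1 this).symm
  refine Transfer.hasNormalPComplement_of_frobeniusCond fun Q hQ g hg hgo => ?_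
  refine mem_centralizer_of_fix_small Q hQ hg hgo fun x _ hxs => ?_
  exact (mem_centralizer_iff.1 (hfix g hgo) x (hsmallV x hxs)).symm

end CfsgLib.FGS
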