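import Cfsg.Agent.Lib.PStab.Complement
import Cfsg.Agent.Lib.OddLocal.Basic

/-!
Thompson's theorem: a finite group with a fixed-point-free automorphism of prime order is nilpotent.
-/

set_option autoImplicit false

open scoped Pointwise

namespace CfsgLib.FGS

universe u

variable {G : Type u} [Group G]

theorem pow_apply_mem {φ : MulAut G} {H : Subgroup G} (h : ∀ x ∈ H, φ x ∈ H) :
    ∀ (n : ℕ), ∀ x ∈ H, (φ ^ n) x ∈ H := by
  intro n
  induction n with
  | zero => intro x hx; simpa using hx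
  | succ n ih => intro x hx; rw [pow_succ, MulAut.mul_apply]; exact ih _ (h x hx)

/-- The restriction of an automorphism to an invariant subgroup. -/
theorem exists_restrict_mulAut [Finite G] (φ : MulAut G) {H : Subgroup G}
    (h : ∀ x ∈ H, φ x ∈ H) :
    ∃ ψ : MulAut H, ∀ (n : ℕ) (x : H), (((ψ ^ n) x : H) : G) = (φ ^ n) x := by
  let f : H →* H := (φ.toMonoidHom.comp H.subtype).codRestrict H fun x => h x x.2
  have hf : Function.Bijective f :=
    Finite.injective_iff_bijective.1 fun x y e =>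
      Subtype.ext (φ.injective (congrArg Subtype.val e))
  refine ⟨MulEquiv.ofBijective f hf, fun n => ?_⟩
  induction n with
  | zero => intro x; rfl
  | succ n ih =>
    intro x
    rw [pow_succ, MulAut.mul_apply, ih, pow_succ, MulAut.mul_apply]
    rfl

/-- The automorphism induced on the quotient by an invariant normal subgroup. -/
theorem exists_quotient_mulAut [Finite G] (φ : MulAut G) {N : Subgroup G} [N.Normal]
    (h : ∀ x ∈ N, φ x ∈ N) :
    ∃ ψ : MulAut (G ⧸ N), ∀ (n : ℕ) (x : G),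
      (ψ ^ n) (QuotientGroup.mk' N x) = QuotientGroup.mk' N ((φ ^ n) x) := by
  let f : (G ⧸ N) →* (G ⧸ N) := QuotientGroup.map N N φ.toMonoidHom fun x hx => h x hx
  have hf : Function.Bijective f := by
    refine Finite.surjective_iff_bijective.1 fun y => ?_
    obtain ⟨x, rfl⟩ := QuotientGroup.mk'_surjective N y
    exact ⟨QuotientGroup.mk' N (φ.symm x), congrArg _ (φ.apply_symm_apply x)⟩
  refine ⟨MulEquiv.ofBijective f hf, fun n => ?_⟩
  induction n with
  | zero => intro x; rfl
  | succ n ih =>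
    intro x
    rw [pow_succ, MulAut.mul_apply, pow_succ, MulAut.mul_apply, ← ih]
    rfl

theorem bijective_inv_mul_apply [Finite G] (φ : MulAut G) (hfix : ∀ x, φ x = x → x = 1) :
    Function.Bijective (fun x : G => x⁻¹ * φ x) := by
  refine Finite.injective_iff_bijective.1 fun x y e => ?_
  have e' : x⁻¹ * φ x = y⁻¹ * φ y := e
  have h1 : φ (x * y⁻¹) = x * y⁻¹ := by
    rw [map_mul, map_inv]
    calc φ x * (φ y)⁻¹ = x * (x⁻¹ * φ x) * (φ y)⁻¹ := by group
      _ = x * (y⁻¹ * φ y) * (φ y)⁻¹ := by rw [e']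
      _ = _ := by group
  exact mul_inv_eq_one.1 (hfix _ h1)

/-- An invariant Sylow subgroup. -/
theorem exists_invariant_sylow_fpf [Finite G] (φ : MulAut G) (hfix : ∀ x, φ x = x → x = 1)
    (p : ℕ) [Fact p.Prime] : ∃ P : Sylow p G, ∀ x ∈ P, φ x ∈ P := by
  obtain ⟨P⟩ : Nonempty (Sylow p G) := inferInstance
  obtain ⟨g, hg⟩ := MulAction.exists_smul_eq G P (P.mapSurjective (f := φ.toMonoidHom) φ.surjective)
  obtain ⟨y, hy⟩ := (bijective_inv_mul_apply φ hfix).2 g⁻¹
  have hy' : y⁻¹ * φ y = g⁻¹ := hy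
  refine ⟨y • P, fun x hx => ?_⟩
  have hx' : x ∈ MulAut.conj y • (P : Subgroup G) := hx
  obtain ⟨a, ha, rfl⟩ := hx'
  have h1 : φ a ∈ MulAut.conj g • (P : Subgroup G) := by
    have : φ a ∈ (P.mapSurjective (f := φ.toMonoidHom) φ.surjective : Subgroup G) := by
      exact ⟨a, ha, rfl⟩
    rw [← hg] at this
    exact this
  obtain ⟨b, hb, hbe⟩ := h1
  show φ _ ∈ MulAut.conj y • (P : Subgroup G)
  refine ⟨b, hb, ?_⟩
  have hb' : g * b * g⁻¹ = φ a := hbe
  show y * b * y⁻¹ = φ (y * a * y⁻¹)
  have e : φ y = y * g⁻¹ := by rw [← hy']; group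
  rw [map_mul, map_mul, map_inv, e, ← hb']
  group

/-- The averaging argument. -/
theorem fixed_average {V Q : Type*} [CommGroup V] [Group Q] [Finite Q] {r : ℕ} (hr : r.Prime)
    (α : Q →* MulAut V) (ψ : MulAut V) (σ : MulAut Q)
    (hcomm : ∀ x v, ψ (α x v) = α (σ x) (ψ v)) (hψ : ψ ^ r = 1) (hσ : σ ^ r = 1)
    (hψfix : ∀ v, ψ v = v → v = 1) (hσfix : ∀ x, σ x = x → x = 1)
    (hC : ∀ v, (∀ x, α x v = v) → v = 1) (v : V) : v ^ Nat.card Q = 1 := by
  classical
  haveI := Fintype.ofFinite Q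
  have hpow : ∀ (n : ℕ) (x : Q) (w : V), (ψ ^ n) (α x w) = α ((σ ^ n) x) ((ψ ^ n) w) := by
    intro n
    induction n with
    | zero => intro x w; rfl
    | succ n ih =>
      intro x w
      simp only [pow_succ, MulAut.mul_apply]
      rw [hcomm, ih]
  have horbit : ∀ w : V, ∏ i ∈ Finset.range r, (ψ ^ i) w = 1 := by
    intro w
    apply hψfix
    rw [map_prod]
    have h1 := Finset.prod_range_succ' (fun i => (ψ ^ i) w) r
    rw [Finset.prod_range_succ, hψ] at h1
    simp only [pow_zero, MulAut.one_apply] at h1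
    have h2 : ∀ i, ψ ((ψ ^ i) w) = (ψ ^ (i + 1)) w := fun i => by
      rw [pow_succ', MulAut.mul_apply]
    simp only [h2]
    exact (mul_right_cancel h1).symm
  have key : ∀ x : Q, ∏ i ∈ Finset.range r, α (x * ((σ ^ i) x)⁻¹) ((ψ ^ i) v) = 1 := by
    intro x
    have h := congrArg (α x) (horbit (α x⁻¹ v))
    rw [map_one, map_prod] at h
    refine Eq.trans (Finset.prod_congr rfl fun i _ => ?_) h
    rw [hpow, map_inv (σ ^ i), map_mul α, MulAut.mul_apply]
  have hswap : ∏ i ∈ Finset.range r, ∏ x : Q, α (x * ((σ ^ i) x)⁻¹) ((ψ ^ i) v) = 1 := by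
    rw [Finset.prod_comm]
    exact Finset.prod_eq_one fun x _ => key x
  have hrest : ∀ i ∈ Finset.range r, i ≠ 0 →
      ∏ x : Q, α (x * ((σ ^ i) x)⁻¹) ((ψ ^ i) v) = 1 := by
    intro i hi hi0
    have hir : i < r := Finset.mem_range.1 hi
    obtain ⟨m, hm⟩ : ∃ m : ℕ, (σ ^ i) ^ m = σ := exists_pow_eq_self_of_coprime
      (Nat.Coprime.coprime_dvd_right (orderOf_dvd_of_pow_eq_one hσ)
        ((hr.coprime_iff_not_dvd.2 fun hd => by
          have := Nat.le_of_dvd (Nat.pos_of_ne_zero hi0) hd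
          omega).symm))
    have hinj : Function.Injective fun x : Q => x * ((σ ^ i) x)⁻¹ := by
      intro x y e
      have e' : x * ((σ ^ i) x)⁻¹ = y * ((σ ^ i) y)⁻¹ := e
      have hz : (σ ^ i) (y⁻¹ * x) = y⁻¹ * x := by
        rw [map_mul, map_inv]
        calc ((σ ^ i) y)⁻¹ * (σ ^ i) x = y⁻¹ * (y * ((σ ^ i) y)⁻¹) * (σ ^ i) x := by group
          _ = y⁻¹ * (x * ((σ ^ i) x)⁻¹) * (σ ^ i) x := by rw [e']
          _ = _ := by group
      have hz' : ∀ k : ℕ, ((σ ^ i) ^ k) (y⁻¹ * x) = y⁻¹ * x := by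
        intro k
        induction k with
        | zero => rfl
        | succ k ih => rw [pow_succ, MulAut.mul_apply, hz, ih]
      have hh := hz' m
      rw [hm] at hh
      have := hσfix _ hh
      exact (inv_mul_eq_one.1 this).symm
    apply hC
    intro z
    rw [map_prod]
    let e : Q ≃ Q := Equiv.ofBijective _ (Finite.injective_iff_bijective.1 hinj)
    have hre : ∀ F : Q → V, ∏ x : Q, F (x * ((σ ^ i) x)⁻¹) = ∏ y : Q, F y := fun F =>
      Equiv.prod_comp e F
    rw [hre (fun y => α z (α y ((ψ ^ i) v))), hre (fun y => α y ((ψ ^ i) v))]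
    have hre2 := Equiv.prod_comp (Equiv.mulLeft z) (fun y => α y ((ψ ^ i) v))
    rw [← hre2]
    exact Finset.prod_congr rfl fun y _ => by rw [Equiv.coe_mulLeft, map_mul, MulAut.mul_apply]
  rw [Finset.prod_eq_single 0 hrest (fun h => absurd (Finset.mem_range.2 hr.pos) h)] at hswap
  simpa [Nat.card_eq_fintype_card, Finset.prod_const] using hswap

theorem hasNormalPComplement_of_isNilpotent {p : ℕ} [Fact p.Prime] (G : Type u) [Group G] [Finite G]
    [hnil : Group.IsNilpotent G] : Cfsg.HasNormalPComplement p G := by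
  obtain ⟨P⟩ : Nonempty (Sylow p G) := inferInstance
  haveI : (P : Subgroup G).Normal :=
    ((Group.isNilpotent_of_finite_tfae (G := G)).out 0 3 rfl rfl).1 hnil p inferInstance P
  obtain ⟨H, hH⟩ := Subgroup.exists_left_complement'_of_coprime P.card_coprime_index
  have hcard : Nat.card H = (P : Subgroup G).index := hH.index_eq_card.symm
  refine ⟨P, H, ⟨fun h hh g => ?_⟩, hH⟩
  obtain ⟨⟨⟨a, ha⟩, ⟨x, hx⟩⟩, hax⟩ := hH.2 g
  have hax' : a * x = g := hax
  have hcop : (orderOf x).Coprime (orderOf h) :=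
    (P.card_coprime_index.coprime_dvd_left (Subgroup.orderOf_dvd_natCard _ hx)).coprime_dvd_right
      (hcard ▸ Subgroup.orderOf_dvd_natCard _ hh)
  have hc : x * h = h * x := CfsgLib.OddLocal.commute_of_coprime_orderOf x h hcop
  have : g * h * g⁻¹ = a * h * a⁻¹ := by
    rw [← hax']
    calc a * x * h * (a * x)⁻¹ = a * (x * h) * x⁻¹ * a⁻¹ := by group
      _ = _ := by rw [hc]; group
  rw [this]
  exact mul_mem (mul_mem ha hh) (inv_mem ha)

theorem thompson_nilpotent_aux {r : ℕ} (hr : r.Prime) : ∀ (n : ℕ) {G : Type u} [Group G] [Finite G]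
    (φ : MulAut G), Nat.card G = n → (∀ x, φ x = x → x = 1) → φ ^ r = 1 → Group.IsNilpotent G := by
  intro n
  induction n using Nat.strong_induction_on with
  | _ n ih =>
    intro G _ _ φ hn hfix hφr
    subst hn
    have hsub : ∀ H : Subgroup G, H ≠ ⊤ → (∀ x ∈ H, φ x ∈ H) → Group.IsNilpotent H := by
      intro H hH hinv
      obtain ⟨ψ, hψ⟩ := exists_restrict_mulAut φ hinv
      refine ih _ ?_ ψ rfl (fun x hx => Subtype.ext (hfix x ?_))
        (MulEquiv.ext fun x => Subtype.ext ?_)
      · exact lt_of_le_of_ne (Subgroup.card_le_card_group H)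
          fun e => hH (Subgroup.eq_top_of_card_eq H e)
      · have := hψ 1 x
        rw [pow_one, pow_one, hx] at this
        exact this.symm
      · rw [hψ, hφr]; rfl
    have hquot : ∀ N : Subgroup G, [N.Normal] → N ≠ ⊥ → (∀ x ∈ N, φ x ∈ N) →
        Group.IsNilpotent (G ⧸ N) := by
      intro N _ hN hinv
      obtain ⟨ψ, hψ⟩ := exists_quotient_mulAut φ hinv
      refine ih _ (CfsgLib.Solvable.card_quotient_lt N hN) ψ rfl (fun x hx => ?_)
        (MulEquiv.ext fun x => ?_)
      · obtain ⟨g, rfl⟩ := QuotientGroup.mk'_surjective N x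
        have h1 := hψ 1 g
        rw [pow_one, pow_one, hx] at h1
        have h2 : g⁻¹ * φ g ∈ N := (QuotientGroup.eq.1 h1)
        obtain ⟨ψ', hψ'⟩ := exists_restrict_mulAut φ hinv
        obtain ⟨m, hm⟩ := (bijective_inv_mul_apply ψ' (fun y hy => Subtype.ext (hfix y (by
          have h3 := hψ' 1 y
          rw [pow_one, pow_one, hy] at h3
          exact h3.symm)))).2 ⟨g⁻¹ * φ g, h2⟩
        have hm' : (m : G)⁻¹ * φ m = g⁻¹ * φ g := by
          have h3 := congrArg Subtype.val hm
          have h4 := hψ' 1 m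
          rw [pow_one, pow_one] at h4
          simpa [h4] using h3
        have := (bijective_inv_mul_apply φ hfix).1 hm'
        rw [QuotientGroup.mk'_apply, QuotientGroup.eq_one_iff, ← this]
        exact m.2
      · obtain ⟨g, rfl⟩ := QuotientGroup.mk'_surjective N x
        rw [hψ, hφr]; rfl
    by_cases hV : ∃ p : ℕ, p.Prime ∧ ∃ V : Subgroup G, V.Normal ∧ V ≠ ⊥ ∧ IsPGroup p V ∧
        ∀ x ∈ V, φ x ∈ V
    swap
    · push Not at hV
      -- every odd prime gives a normal complement, hence there is only one prime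
      by_cases hG1 : IsPGroup 2 G
      · haveI := Fact.mk Nat.prime_two
        exact hG1.isNilpotent
      obtain ⟨p, hp, hpG, hp2⟩ : ∃ p : ℕ, p.Prime ∧ p ∣ Nat.card G ∧ p ≠ 2 := by
        by_contra h
        push Not at h
        exact hG1 (IsPGroup.of_card (Nat.eq_prime_pow_of_unique_prime_dvd Nat.card_pos.ne'
          fun {d} hd hdd => h d hd hdd))
      haveI := Fact.mk hp
      obtain ⟨P, hP⟩ := exists_invariant_sylow_fpf φ hfix p
      have hP1 : (P : Subgroup G) ≠ ⊥ := P.ne_bot_of_dvd_card hpG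
      have hmap : (P : Subgroup G).map φ.toMonoidHom = (P : Subgroup G) := by
        refine Subgroup.eq_of_le_of_card_ge ?_ (by rw [Subgroup.card_map_of_injective φ.injective])
        rintro _ ⟨x, hx, rfl⟩
        exact hP x hx
      have hinvN : ∀ X : Subgroup G, X.map φ.toMonoidHom = X →
          ∀ x ∈ Subgroup.normalizer (X : Set G), φ x ∈ Subgroup.normalizer (X : Set G) := by
        intro X hX x hx
        refine CfsgLib.Solvable.mem_normalizer_of_conj_mem fun y hy => ?_
        rw [← hX] at hy ⊢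
        obtain ⟨z, hz, rfl⟩ := hy
        refine ⟨x * z * x⁻¹, (Subgroup.mem_normalizer_iff.1 hx z).1 hz, ?_⟩
        simp
      set J := CfsgLib.PStab.jGen p (P : Subgroup G) with hJ
      set Z := CfsgLib.PStab.zSyl (P : Subgroup G) with hZ
      have hJmap : J.map φ.toMonoidHom = J := by
        rw [hJ, ← CfsgLib.PStab.jGen_map (f := φ.toMonoidHom) φ.injective, hmap]
      have hJp : IsPGroup p J := P.isPGroup'.to_le (CfsgLib.PStab.jGen_le p _)
      have hJ1 : J ≠ ⊥ := CfsgLib.PStab.jGen_ne_bot (Or.inr rfl) P.isPGroup' hP1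
      have hZ1 : Z ≠ ⊥ := CfsgLib.PStab.zSyl_ne_bot P.isPGroup' hP1
      have hZinv : ∀ z ∈ Z, φ z ∈ Z := by
        intro z hz
        refine ⟨hP z hz.1, Subgroup.mem_centralizer_iff.2 fun y hy => ?_⟩
        have hy' : y ∈ (P : Subgroup G).map φ.toMonoidHom := by rw [hmap]; exact hy
        obtain ⟨w, hw, rfl⟩ := hy'
        have h := congrArg φ (Subgroup.mem_centralizer_iff.1 hz.2 w hw)
        simpa using h
      have hNJ : Subgroup.normalizer (J : Set G) ≠ ⊤ := by
        intro h
        obtain ⟨x, hx, hxJ⟩ : ∃ x ∈ J, φ x ∉ J :=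
          hV p hp J (Subgroup.normalizer_eq_top_iff.1 h) hJ1 hJp
        exact hxJ (hJmap ▸ ⟨x, hx, rfl⟩)
      have hCZ : Subgroup.centralizer (Z : Set G) ≠ ⊤ := by
        intro h
        have hle : Z ≤ Subgroup.center G := fun z hz => Subgroup.mem_center_iff.2 fun g =>
          (Subgroup.mem_centralizer_iff.1 (h ▸ Subgroup.mem_top g) z hz).symm
        obtain ⟨x, hx, hxZ⟩ := hV p hp Z
          ⟨fun z hz g => by rw [Subgroup.mem_center_iff.1 (hle hz) g, mul_inv_cancel_right]; exact hz⟩
          hZ1 (P.isPGroup'.to_le inf_le_left)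
        exact hxZ (hZinv x hx)
      have hnpc : ∀ H : Subgroup G, H ≠ ⊤ → (∀ x ∈ H, φ x ∈ H) → Cfsg.HasNormalPComplement p H := by
        intro H hH hinv
        haveI := hsub H hH hinv
        exact hasNormalPComplement_of_isNilpotent H
      obtain ⟨K, hKn, hKc, k, hk⟩ := CfsgLib.Transfer.hasNormalPComplement_iff.1
        (CfsgLib.PStab.hasNormalPComplement_of_thompson hp2 P
          (hnpc _ hNJ (hinvN J hJmap))
          (hnpc _ hCZ (fun x hx => Subgroup.mem_centralizer_iff.2 fun z hz => by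
            obtain ⟨ψ, hψ⟩ := exists_restrict_mulAut φ hZinv
            obtain ⟨w, hw⟩ := ψ.surjective ⟨z, hz⟩
            have hw' : φ w = z := by
              have h1 := hψ 1 w
              rw [pow_one, pow_one, hw] at h1
              exact h1.symm
            rw [← hw', ← map_mul, ← map_mul, Subgroup.mem_centralizer_iff.1 hx w w.2])))
      haveI := hKn
      have hKmem : ∀ x : G, x ∈ K ↔ (orderOf x).Coprime p := by
        intro x
        refine ⟨fun hx => hKc.coprime_dvd_left (Subgroup.orderOf_dvd_natCard K hx), fun hx => ?_⟩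
        rw [← QuotientGroup.eq_one_iff, ← orderOf_eq_one_iff]
        refine Nat.eq_one_of_dvd_coprimes (hx.pow_right k) (orderOf_map_dvd (QuotientGroup.mk' K) x) ?_
        rw [← hk, Subgroup.index_eq_card]
        exact orderOf_dvd_natCard _
      have hKinv : ∀ x ∈ K, φ x ∈ K := fun x hx => by
        rw [hKmem, MulEquiv.orderOf_eq]
        exact (hKmem x).1 hx
      have hKtop : K ≠ ⊤ := fun h => by
        rw [h, Subgroup.card_top] at hKc
        exact hp.one_lt.ne' (Nat.eq_one_of_dvd_coprimes hKc hpG dvd_rfl)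
      by_cases hK1 : K = ⊥
      · haveI : Fact p.Prime := ⟨hp⟩
        rw [hK1, Subgroup.index_bot] at hk
        exact (IsPGroup.of_card hk).isNilpotent
      obtain ⟨q, hq, hqK⟩ := Nat.exists_prime_and_dvd (fun h => hK1 (Subgroup.eq_bot_of_card_eq K h))
      haveI := Fact.mk hq
      haveI := hsub K hKtop hKinv
      obtain ⟨Q⟩ : Nonempty (Sylow q K) := inferInstance
      haveI hQn : (Q : Subgroup K).Normal :=
        ((Group.isNilpotent_of_finite_tfae (G := K)).out 0 3 rfl rfl).1 inferInstance q inferInstance Q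
      haveI hQc : (Q : Subgroup K).Characteristic := Q.characteristic_of_normal hQn
      exfalso
      obtain ⟨ψ, hψ⟩ := exists_restrict_mulAut φ hKinv
      obtain ⟨x, hx, hxQ⟩ := hV q hq ((Q : Subgroup K).map K.subtype) inferInstance
        (fun h => Q.ne_bot_of_dvd_card hqK
          ((Subgroup.map_eq_bot_iff_of_injective _ K.subtype_injective).1 h))
        (Q.isPGroup'.map _)
      obtain ⟨y, hy, rfl⟩ := hx
      refine hxQ ⟨ψ y, ?_, by simpa using (hψ 1 y)⟩
      have := Subgroup.characteristic_iff_map_eq.1 hQc ψ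
      rw [← this]
      exact Subgroup.mem_map_of_mem _ hy
    obtain ⟨p, hp, V, hVn, hV1, hVp, hVinv⟩ := hV
    haveI := hVn
    haveI := Fact.mk hp
    haveI := hquot V hV1 hVinv
    refine ((Group.isNilpotent_of_finite_tfae (G := G)).out 3 0 rfl rfl).1 fun q hqf Q₀ => ?_
    haveI := hqf
    obtain ⟨Q, hQ⟩ := exists_invariant_sylow_fpf φ hfix q
    suffices hQn : (Q : Subgroup G).Normal by
      haveI := Sylow.unique_of_normal Q hQn
      rwa [Subsingleton.elim Q₀ Q]
    set W := V ⊔ (Q : Subgroup G) with hW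
    have hWn : W.Normal := by
      have h1 : ((Q.mapSurjective (QuotientGroup.mk'_surjective V)) : Subgroup (G ⧸ V)).Normal :=
        ((Group.isNilpotent_of_finite_tfae (G := G ⧸ V)).out 0 3 rfl rfl).1 inferInstance q hqf _
      have h2 : W = (Q.mapSurjective (QuotientGroup.mk'_surjective V) : Subgroup (G ⧸ V)).comap
          (QuotientGroup.mk' V) := by
        rw [Sylow.coe_mapSurjective, Subgroup.comap_map_eq, QuotientGroup.ker_mk', hW, sup_comm]
      rw [h2]
      exact h1.comap _
    have hWinv : ∀ x ∈ W, φ x ∈ W := by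
      intro x hx
      obtain ⟨v, hv, y, hy, rfl⟩ := Subgroup.mem_sup_of_normal_left.1 hx
      rw [map_mul]
      exact mul_mem (Subgroup.mem_sup_left (hVinv v hv)) (Subgroup.mem_sup_right (hQ y hy))
    by_cases hqp : q = p
    · subst hqp
      have hVQ : V ≤ (Q : Subgroup G) := by
        obtain ⟨Q', hQ'⟩ := hVp.exists_le_sylow
        obtain ⟨g, rfl⟩ := MulAction.exists_smul_eq G Q' Q
        intro v hv
        refine ⟨g⁻¹ * v * g, hQ' ?_, by simp [mul_assoc]⟩
        simpa using hVn.conj_mem v hv g⁻¹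
      rwa [hW, sup_eq_right.2 hVQ] at hWn
    by_cases hWtop : W ≠ ⊤
    · haveI := hsub W hWtop hWinv
      have hle : (Q : Subgroup G) ≤ W := le_sup_right
      constructor
      intro x hx g
      have hle' : ((g • Q : Sylow q G) : Subgroup G) ≤ W := by
        intro y hy
        obtain ⟨a, ha, rfl⟩ := hy
        exact hWn.conj_mem a (hle ha) g
      haveI : Subsingleton (Sylow q W) := by
        haveI := Sylow.unique_of_normal (Q.subtype hle)
          (((Group.isNilpotent_of_finite_tfae (G := W)).out 0 3 rfl rfl).1 inferInstance q hqf _)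
        infer_instance
      have h := congrArg (fun S : Sylow q W => (S : Subgroup W))
        (Subsingleton.elim ((g • Q).subtype hle') (Q.subtype hle))
      have hmem : g * x * g⁻¹ ∈ ((g • Q : Sylow q G) : Subgroup G) := ⟨x, hx, rfl⟩
      simp only [Sylow.coe_subtype] at h
      exact (SetLike.ext_iff.1 h ⟨g * x * g⁻¹, hle' hmem⟩).1 hmem
    push Not at hWtop
    suffices hcent : ∀ x ∈ (Q : Subgroup G), ∀ v ∈ V, x * v = v * x by
      constructor
      intro x hx g
      obtain ⟨v, hv, y, hy, rfl⟩ : ∃ v ∈ V, ∃ y ∈ (Q : Subgroup G), v * y = g :=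
        Subgroup.mem_sup_of_normal_left.1 (show g ∈ V ⊔ (Q : Subgroup G) from hWtop.ge (Subgroup.mem_top g))
      have h1 : y * x * y⁻¹ ∈ (Q : Subgroup G) := mul_mem (mul_mem hy hx) (inv_mem hy)
      have h2 : v * y * x * (v * y)⁻¹ = y * x * y⁻¹ := by
        calc v * y * x * (v * y)⁻¹ = v * (y * x * y⁻¹) * v⁻¹ := by group
          _ = (y * x * y⁻¹) * v * v⁻¹ := by rw [hcent _ h1 v hv]
          _ = _ := by group
      rw [h2]; exact h1
    have hcopord : ∀ x ∈ (Q : Subgroup G), ∀ v ∈ V, (orderOf x).Coprime (orderOf v) := by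
      intro x hx v hv
      obtain ⟨a, ha⟩ := Q.isPGroup'.exists_card_eq
      obtain ⟨b, hb⟩ := hVp.exists_card_eq
      refine Nat.Coprime.coprime_dvd_left (ha ▸ Subgroup.orderOf_dvd_natCard _ hx) ?_
      refine Nat.Coprime.coprime_dvd_right (hb ▸ Subgroup.orderOf_dvd_natCard _ hv) ?_
      exact Nat.Coprime.pow _ _ ((Nat.coprime_primes (Fact.out : q.Prime) hp).2 hqp)
    have hstep : ∀ V₁ : Subgroup G, V₁.Normal → V₁ ≤ V → V₁ ≠ ⊥ → V₁ ≠ V →
        (∀ x ∈ V₁, φ x ∈ V₁) → ∀ x ∈ (Q : Subgroup G), ∀ v ∈ V, x * v = v * x := by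
      intro V₁ hn₁ hle₁ hne₁ hne hinv₁ x hx v hv
      haveI := hn₁
      haveI := hquot V₁ hne₁ hinv₁
      have hc1 : x * v * x⁻¹ * v⁻¹ ∈ V₁ := by
        rw [← QuotientGroup.eq_one_iff]
        have h := CfsgLib.OddLocal.commute_of_coprime_orderOf (QuotientGroup.mk' V₁ x)
          (QuotientGroup.mk' V₁ v)
          (((hcopord x hx v hv).coprime_dvd_left (orderOf_map_dvd _ x)).coprime_dvd_right
            (orderOf_map_dvd _ v))
        rw [← QuotientGroup.mk'_apply, map_mul, map_mul, map_mul, map_inv, map_inv, h]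
        group
      set c := x * v * x⁻¹ * v⁻¹ with hc
      have hW₁top : V₁ ⊔ (Q : Subgroup G) ≠ ⊤ := by
        intro h
        have hdisj : V ⊓ (Q : Subgroup G) = ⊥ := by
          refine (Subgroup.eq_bot_iff_forall _).2 fun y hy => ?_
          rw [← orderOf_eq_one_iff]
          exact (Nat.coprime_self _).1 (hcopord y hy.2 y hy.1)
        refine hne (le_antisymm hle₁ fun w hw => ?_)
        obtain ⟨w₁, hw₁, y, hy, he⟩ : ∃ w₁ ∈ V₁, ∃ y ∈ (Q : Subgroup G), w₁ * y = w :=
          Subgroup.mem_sup_of_normal_left.1 (show w ∈ V₁ ⊔ (Q : Subgroup G) from h ▸ Subgroup.mem_top w)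
        have : y ∈ V ⊓ (Q : Subgroup G) := by
          refine Subgroup.mem_inf.2 ⟨?_, hy⟩
          have : y = w₁⁻¹ * w := by rw [← he]; group
          rw [this]
          exact mul_mem (inv_mem (hle₁ hw₁)) hw
        rw [hdisj, Subgroup.mem_bot] at this
        rw [← he, this, mul_one]
        exact hw₁
      haveI := hsub _ hW₁top (fun y hy => by
        obtain ⟨a, ha, b, hb, rfl⟩ := Subgroup.mem_sup_of_normal_left.1 hy
        rw [map_mul]
        exact mul_mem (Subgroup.mem_sup_left (hinv₁ a ha)) (Subgroup.mem_sup_right (hQ b hb)))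
      have hxc : x * c = c * x := by
        have h := CfsgLib.OddLocal.commute_of_coprime_orderOf
          (⟨x, Subgroup.mem_sup_right hx⟩ : (V₁ ⊔ (Q : Subgroup G) : Subgroup G))
          ⟨c, Subgroup.mem_sup_left hc1⟩
          (by rw [Subgroup.orderOf_mk, Subgroup.orderOf_mk]; exact hcopord x hx c (hle₁ hc1))
        exact congrArg Subtype.val h
      have hk : ∀ k : ℕ, x ^ k * v * (x ^ k)⁻¹ = c ^ k * v := by
        intro k
        induction k with
        | zero => simp
        | succ k ih =>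
          have hcv : x * v * x⁻¹ = c * v := by rw [hc]; group
          have hcx : x ^ k * c = c * x ^ k := (Commute.pow_left (show Commute x c from hxc) k).eq
          calc x ^ (k + 1) * v * (x ^ (k + 1))⁻¹ = x ^ k * (x * v * x⁻¹) * (x ^ k)⁻¹ := by
                rw [pow_succ]; group
            _ = x ^ k * c * v * (x ^ k)⁻¹ := by rw [hcv]; group
            _ = c * (x ^ k * v * (x ^ k)⁻¹) := by rw [hcx]; group
            _ = c ^ (k + 1) * v := by rw [ih, pow_succ']; group
      have hco : c ^ orderOf x = 1 := by simpa [pow_orderOf_eq_one] using (hk (orderOf x)).symm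
      have hc0 : c = 1 := by
        rw [← orderOf_eq_one_iff]
        exact Nat.eq_one_of_dvd_coprimes (hcopord x hx c (hle₁ hc1))
          (orderOf_dvd_of_pow_eq_one hco) dvd_rfl
      rw [hc, mul_inv_eq_one] at hc0
      exact mul_inv_eq_iff_eq_mul.1 hc0
    have hCinv : ∀ X : Subgroup G, (∀ x ∈ X, φ x ∈ X) → ∀ z ∈ Subgroup.centralizer (X : Set G),
        φ z ∈ Subgroup.centralizer (X : Set G) := by
      intro X hX z hz
      obtain ⟨ψ, hψ⟩ := exists_restrict_mulAut φ hX
      refine Subgroup.mem_centralizer_iff.2 fun y hy => ?_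
      obtain ⟨w, hw⟩ := ψ.surjective ⟨y, hy⟩
      have hw' : φ w = y := by
        have h1 := hψ 1 w
        rw [pow_one, pow_one, hw] at h1
        exact h1.symm
      rw [← hw', ← map_mul, ← map_mul, Subgroup.mem_centralizer_iff.1 hz w w.2]
    by_cases hab : V ⊓ Subgroup.centralizer (V : Set G) ≠ V
    · haveI : (Subgroup.centralizer (V : Set G)).Normal := Subgroup.normal_centralizer
      refine hstep _ inferInstance inf_le_left ?_ hab
        fun x hx => ⟨hVinv x hx.1, hCinv V hVinv x hx.2⟩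
      exact CfsgLib.PStab.zSyl_ne_bot hVp hV1
    push Not at hab
    have hVc : ∀ a ∈ V, ∀ b ∈ V, a * b = b * a := fun a ha b hb =>
      Subgroup.mem_centralizer_iff.1 ((hab.ge hb).2) a ha
    set C := V ⊓ Subgroup.centralizer ((Q : Subgroup G) : Set G) with hC
    by_cases hCV : C = V
    · exact fun x hx v hv => Subgroup.mem_centralizer_iff.1 ((hCV.ge hv).2) x hx
    by_cases hC1 : C ≠ ⊥
    · refine hstep C ⟨fun z hz g => ?_⟩ inf_le_left hC1 hCV
        fun x hx => ⟨hVinv x hx.1, hCinv _ hQ x hx.2⟩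
      obtain ⟨v, hv, y, hy, rfl⟩ : ∃ v ∈ V, ∃ y ∈ (Q : Subgroup G), v * y = g :=
        Subgroup.mem_sup_of_normal_left.1 (show g ∈ V ⊔ (Q : Subgroup G) from hWtop.ge (Subgroup.mem_top g))
      have e1 : y * z = z * y := Subgroup.mem_centralizer_iff.1 hz.2 y hy
      have e2 : v * z = z * v := hVc v hv z hz.1
      have : v * y * z * (v * y)⁻¹ = z := by
        calc v * y * z * (v * y)⁻¹ = v * (y * z) * y⁻¹ * v⁻¹ := by group
          _ = v * z * v⁻¹ := by rw [e1]; group
          _ = z := by rw [e2]; group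
      rw [this]; exact hz
    push Not at hC1
    exfalso
    letI : CommGroup V := { (inferInstance : Group V) with
      mul_comm := fun a b => Subtype.ext (hVc a a.2 b b.2) }
    let α : (Q : Subgroup G) →* MulAut V := MulAut.conjNormal.comp (Q : Subgroup G).subtype
    obtain ⟨ψ, hψ⟩ := exists_restrict_mulAut φ hVinv
    obtain ⟨σ, hσ⟩ := exists_restrict_mulAut φ hQ
    have hψ1 : ∀ v : V, (ψ v : G) = φ v := fun v => by simpa using hψ 1 v
    have hσ1 : ∀ v : (Q : Subgroup G), (σ v : G) = φ v := fun v => by simpa using hσ 1 v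
    obtain ⟨v, hv⟩ := Subgroup.ne_bot_iff_exists_ne_one.1 hV1
    have hav := fixed_average hr α ψ σ
      (fun x w => Subtype.ext (by simp [α, hψ1, hσ1, MulAut.conjNormal_apply]))
      (MulEquiv.ext fun x => Subtype.ext (by rw [hψ, hφr]; rfl))
      (MulEquiv.ext fun x => Subtype.ext (by rw [hσ, hφr]; rfl))
      (fun w hw => Subtype.ext (hfix w (by rw [← hψ1, hw])))
      (fun w hw => Subtype.ext (hfix w (by rw [← hσ1, hw])))
      (fun w hw => by
        refine Subtype.ext (Subgroup.mem_bot.1 (hC1.le ⟨w.2, Subgroup.mem_centralizer_iff.2 fun x hx => ?_⟩))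
        have h := congrArg Subtype.val (hw ⟨x, hx⟩)
        simp only [α, MonoidHom.comp_apply, Subgroup.subtype_apply, MulAut.conjNormal_apply] at h
        exact mul_inv_eq_iff_eq_mul.1 h) v
    refine hv ((orderOf_eq_one_iff).1 ?_)
    obtain ⟨a, ha⟩ := Q.isPGroup'.exists_card_eq
    obtain ⟨b, hb⟩ := hVp.exists_card_eq
    refine Nat.eq_one_of_dvd_coprimes ?_ (ha ▸ orderOf_dvd_of_pow_eq_one hav) (hb ▸ orderOf_dvd_natCard v)
    exact Nat.Coprime.pow _ _ ((Nat.coprime_primes (Fact.out : q.Prime) hp).2 hqp)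

/-- Thompson's theorem on fixed-point-free automorphisms of prime order. -/
theorem isNilpotent_of_fpf_prime [Finite G] {r : ℕ} (hr : r.Prime) (φ : MulAut G)
    (hfix : ∀ x, φ x = x → x = 1) (hφ : φ ^ r = 1) : Group.IsNilpotent G :=
  thompson_nilpotent_aux hr _ φ rfl hfix hφ

/-- A normal subgroup with a fixed-point-free complement is nilpotent. -/
theorem isNilpotent_of_fpf_element [Finite G] (N : Subgroup G) [N.Normal] {r : ℕ} (hr : r.Prime)
    {h : G} (ho : orderOf h = r) (hfpf : ∀ n ∈ N, n * h = h * n → n = 1) : Group.IsNilpotent N := by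
  refine isNilpotent_of_fpf_prime hr (MulAut.conjNormal h) (fun x hx => Subtype.ext (hfpf x x.2 ?_)) ?_
  · have h1 := congrArg Subtype.val hx
    rw [MulAut.conjNormal_apply] at h1
    exact (mul_inv_eq_iff_eq_mul.1 h1).symm
  · rw [← map_pow, ← ho, pow_orderOf_eq_one, map_one]

end CfsgLib.FGS
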