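import Mathlib
import Cfsg.Agent.Lib.Solvable.Nilpotent

/-!
A group acting without fixed points on a finite group that has no fixed vectors in a module acts
freely on that module.
-/

namespace CfsgLib.FGS.FreeCompl

open scoped Pointwise Matrix

theorem field_normal {K Γ : Type*} [Field K] [Group Γ] [Fintype Γ] [MulSemiringAction Γ K]
    [FaithfulSMul Γ K] : ∃ x : K, ∀ c : Γ → K, (∀ t, ∑ s, ((t * s) • x) * c s = 0) → c = 0 := by
  classical
  let F := FixedPoints.subfield Γ K
  haveI : IsGalois F K := inferInstance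
  refine ⟨IsGalois.normalBasis F K 1, ?_⟩
  set x := IsGalois.normalBasis F K 1 with hx
  have left : ∀ c : Γ → K, (∀ t, ∑ s, c s * ((s * t) • x) = 0) → c = 0 := by
    intro c hc
    have hy : ∀ y : K, ∑ s, c s * (s • y) = 0 := by
      intro y
      rw [← (IsGalois.normalBasis F K).sum_repr y]
      simp only [Finset.smul_sum, Finset.mul_sum]
      rw [Finset.sum_comm]
      refine Finset.sum_eq_zero fun e _ => ?_
      obtain ⟨t, ht⟩ := FixedPoints.toAlgAut_surjective Γ K e
      have : ∀ s : Γ, c s * (s • ((IsGalois.normalBasis F K).repr y e • IsGalois.normalBasis F K e)) =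
          (IsGalois.normalBasis F K).repr y e • (c s * ((s * t) • x)) := fun s => by
        rw [smul_comm s, mul_smul_comm, IsGalois.normalBasis_apply e, ← ht, mul_smul, ← hx]
        rfl
      rw [Finset.sum_congr rfl (fun s _ => this s), ← Finset.smul_sum, hc, smul_zero]
    have hli := (linearIndependent_monoidHom K K).comp
      (fun s : Γ => (MulSemiringAction.toRingHom Γ K s : K →* K))
      (fun s t h => eq_of_smul_eq_smul (α := K) fun y => DFunLike.congr_fun h y)
    funext s
    exact Fintype.linearIndependent_iff.1 hli c (funext fun y => by simpa [Finset.sum_apply] using hy y) s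
  let M : Matrix Γ Γ K := Matrix.of fun i j => (i * j) • x
  have hdet : M.det ≠ 0 := fun h => by
    obtain ⟨v, hv, hvM⟩ := Matrix.exists_vecMul_eq_zero_iff.2 h
    exact hv (left v fun t => congrFun hvM t)
  intro c hc
  by_contra hc0
  exact hdet (Matrix.exists_mulVec_eq_zero_iff.1 ⟨c, hc0, funext hc⟩)

theorem residue_normal {H B : Type*} [Group H] [Finite H] [CommRing B] [MulSemiringAction H B]
    (m : Ideal B) [m.IsMaximal] [Fintype (MulAction.stabilizer H m)]
    (hfaith : ∀ h : H, (∀ x, h • x - x ∈ m) → h = 1) :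
    ∃ x : B, ∀ c : MulAction.stabilizer H m → B,
      (∀ t, ∑ s, (((t * s : MulAction.stabilizer H m) : H) • x) * c s ∈ m) → ∀ s, c s ∈ m := by
  letI := Ideal.Quotient.field m
  have hst : ∀ s : MulAction.stabilizer H m, m ≤ m.comap (MulSemiringAction.toRingHom H B (s : H)) := by
    intro s y hy
    show (s : H) • y ∈ m
    have := Ideal.smul_mem_pointwise_smul (s : H) y m hy
    rwa [MulAction.mem_stabilizer_iff.1 s.2] at this
  let act : MulAction.stabilizer H m → (B ⧸ m →+* B ⧸ m) := fun s =>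
    Ideal.quotientMap m (MulSemiringAction.toRingHom H B (s : H)) (hst s)
  have act_mk : ∀ s y, act s (Ideal.Quotient.mk m y) = Ideal.Quotient.mk m ((s : H) • y) := fun _ _ => rfl
  letI : MulSemiringAction (MulAction.stabilizer H m) (B ⧸ m) :=
    { smul := fun s y => act s y
      one_smul := fun y => by
        obtain ⟨y, rfl⟩ := Ideal.Quotient.mk_surjective y
        exact (act_mk 1 y).trans (congrArg _ (one_smul H y))
      mul_smul := fun s t y => by
        obtain ⟨y, rfl⟩ := Ideal.Quotient.mk_surjective y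
        exact (act_mk (s * t) y).trans (congrArg _ (mul_smul (s : H) (t : H) y))
      smul_zero := fun s => map_zero (act s)
      smul_add := fun s => map_add (act s)
      smul_one := fun s => map_one (act s)
      smul_mul := fun s => map_mul (act s) }
  haveI : FaithfulSMul (MulAction.stabilizer H m) (B ⧸ m) := ⟨fun {s t} h => by
    have h1 : ((t⁻¹ * s : MulAction.stabilizer H m) : H) = 1 := hfaith _ fun y => by
      rw [← Ideal.Quotient.eq]
      have : (t⁻¹ * s) • Ideal.Quotient.mk m y = Ideal.Quotient.mk m y := by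
        rw [mul_smul, h, inv_smul_smul]
      exact this
    exact (inv_mul_eq_one.1 (Subtype.ext h1)).symm⟩
  obtain ⟨xb, hxb⟩ := field_normal (K := B ⧸ m) (Γ := MulAction.stabilizer H m)
  obtain ⟨x, rfl⟩ := Ideal.Quotient.mk_surjective xb
  refine ⟨x, fun c hc s => ?_⟩
  rw [← Ideal.Quotient.eq_zero_iff_mem]
  refine congrFun (hxb (fun s => Ideal.Quotient.mk m (c s)) fun t => ?_) s
  have := Ideal.Quotient.eq_zero_iff_mem.2 (hc t)
  rw [map_sum] at this
  rw [← this]
  exact Finset.sum_congr rfl fun s _ => (map_mul (Ideal.Quotient.mk m) _ _).symm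

theorem exists_normal {H B : Type*} [Group H] [Fintype H] [DecidableEq H] [CommRing B]
    [MulSemiringAction H B] [Finite (MaximalSpectrum B)]
    (hfaith : ∀ m : Ideal B, m.IsMaximal → ∀ h : H, (∀ x, h • x - x ∈ m) → h = 1) :
    ∃ b : B, IsUnit (Matrix.of fun i j : H => (i * j) • b).det := by
  classical
  let ι := {m : Ideal B // m.IsMaximal}
  haveI : Finite ι := Finite.of_injective (fun m : ι => (⟨m.1, m.2⟩ : MaximalSpectrum B))
    fun m n h => Subtype.ext (congrArg MaximalSpectrum.asIdeal h)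
  haveI := Fintype.ofFinite ι
  let rep : Ideal B → Ideal B := fun m => (Quotient.mk (MulAction.orbitRel H (Ideal B)) m).out
  have hrep : ∀ (g : H) m, rep (g • m) = rep m := fun g m =>
    congrArg Quotient.out (Quotient.sound (MulAction.orbitRel_apply.2 (MulAction.mem_orbit m g)))
  have hrep2 : ∀ m, ∃ g : H, g • rep m = m := fun m => by
    have h : (MulAction.orbitRel H (Ideal B)) (rep m) m := Quotient.mk_out (s := MulAction.orbitRel H (Ideal B)) m
    obtain ⟨g, hg⟩ := MulAction.orbitRel_apply.1 h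
    exact ⟨g⁻¹, by rw [← hg]; exact inv_smul_smul g m⟩
  let xs : ι → B := fun m =>
    haveI := m.2
    if rep m.1 = m.1 then Classical.choose (residue_normal m.1 (hfaith m.1 m.2)) else 0
  obtain ⟨b, hb⟩ := Ideal.exists_forall_sub_mem_ideal (I := fun m : ι => m.1)
    (fun m n hmn => Ideal.isCoprime_iff_sup_eq.2
      (m.2.coprime_of_ne n.2 fun h => hmn (Subtype.ext h))) xs
  refine ⟨b, ?_⟩
  by_contra hu
  obtain ⟨m, hm, hdm⟩ := exists_max_ideal_of_mem_nonunits hu
  letI := Ideal.Quotient.field m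
  rw [← Ideal.Quotient.eq_zero_iff_mem, RingHom.map_det] at hdm
  obtain ⟨v, hv0, hv⟩ := Matrix.exists_mulVec_eq_zero_iff.2 hdm
  refine hv0 (funext fun g => ?_)
  choose c hc using fun h => Ideal.Quotient.mk_surjective (v h)
  rw [← hc g, Pi.zero_apply, Ideal.Quotient.eq_zero_iff_mem]
  obtain ⟨r, hr⟩ := hrep2 m
  have hm0 : (rep m).IsMaximal := by
    have : rep m = Ideal.comap (MulSemiringAction.toRingHom H B r) m := by
      ext y
      show y ∈ rep m ↔ r • y ∈ m
      conv_rhs => rw [← hr]
      exact (Ideal.smul_mem_pointwise_smul_iff).symm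
    rw [this]
    exact Ideal.comap_isMaximal_of_surjective _ (fun y => ⟨r⁻¹ • y, smul_inv_smul r y⟩)
  set m0 := rep m with hm0d
  haveI := hm0
  have hfix : rep m0 = m0 := by rw [hm0d]; conv_rhs => rw [← hr]; rw [hrep]
  have hxs := Classical.choose_spec (residue_normal m0 (hfaith m0 hm0))
  set x := Classical.choose (residue_normal m0 (hfaith m0 hm0))
  have hbx : b - x ∈ m0 := by
    have h := hb ⟨m0, hm0⟩
    simp only [xs, hfix, if_true] at h
    exact h
  have hb0 : ∀ a : H, a ∉ MulAction.stabilizer H m0 → (r * a) • b ∈ m := by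
    intro a ha
    let n : ι := ⟨Ideal.comap (MulSemiringAction.toRingHom H B a) m0,
      Ideal.comap_isMaximal_of_surjective _ (fun y => ⟨a⁻¹ • y, smul_inv_smul a y⟩)⟩
    have hn : n.1 = a⁻¹ • m0 := by
      ext y
      exact Ideal.mem_inv_pointwise_smul_iff.symm
    have hne : rep n.1 ≠ n.1 := by
      rw [hn, hrep, hfix]
      exact fun h => ha (MulAction.mem_stabilizer_iff.2 (by conv_lhs => rw [h, smul_inv_smul]))
    have h1 := hb n
    simp only [xs, hne, if_false, sub_zero] at h1
    have h2 : a • b ∈ m0 := h1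
    rw [← hr, mul_smul]
    exact Ideal.smul_mem_pointwise_smul r _ _ h2
  -- the equations attached to the coset of `g`
  have key : ∀ t : MulAction.stabilizer H m0,
      ∑ s : MulAction.stabilizer H m0, (((t * s : MulAction.stabilizer H m0) : H) • x) * (r⁻¹ • c (g * s)) ∈ m0 := by
    intro t
    have h1 : ∑ j, ((r * t * g⁻¹ * j) • b) * c j ∈ m := by
      rw [← Ideal.Quotient.eq_zero_iff_mem, map_sum]
      refine Eq.trans (Finset.sum_congr rfl fun j _ => ?_) (congrFun hv (r * t * g⁻¹))
      rw [map_mul, hc]; rfl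
    rw [← Equiv.sum_comp (Equiv.mulLeft g), ← Finset.sum_filter_add_sum_filter_not _ (fun a => a ∈ MulAction.stabilizer H m0)] at h1
    have h2 := (Submodule.add_mem_iff_left _ (Ideal.sum_mem _ fun a ha => ?_)).1 h1
    · rw [← hr, Ideal.mem_pointwise_smul_iff_inv_smul_mem, Finset.smul_sum,
        Finset.sum_subtype (p := fun a => a ∈ MulAction.stabilizer H m0) _ (fun a => by simp)] at h2
      refine (Submodule.sub_mem_iff_right _ h2).1 ?_
      rw [← Finset.sum_sub_distrib]
      refine Ideal.sum_mem _ fun s _ => ?_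
      rw [smul_mul', Equiv.coe_mulLeft, show r * t * g⁻¹ * (g * s) = r * (t * s : H) by group, mul_smul r,
        inv_smul_smul, Subgroup.coe_mul, ← sub_mul, ← smul_sub]
      refine Ideal.mul_mem_right _ _ ?_
      have := Ideal.smul_mem_pointwise_smul ((t : H) * s) _ m0 hbx
      rwa [show ((t : H) * s) • m0 = m0 from MulAction.mem_stabilizer_iff.1 (t * s).2] at this
    · refine Ideal.mul_mem_right _ _ ?_
      rw [Equiv.coe_mulLeft, show r * t * g⁻¹ * (g * a) = r * (t * a : H) by group]
      exact hb0 _ fun h => (Finset.mem_filter.1 ha).2 ((Subgroup.mul_mem_cancel_left _ t.2).1 h)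
  have h3 := hxs (fun s => r⁻¹ • c (g * s)) key 1
  rw [← hr, Ideal.mem_pointwise_smul_iff_inv_smul_mem]
  simpa using h3

variable {k : Type*} [Field k]

/-- A representation is free: it has a subspace of which it is the direct sum of translates. -/
def IsFree {U : Type*} [AddCommGroup U] [Module k U] {H : Type*} [Group H] [Fintype H]
    (σ : H →* Module.End k U) : Prop :=
  ∃ W : Submodule k U, Function.Bijective fun f : H → W => ∑ h, σ h (f h)

theorem free_of_fpf_abelian {U : Type*} [AddCommGroup U] [Module k U] [FiniteDimensional k U]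
    {H : Type*} [Group H] [Fintype H] {Z : Type*} [CommGroup Z] [Fintype Z] (φ : H →* MulAut Z)
    (hfpf : ∀ h, h ≠ 1 → ∀ z, φ h z = z → z = 1) (hZ : (Fintype.card Z : k) ≠ 0)
    (ρ : Z →* Module.End k U) (σ : H →* Module.End k U) (hc : ∀ h z, σ h * ρ z = ρ (φ h z) * σ h)
    (hC : ∀ u, (∀ z, ρ z u = u) → u = 0) : IsFree σ := by
  classical
  let B := Algebra.adjoin k (Set.range ρ)
  letI : CommRing B := Algebra.adjoinCommRingOfComm (R := k) (s := Set.range ρ) (by
    rintro _ ⟨a, rfl⟩ _ ⟨b, rfl⟩; rw [← map_mul, ← map_mul, mul_comm])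
  have hσ : ∀ h, σ h * σ h⁻¹ = 1 := fun h => by rw [← map_mul, mul_inv_cancel, map_one]
  have hσ' : ∀ h, σ h⁻¹ * σ h = 1 := fun h => by rw [← map_mul, inv_mul_cancel, map_one]
  have hclos : ∀ h, ∀ x ∈ B, σ h * x * σ h⁻¹ ∈ B := by
    intro h x hx
    induction hx using Algebra.adjoin_induction with
    | mem y hy =>
      obtain ⟨z, rfl⟩ := hy
      rw [hc, mul_assoc, hσ, mul_one]
      exact Algebra.subset_adjoin ⟨_, rfl⟩
    | algebraMap r =>
      rw [← Algebra.commutes, mul_assoc, hσ, mul_one]; exact Subalgebra.algebraMap_mem _ r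
    | add y z _ _ hy hz => rw [mul_add, add_mul]; exact add_mem hy hz
    | mul y z _ _ hy hz =>
      rw [show σ h * (y * z) * σ h⁻¹ = (σ h * y * σ h⁻¹) * (σ h * z * σ h⁻¹) by
        simp only [mul_assoc]; rw [← mul_assoc (σ h⁻¹) (σ h), hσ', one_mul]]
      exact mul_mem hy hz
  letI act : MulSemiringAction H B :=
    { smul := fun h x => ⟨σ h * x * σ h⁻¹, hclos h x x.2⟩
      one_smul := fun x => Subtype.ext (by show σ 1 * _ * σ 1⁻¹ = _; simp)
      mul_smul := fun a b x => Subtype.ext (by
        show σ (a * b) * _ * σ (a * b)⁻¹ = σ a * (σ b * _ * σ b⁻¹) * σ a⁻¹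
        rw [mul_inv_rev, map_mul, map_mul]; simp only [mul_assoc])
      smul_zero := fun h => Subtype.ext (by show σ h * 0 * σ h⁻¹ = 0; simp)
      smul_add := fun h x y => Subtype.ext (by
        show σ h * ((x : Module.End k U) + y) * σ h⁻¹ = σ h * x * σ h⁻¹ + σ h * y * σ h⁻¹
        rw [mul_add, add_mul])
      smul_one := fun h => Subtype.ext (by show σ h * 1 * σ h⁻¹ = 1; rw [mul_one, hσ])
      smul_mul := fun h x y => Subtype.ext (by
        show σ h * ((x : Module.End k U) * y) * σ h⁻¹ = (σ h * x * σ h⁻¹) * (σ h * y * σ h⁻¹)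
        simp only [mul_assoc]; rw [← mul_assoc (σ h⁻¹) (σ h), hσ', one_mul]) }
  haveI : Module.Finite k B := inferInstanceAs (Module.Finite k (Subalgebra.toSubmodule B))
  haveI : IsArtinianRing B := isArtinian_of_tower k inferInstance
  let ρB : Z → B := fun z => ⟨ρ z, Algebra.subset_adjoin ⟨z, rfl⟩⟩
  have hρB : ∀ (h : H) z, h • ρB z = ρB (φ h z) := fun h z => Subtype.ext (by
    show σ h * ρ z * σ h⁻¹ = ρ (φ h z)
    rw [hc, mul_assoc, hσ, mul_one])
  have hsum : ∑ z, ρB z = 0 := by
    refine Subtype.ext ?_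
    rw [AddSubmonoidClass.coe_finsetSum]
    refine LinearMap.ext fun u => hC _ fun z => ?_
    simp only [LinearMap.sum_apply, map_sum]
    exact Fintype.sum_equiv (Equiv.mulLeft z) _ _ fun w => by
      show ρ z (ρ w u) = ρ (z * w) u
      rw [map_mul]; rfl
  obtain ⟨b, hb⟩ := exists_normal (H := H) (B := B) (by
    intro m hm h hh
    by_contra hne
    have hsurj : Function.Surjective fun z : Z => φ h z * z⁻¹ := Finite.injective_iff_surjective.1
      fun a c e => inv_mul_eq_one.1 (hfpf h hne (a⁻¹ * c) (by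
        rw [map_mul, map_inv]
        rw [inv_mul_eq_iff_eq_mul, ← mul_assoc, show φ h a * a⁻¹ = φ h c * c⁻¹ from e, inv_mul_cancel_right]))
    have hone : ∀ w, ρB w - 1 ∈ m := fun w => by
      obtain ⟨z, rfl⟩ := hsurj w
      have h1 := hh (ρB z)
      rw [hρB] at h1
      have e : ρB (φ h z * z⁻¹) - 1 = (ρB (φ h z) - ρB z) * ρB z⁻¹ := by
        refine Subtype.ext ?_
        show ρ (φ h z * z⁻¹) - 1 = (ρ (φ h z) - ρ z) * ρ z⁻¹
        rw [sub_mul, ← map_mul, ← map_mul, mul_inv_cancel, map_one]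
      show ρB (φ h z * z⁻¹) - 1 ∈ m
      rw [e]; exact m.mul_mem_right _ h1
    have h2 : (Fintype.card Z : B) ∈ m := by
      have h3 := Ideal.sum_mem m (fun w (_ : w ∈ Finset.univ) => hone w)
      rw [Finset.sum_sub_distrib, hsum, zero_sub, neg_mem_iff] at h3
      simpa using h3
    refine hm.ne_top (Ideal.eq_top_of_isUnit_mem _ h2 ?_)
    rw [← map_natCast (algebraMap k B)]
    exact (IsUnit.mk0 _ hZ).map _)
  let F0 : Submodule k U :=
    { carrier := {u | ∀ h, σ h u = u}
      zero_mem' := fun h => map_zero _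
      add_mem' := fun {u v} hu hv h => by rw [map_add, hu h, hv h]
      smul_mem' := fun c u hu h => by rw [map_smul, hu h] }
  let ap : Matrix H H B → (H → U) → (H → U) := fun M w i => ∑ j, (M i j : Module.End k U) (w j)
  have hap : ∀ M N w, ap (M * N) w = ap M (ap N w) := by
    intro M N w; funext i
    simp only [ap, Matrix.mul_apply, AddSubmonoidClass.coe_finsetSum, LinearMap.sum_apply, map_sum]
    rw [Finset.sum_comm]
    rfl
  have hap1 : ∀ w, ap 1 w = w := by
    intro w; funext i
    simp only [ap]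
    rw [Finset.sum_eq_single i (fun j _ hj => by rw [Matrix.one_apply_ne (Ne.symm hj)]; simp) (by simp),
      Matrix.one_apply_eq]
    rfl
  set M : Matrix H H B := Matrix.of fun i j : H => (i * j) • b with hM
  have hinj : ∀ w, ap M w = 0 → w = 0 := fun w hw => by
    rw [← hap1 w, ← Matrix.nonsing_inv_mul M hb, hap, hw]
    funext i; simp [ap]
  have hbij : ∀ v, ∃! w : H → U, ap M w = fun h => σ h v := fun v =>
    ⟨ap M⁻¹ (fun h => σ h v), by
      show ap M (ap M⁻¹ _) = _
      rw [← hap, Matrix.mul_nonsing_inv M hb, hap1],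
    fun w hw => by rw [← hap1 w, ← Matrix.nonsing_inv_mul M hb, hap, hw]⟩
  have hMσ : ∀ (a i j : H) (u : U), σ a ((M i j : Module.End k U) u) = (M (a * i) j : Module.End k U) (σ a u) := by
    intro a i j u
    show σ a (((((i * j) • b : B) : Module.End k U)) u) = _
    rw [show M (a * i) j = a • ((i * j) • b) by rw [← mul_smul, ← mul_assoc]; rfl]
    show σ a (((((i * j) • b : B) : Module.End k U)) u) = (σ a * _ * σ a⁻¹ : Module.End k U) (σ a u)
    rw [Module.End.mul_apply, Module.End.mul_apply, ← Module.End.mul_apply (σ a⁻¹), hσ', Module.End.one_apply]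
  refine ⟨F0.map (b : Module.End k U), ?_, ?_⟩
  · intro f f' hff
    choose u hu hfu using fun h => Submodule.mem_map.1 (f h).2
    choose u' hu' hfu' using fun h => Submodule.mem_map.1 (f' h).2
    have e : ∀ (h j : H) (u : U), u ∈ F0 → σ h (σ j ((b : Module.End k U) u)) = (M h j : Module.End k U) u := by
      intro h j u hu
      have := hMσ (h * j) 1 1 u
      rw [mul_one, hu] at this
      rw [← Module.End.mul_apply, ← map_mul]
      convert this using 2
      · simp [M]
      · simp [M]
    have hz : ap M (fun j => u j - u' j) = 0 := by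
      funext i
      simp only [ap, map_sub, Finset.sum_sub_distrib, Pi.zero_apply, sub_eq_zero]
      rw [Finset.sum_congr rfl (fun j _ => (e i j _ (hu j)).symm),
        Finset.sum_congr rfl (fun j _ => (e i j _ (hu' j)).symm)]
      simp only [hfu, hfu', ← map_sum]
      exact congrArg (σ i) hff
    funext h
    refine Subtype.ext ?_
    rw [← hfu, ← hfu', sub_eq_zero.1 (congrFun (hinj _ hz) h)]
  · intro v
    obtain ⟨w, hw, huniq⟩ := hbij v
    have hfix : ∀ j, w j ∈ F0 := fun j a => by
      have : ap M (fun j => σ a (w j)) = fun h => σ h v := by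
        funext i
        have h1 := congrArg (σ a) (congrFun hw (a⁻¹ * i))
        simp only [ap, map_sum, hMσ, mul_inv_cancel_left] at h1 ⊢
        rw [h1, ← Module.End.mul_apply, ← map_mul, mul_inv_cancel_left]
      exact congrFun (huniq _ this) j
    refine ⟨fun j => ⟨_, Submodule.mem_map_of_mem (hfix j)⟩, ?_⟩
    show ∑ j, σ j ((b : Module.End k U) (w j)) = v
    have h1 := congrFun hw 1
    simp only [ap, map_one, Module.End.one_apply] at h1
    refine Eq.trans (Finset.sum_congr rfl fun j _ => ?_) h1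
    show _ = (((1 * j) • b : B) : Module.End k U) (w j)
    rw [one_mul]
    show _ = (σ j * _ * σ j⁻¹ : Module.End k U) (w j)
    rw [Module.End.mul_apply, Module.End.mul_apply, hfix j j⁻¹]

theorem free_add {U : Type*} [AddCommGroup U] [Module k U] {H : Type*} [Group H] [Fintype H]
    (σ : H →* Module.End k U) (U₁ U₂ : Submodule k U) (hc : IsCompl U₁ U₂)
    (W₁ W₂ : Submodule k U) (h1 : W₁ ≤ U₁) (h2 : W₂ ≤ U₂) (hi1 : ∀ h, ∀ u ∈ U₁, σ h u ∈ U₁)
    (hi2 : ∀ h, ∀ u ∈ U₂, σ h u ∈ U₂)
    (b1 : ∀ v ∈ U₁, ∃ f : H → W₁, ∑ h, σ h (f h) = v) (b2 : ∀ v ∈ U₂, ∃ f : H → W₂, ∑ h, σ h (f h) = v)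
    (i1 : Function.Injective fun f : H → W₁ => ∑ h, σ h (f h))
    (i2 : Function.Injective fun f : H → W₂ => ∑ h, σ h (f h)) : IsFree σ := by
  refine ⟨W₁ ⊔ W₂, fun f f' e => ?_, fun v => ?_⟩
  · choose a ha b hb hab using fun h => Submodule.mem_sup.1 (f h).2
    choose a' ha' b' hb' hab' using fun h => Submodule.mem_sup.1 (f' h).2
    simp only [← hab, ← hab', map_add, Finset.sum_add_distrib] at e
    have e' : ∑ h, σ h (a h) - ∑ h, σ h (a' h) = ∑ h, σ h (b' h) - ∑ h, σ h (b h) :=
      sub_eq_sub_iff_add_eq_add.2 (by rw [e, add_comm])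
    have hz : ∑ h, σ h (a h) - ∑ h, σ h (a' h) = 0 :=
      Submodule.disjoint_def.1 hc.disjoint _
        (sub_mem (sum_mem fun h _ => hi1 h _ (h1 (ha h))) (sum_mem fun h _ => hi1 h _ (h1 (ha' h))))
        (e' ▸ sub_mem (sum_mem fun h _ => hi2 h _ (h2 (hb' h))) (sum_mem fun h _ => hi2 h _ (h2 (hb h))))
    have ea := i1 (a₁ := fun h => ⟨a h, ha h⟩) (a₂ := fun h => ⟨a' h, ha' h⟩) (sub_eq_zero.1 hz)
    have eb := i2 (a₁ := fun h => ⟨b h, hb h⟩) (a₂ := fun h => ⟨b' h, hb' h⟩)
      (sub_eq_zero.1 (e'.symm.trans hz)).symm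
    funext h
    refine Subtype.ext ?_
    rw [← hab, ← hab', show a h = a' h from congrArg Subtype.val (congrFun ea h), show b h = b' h from congrArg Subtype.val (congrFun eb h)]
  · obtain ⟨v₁, hv1, v₂, hv2, rfl⟩ := Submodule.mem_sup.1 (hc.sup_eq_top.ge (Submodule.mem_top (x := v)))
    obtain ⟨f, rfl⟩ := b1 v₁ hv1
    obtain ⟨g, rfl⟩ := b2 v₂ hv2
    exact ⟨fun h => ⟨f h + g h, Submodule.add_mem_sup (f h).2 (g h).2⟩, by simp [Finset.sum_add_distrib]⟩

/-- Transport the free decomposition of an invariant subspace. -/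
theorem free_sub {U : Type*} [AddCommGroup U] [Module k U] {H : Type*} [Group H] [Fintype H]
    (σ : H →* Module.End k U) (U₁ : Submodule k U) (τ : H →* Module.End k U₁)
    (hτ : ∀ h (u : U₁), (τ h u : U) = σ h u) (hf : IsFree τ) :
    ∃ W ≤ U₁, (∀ v ∈ U₁, ∃ f : H → W, ∑ h, σ h (f h) = v) ∧
      Function.Injective fun f : H → W => ∑ h, σ h (f h) := by
  obtain ⟨W, hi, hs⟩ := hf
  refine ⟨W.map U₁.subtype, Submodule.map_subtype_le _ _, fun v hv => ?_, fun f f' e => ?_⟩
  · obtain ⟨f, hf⟩ := hs ⟨v, hv⟩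
    refine ⟨fun h => ⟨_, Submodule.mem_map_of_mem (f h).2⟩, ?_⟩
    have := congrArg Subtype.val hf
    simpa [Submodule.coe_sum, hτ] using this
  · choose a ha hfa using fun h => Submodule.mem_map.1 (f h).2
    choose a' ha' hfa' using fun h => Submodule.mem_map.1 (f' h).2
    have := hi (a₁ := fun h => ⟨a h, ha h⟩) (a₂ := fun h => ⟨a' h, ha' h⟩) (Subtype.ext (by
      simpa [Submodule.coe_sum, hτ, ← hfa, ← hfa'] using e))
    funext h
    refine Subtype.ext ?_
    rw [← hfa, ← hfa', show a h = a' h from congrArg Subtype.val (congrFun this h)]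

theorem exists_fixed_of_pGroup {U : Type*} [AddCommGroup U] [Module k U] [Nontrivial U] {p : ℕ}
    [Fact p.Prime] [CharP k p] {N : Type*} [Group N] [Finite N] (hN : IsPGroup p N)
    (ρ : N →* Module.End k U) : ∃ u : U, u ≠ 0 ∧ ∀ n, ρ n u = u := by
  obtain ⟨v, hv⟩ := exists_ne (0 : U)
  let S : Submodule ℤ U := Submodule.span ℤ (Set.range fun n => ρ n v)
  haveI : Module.Finite ℤ S := Module.Finite.span_of_finite ℤ (Set.finite_range _)
  have hp0 : ∀ u : U, p • u = 0 := fun u => by
    rw [← Nat.cast_smul_eq_nsmul k, CharP.cast_eq_zero, zero_smul]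
  haveI : AddGroup.FG S := Module.Finite.iff_addGroup_fg.1 inferInstance
  haveI : Finite S := AddCommGroup.finite_of_fg_torsion S fun u => isOfFinAddOrder_iff_nsmul_eq_zero.2
    ⟨p, (Fact.out : p.Prime).pos, Subtype.ext (hp0 u)⟩
  have hinv : ∀ n, ∀ u ∈ S, ρ n u ∈ S := by
    intro n u hu
    induction hu using Submodule.span_induction with
    | mem x hx =>
      obtain ⟨a, rfl⟩ := hx
      exact Submodule.subset_span ⟨n * a, by simp [map_mul]⟩
    | zero => rw [map_zero]; exact S.zero_mem
    | add x y _ _ hx hy => rw [map_add]; exact S.add_mem hx hy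
    | smul c x _ hx => rw [map_zsmul]; exact S.smul_mem c hx
  letI : MulAction N S :=
    { smul := fun n u => ⟨ρ n u, hinv n u u.2⟩
      one_smul := fun u => Subtype.ext (by show ρ 1 (u : U) = u; simp)
      mul_smul := fun a b u => Subtype.ext (by show ρ (a * b) (u : U) = ρ a (ρ b u); simp) }
  have h0 : (0 : S) ∈ MulAction.fixedPoints N S := fun n => Subtype.ext (map_zero (ρ n))
  let v' : S := ⟨v, Submodule.subset_span ⟨1, by simp⟩⟩
  have hv' : addOrderOf v' = p :=
    addOrderOf_eq_prime (Subtype.ext (hp0 v)) fun h => hv (congrArg Subtype.val h)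
  have hdvd : p ∣ Nat.card S := hv' ▸ addOrderOf_dvd_natCard v'
  obtain ⟨u, hu, hne⟩ := hN.exists_fixed_point_of_prime_dvd_card_of_fixed_point S hdvd h0
  exact ⟨u, fun h => hne (Subtype.ext h.symm), fun n => congrArg Subtype.val (hu n)⟩

/-- A group acting fixed-point-freely on a finite nilpotent group without fixed vectors acts freely. -/
theorem free_of_fpf.{u, v} {H : Type*} [Group H] [Fintype H] : ∀ (n : ℕ) {N : Type v} [Group N] [Fintype N]
    [Group.IsNilpotent N], Fintype.card N ≤ n → ∀ {U : Type u} [AddCommGroup U] [Module k U]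
    [FiniteDimensional k U] (φ : H →* MulAut N), (∀ h, h ≠ 1 → ∀ x, φ h x = x → x = 1) →
    ∀ (ρ : N →* Module.End k U) (σ : H →* Module.End k U), (∀ h x, σ h * ρ x = ρ (φ h x) * σ h) →
    (∀ u, (∀ x, ρ x u = u) → u = 0) → IsFree σ := by
  intro n
  induction n with
  | zero => intro N _ _ _ hn; exact absurd hn (not_le.2 Fintype.card_pos)
  | succ n ih =>
    intro N _ _ _ hn U _ _ _ φ hfpf ρ σ hc hC
    classical
    by_cases hU : Subsingleton U
    · exact ⟨⊥, fun f f' _ => funext fun h => Subsingleton.elim _ _,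
        fun v => ⟨0, Subsingleton.elim _ _⟩⟩
    haveI : Nontrivial U := not_subsingleton_iff_nontrivial.1 hU
    obtain ⟨q, hqp, hqN, hqk⟩ : ∃ q : ℕ, q.Prime ∧ q ∣ Nat.card N ∧ (q : k) ≠ 0 := by
      by_contra! hall
      obtain ⟨p, hp⟩ := CharP.exists k
      by_cases hN1 : Nat.card N = 1
      · haveI := (Nat.card_eq_one_iff_unique.1 hN1).1
        obtain ⟨u, hu⟩ := exists_ne (0 : U)
        exact hu (hC u fun x => by rw [Subsingleton.elim x 1, map_one]; rfl)
      · obtain ⟨q, hq, hqN⟩ := Nat.exists_prime_and_dvd hN1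
        have hpq : p = q := by
          have h1 : p ∣ q := (CharP.cast_eq_zero_iff k p q).1 (hall q hq hqN)
          exact ((Nat.dvd_prime hq).1 h1).resolve_left (CharP.char_ne_one k p)
        subst hpq
        haveI : Fact p.Prime := ⟨hq⟩
        have hP : IsPGroup p N := IsPGroup.of_card (Nat.eq_prime_pow_of_unique_prime_dvd Nat.card_pos.ne'
          fun {d} hd hdN => ((Nat.prime_dvd_prime_iff_eq hq hd).1
            ((CharP.cast_eq_zero_iff k p d).1 (hall d hd hdN))).symm)
        obtain ⟨u, hu, hfix⟩ := exists_fixed_of_pGroup hP ρ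
        exact hu (hC u hfix)
    haveI : Fact q.Prime := ⟨hqp⟩
    obtain ⟨Q⟩ : Nonempty (Sylow q N) := inferInstance
    haveI hQn : (Q : Subgroup N).Normal :=
      (Group.isNilpotent_of_finite_tfae.out 0 3 rfl rfl).mp inferInstance q inferInstance Q
    haveI := Sylow.characteristic_of_normal Q hQn
    have hQ0 : (Q : Subgroup N) ≠ ⊥ := fun h => by
      have := Q.dvd_card_of_dvd_card hqN
      rw [h, Subgroup.card_bot] at this
      exact hqp.ne_one (Nat.eq_one_of_dvd_one this)
    set Z : Subgroup N := (Q : Subgroup N) ⊓ Subgroup.center N with hZd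
    have hZ0 : Z ≠ ⊥ := CfsgLib.Solvable.inf_center_ne_bot_of_isNilpotent hQ0
    have hZinv : ∀ h, ∀ z ∈ Z, φ h z ∈ Z := fun h z hz => by
      refine ⟨?_, ?_⟩
      · have h1 := Subgroup.characteristic_iff_map_eq.1 (inferInstance : (Q : Subgroup N).Characteristic) (φ h)
        rw [← h1]; exact Subgroup.mem_map_of_mem _ hz.1
      · have h1 := Subgroup.characteristic_iff_map_eq.1 (Subgroup.centerCharacteristic (G := N)) (φ h)
        rw [← h1]; exact Subgroup.mem_map_of_mem _ hz.2
    have hZk : (Fintype.card Z : k) ≠ 0 := by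
      obtain ⟨e, he⟩ := IsPGroup.iff_card.1 (Q.isPGroup'.to_le (inf_le_left : Z ≤ Q))
      rw [← Nat.card_eq_fintype_card, he, Nat.cast_pow]
      exact pow_ne_zero _ hqk
    letI : CommGroup Z :=
      { (inferInstance : Group Z) with
        mul_comm := fun a b => Subtype.ext (Subgroup.mem_center_iff.1 b.2.2 a.1) }
    let E : Module.End k U := (Fintype.card Z : k)⁻¹ • ∑ z : Z, ρ (z : N)
    have hE : ∀ u, E u = (Fintype.card Z : k)⁻¹ • ∑ z : Z, ρ (z : N) u := fun u => by
      simp [E, LinearMap.sum_apply]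
    have hcρ : ∀ x u, E (ρ x u) = ρ x (E u) := fun x u => by
      rw [hE, hE, map_smul, map_sum]
      congr 1
      exact Finset.sum_congr rfl fun z _ => by
        rw [← Module.End.mul_apply, ← Module.End.mul_apply, ← map_mul, ← map_mul,
          Subgroup.mem_center_iff.1 z.2.2 x]
    have hbijZ : ∀ h, Function.Bijective fun z : Z => (⟨φ h z, hZinv h z z.2⟩ : Z) := fun h =>
      Finite.injective_iff_bijective.1 fun a b e => Subtype.ext ((φ h).injective (congrArg Subtype.val e))
    have hcσ : ∀ h u, E (σ h u) = σ h (E u) := fun h u => by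
      rw [hE, hE, map_smul, map_sum]
      congr 1
      refine (Fintype.sum_bijective _ (hbijZ h) _ _ fun z => ?_).symm
      rw [← Module.End.mul_apply, hc]; rfl
    have hEz : ∀ (z : Z) u, ρ (z : N) (E u) = E u := fun z u => by
      rw [hE, map_smul, map_sum]
      congr 1
      refine Fintype.sum_equiv (Equiv.mulLeft z) _ _ fun w => ?_
      show ρ (z : N) (ρ (w : N) u) = ρ ((z * w : Z) : N) u
      rw [Subgroup.coe_mul, map_mul]; rfl
    have hEE : ∀ u, E (E u) = E u := fun u => by
      conv_lhs => rw [hE]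
      rw [Finset.sum_congr rfl (fun z _ => hEz z u), Finset.sum_const, Finset.card_univ,
        ← Nat.cast_smul_eq_nsmul k, smul_smul, inv_mul_cancel₀ hZk, one_smul]
    let U₁ := LinearMap.ker (E - 1)
    let U₂ := LinearMap.ker E
    have m1 : ∀ u, u ∈ U₁ ↔ E u = u := fun u => by simp [U₁, sub_eq_zero]
    have m2 : ∀ u, u ∈ U₂ ↔ E u = 0 := fun u => LinearMap.mem_ker
    have hcompl : IsCompl U₁ U₂ := by
      refine IsCompl.of_eq (eq_bot_iff.2 fun u hu => ?_) (eq_top_iff.2 fun u _ => ?_)
      · exact ((m1 u).1 hu.1).symm.trans ((m2 u).1 hu.2)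
      · exact Submodule.mem_sup.2 ⟨E u, (m1 _).2 (hEE u), u - E u,
          (m2 _).2 (by rw [map_sub, hEE, sub_self]), add_sub_cancel _ _⟩
    have i1 : ∀ h, ∀ u ∈ U₁, σ h u ∈ U₁ := fun h u hu => (m1 _).2 (by rw [hcσ, (m1 u).1 hu])
    have i2 : ∀ h, ∀ u ∈ U₂, σ h u ∈ U₂ := fun h u hu => (m2 _).2 (by rw [hcσ, (m2 u).1 hu, map_zero])
    have j1 : ∀ x, ∀ u ∈ U₁, ρ x u ∈ U₁ := fun x u hu => (m1 _).2 (by rw [hcρ, (m1 u).1 hu])
    have j2 : ∀ x, ∀ u ∈ U₂, ρ x u ∈ U₂ := fun x u hu => (m2 _).2 (by rw [hcρ, (m2 u).1 hu, map_zero])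
    let restr : ∀ (S : Submodule k U) {K : Type _} [Monoid K] (τ : K →* Module.End k U),
        (∀ x, ∀ u ∈ S, τ x u ∈ S) → (K →* Module.End k S) := fun S {K} _ τ hτ =>
      { toFun := fun x => (τ x).restrict (hτ x)
        map_one' := LinearMap.ext fun u => Subtype.ext (by simp)
        map_mul' := fun a b => LinearMap.ext fun u => Subtype.ext (by simp) }
    let σ₁ := restr U₁ σ i1
    let σ₂ : H →* Module.End k U₂ :=
      { toFun := fun x => (σ x).restrict (i2 x)
        map_one' := LinearMap.ext fun u => Subtype.ext (by simp)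
        map_mul' := fun a b => LinearMap.ext fun u => Subtype.ext (by simp) }
    -- the part on which `Z` has no fixed vectors
    have f2 : IsFree σ₂ := by
      let ψ : H →* MulAut Z :=
        { toFun := fun h => MulEquiv.ofBijective
            (MonoidHom.mk' (fun z : Z => (⟨φ h z, hZinv h z z.2⟩ : Z)) fun a b => Subtype.ext (map_mul (φ h) _ _))
            (hbijZ h)
          map_one' := MulEquiv.ext fun z => Subtype.ext (by simp)
          map_mul' := fun a b => MulEquiv.ext fun z => Subtype.ext (by simp; rfl) }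
      refine free_of_fpf_abelian ψ (fun h hh z hz => Subtype.ext (hfpf h hh z (congrArg Subtype.val hz))) hZk
        { toFun := fun z => (ρ (z : N)).restrict (j2 z)
          map_one' := LinearMap.ext fun u => Subtype.ext (by simp)
          map_mul' := fun a b => LinearMap.ext fun u => Subtype.ext (by simp) } σ₂
        (fun h z => LinearMap.ext fun u => Subtype.ext (by
          show (σ h * ρ (z : N)) (u : U) = (ρ (φ h z) * σ h) (u : U)
          rw [hc])) ?_
      intro u hu
      refine Subtype.ext ?_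
      have h1 := (m2 u).1 u.2
      rwa [hE, Finset.sum_congr rfl (fun (z : Z) _ => show ρ (z : N) (u : U) = u from congrArg Subtype.val (hu z)),
        Finset.sum_const, Finset.card_univ, ← Nat.cast_smul_eq_nsmul k, smul_smul, inv_mul_cancel₀ hZk,
        one_smul] at h1
    -- the part fixed by `Z`
    have f1 : IsFree σ₁ := by
      haveI : Z.Normal := ⟨fun z hz g => by
        rw [Subgroup.mem_center_iff.1 hz.2 g, mul_inv_cancel_right]; exact hz⟩
      haveI : Fintype (N ⧸ Z) := Fintype.ofFinite _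
      have hlt : Fintype.card (N ⧸ Z) ≤ n := by
        have h1 := Subgroup.card_eq_card_quotient_mul_card_subgroup Z
        rw [← Nat.card_eq_fintype_card] at hn ⊢
        have h2 : 2 ≤ Nat.card Z := (Subgroup.one_lt_card_iff_ne_bot Z).2 hZ0
        have h3 : 0 < Nat.card (N ⧸ Z) := Nat.card_pos
        nlinarith
      have hmap : ∀ h, Z.map ((φ h : MulAut N) : N →* N) = Z := fun h =>
        Subgroup.eq_of_le_of_card_ge (by rintro _ ⟨z, hz, rfl⟩; exact hZinv h z hz)
          (Subgroup.card_map_of_injective (φ h).injective).ge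
      let φq : H →* MulAut (N ⧸ Z) :=
        { toFun := fun h => QuotientGroup.congr Z Z (φ h) (hmap h)
          map_one' := MulEquiv.ext fun y => by
            obtain ⟨y, rfl⟩ := QuotientGroup.mk_surjective y
            show ((φ 1 y : N) : N ⧸ Z) = y
            rw [map_one]; rfl
          map_mul' := fun a b => MulEquiv.ext fun y => by
            obtain ⟨y, rfl⟩ := QuotientGroup.mk_surjective y
            show ((φ (a * b) y : N) : N ⧸ Z) = ((φ a (φ b y) : N) : N ⧸ Z)
            rw [map_mul]; rfl }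
      let ρ₁ : N →* Module.End k U₁ :=
        { toFun := fun x => (ρ x).restrict (j1 x)
          map_one' := LinearMap.ext fun u => Subtype.ext (by simp)
          map_mul' := fun a b => LinearMap.ext fun u => Subtype.ext (by simp) }
      have hker : Z ≤ ρ₁.ker := fun z hz => MonoidHom.mem_ker.2 (LinearMap.ext fun u => Subtype.ext (by
        show ρ z (u : U) = u
        rw [← (m1 u).1 u.2]; exact hEz ⟨z, hz⟩ u))
      refine ih hlt φq ?_ (QuotientGroup.lift Z ρ₁ hker) σ₁ ?_ ?_
      · intro h hh y hy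
        obtain ⟨f, rfl⟩ := QuotientGroup.mk_surjective y
        have hf : f⁻¹ * φ h f ∈ Z := QuotientGroup.eq.1 (Eq.symm hy)
        have hsurj : Function.Surjective fun z : Z =>
            (⟨(z : N)⁻¹ * φ h z, Z.mul_mem (Z.inv_mem z.2) (hZinv h z z.2)⟩ : Z) :=
          Finite.injective_iff_surjective.1 fun a b e => Subtype.ext (by
            have e' : (a : N)⁻¹ * φ h a = (b : N)⁻¹ * φ h b := congrArg Subtype.val e
            have := hfpf h hh ((b : N) * (a : N)⁻¹) (by
              rw [map_mul, map_inv, mul_inv_eq_iff_eq_mul, mul_assoc, e', mul_inv_cancel_left])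
            exact (mul_inv_eq_one.1 this).symm)
        obtain ⟨z, hz⟩ := hsurj ⟨_, hf⟩
        have hz' : (z : N)⁻¹ * φ h z = f⁻¹ * φ h f := congrArg Subtype.val hz
        have := hfpf h hh (f * (z : N)⁻¹) (by
          rw [map_mul, map_inv, mul_inv_eq_iff_eq_mul, mul_assoc, hz', mul_inv_cancel_left])
        rw [QuotientGroup.eq_one_iff, mul_inv_eq_one.1 this]
        exact z.2
      · intro h y
        obtain ⟨f, rfl⟩ := QuotientGroup.mk_surjective y
        refine LinearMap.ext fun u => Subtype.ext ?_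
        show (σ h * ρ f) (u : U) = (ρ (φ h f) * σ h) (u : U)
        rw [hc]
      · exact fun u hu => Subtype.ext (hC u fun x => congrArg Subtype.val (hu x))
    obtain ⟨W₁, w1, s1, t1⟩ := free_sub σ U₁ σ₁ (fun _ _ => rfl) f1
    obtain ⟨W₂, w2, s2, t2⟩ := free_sub σ U₂ σ₂ (fun _ _ => rfl) f2
    exact free_add σ U₁ U₂ hcompl W₁ W₂ w1 w2 i1 i2 s1 s2 t1 t2

theorem IsFree.isInternal {U : Type*} [AddCommGroup U] [Module k U] {H : Type*} [Group H] [Fintype H]
    [DecidableEq H] {σ : H →* Module.End k U} (hf : IsFree σ) :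
    ∃ W : Submodule k U, DirectSum.IsInternal fun h => W.map (σ h) := by
  obtain ⟨W, hi, hs⟩ := hf
  refine ⟨W, (DirectSum.isInternal_submodule_iff_iSupIndep_and_iSup_eq_top _).2 ⟨?_, ?_⟩⟩
  · rw [iSupIndep_iff_finsetSum_eq_zero_imp_eq_zero]
    intro s v hv h0 h hh
    choose w hw using fun h : {h // h ∈ s} => Submodule.mem_map.1 (hv h.1 h.2)
    let f : H → W := fun j => if hj : j ∈ s then ⟨w ⟨j, hj⟩, (hw ⟨j, hj⟩).1⟩ else 0
    have hzero : f = 0 := hi (by
      show ∑ j, σ j (f j : U) = ∑ j, σ j ((0 : H → W) j : U)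
      simp only [Pi.zero_apply, Submodule.coe_zero, map_zero, Finset.sum_const_zero]
      rw [← h0]
      refine (Finset.sum_subset (Finset.subset_univ s) fun j _ hj => ?_).symm.trans
        (Finset.sum_congr rfl fun j hj => ?_)
      · simp [f, hj]
      · simp [f, hj, (hw ⟨j, hj⟩).2])
    have := congrArg Subtype.val (congrFun hzero h)
    simp only [f, hh, dif_pos, Pi.zero_apply, Submodule.coe_zero] at this
    rw [← (hw ⟨h, hh⟩).2, this, map_zero]
  · refine eq_top_iff.2 fun v _ => ?_
    obtain ⟨f, rfl⟩ := hs v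
    exact sum_mem fun h _ => Submodule.mem_iSup_of_mem h (Submodule.mem_map_of_mem (f h).2)

end CfsgLib.FGS.FreeCompl
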