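import Mathlib

/-!
Automorphisms of an elementary abelian `p`-group extended by an element of prime order `q` acting
without fixed points, when `p` is a primitive root modulo `q`.
-/

set_option autoImplicit false

namespace CfsgLib.FGS

open Polynomial

theorem irreducible_cyclotomic_of_primitive_root {p q : ℕ} [Fact p.Prime] [Fact q.Prime]
    (hord : orderOf (p : ZMod q) = q - 1) : Irreducible (cyclotomic q (ZMod p)) := by
  have hq : q.Prime := Fact.out
  have hp : p.Prime := Fact.out
  have hpq : p ≠ q := by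
    intro e
    have h0 : (p : ZMod q) = 0 := by rw [e]; exact ZMod.natCast_self q
    rw [h0, orderOf_zero] at hord
    have := hp.two_le
    omega
  haveI : NeZero (q : ZMod p) := ⟨fun h => hpq ((Nat.prime_dvd_prime_iff_eq hp hq).1 ((ZMod.natCast_eq_zero_iff _ _).1 h))⟩
  set Φ := cyclotomic q (ZMod p) with hΦ
  have hdeg : Φ.natDegree = q - 1 := by rw [hΦ, natDegree_cyclotomic, Nat.totient_prime hq]
  have hu : ¬ IsUnit Φ := by
    intro h
    have := natDegree_eq_zero_of_isUnit h
    have := hq.two_le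
    omega
  have hΦ0 : Φ ≠ 0 := cyclotomic_ne_zero q _
  obtain ⟨f, hf, hfd⟩ := WfDvdMonoid.exists_irreducible_factor hu hΦ0
  haveI := Fact.mk hf
  have hf0 : f ≠ 0 := hf.ne_zero
  have hroot : aeval (AdjoinRoot.root f) Φ = 0 := by
    obtain ⟨g, hg⟩ := hfd
    rw [hg, map_mul, AdjoinRoot.aeval_eq, AdjoinRoot.mk_self, zero_mul]
  have hprim : IsPrimitiveRoot (AdjoinRoot.root f) q := by
    haveI : NeZero (q : AdjoinRoot f) := NeZero.of_injective (algebraMap (ZMod p) (AdjoinRoot f)).injective
    rw [← isRoot_cyclotomic_iff, ← map_cyclotomic q (algebraMap (ZMod p) (AdjoinRoot f)), IsRoot,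
      eval_map_algebraMap]
    exact hroot
  haveI : Module.Finite (ZMod p) (AdjoinRoot f) := (AdjoinRoot.powerBasis hf0).finite
  haveI : Finite (AdjoinRoot f) := Module.finite_of_finite (ZMod p)
  letI := Fintype.ofFinite (AdjoinRoot f)
  have hcard : Fintype.card (AdjoinRoot f) = p ^ f.natDegree := by
    rw [← Nat.card_eq_fintype_card, Module.natCard_eq_pow_finrank (K := ZMod p),
      (AdjoinRoot.powerBasis hf0).finrank, AdjoinRoot.powerBasis_dim, Nat.card_zmod]
  have hne : AdjoinRoot.root f ≠ 0 := hprim.ne_zero hq.ne_zero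
  have h1 : q ∣ p ^ f.natDegree - 1 := by
    rw [← hcard, hprim.eq_orderOf]
    exact orderOf_dvd_of_pow_eq_one (FiniteField.pow_card_sub_one_eq_one _ hne)
  have h2 : (p : ZMod q) ^ f.natDegree = 1 := by
    have h3 : ((p ^ f.natDegree - 1 : ℕ) : ZMod q) = 0 := (ZMod.natCast_eq_zero_iff _ _).2 h1
    rw [Nat.cast_sub (Nat.one_le_pow _ _ hp.pos), Nat.cast_pow, Nat.cast_one, sub_eq_zero] at h3
    exact h3
  have h4 : q - 1 ≤ f.natDegree := by
    rw [← hord]
    exact Nat.le_of_dvd hf.natDegree_pos (orderOf_dvd_of_pow_eq_one h2)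
  exact (associated_of_dvd_of_natDegree_le hfd hΦ0 (hdeg ▸ h4)).irreducible hf

/-- An automorphism of a split extension from one of the kernel and a power map of the complement. -/
theorem exists_mulAut_extend {G : Type*} [Group G] [Finite G] (P : Subgroup G) [P.Normal] {x : G}
    (hc : Subgroup.IsComplement' P (Subgroup.zpowers x)) (φ : P ≃* P) (i : ℕ)
    (hi : i.Coprime (orderOf x))
    (hφ : ∀ u : P, ((φ ⟨x * u * x⁻¹, Subgroup.Normal.conj_mem ‹_› _ u.2 x⟩ : P) : G) =
      x ^ i * (φ u : G) * (x ^ i)⁻¹) :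
    ∃ a : MulAut G, (∀ u : P, a u = φ u) ∧ a x = x ^ i := by
  classical
  set e := Equiv.ofBijective _ hc with he
  have hpow : ∀ (n : ℕ) (u : P), ((φ ⟨x ^ n * u * (x ^ n)⁻¹, Subgroup.Normal.conj_mem ‹_› _ u.2 _⟩ : P) : G) =
      (x ^ i) ^ n * (φ u : G) * ((x ^ i) ^ n)⁻¹ := by
    intro n
    induction n with
    | zero => intro u; simp
    | succ n ih =>
      intro u
      have h := ih ⟨x * u * x⁻¹, Subgroup.Normal.conj_mem ‹_› _ u.2 x⟩
      rw [hφ u] at h
      rw [pow_succ (x ^ i), show (x ^ i) ^ n * x ^ i * (φ u : G) * ((x ^ i) ^ n * x ^ i)⁻¹ =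
        (x ^ i) ^ n * (x ^ i * (φ u : G) * (x ^ i)⁻¹) * ((x ^ i) ^ n)⁻¹ by group, ← h]
      congr 3
      rw [pow_succ]
      group
  have hH : ∀ (h : Subgroup.zpowers x) (u : P),
      ((φ ⟨(h : G) * u * (h : G)⁻¹, Subgroup.Normal.conj_mem ‹_› _ u.2 _⟩ : P) : G) =
      (h : G) ^ i * (φ u : G) * ((h : G) ^ i)⁻¹ := by
    rintro ⟨h, hh⟩ u
    rw [← mem_powers_iff_mem_zpowers] at hh
    obtain ⟨n, rfl⟩ := hh
    show ((φ ⟨x ^ n * u * (x ^ n)⁻¹, _⟩ : P) : G) = (x ^ n) ^ i * (φ u : G) * ((x ^ n) ^ i)⁻¹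
    rw [hpow n u, pow_right_comm]
  let f : G → G := fun g => (φ (e.symm g).1 : G) * ((e.symm g).2 : G) ^ i
  have hval : ∀ (u : P) (h : Subgroup.zpowers x), f ((u : G) * h) = (φ u : G) * (h : G) ^ i := by
    intro u h
    have : e.symm ((u : G) * h) = (u, h) := e.symm_apply_eq.2 rfl
    simp only [f, this]
  have hsur : ∀ g, ∃ (u : P) (h : Subgroup.zpowers x), (u : G) * h = g :=
    fun g => ⟨(e.symm g).1, (e.symm g).2, e.apply_symm_apply g⟩
  have hmul : ∀ g g', f (g * g') = f g * f g' := by
    intro g g'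
    obtain ⟨u, h, rfl⟩ := hsur g
    obtain ⟨u', h', rfl⟩ := hsur g'
    have hcomm : Commute (h : G) (h' : G) :=
      congrArg Subtype.val (IsCyclic.commGroup.mul_comm h h')
    rw [show (u : G) * h * ((u' : G) * h') =
      ((u * ⟨(h : G) * u' * (h : G)⁻¹, Subgroup.Normal.conj_mem ‹_› _ u'.2 _⟩ : P) : G) * ((h * h' : Subgroup.zpowers x) : G) by
        push_cast; group,
      hval, hval, hval, map_mul, Subgroup.coe_mul, hH, Subgroup.coe_mul, hcomm.mul_pow]
    group
  have hf1 : f 1 = 1 := by
    have := hmul 1 1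
    rw [mul_one] at this
    exact left_eq_mul.1 this
  have hinj : Function.Injective (MonoidHom.mk' f hmul) := by
    rw [injective_iff_map_eq_one]
    intro g hg
    obtain ⟨u, h, rfl⟩ := hsur g
    rw [MonoidHom.mk'_apply, hval] at hg
    have hm : (h : G) ^ i ∈ P ⊓ Subgroup.zpowers x := by
      refine Subgroup.mem_inf.2 ⟨?_, pow_mem h.2 i⟩
      rw [eq_inv_of_mul_eq_one_right hg]
      exact inv_mem (φ u).2
    rw [hc.disjoint.eq_bot, Subgroup.mem_bot] at hm
    have hh : (h : G) = 1 := by
      have hd : orderOf (h : G) ∣ orderOf x := by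
        exact (Subgroup.orderOf_dvd_natCard _ h.2).trans (Nat.card_zpowers x).dvd
      exact orderOf_eq_one_iff.1 (Nat.eq_one_of_dvd_coprimes hi (orderOf_dvd_of_pow_eq_one hm) hd)
    rw [hm, mul_one] at hg
    have hu : u = 1 := φ.injective (by rw [map_one]; exact Subtype.ext hg)
    rw [hu, hh]; simp
  refine ⟨MulEquiv.ofBijective _ ⟨hinj, Finite.injective_iff_surjective.1 hinj⟩, fun u => ?_, ?_⟩
  · show f u = φ u
    have := hval u 1
    simpa using this
  · show f x = x ^ i
    have := hval 1 ⟨x, Subgroup.mem_zpowers x⟩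
    simpa using this

variable {G : Type*} [Group G] [Finite G] {p q : ℕ} [Fact p.Prime] [Fact q.Prime]

/-- The automorphisms needed for transitivity. -/
theorem exists_mulAut_of_cyclotomic (P : Subgroup G) [P.Normal]
    (hPc : ∀ u v : P, u * v = v * u) (hPp : ∀ u : P, u ^ p = 1) {x : G} (hx : orderOf x = q)
    (hc : Subgroup.IsComplement' P (Subgroup.zpowers x))
    (hfix : ∀ u ∈ P, x * u * x⁻¹ = u → u = 1) (hord : orderOf (p : ZMod q) = q - 1) :
    (∀ i : ℕ, ¬ q ∣ i → ∃ a : MulAut G, a x = x ^ i) ∧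
    (∀ u v : P, u ≠ 1 → v ≠ 1 → ∃ a : MulAut G, a u = v) := by
  classical
  have hq : q.Prime := Fact.out
  have hp : p.Prime := Fact.out
  letI : CommGroup P := { (inferInstance : Group P) with mul_comm := hPc }
  let X : AddMonoid.End (Additive P) := AddMonoidHom.mk'
    (fun v => Additive.ofMul (⟨x * (Additive.toMul v : P) * x⁻¹, Subgroup.Normal.conj_mem ‹_› _ (Additive.toMul v).2 x⟩ : P))
    (fun v w => congrArg Additive.ofMul (Subtype.ext (by
      show x * ((Additive.toMul v : P) * (Additive.toMul w : P) : P) * x⁻¹ = _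
      simp [mul_assoc])))
  have hX : ∀ v : (Additive P), ((Additive.toMul (X v) : P) : G) = x * (Additive.toMul v : P) * x⁻¹ := fun v => rfl
  have hXpow : ∀ (k : ℕ) (v : (Additive P)), ((Additive.toMul ((X ^ k) v) : P) : G) =
      x ^ k * (Additive.toMul v : P) * (x ^ k)⁻¹ := by
    intro k
    induction k with
    | zero => intro v; simp
    | succ k ih =>
      intro v
      rw [pow_succ, AddMonoid.End.coe_mul, Function.comp_apply, ih, hX, pow_succ]
      group
  have hpA : ∀ v : (Additive P), p • v = 0 := fun v => Additive.toMul.injective (hPp (Additive.toMul v))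
  have hsum : ∀ v : (Additive P), ∑ k ∈ Finset.range q, (X ^ k) v = 0 := by
    intro v
    set s := ∑ k ∈ Finset.range q, (X ^ k) v with hs
    have hXs : X s = s := by
      rw [hs, map_sum]
      have h1 : ∀ k, X ((X ^ k) v) = (X ^ (k + 1)) v := fun k => by rw [pow_succ']; rfl
      simp_rw [h1]
      have h2 := Finset.sum_range_succ' (fun k => (X ^ k) v) q
      rw [Finset.sum_range_succ] at h2
      have h3 : (X ^ q) v = (X ^ 0) v := Additive.toMul.injective (Subtype.ext (by
        rw [hXpow, hXpow, ← hx, pow_orderOf_eq_one, pow_zero]))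
      rw [h3] at h2
      exact (add_right_cancel h2).symm
    have h4 := hfix _ (Additive.toMul s).2 ((hX s).symm.trans (by rw [hXs]))
    exact Additive.toMul.injective (Subtype.ext h4)
  rcases subsingleton_or_nontrivial P with hP | hP
  · constructor
    · intro i hi
      obtain ⟨a, -, ha⟩ := exists_mulAut_extend P hc (MulEquiv.refl P) i
        (by rw [hx]; exact ((hq.coprime_iff_not_dvd).2 hi).symm) (fun u => by
          rw [show u = 1 from Subsingleton.elim _ _]; simp)
      exact ⟨a, ha⟩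
    · exact fun u v hu _ => absurd (Subsingleton.elim u 1) hu
  haveI : Nontrivial (Additive P) := inferInstanceAs (Nontrivial (Additive P))
  set B := Subring.closure ({X} : Set (AddMonoid.End (Additive P)))
  letI : CommRing B := Subring.closureCommRingOfComm (by rintro a (rfl : a = X) b (rfl : b = X); rfl)
  have hpB : (p : B) = 0 := by
    refine Subtype.ext (AddMonoidHom.ext fun v => ?_)
    show ((p : B) : AddMonoid.End (Additive P)) v = 0
    rw [SubringClass.coe_natCast, AddMonoid.End.natCast_apply]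
    exact hpA v
  haveI : Nontrivial B := by
    obtain ⟨v, hv⟩ := exists_ne (0 : (Additive P))
    refine ⟨⟨1, 0, fun e => hv ?_⟩⟩
    exact DFunLike.congr_fun (congrArg Subtype.val e) v
  haveI : CharP B p := CharP.ringChar_of_prime_eq_zero hp hpB ▸ ringChar.charP B
  haveI := Fact.mk (irreducible_cyclotomic_of_primitive_root hord)
  set Φ := cyclotomic q (ZMod p)
  let ξ : B := ⟨X, Subring.subset_closure rfl⟩
  have heval : Φ.eval₂ (ZMod.castHom dvd_rfl B) ξ = 0 := by
    rw [show Φ = ∑ k ∈ Finset.range q, (Polynomial.X : (ZMod p)[X]) ^ k from cyclotomic_prime _ q]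
    rw [eval₂_finsetSum]
    refine Subtype.ext (AddMonoidHom.ext fun v => ?_)
    simp only [eval₂_X_pow, AddSubmonoidClass.coe_finsetSum, SubmonoidClass.coe_pow, ξ]
    exact (AddMonoidHom.finset_sum_apply _ _ _).trans (hsum v)
  let ψ : AdjoinRoot Φ →+* AddMonoid.End (Additive P) := B.subtype.comp (AdjoinRoot.lift (ZMod.castHom dvd_rfl B) ξ heval)
  have hψ : ψ (AdjoinRoot.root Φ) = X := by
    show ((AdjoinRoot.lift _ ξ heval (AdjoinRoot.root Φ) : B) : AddMonoid.End (Additive P)) = X
    rw [AdjoinRoot.lift_root]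
  letI : Module (AdjoinRoot Φ) (Additive P) := Module.compHom (Additive P) ψ
  have hsmul : ∀ v : (Additive P), AdjoinRoot.root Φ • v = X v := fun v => DFunLike.congr_fun hψ v
  have hΦ0 : Φ ≠ 0 := cyclotomic_ne_zero q _
  haveI : Module.Finite (ZMod p) (AdjoinRoot Φ) := (AdjoinRoot.powerBasis hΦ0).finite
  haveI : Finite (AdjoinRoot Φ) := Module.finite_of_finite (ZMod p)
  haveI : Finite (Additive P) := inferInstanceAs (Finite (Additive P))
  haveI : Module.Finite (AdjoinRoot Φ) (Additive P) := Module.Finite.of_finite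
  constructor
  · intro i hi
    have hcop : i.Coprime q := ((hq.coprime_iff_not_dvd).2 hi).symm
    haveI : NeZero (q : AdjoinRoot Φ) := by
      refine ⟨fun h => ?_⟩
      rw [← map_natCast (algebraMap (ZMod p) (AdjoinRoot Φ)), map_eq_zero,
        ZMod.natCast_eq_zero_iff] at h
      have hpq : p = q := (Nat.prime_dvd_prime_iff_eq hp hq).1 h
      have h0 : (p : ZMod q) = 0 := by rw [hpq]; exact ZMod.natCast_self q
      rw [h0, orderOf_zero] at hord
      have := hq.two_le
      omega
    have hprim : IsPrimitiveRoot (AdjoinRoot.root Φ) q := by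
      rw [← isRoot_cyclotomic_iff, ← map_cyclotomic q (algebraMap (ZMod p) (AdjoinRoot Φ)), IsRoot,
        eval_map_algebraMap, AdjoinRoot.aeval_eq, AdjoinRoot.mk_self]
    have hroot : Φ.eval₂ (algebraMap (ZMod p) (AdjoinRoot Φ)) (AdjoinRoot.root Φ ^ i) = 0 := by
      have h := isRoot_cyclotomic_iff.2 (hprim.pow_of_coprime i hcop)
      rw [← map_cyclotomic q (algebraMap (ZMod p) (AdjoinRoot Φ)), IsRoot, eval_map] at h
      exact h
    let σ₀ : AdjoinRoot Φ →+* AdjoinRoot Φ := AdjoinRoot.lift _ _ hroot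
    let σ : AdjoinRoot Φ ≃+* AdjoinRoot Φ :=
      RingEquiv.ofBijective σ₀ ⟨σ₀.injective, Finite.injective_iff_surjective.1 σ₀.injective⟩
    have hσ : σ (AdjoinRoot.root Φ) = AdjoinRoot.root Φ ^ i := AdjoinRoot.lift_root hroot
    let b := Module.finBasis (AdjoinRoot Φ) (Additive P)
    let s : (Additive P) ≃+ (Additive P) := b.equivFun.toAddEquiv.trans
      ((AddEquiv.piCongrRight fun _ => σ.toAddEquiv).trans b.equivFun.symm.toAddEquiv)
    have hs : ∀ v : (Additive P), s (X v) = (X ^ i) (s v) := by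
      intro v
      rw [← hsmul, show (X ^ i) (s v) = (AdjoinRoot.root Φ ^ i) • s v from
        (DFunLike.congr_fun (by rw [map_pow, hψ] : ψ (AdjoinRoot.root Φ ^ i) = X ^ i) (s v)).symm]
      show b.equivFun.symm (fun j => σ (b.equivFun (AdjoinRoot.root Φ • v) j)) =
        (AdjoinRoot.root Φ ^ i) • b.equivFun.symm (fun j => σ (b.equivFun v j))
      rw [← map_smul, map_smul b.equivFun]
      congr 1
      funext j
      simp [hσ]
    obtain ⟨a, -, ha⟩ := exists_mulAut_extend P hc (MulEquiv.toAdditive.symm s) i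
      (by rw [hx]; exact hcop) (fun u => by
        have h := congrArg (fun w : (Additive P) => ((Additive.toMul w : P) : G)) (hs (Additive.ofMul u))
        simp only [hXpow] at h
        exact h)
    exact ⟨a, ha⟩
  · intro u v hu hv
    set u' : (Additive P) := Additive.ofMul u
    set v' : (Additive P) := Additive.ofMul v
    obtain ⟨U, hU⟩ := Submodule.exists_isCompl (Submodule.span (AdjoinRoot Φ) {u'})
    obtain ⟨V, hV⟩ := Submodule.exists_isCompl (Submodule.span (AdjoinRoot Φ) {v'})
    have hu' : u' ≠ 0 := fun e => hu (Additive.ofMul.injective e)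
    have hv' : v' ≠ 0 := fun e => hv (Additive.ofMul.injective e)
    have h1 := Submodule.finrank_add_eq_of_isCompl hU
    have h2 := Submodule.finrank_add_eq_of_isCompl hV
    rw [finrank_span_singleton hu'] at h1
    rw [finrank_span_singleton hv'] at h2
    let eU : U ≃ₗ[AdjoinRoot Φ] V := LinearEquiv.ofFinrankEq _ _ (by omega)
    let e1 : Submodule.span (AdjoinRoot Φ) {u'} ≃ₗ[AdjoinRoot Φ] Submodule.span (AdjoinRoot Φ) {v'} :=
      (LinearEquiv.toSpanNonzeroSingleton _ _ u' hu').symm.trans (LinearEquiv.toSpanNonzeroSingleton _ _ v' hv')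
    let L : (Additive P) ≃ₗ[AdjoinRoot Φ] (Additive P) :=
      ((Submodule.prodEquivOfIsCompl _ _ hU).symm.trans (e1.prodCongr eU)).trans (Submodule.prodEquivOfIsCompl _ _ hV)
    have hL : L u' = v' := by
      have h3 : (Submodule.prodEquivOfIsCompl _ _ hU).symm u' = (⟨u', Submodule.mem_span_singleton_self u'⟩, 0) :=
        Submodule.prodEquivOfIsCompl_symm_apply_left _ _ hU ⟨u', Submodule.mem_span_singleton_self u'⟩
      simp only [L, LinearEquiv.trans_apply, h3, LinearEquiv.prodCongr_apply, map_zero]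
      have h4 : (LinearEquiv.toSpanNonzeroSingleton (AdjoinRoot Φ) (Additive P) u' hu').symm
          ⟨u', Submodule.mem_span_singleton_self u'⟩ = 1 := by
        rw [LinearEquiv.symm_apply_eq, LinearEquiv.toSpanNonzeroSingleton_one]
      simp [e1, h4, LinearEquiv.toSpanNonzeroSingleton_one]
    obtain ⟨a, ha, -⟩ := exists_mulAut_extend P hc (MulEquiv.toAdditive.symm L.toAddEquiv) 1
      (Nat.coprime_one_left _) (fun w => by
        have h5 : L (X (Additive.ofMul w)) = X (L (Additive.ofMul w)) := by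
          rw [← hsmul, ← hsmul, map_smul]
        have h := congrArg (fun z : (Additive P) => ((Additive.toMul z : P) : G)) h5
        simp only [hX] at h
        rw [pow_one]
        exact h)
    refine ⟨a, (ha u).trans ?_⟩
    exact congrArg (fun z : (Additive P) => ((Additive.toMul z : P) : G)) hL

end CfsgLib.FGS
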