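import Mathlib

/-!
# Groups in which every element commutes with its conjugates
-/

set_option autoImplicit false

namespace CfsgLib.FGS.EngelTwo

open scoped commutatorElement

variable {G : Type*} [Group G] (h : ∀ x g : G, Commute x (g * x * g⁻¹))

include h

theorem conj_comm (x g k : G) : Commute (g * x * g⁻¹) (k * x * k⁻¹) := by
  have h1 := (h x (g⁻¹ * k)).map (MulAut.conj g).toMonoidHom
  simp only [MulEquiv.coe_toMonoidHom, MulAut.conj_apply] at h1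
  convert h1 using 1
  group

theorem comm_left (x y : G) : Commute ⁅x, y⁆ x := by
  rw [commutatorElement_def, show x * y * x⁻¹ * y⁻¹ = x * (y * x⁻¹ * y⁻¹) by group]
  refine (Commute.refl x).mul_left ?_
  have := ((h x y).symm).inv_left
  rwa [show (y * x * y⁻¹)⁻¹ = y * x⁻¹ * y⁻¹ by group] at this

theorem comm_right (x y : G) : Commute ⁅x, y⁆ y := by
  rw [commutatorElement_def]
  exact ((h y x).symm).mul_left (Commute.refl y).inv_left

/-- `⁅x, y⁆` commutes with every commutator `⁅x, z⁆`. -/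
theorem comm_comm (x y z : G) : Commute ⁅x, y⁆ ⁅x, z⁆ := by
  rw [commutatorElement_def, commutatorElement_def,
    show x * y * x⁻¹ * y⁻¹ = (1 * x * 1⁻¹) * (y * x * y⁻¹)⁻¹ by group,
    show x * z * x⁻¹ * z⁻¹ = (1 * x * 1⁻¹) * (z * x * z⁻¹)⁻¹ by group]
  exact ((conj_comm h x 1 1).mul_right (conj_comm h x 1 z).inv_right).mul_left
    ((conj_comm h x y 1).inv_left.mul_right (conj_comm h x y z).inv_left.inv_right)

theorem inv_eq (x y : G) : ⁅x, y⁆⁻¹ = ⁅y, x⁆ := commutatorElement_inv x y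

theorem swap_right (x y z : G) : ⁅z, ⁅x, y⁆⁆ * ⁅y, ⁅x, z⁆⁆ = 1 := by
  set a := ⁅x, y⁆ with ha
  set b := ⁅x, z⁆ with hb
  have hay : y⁻¹ * a * y = a := by rw [mul_assoc, (comm_right h x y).eq, inv_mul_cancel_left]
  have hbz : z * b * z⁻¹ = b := by rw [← (comm_right h x z).eq, mul_inv_cancel_right]
  have hab : Commute a b := comm_comm h x y z
  -- `⁅y, b⁆` is fixed by `z`
  have hβ : z * ⁅y, b⁆ * z⁻¹ = ⁅y, b⁆ := by
    have h1 : Commute z ⁅y, b⁆ := by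
      rw [show ⁅y, b⁆ = (y * b * y⁻¹) * b⁻¹ from rfl]
      refine Commute.mul_right ?_ ((comm_right h x z).symm.inv_right)
      rw [hb, commutatorElement_def,
        show y * (x * z * x⁻¹ * z⁻¹) * y⁻¹ =
          ((y * x) * z * (y * x)⁻¹) * (y * z * y⁻¹)⁻¹ by group]
      exact (h z (y * x)).mul_right (h z y).inv_right
    rw [h1.eq, mul_inv_cancel_right]
  have heq : ⁅x, y * z⁆ = a * (y * b * y⁻¹) := by
    rw [ha, hb, commutatorElement_def, commutatorElement_def, commutatorElement_def]; group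
  have h1 : (y * z) * (a * (y * b * y⁻¹)) = (a * (y * b * y⁻¹)) * (y * z) := by
    rw [← heq]; exact (comm_right h x (y * z)).symm.eq
  have h2 : (z * a * z⁻¹) * (z * (y * b * y⁻¹) * z⁻¹) = a * b := by
    calc (z * a * z⁻¹) * (z * (y * b * y⁻¹) * z⁻¹)
        = y⁻¹ * ((y * z) * (a * (y * b * y⁻¹))) * z⁻¹ := by group
      _ = y⁻¹ * ((a * (y * b * y⁻¹)) * (y * z)) * z⁻¹ := by rw [h1]
      _ = (y⁻¹ * a * y) * b := by group
      _ = a * b := by rw [hay]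
  have h3 : ⁅z, a⁆ * a * (⁅y, b⁆ * b) = a * b := by
    calc ⁅z, a⁆ * a * (⁅y, b⁆ * b) = (z * a * z⁻¹) * (z * ⁅y, b⁆ * z⁻¹ * (z * b * z⁻¹)) := by
          rw [hβ, hbz, commutatorElement_def z a]; group
      _ = (z * a * z⁻¹) * (z * (y * b * y⁻¹) * z⁻¹) := by rw [commutatorElement_def]; group
      _ = a * b := h2
  -- everything lives in the abelian normal closure of `x`
  have hcomm : Commute a ⁅y, b⁆ := by
    rw [show ⁅y, b⁆ = (y * b * y⁻¹) * b⁻¹ from rfl]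
    refine Commute.mul_right ?_ hab.inv_right
    rw [ha, hb, commutatorElement_def, commutatorElement_def,
      show x * y * x⁻¹ * y⁻¹ = (1 * x * 1⁻¹) * (y * x * y⁻¹)⁻¹ by group,
      show y * (x * z * x⁻¹ * z⁻¹) * y⁻¹ = (y * x * y⁻¹) * ((y * z) * x * (y * z)⁻¹)⁻¹ by group]
    exact ((conj_comm h x 1 y).mul_right (conj_comm h x 1 (y * z)).inv_right).mul_left
      ((conj_comm h x y y).inv_left.mul_right (conj_comm h x y (y * z)).inv_left.inv_right)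
  have h4 : ⁅z, a⁆ * ⁅y, b⁆ * (a * b) = a * b := by
    calc ⁅z, a⁆ * ⁅y, b⁆ * (a * b) = ⁅z, a⁆ * (⁅y, b⁆ * a) * b := by group
      _ = ⁅z, a⁆ * (a * ⁅y, b⁆) * b := by rw [hcomm.eq]
      _ = ⁅z, a⁆ * a * (⁅y, b⁆ * b) := by group
      _ = a * b := h3
  exact mul_eq_right.1 h4

/-- The triple commutator is invariant under cyclic shifts. -/
theorem cyclic_shift (x y z : G) : ⁅⁅y, z⁆, x⁆ = ⁅⁅x, y⁆, z⁆ := by
  have hflip : ∀ u v w : G, ⁅⁅u, w⁆, v⁆ = ⁅⁅u, v⁆, w⁆⁻¹ := by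
    intro u v w
    have h1 := swap_right h u v w
    rw [← inv_eq h ⁅u, v⁆ w, ← inv_eq h ⁅u, w⁆ v, ← mul_inv_rev, inv_eq_one] at h1
    exact eq_inv_of_mul_eq_one_left h1
  have hfirst : ∀ u v w : G, ⁅⁅v, u⁆, w⁆ = ⁅⁅u, v⁆, w⁆⁻¹ := by
    intro u v w
    rw [← inv_eq h u v, inv_eq h ⁅u, v⁆ w]
    -- `⁅c⁻¹, w⁆ = ⁅c, w⁆⁻¹`
    have hc := comm_left h ⁅u, v⁆ w
    rw [commutatorElement_def] at hc ⊢
    rw [commutatorElement_def]
    have hc' := hc.inv_left.eq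
    calc ⁅u, v⁆⁻¹ * w * ⁅u, v⁆⁻¹⁻¹ * w⁻¹
        = ⁅u, v⁆⁻¹ * (⁅u, v⁆ * w * ⁅u, v⁆⁻¹ * w⁻¹)⁻¹ * ⁅u, v⁆ := by group
      _ = (⁅u, v⁆ * w * ⁅u, v⁆⁻¹ * w⁻¹)⁻¹ := by
          rw [mul_assoc, hc', inv_mul_cancel_left]
      _ = w * ⁅u, v⁆ * w⁻¹ * ⁅u, v⁆⁻¹ := by group
  rw [hflip y x z, hfirst x y z, inv_inv]

theorem commute_all (x y z : G) : Commute ⁅⁅x, y⁆, z⁆ y := by
  rw [← cyclic_shift h x y z, cyclic_shift h x y z]
  have h1 : ⁅⁅x, y⁆, z⁆ = ⁅⁅z, x⁆, y⁆ := (cyclic_shift h x y z).symm.trans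
    (cyclic_shift h y z x).symm
  rw [h1]
  exact comm_right h _ _

/-- The cube of every triple commutator is trivial. -/
theorem cube_eq_one (x y z : G) : ⁅⁅x, y⁆, z⁆ ^ 3 = 1 := by
  have key : ∀ a b c : G, ⁅⁅a, b⁆, b * c * b⁻¹⁆ = ⁅⁅a, b⁆, c⁆ := by
    intro a b c
    have h1 : b * ⁅a, b⁆ * b⁻¹ = ⁅a, b⁆ := by rw [← (comm_right h a b).eq, mul_inv_cancel_right]
    calc ⁅⁅a, b⁆, b * c * b⁻¹⁆ = ⁅b * ⁅a, b⁆ * b⁻¹, b * c * b⁻¹⁆ := by rw [h1]
      _ = b * ⁅⁅a, b⁆, c⁆ * b⁻¹ := (conjugate_commutatorElement ..).symm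
      _ = ⁅⁅a, b⁆, c⁆ := by rw [← (commute_all h a b c).eq, mul_inv_cancel_right]
  have hw := commutatorElement_commutatorElement_conj_mul x y z
  rw [key, key, key, cyclic_shift h x y z,
    show ⁅⁅z, x⁆, y⁆ = ⁅⁅x, y⁆, z⁆ from (cyclic_shift h z x y).symm] at hw
  rw [pow_succ, pow_two]
  exact hw

/-- Without elements of order three the class is at most two. -/
theorem nilpotencyClass_le_two [Group.IsNilpotent G] (h3 : ∀ u : G, u ^ 3 = 1 → u = 1) :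
    Group.nilpotencyClass G ≤ 2 := by
  rw [← Subgroup.lowerCentralSeries_eq_bot_iff_nilpotencyClass_le]
  rw [show (2 : ℕ) = 1 + 1 from rfl, Subgroup.lowerCentralSeries_succ,
    Subgroup.top_lowerCentralSeries_one, Subgroup.commutator_top_right_eq_bot_iff_le_center,
    _root_.commutator_def, Subgroup.commutator_le]
  intro x _ y _
  rw [Subgroup.mem_center_iff]
  intro z
  exact (commutatorElement_eq_one_iff_mul_comm.1 (h3 _ (cube_eq_one h x y z))).symm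

end CfsgLib.FGS.EngelTwo
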