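import Mathlib
import Cfsg.Prelude.Def_Solvable
import Cfsg.Prelude.Def_Transfer
import Cfsg.Agent.Lib.FGS.EngelTwo
import Cfsg.Agent.Lib.Cores.Basic
import Cfsg.Agent.Lib.Char.Burnside
import Cfsg.Agent.Lib.Solvable.MinimalNormal
import Cfsg.Agent.Lib.Solvable.FrobeniusComplement
import Cfsg.Agent.Lib.PGroup.Basic
import Cfsg.Agent.Lib.Fusion.SmallEssential

/-!
# Groups with element orders 1, 2, 3, 4
-/

set_option autoImplicit false

namespace CfsgLib.FGS.OrdersFour

open Subgroup
open scoped commutatorElement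

variable {G : Type*} [Group G] [Finite G] (hord : ∀ g : G, orderOf g ≤ 4)

include hord

theorem pow_four_or_three (g : G) : g ^ 4 = 1 ∨ g ^ 3 = 1 := by
  have h1 := hord g
  have h0 := orderOf_pos g
  have h := pow_orderOf_eq_one g
  rcases (show orderOf g = 1 ∨ orderOf g = 2 ∨ orderOf g = 3 ∨ orderOf g = 4 by omega) with e | e | e | e <;>
    rw [e] at h
  · left; simp at h; simp [h]
  · left; rw [show 4 = 2 * 2 from rfl, pow_mul, h, one_pow]
  · exact Or.inr h
  · exact Or.inl h

theorem orderOf_mem (g : G) : orderOf g = 1 ∨ orderOf g = 2 ∨ orderOf g = 3 ∨ orderOf g = 4 := by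
  have := hord g
  have := orderOf_pos g
  omega

/-- A `2`-element and a `3`-element commute only trivially. -/
theorem eq_one_of_commute {a b : G} (hab : Commute a b) (ha : a ^ 4 = 1) (hb : b ^ 3 = 1) :
    a = 1 ∨ b = 1 := by
  by_contra h
  push_neg at h
  haveI := Fact.mk Nat.prime_three
  have hb' : orderOf b = 3 := orderOf_eq_prime hb h.2
  obtain ⟨i, hi, ha'⟩ := (Nat.dvd_prime_pow Nat.prime_two).1
    (show orderOf a ∣ 2 ^ 2 from orderOf_dvd_of_pow_eq_one ha)
  have hc : (orderOf a).Coprime (orderOf b) := by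
    rw [ha', hb']; exact Nat.Coprime.pow_left i (by norm_num)
  have h2 := hord (a * b)
  rw [hab.orderOf_mul_eq_mul_orderOf_of_coprime hc, hb', ha'] at h2
  rcases Nat.eq_zero_or_pos i with rfl | hi0
  · exact h.1 (orderOf_eq_one_iff.1 (by rw [ha', pow_zero]))
  · have : 2 ≤ 2 ^ i := Nat.le_self_pow hi0.ne' 2
    omega

theorem card_eq : ∃ a b : ℕ, Nat.card G = 2 ^ a * 3 ^ b := by
  have hpr : ∀ q : ℕ, q.Prime → q ∣ Nat.card G → q = 2 ∨ q = 3 := by
    intro q hq hd
    haveI := Fact.mk hq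
    obtain ⟨x, hx⟩ := exists_prime_orderOf_dvd_card' q hd
    have := hord x
    rw [hx] at this
    have := hq.two_le
    interval_cases q
    · exact Or.inl rfl
    · exact Or.inr rfl
    · norm_num at hq
  have hne : Nat.card G ≠ 0 := Nat.card_pos.ne'
  refine ⟨(Nat.card G).factorization 2, (Nat.card G).factorization 3, ?_⟩
  refine Nat.eq_of_factorization_eq hne (by positivity) fun q => ?_
  rw [Nat.factorization_mul (by positivity) (by positivity), Nat.prime_two.factorization_pow,
    Nat.prime_three.factorization_pow, Finsupp.add_apply, Finsupp.single_apply, Finsupp.single_apply]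
  by_cases h2 : 2 = q
  · subst h2; simp
  by_cases h3 : 3 = q
  · subst h3; simp
  simp only [if_neg h2, if_neg h3, add_zero]
  by_contra hq
  have hq' := Nat.prime_of_mem_primeFactors (Nat.support_factorization (Nat.card G) ▸
    Finsupp.mem_support_iff.2 hq)
  have := hpr q hq' (Nat.dvd_of_factorization_pos hq)
  omega

theorem isSolvable : Group.IsSolvable G := by
  obtain ⟨a, b, h⟩ := card_eq hord
  exact CfsgLib.Char.isSolvable_of_card_eq_pow_mul_pow Nat.prime_two Nat.prime_three (a := a) (b := b)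
    h.dvd

theorem isPGroup_two_pow {H : Subgroup G} (h : IsPGroup 2 H) {x : G} (hx : x ∈ H) : x ^ 4 = 1 := by
  obtain ⟨k, hk⟩ := h ⟨x, hx⟩
  have hk' : orderOf x ∣ 2 ^ k := orderOf_dvd_of_pow_eq_one (congrArg Subtype.val hk)
  rcases pow_four_or_three hord x with h4 | h3
  · exact h4
  · have := Nat.eq_one_of_dvd_coprimes (Nat.Coprime.pow_left k (by norm_num : Nat.Coprime 2 3)) hk'
      (orderOf_dvd_of_pow_eq_one h3)
    rw [orderOf_eq_one_iff.1 this, one_pow]

theorem isPGroup_three_pow {H : Subgroup G} (h : IsPGroup 3 H) {x : G} (hx : x ∈ H) : x ^ 3 = 1 := by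
  obtain ⟨k, hk⟩ := h ⟨x, hx⟩
  have hk' : orderOf x ∣ 3 ^ k := orderOf_dvd_of_pow_eq_one (congrArg Subtype.val hk)
  rcases pow_four_or_three hord x with h4 | h3
  · have := Nat.eq_one_of_dvd_coprimes (Nat.Coprime.pow_left k (by norm_num : Nat.Coprime 3 4)) hk'
      (orderOf_dvd_of_pow_eq_one h4)
    rw [orderOf_eq_one_iff.1 this, one_pow]
  · exact h3

/-- Neumann: a fixed-point-free element of order three on a `2`-group `V`. -/
theorem neumann (V : Subgroup G) [V.Normal] (hV : IsPGroup 2 V) {s : G} (hs : s ^ 3 = 1) (hs1 : s ≠ 1) :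
    ∀ v ∈ V, v * (s * v * s⁻¹) * (s⁻¹ * v * s) = 1 ∧ v * (s⁻¹ * v * s) * (s * v * s⁻¹) = 1 := by
  suffices h : ∀ t : G, t ^ 3 = 1 → t ≠ 1 → ∀ v ∈ V, v * (t * v * t⁻¹) * (t⁻¹ * v * t) = 1 by
    intro v hv
    refine ⟨h s hs hs1 v hv, ?_⟩
    have := h s⁻¹ (by rw [inv_pow, hs, inv_one]) (by simpa using hs1) v hv
    rwa [inv_inv] at this
  intro t ht ht1 v hv
  let f : V → V := fun y => ⟨(y : G)⁻¹ * (t * y * t⁻¹),
    mul_mem (inv_mem y.2) (Normal.conj_mem ‹_› _ y.2 t)⟩
  have hf : Function.Injective f := by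
    intro y z hyz
    have e : (y : G)⁻¹ * (t * y * t⁻¹) = (z : G)⁻¹ * (t * z * t⁻¹) := congrArg Subtype.val hyz
    have hc : Commute ((z : G) * (y : G)⁻¹) t := by
      show (z : G) * (y : G)⁻¹ * t = t * ((z : G) * (y : G)⁻¹)
      calc (z : G) * (y : G)⁻¹ * t
          = (z : G) * ((y : G)⁻¹ * (t * y * t⁻¹)) * (t * (y : G)⁻¹) * (1 : G) := by group
        _ = (z : G) * ((z : G)⁻¹ * (t * z * t⁻¹)) * (t * (y : G)⁻¹) * (1 : G) := by rw [e]
        _ = t * ((z : G) * (y : G)⁻¹) := by group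
    rcases eq_one_of_commute hord hc
      (isPGroup_two_pow hord hV (mul_mem z.2 (inv_mem y.2))) ht with h | h
    · exact Subtype.ext (mul_inv_eq_one.1 h).symm
    · exact absurd h ht1
  obtain ⟨y, hy⟩ := (Finite.injective_iff_surjective.1 hf) ⟨v, hv⟩
  have hy' : (y : G)⁻¹ * (t * y * t⁻¹) = v := congrArg Subtype.val hy
  rw [← hy']
  have ht2 : t * t = t⁻¹ := eq_inv_of_mul_eq_one_left (by rw [← pow_three' t, ht])
  calc (y : G)⁻¹ * (t * y * t⁻¹) * (t * ((y : G)⁻¹ * (t * y * t⁻¹)) * t⁻¹) *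
        (t⁻¹ * ((y : G)⁻¹ * (t * y * t⁻¹)) * t)
      = (y : G)⁻¹ * (t * t) * y * (t * t)⁻¹ * (t⁻¹ * (y : G)⁻¹ * t) * y := by group
    _ = (y : G)⁻¹ * t⁻¹ * y * t⁻¹⁻¹ * (t⁻¹ * (y : G)⁻¹ * t) * y := by rw [ht2]
    _ = 1 := by group

/-- Each element of `V` commutes with all its conjugates inside `V`. -/
theorem commute_conj (V : Subgroup G) [V.Normal] (hV : IsPGroup 2 V) {s : G} (hs : s ^ 3 = 1)
    (hs1 : s ≠ 1) : ∀ x g : V, Commute x (g * x * g⁻¹) := by
  have hbase : ∀ t : G, t ^ 3 = 1 → t ≠ 1 → ∀ v ∈ V, Commute v (t * v * t⁻¹) := by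
    intro t ht ht1 v hv
    obtain ⟨h1, h2⟩ := neumann hord V hV ht ht1 v hv
    set a := t * v * t⁻¹
    set b := t⁻¹ * v * t
    rw [mul_assoc] at h1 h2
    have hab : a * b = b * a := by
      rw [eq_inv_of_mul_eq_one_right h1, eq_inv_of_mul_eq_one_right h2]
    -- `v = (a b)⁻¹` commutes with `a`
    have hv' : v = (a * b)⁻¹ := eq_inv_of_mul_eq_one_left h1
    rw [hv']
    exact ((Commute.refl a).mul_left (show Commute b a from hab.symm)).inv_left
  -- `s g` also has order three
  have hsg : ∀ g ∈ V, ∀ t : G, t ^ 3 = 1 → t ≠ 1 → (t * g) ^ 3 = 1 ∧ t * g ≠ 1 := by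
    intro g hg t ht ht1
    refine ⟨?_, fun e => ht1 ?_⟩
    · have ht2 : t * t = t⁻¹ := eq_inv_of_mul_eq_one_left (by rw [← pow_three' t, ht])
      have h := (neumann hord V hV ht ht1 g hg).2
      calc (t * g) ^ 3 = t * (g * (t * g * t⁻¹) * ((t * t) * g)) := by rw [pow_three]; group
        _ = t * (g * (t * g * t⁻¹) * (t⁻¹ * g * t)) * t⁻¹ := by rw [ht2]; group
        _ = 1 := by rw [(neumann hord V hV ht ht1 g hg).1]; group
    · have htg : t = g⁻¹ := eq_inv_of_mul_eq_one_left e
      have h4 := isPGroup_two_pow hord hV (inv_mem hg)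
      rw [← htg, pow_succ, ht, one_mul] at h4
      exact h4
  intro x g
  apply Subtype.ext
  show (x : G) * ((g : G) * x * (g : G)⁻¹) = (g : G) * x * (g : G)⁻¹ * x
  have key : ∀ t : G, t ^ 3 = 1 → t ≠ 1 →
      Commute (t⁻¹ * (x : G) * t) ((g : G) * x * (g : G)⁻¹) := by
    intro t ht ht1
    obtain ⟨h1, h2⟩ := hsg g g.2 t ht ht1
    have h := (hbase (t * g) h1 h2 x x.2).map (MulAut.conj t⁻¹).toMonoidHom
    simp only [MulEquiv.coe_toMonoidHom, MulAut.conj_apply, inv_inv] at h
    convert h using 1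
    group
  have ha := key s hs hs1
  have hb := key s⁻¹ (by rw [inv_pow, hs, inv_one]) (by simpa using hs1)
  rw [inv_inv] at hb
  have hn := (neumann hord V hV hs hs1 x x.2).1
  rw [mul_assoc] at hn
  have hx : (x : G) = ((s * x * s⁻¹) * (s⁻¹ * x * s))⁻¹ := eq_inv_of_mul_eq_one_left hn
  have : Commute (x : G) ((g : G) * x * (g : G)⁻¹) := by
    conv => arg 1; rw [hx]
    exact (hb.mul_left ha).inv_left
  exact this.eq

theorem nilpotencyClass_le (V : Subgroup G) [V.Normal] (hV : IsPGroup 2 V) {s : G} (hs : s ^ 3 = 1)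
    (hs1 : s ≠ 1) : Group.nilpotencyClass V ≤ 2 := by
  haveI := Fact.mk Nat.prime_two
  haveI := hV.isNilpotent
  refine EngelTwo.nilpotencyClass_le_two (commute_conj hord V hV hs hs1) fun u hu => ?_
  have h4 := isPGroup_two_pow hord hV u.2
  have h3 : (u : G) ^ 3 = 1 := congrArg Subtype.val hu
  rw [pow_succ, h3, one_mul] at h4
  exact Subtype.ext h4

/-- The dihedral action forces `V` to be elementary abelian. -/
theorem elementary_of_inverted (V : Subgroup G) [V.Normal] (hV : IsPGroup 2 V) {s t : G}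
    (hs : s ^ 3 = 1) (hs1 : s ≠ 1) (ht : t * t = 1) (htV : t ∉ V) (hts : t * s * t = s⁻¹) :
    Cfsg.IsElementaryAbelian 2 V := by
  haveI := Fact.mk Nat.prime_two
  classical
  have hti : t⁻¹ = t := inv_eq_of_mul_eq_one_right ht
  set σ : G →* G := (MulAut.conj s).toMonoidHom with hσ
  set τ : G →* G := (MulAut.conj t).toMonoidHom with hτ
  have hσv : ∀ v, σ v = s * v * s⁻¹ := fun v => rfl
  have hτv : ∀ v, τ v = t * v * t := fun v => by show t * v * t⁻¹ = _; rw [hti]
  have hσV : ∀ v ∈ V, σ v ∈ V := fun v hv => Normal.conj_mem ‹_› v hv s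
  have hτV : ∀ v ∈ V, τ v ∈ V := fun v hv => Normal.conj_mem ‹_› v hv t
  have hss : s * s = s⁻¹ := eq_inv_of_mul_eq_one_left (by rw [← pow_three' s, hs])
  have hσσ : ∀ v, σ (σ v) = s⁻¹ * v * s := fun v => by
    show s * (s * v * s⁻¹) * s⁻¹ = _
    calc s * (s * v * s⁻¹) * s⁻¹ = (s * s) * v * (s * s)⁻¹ := by group
      _ = s⁻¹ * v * s := by rw [hss, inv_inv]
  have hσ3 : ∀ v, σ (σ (σ v)) = v := fun v => by rw [hσσ, hσv]; group
  have hτσ : ∀ v, τ (σ v) = σ (σ (τ v)) := fun v => by
    rw [hσσ, hτv, hτv, hσv]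
    have hst : t * s = s⁻¹ * t := by
      calc t * s = t * s * (t * t) := by rw [ht, mul_one]
        _ = (t * s * t) * t := by group
        _ = s⁻¹ * t := by rw [hts]
    calc t * (s * v * s⁻¹) * t = (t * s) * v * (s⁻¹ * t) := by group
      _ = (s⁻¹ * t) * v * (t * s) := by rw [hst]
      _ = s⁻¹ * (t * v * t) * s := by group
  have hne : ∀ v ∈ V, ∀ w ∈ V, v * σ v * σ (σ v) = 1 := fun v hv _ _ => by
    rw [hσv v, ← hσv, hσσ]; exact (neumann hord V hV hs hs1 v hv).1
  have hne' : ∀ v ∈ V, v * σ (σ v) * σ v = 1 := fun v hv => by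
    rw [hσσ, hσv]; exact (neumann hord V hV hs hs1 v hv).2
  -- the fixed points of `t`
  set A := V ⊓ centralizer {t} with hA
  have hAV : ∀ a ∈ A, a ∈ V := fun a ha => ha.1
  have hAt : ∀ a ∈ A, τ a = a := fun a ha => by
    rw [hτv, ← (mem_centralizer_singleton_iff.1 ha.2 : a * t = t * a), mul_assoc, ht, mul_one]
  have hA2 : ∀ a ∈ A, a ^ 2 = 1 := by
    intro a ha
    have hx : σ a ∈ V := hσV a (hAV a ha)
    have h1 : (t * σ a) * (t * σ a) = a⁻¹ := by
      rw [← mul_assoc, show t * σ a * t = τ (σ a) from (hτv _).symm, hτσ, hAt a ha]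
      exact eq_inv_of_mul_eq_one_right (by rw [← mul_assoc]; exact hne' a (hAV a ha))
    rcases pow_four_or_three hord (t * σ a) with h4 | h3
    · rw [show (4 : ℕ) = 2 * 2 from rfl, pow_mul, pow_two (t * σ a), h1, inv_pow, inv_eq_one] at h4
      exact h4
    · exfalso
      apply htV
      rw [← QuotientGroup.eq_one_iff (N := V)]
      have e : ((t * σ a : G) : G ⧸ V) = (t : G ⧸ V) := by
        rw [QuotientGroup.mk_mul, (QuotientGroup.eq_one_iff (σ a)).2 hx, mul_one]
      have e3 : ((t : G) : G ⧸ V) ^ 3 = 1 := by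
        rw [← e, ← QuotientGroup.mk_pow, h3, QuotientGroup.mk_one]
      have e2 : ((t : G) : G ⧸ V) ^ 2 = 1 := by
        rw [← QuotientGroup.mk_pow, pow_two, ht, QuotientGroup.mk_one]
      rw [pow_succ, e2, one_mul] at e3
      exact e3
  have hinvA : ∀ a ∈ A, a⁻¹ = a := fun a ha => inv_eq_of_mul_eq_one_right (by rw [← pow_two]; exact hA2 a ha)
  have hAcomm : ∀ a ∈ A, ∀ b ∈ A, Commute a b := fun a ha b hb => by
    show a * b = b * a
    rw [← hinvA _ (mul_mem ha hb), mul_inv_rev, hinvA a ha, hinvA b hb]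
  have hσinv : ∀ a ∈ A, (σ a)⁻¹ = σ a := fun a ha => by rw [← map_inv, hinvA a ha]
  -- facts on `σ a`
  have hσσA : ∀ a ∈ A, σ (σ a) = σ a * a := by
    intro a ha
    have h := hne a (hAV a ha) a (hAV a ha)
    rw [eq_inv_of_mul_eq_one_right h, mul_inv_rev, hσinv a ha, hinvA a ha]
  have haσ : ∀ a ∈ A, Commute a (σ a) := fun a ha => by
    have h2 := hne' a (hAV a ha)
    rw [hσσA a ha, show a * (σ a * a) * σ a = a * σ a * (a * σ a) by group] at h2
    show a * σ a = σ a * a
    calc a * σ a = (a * σ a)⁻¹ := eq_inv_of_mul_eq_one_left h2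
      _ = σ a * a := by rw [mul_inv_rev, hσinv a ha, hinvA a ha]
  -- class two
  have hcen : ∀ x ∈ V, ∀ y ∈ V, ∀ z ∈ V, Commute ⁅x, y⁆ z := by
    intro x hx y hy z hz
    have h := EngelTwo.cube_eq_one (commute_conj hord V hV hs hs1)
      (⟨x, hx⟩ : V) ⟨y, hy⟩ ⟨z, hz⟩
    have h3 : ⁅⁅x, y⁆, z⁆ ^ 3 = 1 := congrArg Subtype.val h
    have hmem : ⁅⁅x, y⁆, z⁆ ∈ V :=
      (⁅⁅(⟨x, hx⟩ : V), (⟨y, hy⟩ : V)⁆, (⟨z, hz⟩ : V)⁆).2
    have h4 := isPGroup_two_pow hord hV hmem
    rw [pow_succ, h3, one_mul] at h4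
    exact commutatorElement_eq_one_iff_commute.1 h4
  have hmul : ∀ x ∈ V, ∀ y ∈ V, ∀ z ∈ V, ⁅x * y, z⁆ = ⁅x, z⁆ * ⁅y, z⁆ := by
    intro x hx y hy z hz
    calc ⁅x * y, z⁆ = x * ⁅y, z⁆ * x⁻¹ * ⁅x, z⁆ := by
          rw [commutatorElement_def, commutatorElement_def, commutatorElement_def]; group
      _ = ⁅y, z⁆ * ⁅x, z⁆ := by rw [← (hcen y hy z hz x hx).eq, mul_inv_cancel_right]
      _ = ⁅x, z⁆ * ⁅y, z⁆ := ((hcen y hy z hz _ ?_)).eq
    exact (⁅(⟨x, hx⟩ : V), ⟨z, hz⟩⁆ : V).2
  have hmul' : ∀ x ∈ V, ∀ y ∈ V, ∀ z ∈ V, ⁅x, y * z⁆ = ⁅x, y⁆ * ⁅x, z⁆ := by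
    intro x hx y hy z hz
    calc ⁅x, y * z⁆ = ⁅x, y⁆ * (y * ⁅x, z⁆ * y⁻¹) := by
          rw [commutatorElement_def, commutatorElement_def, commutatorElement_def]; group
      _ = ⁅x, y⁆ * ⁅x, z⁆ := by rw [← (hcen x hx z hz y hy).eq, mul_inv_cancel_right]
  have hcross : ∀ a ∈ A, ∀ b ∈ A, Commute a (σ b) := by
    intro a ha b hb
    have hav := hAV a ha
    have hbv := hAV b hb
    have hsa := hσV a hav
    have hsb := hσV b hbv
    set c := ⁅a, σ b⁆ with hc
    have hc2 : c * c = 1 := by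
      rw [hc, ← hmul a hav a hav (σ b) hsb, ← pow_two, hA2 a ha, commutatorElement_one_left]
    have hsym : ⁅b, σ a⁆ = c := by
      have h1 : ⁅a * b, σ (a * b)⁆ = 1 :=
        commutatorElement_eq_one_iff_commute.2 (haσ _ (mul_mem ha hb))
      rw [map_mul, hmul a hav b hbv _ (mul_mem hsa hsb), hmul' a hav _ hsa _ hsb,
        hmul' b hbv _ hsa _ hsb, commutatorElement_eq_one_iff_commute.2 (haσ a ha),
        commutatorElement_eq_one_iff_commute.2 (haσ b hb), one_mul, mul_one] at h1
      rw [eq_inv_of_mul_eq_one_right h1]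
      exact inv_eq_of_mul_eq_one_right hc2
    have hτc : τ c = c := by
      rw [hc, map_commutatorElement, hτσ, hAt a ha, hAt b hb, hσσA b hb, hmul' a hav _ hsb _ hbv,
        commutatorElement_eq_one_iff_commute.2 (hAcomm a ha b hb), mul_one]
    have hcA : c ∈ A := by
      refine mem_inf.2 ⟨(⁅(⟨a, hav⟩ : V), ⟨σ b, hsb⟩⁆ : V).2, mem_centralizer_singleton_iff.2 ?_⟩
      have := hτc
      rw [hτv] at this
      calc c * t = t * c * t * t := by rw [this]
        _ = t * c := by rw [mul_assoc, ht, mul_one]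
    have hσc : σ c = c := by
      have h1 : ⁅σ a, b⁆ = c := by
        rw [← commutatorElement_inv, hsym]
        exact inv_eq_of_mul_eq_one_right hc2
      rw [hc, map_commutatorElement, hσσA b hb, hmul' _ hsa _ hsb _ hbv,
        ← map_commutatorElement, commutatorElement_eq_one_iff_commute.2 (hAcomm a ha b hb), map_one,
        one_mul, h1]
    have hcs : Commute c s := by
      show c * s = s * c
      rw [hσv] at hσc
      exact (mul_inv_eq_iff_eq_mul.1 hσc).symm
    refine commutatorElement_eq_one_iff_commute.1 ?_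
    show c = 1
    exact (eq_one_of_commute hord hcs (isPGroup_two_pow hord hV (hAV c hcA)) hs).resolve_right hs1
  -- `W = A σ(A)` is elementary abelian and invariant
  set W := A ⊔ A.map σ with hW
  have hWV : W ≤ V := sup_le inf_le_left (map_le_iff_le_comap.2 fun a ha => hσV a (hAV a ha))
  have hgenA : ∀ a ∈ A, W ≤ centralizer {a} := fun a ha => by
    refine sup_le (fun b hb => ?_) ?_
    · exact mem_centralizer_singleton_iff.2 (hAcomm b hb a ha).eq
    · rintro _ ⟨b, hb, rfl⟩
      exact mem_centralizer_singleton_iff.2 (hcross a ha b hb).eq.symm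
  have hgenσ : ∀ a ∈ A, W ≤ centralizer {σ a} := fun a ha => by
    refine sup_le (fun b hb => ?_) ?_
    · exact mem_centralizer_singleton_iff.2 (hcross b hb a ha).eq
    · rintro _ ⟨b, hb, rfl⟩
      exact mem_centralizer_singleton_iff.2 ((hAcomm b hb a ha).map σ).eq
  have hWc : ∀ x ∈ W, ∀ y ∈ W, Commute x y := by
    intro x hx y hy
    have h1 : W ≤ centralizer {x} := by
      refine sup_le (fun a ha => ?_) ?_
      · exact mem_centralizer_singleton_iff.2 (mem_centralizer_singleton_iff.1 (hgenA a ha hx)).symm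
      · rintro _ ⟨a, ha, rfl⟩
        exact mem_centralizer_singleton_iff.2 (mem_centralizer_singleton_iff.1 (hgenσ a ha hx)).symm
    exact (mem_centralizer_singleton_iff.1 (h1 hy)).symm
  have hW2 : ∀ x ∈ W, x ^ 2 = 1 := by
    intro x hx
    let K : Subgroup G :=
      { carrier := {y | y ∈ W ∧ y ^ 2 = 1}
        one_mem' := ⟨one_mem _, one_pow 2⟩
        mul_mem' := fun {y z} hy hz =>
          ⟨mul_mem hy.1 hz.1, by rw [(hWc y hy.1 z hz.1).mul_pow, hy.2, hz.2, one_mul]⟩
        inv_mem' := fun {y} hy => ⟨inv_mem hy.1, by rw [inv_pow, hy.2, inv_one]⟩ }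
    have hle : W ≤ K := by
      refine sup_le (fun a ha => ⟨mem_sup_left ha, hA2 a ha⟩) ?_
      rintro _ ⟨a, ha, rfl⟩
      exact ⟨mem_sup_right ⟨a, ha, rfl⟩, by rw [← map_pow, hA2 a ha, map_one]⟩
    exact (hle hx).2
  have hWt : W.map τ ≤ W := by
    rw [hW, Subgroup.map_sup, Subgroup.map_map]
    refine sup_le ?_ ?_
    · rintro _ ⟨a, ha, rfl⟩
      rw [hAt a ha]; exact mem_sup_left ha
    · rintro _ ⟨a, ha, rfl⟩
      show τ (σ a) ∈ _
      rw [hτσ, hAt a ha, hσσA a ha]
      exact mul_mem (mem_sup_right ⟨a, ha, rfl⟩) (mem_sup_left ha)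
  have hWV' : W = V := by
    by_contra hne'
    -- a `t`-fixed coset in the normaliser
    set Y := V ⊔ zpowers t with hY
    have hYp : IsPGroup 2 Y := by
      refine IsPGroup.to_sup_of_normal_left hV ?_
      refine fun z => ⟨1, ?_⟩
      obtain ⟨i, hi⟩ := mem_zpowers_iff.1 z.2
      apply Subtype.ext
      show (z : G) ^ 2 ^ 1 = 1
      rw [← hi, pow_one, ← zpow_natCast (t ^ i), ← zpow_mul, mul_comm, zpow_mul, zpow_natCast,
        pow_two, ht, one_zpow]
    haveI := hYp.isNilpotent
    set N := (normalizer (W : Set G)).subgroupOf Y with hN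
    have htN : t ∈ normalizer (W : Set G) := by
      rw [mem_normalizer_iff]
      intro y
      rw [hti, ← hτv]
      refine ⟨fun hy => hWt ⟨y, hy, rfl⟩, fun hy => ?_⟩
      have h2 : τ (τ y) = y := by
        rw [hτv, hτv, show t * (t * y * t) * t = (t * t) * y * (t * t) by group, ht, one_mul, mul_one]
      exact h2 ▸ hWt ⟨_, hy, rfl⟩
    -- normalisers grow inside `V`
    obtain ⟨z, hzV, hzW, hzn⟩ : ∃ z ∈ V, z ∉ W ∧ z ∈ normalizer (W : Set G) := by
      haveI := hV.isNilpotent
      have hlt : W.subgroupOf V < ⊤ := lt_top_iff_ne_top.2 fun e =>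
        hne' (le_antisymm hWV (subgroupOf_eq_top.1 e))
      obtain ⟨z, hz, hz'⟩ := SetLike.exists_of_lt (Group.normalizerCondition_of_isNilpotent _ hlt)
      refine ⟨z, z.2, fun h => hz' h, ?_⟩
      rw [mem_normalizer_iff]
      intro y
      by_cases hy : y ∈ V
      · exact mem_normalizer_iff.1 hz ⟨y, hy⟩
      · refine ⟨fun h => absurd (hWV h) hy, fun h => absurd ?_ hy⟩
        have := Normal.conj_mem ‹V.Normal› _ (hWV h) (z : G)⁻¹
        simpa [mul_assoc] using this
    let NV : Subgroup G := normalizer (W : Set G) ⊓ Y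
    have hWn : (W.subgroupOf NV).Normal :=
      normal_subgroupOf_of_le_normalizer inf_le_left
    let Vb : Subgroup (NV ⧸ W.subgroupOf NV) :=
      (V.subgroupOf NV).map (QuotientGroup.mk' (W.subgroupOf NV))
    haveI : Vb.Normal := Normal.map inferInstance _ (QuotientGroup.mk'_surjective _)
    have hVb : Vb ≠ ⊥ := by
      intro e
      have h1 : QuotientGroup.mk' (W.subgroupOf NV) ⟨z, hzn, mem_sup_left hzV⟩ ∈ Vb :=
        mem_map_of_mem _ hzV
      rw [e, mem_bot] at h1
      exact hzW ((QuotientGroup.eq_one_iff (⟨z, hzn, mem_sup_left hzV⟩ : NV)).1 h1)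
    have hq : IsPGroup 2 (NV ⧸ W.subgroupOf NV) :=
      (hYp.to_le inf_le_right).to_quotient _
    obtain ⟨zb, hzb, hzb1⟩ := (Subgroup.ne_bot_iff_exists_ne_one.1
      (CfsgLib.PGroup.inf_center_ne_bot hq Vb hVb)) |> fun ⟨w, hw⟩ =>
        (⟨w.1, w.2, fun e => hw (Subtype.ext e)⟩ :
          ∃ w, w ∈ Vb ⊓ Subgroup.center (NV ⧸ W.subgroupOf NV) ∧ w ≠ 1)
    obtain ⟨⟨⟨x, hxN⟩, hxV, rfl⟩, hxc⟩ := Subgroup.mem_inf.1 hzb
    have hxV' : x ∈ V := hxV
    have hxW : x ∉ W := fun h => hzb1 ((QuotientGroup.eq_one_iff (⟨x, hxN⟩ : NV)).2 h)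
    have htNV : t ∈ NV := ⟨htN, mem_sup_right (mem_zpowers t)⟩
    have hw : x⁻¹ * τ x ∈ W := by
      have h1 := mem_center_iff.1 hxc (QuotientGroup.mk' _ ⟨t, htNV⟩)
      rw [← map_mul, ← map_mul] at h1
      have h2 := QuotientGroup.eq.1 h1.symm
      rw [mem_subgroupOf] at h2
      rw [hτv]
      have e : x⁻¹ * (t * x * t) = t * (t⁻¹ * x⁻¹ * (t * x)) * t := by group
      rw [e]
      have h3 : t * ((x * t)⁻¹ * (t * x)) * t ∈ W := by
        have := (mem_normalizer_iff.1 htN _).1 h2
        rw [hti] at this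
        exact this
      rwa [mul_inv_rev] at h3
    set w := x⁻¹ * τ x with hwdef
    have hττ : τ (τ x) = x := by
      rw [hτv, hτv, show t * (t * x * t) * t = (t * t) * x * (t * t) by group, ht, one_mul, mul_one]
    have hwτ : τ w = w := by
      have hw2 := hW2 _ hw
      rw [pow_two] at hw2
      calc τ w = w⁻¹ := by rw [hwdef, map_mul, map_inv, hττ]; group
        _ = w := inv_eq_of_mul_eq_one_right hw2
    have hwA : w ∈ A := by
      refine mem_inf.2 ⟨hWV hw, mem_centralizer_singleton_iff.2 ?_⟩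
      rw [hτv] at hwτ
      calc w * t = t * w * t * t := by rw [hwτ]
        _ = t * w := by rw [mul_assoc, ht, mul_one]
    have hx' : x * σ w ∈ A := by
      refine mem_inf.2 ⟨mul_mem hxV' (hσV w (hWV hw)), mem_centralizer_singleton_iff.2 ?_⟩
      have h1 : τ (x * σ w) = x * σ w := by
        rw [map_mul, hτσ, hwτ, hσσA w hwA, show τ x = x * w by rw [hwdef]; group,
          ← (haσ w hwA).eq, mul_assoc x, ← mul_assoc w, show w * w = 1 by rw [← pow_two]; exact hW2 w hw,
          one_mul]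
      rw [hτv] at h1
      calc x * σ w * t = t * (x * σ w) * t * t := by rw [h1]
        _ = t * (x * σ w) := by rw [mul_assoc, ht, mul_one]
    apply hxW
    have := mul_mem (show x * σ w ∈ W from mem_sup_left hx')
      (inv_mem (show σ w ∈ W from mem_sup_right ⟨w, hwA, rfl⟩))
    rwa [mul_inv_cancel_right] at this
  have hle : V ≤ W := hWV'.ge
  exact ⟨⟨⟨fun a b => Subtype.ext (hWc a (hle a.2) b (hle b.2)).eq⟩⟩, fun v hv => hW2 v (hle hv)⟩

omit hord in
/-- A noncommutative group of order six is the symmetric group of degree three. -/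
theorem nonempty_perm_three {Q : Type*} [Group Q] [Finite Q] (h6 : Nat.card Q = 6) (a b : Q)
    (ha : orderOf a = 2) (hab : ¬ Commute a b) : Nonempty (Q ≃* Equiv.Perm (Fin 3)) := by
  set H := zpowers a with hH
  have hHc : Nat.card H = 2 := by rw [hH, Nat.card_zpowers, ha]
  have hHi : H.index = 3 := by
    have := H.card_mul_index
    rw [hHc, h6] at this
    omega
  have hcore : H.normalCore = ⊥ := by
    rcases (Nat.dvd_prime Nat.prime_two).1 (hHc ▸ card_dvd_of_le H.normalCore_le) with h | h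
    · exact eq_bot_of_card_eq _ h
    · exfalso
      have hn : H.normalCore = H := eq_of_le_of_card_ge H.normalCore_le (by rw [h, hHc])
      refine hab ?_
      have hb : b * a * b⁻¹ ∈ H := by
        have : H.Normal := hn ▸ H.normalCore_normal
        exact this.conj_mem a (mem_zpowers a) b
      obtain ⟨i, hi⟩ := mem_zpowers_iff.1 hb
      rw [← zpow_mod_orderOf, ha] at hi
      rcases Int.emod_two_eq i with e | e
      · rw [show i % ((2 : ℕ) : ℤ) = 0 from e, zpow_zero] at hi
        have h1 : a = 1 := by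
          rw [eq_comm, mul_inv_eq_one] at hi
          simpa using hi
        rw [h1, orderOf_one] at ha
        omega
      · rw [show i % ((2 : ℕ) : ℤ) = 1 from e, zpow_one, eq_comm, mul_inv_eq_iff_eq_mul] at hi
        exact hi.symm
  classical
  haveI := Fintype.ofFinite (Q ⧸ H)
  have hf : Function.Injective (MulAction.toPermHom Q (Q ⧸ H)) := by
    rw [← MonoidHom.ker_eq_bot_iff, ← Subgroup.normalCore_eq_ker, hcore]
  have hb : Function.Bijective (MulAction.toPermHom Q (Q ⧸ H)) := by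
    refine hf.bijective_of_nat_card_le (le_of_eq ?_)
    rw [Nat.card_perm, ← index_eq_card, hHi, h6]
    rfl
  let e : Q ⧸ H ≃ Fin 3 := Finite.equivFinOfCardEq (by rw [← index_eq_card, hHi])
  exact ⟨(MulEquiv.ofBijective _ hb).trans (Equiv.permCongrHom e)⟩

/-- The structure theorem. -/
theorem main (h3 : ∃ g : G, orderOf g = 3) (h4 : ∃ g : G, orderOf g = 4) :
    ∃ (N : Subgroup G) (_ : N.Normal),
      (IsPGroup 2 N ∧ Monoid.exponent N = 4 ∧ Group.nilpotencyClass N ≤ 2 ∧ N.index = 3) ∨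
      (Cfsg.IsElementaryAbelian 2 N ∧ Nonempty (G ⧸ N ≃* Equiv.Perm (Fin 3))) ∨
      (Cfsg.IsElementaryAbelian 3 N ∧
        ((IsCyclic (G ⧸ N) ∧ N.index = 4) ∨ Nonempty (G ⧸ N ≃* QuaternionGroup 2))) := by
  classical
  haveI := Fact.mk Nat.prime_two
  haveI := Fact.mk Nat.prime_three
  haveI := isSolvable hord
  obtain ⟨s, hs⟩ := h3
  obtain ⟨f, hf⟩ := h4
  have hs3 : s ^ 3 = 1 := by rw [← hs, pow_orderOf_eq_one]
  have hs1 : s ≠ 1 := fun e => by rw [e, orderOf_one] at hs; omega
  obtain ⟨a, b, hab⟩ := card_eq hord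
  haveI : Nontrivial G := ⟨⟨s, 1, hs1⟩⟩
  obtain ⟨M, hMn, hM0, hMmin⟩ := CfsgLib.Solvable.exists_minimal_normal (G := G)
  haveI := hMn
  obtain ⟨r, hr, hMr⟩ : ∃ r : ℕ, r.Prime ∧ IsPGroup r M := by
    obtain ⟨r, hr, h⟩ := CfsgLib.Solvable.exists_prime_pow_eq_one_of_minimal_normal M hM0 hMmin
      inferInstance
    exact ⟨r, hr, fun x => ⟨1, by rw [pow_one]; exact Subtype.ext (h x x.2)⟩⟩
  have hr23 : r = 2 ∨ r = 3 := by
    haveI := Fact.mk hr
    obtain ⟨n, hn⟩ := hMr.exists_card_eq
    rcases Nat.eq_zero_or_pos n with rfl | hn0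
    · exact absurd (eq_bot_of_card_eq M (by rw [hn, pow_zero])) hM0
    have hd : r ∣ 2 ^ a * 3 ^ b := hab ▸ (dvd_pow_self r hn0.ne').trans (hn ▸ card_subgroup_dvd_card M)
    rcases hr.dvd_mul.1 hd with h | h
    · exact Or.inl ((Nat.prime_dvd_prime_iff_eq hr Nat.prime_two).1 (hr.dvd_of_dvd_pow h))
    · exact Or.inr ((Nat.prime_dvd_prime_iff_eq hr Nat.prime_three).1 (hr.dvd_of_dvd_pow h))
  haveI hn2 : (Cfsg.pCore 2 G).Normal := by
    haveI := CfsgLib.Cores.pCore_characteristic (G := G) 2; infer_instance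
  haveI hn3 : (Cfsg.pCore 3 G).Normal := by
    haveI := CfsgLib.Cores.pCore_characteristic (G := G) 3; infer_instance
  rcases hr23 with rfl | rfl
  · -- `O₂ ≠ 1`
    set V := Cfsg.pCore 2 G with hVdef
    have hV : IsPGroup 2 V := CfsgLib.Cores.isPGroup_pCore 2
    have hV0 : V ≠ ⊥ := fun e => hM0 (le_bot_iff.1 (e ▸ CfsgLib.Cores.le_pCore hMr))
    -- a Sylow `3`-subgroup has order three
    let R : Sylow 3 G := default
    have hRnorm : (R : Subgroup G) ≤ normalizer (V : Set G) := by rw [normalizer_eq_top]; exact le_top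
    have hRfpf : ∀ x ∈ (R : Subgroup G), x ≠ 1 → V ⊓ centralizer {x} = ⊥ := by
      intro x hx hx1
      refine (eq_bot_iff_forall _).2 fun v hv => ?_
      exact (eq_one_of_commute hord (mem_centralizer_singleton_iff.1 hv.2)
        (isPGroup_two_pow hord hV hv.1) (isPGroup_three_pow hord R.isPGroup' hx)).resolve_right hx1
    have hRc : Nat.card (R : Subgroup G) = 3 := by
      obtain ⟨n, hn⟩ := R.isPGroup'.exists_card_eq
      have h1 : 3 ∣ Nat.card (R : Subgroup G) := R.dvd_card_of_dvd_card (hs ▸ orderOf_dvd_natCard s)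
      obtain ⟨y, hy⟩ := exists_prime_orderOf_dvd_card' (G := (R : Subgroup G)) 3 h1
      have hall : zpowers y = ⊤ := by
        refine (eq_top_iff' _).2 fun x => ?_
        by_cases hx : x = 1
        · rw [hx]; exact one_mem _
        · refine CfsgLib.Solvable.mem_zpowers_of_fpf_pGroup hV0 hRnorm hRfpf R.isPGroup' ?_ hy
          exact orderOf_eq_prime (Subtype.ext (isPGroup_three_pow hord R.isPGroup' x.2)) hx
      rw [← Subgroup.card_top (G := (R : Subgroup G)), ← hall, Nat.card_zpowers, hy]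
    have hQ0 : Cfsg.pCore 2 (G ⧸ V) = ⊥ := CfsgLib.Cores.pCore_quotient_self 2
    have hs' : (QuotientGroup.mk' V s) ≠ 1 := by
      intro h
      have h2 := isPGroup_two_pow hord hV ((QuotientGroup.eq_one_iff s).1 h)
      rw [pow_succ, hs3, one_mul] at h2
      exact hs1 h2
    haveI : Nontrivial (G ⧸ V) := ⟨⟨_, 1, hs'⟩⟩
    obtain ⟨Rb, hRbn, hRb0, hRbmin⟩ := CfsgLib.Solvable.exists_minimal_normal (G := G ⧸ V)
    haveI := hRbn
    have hQcard : Nat.card (G ⧸ V) ∣ 2 ^ a * 3 := by
      have h1 : Nat.card (G ⧸ V) ∣ Nat.card G := card_quotient_dvd_card V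
      have h2 : Nat.card G = 2 ^ a * 3 := by
        rw [hab]
        have h3 := R.card_eq_multiplicity
        rw [hRc, hab, Nat.factorization_mul (by positivity) (by positivity), Finsupp.add_apply,
          Nat.prime_two.factorization_pow, Nat.prime_three.factorization_pow, Finsupp.single_apply,
          Finsupp.single_apply, if_neg (by norm_num), if_pos rfl, zero_add] at h3
        have : b = 1 := (Nat.pow_eq_self_iff (by norm_num)).1 h3.symm
        rw [this, pow_one]
      exact h2 ▸ h1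
    -- the minimal normal subgroup of the quotient has order three
    have hRbc : Nat.card Rb = 3 := by
      obtain ⟨r, hr, hpow⟩ := CfsgLib.Solvable.exists_prime_pow_eq_one_of_minimal_normal Rb hRb0 hRbmin
        inferInstance
      haveI := Fact.mk hr
      have hp : IsPGroup r Rb := fun x => ⟨1, by rw [pow_one]; exact Subtype.ext (hpow x x.2)⟩
      obtain ⟨n, hn⟩ := hp.exists_card_eq
      rcases Nat.eq_zero_or_pos n with rfl | hn0
      · exact absurd (eq_bot_of_card_eq Rb (by rw [hn, pow_zero])) hRb0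
      have hd := (card_subgroup_dvd_card Rb).trans hQcard
      rw [hn] at hd
      rcases hr.dvd_mul.1 ((dvd_pow_self r hn0.ne').trans hd) with h | h
      · exfalso
        obtain rfl := (Nat.prime_dvd_prime_iff_eq hr Nat.prime_two).1 (hr.dvd_of_dvd_pow h)
        exact hRb0 (le_bot_iff.1 (hQ0 ▸ CfsgLib.Cores.le_pCore hp))
      · obtain rfl := (Nat.prime_dvd_prime_iff_eq hr Nat.prime_three).1 h
        have h2 : 3 ^ n ∣ 3 ^ 1 := by
          rw [pow_one]
          exact (Nat.Coprime.pow n a (by norm_num : Nat.Coprime 3 2)).dvd_of_dvd_mul_left hd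
        have := (Nat.pow_dvd_pow_iff_le_right (by norm_num)).1 h2
        rw [hn, show n = 1 by omega, pow_one]
    obtain ⟨y, hy⟩ := exists_prime_orderOf_dvd_card' (G := Rb) 3 (by rw [hRbc])
    have hyR : zpowers (y : G ⧸ V) = Rb := eq_of_le_of_card_ge (zpowers_le.2 y.2)
      (by rw [Nat.card_zpowers, Subgroup.orderOf_coe, hy, hRbc])
    -- two-elements of the quotient act faithfully on it
    have hfaith : ∀ q : G ⧸ V, Commute q (y : G ⧸ V) → q ∈ Rb := by
      intro q hq
      obtain ⟨g, rfl⟩ := QuotientGroup.mk'_surjective V q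
      obtain ⟨k, hk⟩ := QuotientGroup.mk'_surjective V (y : G ⧸ V)
      have h3' : (QuotientGroup.mk' V g) ^ 4 = 1 → QuotientGroup.mk' V g = 1 := by
        intro h4'
        by_contra hne
        obtain ⟨i, hi, hio⟩ := (Nat.dvd_prime_pow Nat.prime_two).1
          (show orderOf (QuotientGroup.mk' V g) ∣ 2 ^ 2 from orderOf_dvd_of_pow_eq_one h4')
        have hoy : orderOf (y : G ⧸ V) = 3 := by rw [Subgroup.orderOf_coe, hy]
        have hc : (orderOf (QuotientGroup.mk' V g)).Coprime (orderOf (y : G ⧸ V)) := by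
          rw [hio, hoy]; exact Nat.Coprime.pow_left i (by norm_num)
        have h6 := hq.orderOf_mul_eq_mul_orderOf_of_coprime hc
        rw [← hk, ← map_mul] at h6
        have hdvd := orderOf_map_dvd (QuotientGroup.mk' V) (g * k)
        rw [h6, hk, hoy, hio] at hdvd
        have := Nat.le_of_dvd (orderOf_pos _) hdvd
        have := hord (g * k)
        rcases Nat.eq_zero_or_pos i with rfl | hi0
        · rw [pow_zero, orderOf_eq_one_iff] at hio; exact hne hio
        · have : 2 ≤ 2 ^ i := Nat.le_self_pow hi0.ne' 2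
          omega
      rcases pow_four_or_three hord g with h4 | h3
      · rw [h3' (by rw [← map_pow, h4, map_one])]; exact one_mem _
      · -- the image of a `3`-element lies in the normal Sylow `3`-subgroup
        have hRb : IsPGroup 3 Rb := IsPGroup.of_card (n := 1) (by rw [hRbc, pow_one])
        have hgp : IsPGroup 3 (zpowers (QuotientGroup.mk' V g)) := by
          intro z
          refine ⟨1, ?_⟩
          obtain ⟨i, hi⟩ := mem_zpowers_iff.1 z.2
          apply Subtype.ext
          show (z : G ⧸ V) ^ 3 ^ 1 = 1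
          rw [pow_one, ← hi, ← zpow_natCast, ← zpow_mul, mul_comm, zpow_mul, zpow_natCast, ← map_pow,
            h3, map_one, one_zpow]
        have hsup := (hgp.to_sup_of_normal_right hRb).exists_card_eq
        obtain ⟨n, hn⟩ := hsup
        have hd := (card_subgroup_dvd_card (zpowers (QuotientGroup.mk' V g) ⊔ Rb)).trans hQcard
        rw [hn] at hd
        have h2 : 3 ^ n ∣ 3 ^ 1 := by
          rw [pow_one]
          exact (Nat.Coprime.pow n a (by norm_num : Nat.Coprime 3 2)).dvd_of_dvd_mul_left hd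
        have hn1 := (Nat.pow_dvd_pow_iff_le_right (by norm_num)).1 h2
        have e := eq_of_le_of_card_ge (le_sup_right : Rb ≤ zpowers (QuotientGroup.mk' V g) ⊔ Rb)
          (by rw [hn, hRbc]; exact Nat.pow_le_pow_right (by norm_num) hn1)
        rw [e]
        exact mem_sup_left (mem_zpowers _)
    by_cases hQR : Rb = ⊤
    · -- index three
      have hidx : V.index = 3 := by rw [index_eq_card, ← card_top (G := G ⧸ V), ← hQR, hRbc]
      refine ⟨V, inferInstance, Or.inl ⟨hV, ?_, nilpotencyClass_le hord V hV hs3 hs1, hidx⟩⟩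
      refine dvd_antisymm (Monoid.exponent_dvd_of_forall_pow_eq_one fun v =>
        Subtype.ext (isPGroup_two_pow hord hV v.2)) ?_
      have hfV : f ∈ V := by
        rw [← QuotientGroup.eq_one_iff (N := V), ← orderOf_eq_one_iff]
        refine Nat.eq_one_of_dvd_coprimes (show Nat.Coprime 4 3 by norm_num)
          (hf ▸ orderOf_map_dvd (QuotientGroup.mk' V) f) ?_
        rw [← hidx, index_eq_card]
        exact orderOf_dvd_natCard _
      rw [← hf, ← Subgroup.orderOf_mk f hfV]
      exact Monoid.order_dvd_exponent _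
    · -- the symmetric group
      obtain ⟨q, -, hq⟩ := SetLike.exists_of_lt (lt_top_iff_ne_top.2 hQR)
      have hinv : ∀ q : G ⧸ V, q ∉ Rb → q * (y : G ⧸ V) * q⁻¹ = (y : G ⧸ V)⁻¹ := by
        intro q hq
        have hm : q * (y : G ⧸ V) * q⁻¹ ∈ zpowers (y : G ⧸ V) := by
          rw [hyR]; exact hRbn.conj_mem _ y.2 q
        obtain ⟨i, hi⟩ := mem_zpowers_iff.1 hm
        have hoy : orderOf (y : G ⧸ V) = 3 := by rw [Subgroup.orderOf_coe, hy]
        rw [← zpow_mod_orderOf, hoy] at hi
        have hbound : i % ((3 : ℕ) : ℤ) = 0 ∨ i % ((3 : ℕ) : ℤ) = 1 ∨ i % ((3 : ℕ) : ℤ) = 2 := by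
          omega
        rcases hbound with e | e | e <;> rw [e] at hi
        · exfalso
          rw [zpow_zero, eq_comm, mul_inv_eq_one, mul_eq_left] at hi
          rw [hi, orderOf_one] at hoy
          omega
        · rw [zpow_one, eq_comm, mul_inv_eq_iff_eq_mul] at hi
          exact absurd (hfaith q hi) hq
        · rw [← hi, eq_comm]
          refine inv_eq_of_mul_eq_one_right ?_
          rw [← zpow_one_add, show (1 : ℤ) + 2 = ((3 : ℕ) : ℤ) by norm_num, zpow_natCast, ← hoy,
            pow_orderOf_eq_one]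
      have hindex : Rb.index = 2 := by
        rw [index_eq_two_iff]
        refine ⟨q, fun z => ?_⟩
        by_cases hz : z ∈ Rb
        · exact Or.inr ⟨hz, fun h => hq (by simpa using Rb.mul_mem (Rb.inv_mem hz) h)⟩
        · refine Or.inl ⟨hfaith _ ?_, hz⟩
          show z * q * (y : G ⧸ V) = (y : G ⧸ V) * (z * q)
          rw [← mul_inv_eq_iff_eq_mul]
          calc z * q * (y : G ⧸ V) * (z * q)⁻¹ = z * (q * (y : G ⧸ V) * q⁻¹) * z⁻¹ := by group
            _ = (z * (y : G ⧸ V) * z⁻¹)⁻¹ := by rw [hinv q hq]; group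
            _ = (y : G ⧸ V) := by rw [hinv z hz, inv_inv]
      have h6 : Nat.card (G ⧸ V) = 6 := by rw [← Rb.card_mul_index, hRbc, hindex]
      -- an involution inverting an element of order three
      set K := Rb.comap (QuotientGroup.mk' V) with hK
      haveI : K.Normal := inferInstance
      have hoimg : ∀ g : G, g ^ 3 = 1 → g ∈ K := by
        intro g hg
        show QuotientGroup.mk' V g ∈ Rb
        by_contra hz
        have h1 := hinv _ hz
        have h2 : (QuotientGroup.mk' V g) ^ 3 = 1 := by rw [← map_pow, hg, map_one]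
        have h3 : (QuotientGroup.mk' V g) ^ 2 ∈ Rb := sq_mem_of_index_two hindex _
        refine hz ?_
        have h4 := mul_mem (inv_mem h3) (show (QuotientGroup.mk' V g) ^ 3 ∈ Rb from h2 ▸ one_mem _)
        have e : ((QuotientGroup.mk' V g) ^ 2)⁻¹ * (QuotientGroup.mk' V g) ^ 3 = QuotientGroup.mk' V g := by
          group
        rwa [e] at h4
      have hsK := hoimg s hs3
      have hRK : (R : Subgroup G) ≤ K := fun x hx => hoimg x (isPGroup_three_pow hord R.isPGroup' hx)
      obtain ⟨u, hu, huK⟩ : ∃ u ∈ normalizer ((R : Subgroup G) : Set G), u ∉ K := by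
        by_contra hcon
        push_neg at hcon
        have htop := Sylow.normalizer_sup_eq_top (R.subtype hRK) (p := 3)
        have hmap : ((R.subtype hRK : Sylow 3 K) : Subgroup K).map K.subtype = (R : Subgroup G) := by
          rw [Sylow.coe_subtype, subgroupOf_map_subtype, inf_eq_left.2 hRK]
        rw [hmap] at htop
        have hKtop : K = ⊤ := eq_top_iff.2 (htop ▸ sup_le hcon le_rfl)
        refine hQR (eq_top_iff.2 fun z _ => ?_)
        obtain ⟨g, rfl⟩ := QuotientGroup.mk'_surjective V z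
        exact show g ∈ K from hKtop ▸ mem_top g
      have hu3 : u ^ 3 ≠ 1 := fun e => huK (hoimg u e)
      have hu4 : u ^ 4 = 1 := (pow_four_or_three hord u).resolve_right hu3
      obtain ⟨y', hy'⟩ := exists_prime_orderOf_dvd_card' (G := (R : Subgroup G)) 3 (by rw [hRc])
      have hy3 : (y' : G) ^ 3 = 1 := orderOf_dvd_iff_pow_eq_one.1 (by rw [Subgroup.orderOf_coe, hy'])
      have hy1 : (y' : G) ≠ 1 := fun e => by
        rw [← Subgroup.orderOf_coe, e, orderOf_one] at hy'; omega
      have hRy : zpowers (y' : G) = (R : Subgroup G) := eq_of_le_of_card_ge (zpowers_le.2 y'.2)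
        (by rw [Nat.card_zpowers, Subgroup.orderOf_coe, hy', hRc])
      have hu2V : u ^ 2 ∈ V := by
        have h1 : QuotientGroup.mk' V (u ^ 2) ∈ Rb := by
          rw [map_pow]; exact sq_mem_of_index_two hindex _
        rw [← QuotientGroup.eq_one_iff (N := V)]
        have h2 : (QuotientGroup.mk' V (u ^ 2)) ^ 2 = 1 := by
          rw [← map_pow, ← pow_mul, hu4, map_one]
        have h3 : (QuotientGroup.mk' V (u ^ 2)) ^ 3 = 1 := by
          have := pow_card_eq_one' (G := Rb) (x := ⟨_, h1⟩)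
          rw [hRbc] at this
          exact congrArg Subtype.val this
        rw [pow_succ, h2, one_mul] at h3
        exact h3
      -- `u ^ 2` normalises `R` inside `V`, hence is trivial
      have huu : u ^ 2 = 1 := by
        have hn : u ^ 2 ∈ normalizer ((R : Subgroup G) : Set G) := pow_mem hu 2
        have h1 : (y' : G) * u ^ 2 * (y' : G)⁻¹ * (u ^ 2)⁻¹ ∈ V :=
          mul_mem (Normal.conj_mem inferInstance _ hu2V _) (inv_mem hu2V)
        have h2 : (y' : G) * u ^ 2 * (y' : G)⁻¹ * (u ^ 2)⁻¹ ∈ (R : Subgroup G) := by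
          rw [show (y' : G) * u ^ 2 * (y' : G)⁻¹ * (u ^ 2)⁻¹ =
            (y' : G) * (u ^ 2 * (y' : G)⁻¹ * (u ^ 2)⁻¹) by group]
          exact mul_mem y'.2 ((mem_normalizer_iff.1 hn _).1 (inv_mem y'.2))
        have h4 := isPGroup_two_pow hord hV h1
        have h5 := isPGroup_three_pow hord R.isPGroup' h2
        rw [pow_succ, h5, one_mul, mul_inv_eq_one, mul_inv_eq_iff_eq_mul] at h4
        exact (eq_one_of_commute hord (show Commute (u ^ 2) (y' : G) from h4.symm)
          (by rw [← pow_mul, pow_mul', hu4, one_pow]) hy3).resolve_right hy1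
      have huV : u ∉ V := fun h => huK (by
        show QuotientGroup.mk' V u ∈ Rb
        rw [show QuotientGroup.mk' V u = 1 from (QuotientGroup.eq_one_iff u).2 h]
        exact one_mem _)
      have huinv : u * (y' : G) * u = (y' : G)⁻¹ := by
        have hu' : u⁻¹ = u := inv_eq_of_mul_eq_one_right (by rw [← pow_two]; exact huu)
        have hm : u * (y' : G) * u⁻¹ ∈ zpowers (y' : G) := by
          rw [hRy]; exact (mem_normalizer_iff.1 hu _).1 y'.2
        obtain ⟨i, hi⟩ := mem_zpowers_iff.1 hm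
        have hoy : orderOf (y' : G) = 3 := by rw [Subgroup.orderOf_coe, hy']
        rw [← zpow_mod_orderOf, hoy, hu'] at hi
        have hbound : i % ((3 : ℕ) : ℤ) = 0 ∨ i % ((3 : ℕ) : ℤ) = 1 ∨ i % ((3 : ℕ) : ℤ) = 2 := by
          omega
        rcases hbound with e | e | e <;> rw [e] at hi
        · exfalso
          apply hy1
          rw [zpow_zero] at hi
          calc (y' : G) = u⁻¹ * (u * (y' : G) * u) * u⁻¹ := by group
            _ = u⁻¹ * 1 * u⁻¹ := by rw [← hi]
            _ = 1 := by rw [hu', mul_one, ← pow_two, huu]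
        · exfalso
          rw [zpow_one] at hi
          have hc : Commute u (y' : G) := by
            show u * (y' : G) = (y' : G) * u
            conv_rhs => rw [hi, mul_assoc, ← pow_two, huu, mul_one]
          rcases eq_one_of_commute hord hc hu4 hy3 with h | h
          · exact huV (h ▸ one_mem _)
          · exact hy1 h
        · rw [← hi, eq_comm]
          refine inv_eq_of_mul_eq_one_right ?_
          rw [← zpow_one_add, show (1 : ℤ) + 2 = ((3 : ℕ) : ℤ) by norm_num, zpow_natCast, hy3]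
      refine ⟨V, inferInstance, Or.inr (Or.inl ⟨elementary_of_inverted hord V hV hy3 hy1
        (by rw [← pow_two]; exact huu) huV huinv, ?_⟩)⟩
      refine nonempty_perm_three h6 (QuotientGroup.mk' V u) (y : G ⧸ V) ?_ fun hc =>
        huK (hfaith _ hc)
      refine orderOf_eq_prime (by rw [← map_pow, huu, map_one]) fun e => huV ?_
      exact (QuotientGroup.eq_one_iff u).1 e
  · -- `O₃ ≠ 1`
    set V := Cfsg.pCore 3 G with hVdef
    have hV : IsPGroup 3 V := CfsgLib.Cores.isPGroup_pCore 3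
    have hV0 : V ≠ ⊥ := fun e => hM0 (le_bot_iff.1 (e ▸ CfsgLib.Cores.le_pCore hMr))
    obtain ⟨v, hv, hv1⟩ : ∃ v ∈ V, v ≠ (1 : G) := by
      by_contra hcon
      push_neg at hcon
      exact hV0 ((eq_bot_iff_forall _).2 hcon)
    have hfpf : ∀ x : G, x ^ 4 = 1 → x ≠ 1 → V ⊓ centralizer {x} = ⊥ := fun x hx hx1 =>
      (eq_bot_iff_forall _).2 fun w hw =>
        (eq_one_of_commute hord (show Commute x w from (mem_centralizer_singleton_iff.1 hw.2).symm) hx
          (isPGroup_three_pow hord hV hw.1)).resolve_left hx1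
    -- involutions invert `V`
    have hinvert : ∀ z : G, orderOf z = 2 → ∀ w ∈ V, z * w * z⁻¹ = w⁻¹ := by
      intro z hz w hw
      refine CfsgLib.Solvable.conj_eq_inv_of_fpf (H := zpowers z) (K := V)
        (by rw [normalizer_eq_top]; exact le_top) (fun x hx hx1 => hfpf x ?_ hx1) (mem_zpowers z) hz w hw
      obtain ⟨i, rfl⟩ := mem_zpowers_iff.1 hx
      rw [← zpow_natCast, ← zpow_mul, mul_comm, zpow_mul, zpow_natCast,
        show z ^ 4 = 1 by rw [show (4 : ℕ) = 2 * 2 from rfl, pow_mul, ← hz, pow_orderOf_eq_one, one_pow],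
        one_zpow]
    have hz0 : orderOf (f ^ 2) = 2 := by
      rw [orderOf_pow_of_dvd two_ne_zero (by rw [hf]; norm_num), hf]
    have hVc : ∀ x ∈ V, ∀ y ∈ V, Commute x y := by
      intro x hx y hy
      have h := hinvert _ hz0 _ (mul_mem hx hy)
      rw [← MulAut.conj_apply, map_mul, MulAut.conj_apply, MulAut.conj_apply, hinvert _ hz0 x hx,
        hinvert _ hz0 y hy, mul_inv_rev] at h
      have := congrArg (·⁻¹) h
      simp only [mul_inv_rev, inv_inv] at this
      exact this.symm
    have hel : Cfsg.IsElementaryAbelian 3 V :=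
      ⟨⟨⟨fun x y => Subtype.ext (hVc x x.2 y y.2).eq⟩⟩, fun x hx => isPGroup_three_pow hord hV hx⟩
    -- the quotient
    have hQ0 : Cfsg.pCore 3 (G ⧸ V) = ⊥ := CfsgLib.Cores.pCore_quotient_self 3
    have hfQ : orderOf (QuotientGroup.mk' V f) = 4 := by
      obtain ⟨i, hi, hio⟩ := (Nat.dvd_prime_pow Nat.prime_two).1
        (show orderOf (QuotientGroup.mk' V f) ∣ 2 ^ 2 from (orderOf_map_dvd _ f).trans (by rw [hf]; norm_num))
      have h2 : f ^ 2 ∉ V := fun h => by
        have h3 := isPGroup_three_pow hord hV h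
        rw [← orderOf_dvd_iff_pow_eq_one, hz0] at h3
        norm_num at h3
      by_contra hne
      apply h2
      rw [← QuotientGroup.eq_one_iff (N := V), ← QuotientGroup.mk'_apply, map_pow,
        ← orderOf_dvd_iff_pow_eq_one, hio]
      rcases (show i = 0 ∨ i = 1 ∨ i = 2 by omega) with rfl | rfl | rfl
      · norm_num
      · norm_num
      · exact absurd hio (by simpa using hne)
    have hnoth : ∀ (z : G ⧸ V) (q : G ⧸ V), orderOf z = 2 → orderOf q = 3 → ¬ Commute z q := by
      intro z q hz hq hc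
      have h6 := hc.orderOf_mul_eq_mul_orderOf_of_coprime (by rw [hz, hq]; norm_num)
      obtain ⟨g, hg⟩ := QuotientGroup.mk'_surjective V (z * q)
      have hdvd := orderOf_map_dvd (QuotientGroup.mk' V) g
      rw [hg, h6, hz, hq] at hdvd
      have := Nat.le_of_dvd (orderOf_pos _) hdvd
      have := hord g
      omega
    -- involutions of the quotient lift
    have hlift : ∀ z : G ⧸ V, z ^ 4 = 1 → ∃ g : G, g ^ 4 = 1 ∧ QuotientGroup.mk' V g = z := by
      intro z hz
      obtain ⟨g, rfl⟩ := QuotientGroup.mk'_surjective V z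
      rcases pow_four_or_three hord g with h4 | h3
      · exact ⟨g, h4, rfl⟩
      · refine ⟨1, one_pow 4, ?_⟩
        rw [map_one]
        rw [pow_succ, ← map_pow (QuotientGroup.mk' V), h3, map_one, one_mul] at hz
        exact hz.symm
    have hinvz : ∀ z : G ⧸ V, orderOf z = 2 → ∃ g : G, QuotientGroup.mk' V g = z ∧
        g * v * g⁻¹ = v⁻¹ ∧ ∀ w ∈ V, g * w * g⁻¹ = w⁻¹ := by
      intro z hz
      obtain ⟨g, hg4, rfl⟩ := hlift z (by rw [show (4 : ℕ) = 2 * 2 from rfl, pow_mul, ← hz,
        pow_orderOf_eq_one, one_pow])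
      have hg2V : g ^ 2 ∈ V := by
        rw [← QuotientGroup.eq_one_iff (N := V), ← QuotientGroup.mk'_apply, map_pow, ← hz,
          pow_orderOf_eq_one]
      have hg2 : g ^ 2 = 1 := by
        have h3 := isPGroup_three_pow hord hV hg2V
        have h4 : (g ^ 2) ^ 2 = 1 := by rw [← pow_mul]; exact hg4
        rwa [pow_succ, h4, one_mul] at h3
      have hog : orderOf g = 2 := orderOf_eq_prime hg2 fun e => by
        rw [e, map_one, orderOf_one] at hz; omega
      exact ⟨g, rfl, hinvert g hog v hv, hinvert g hog⟩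
    have huniq : ∀ z z' : G ⧸ V, orderOf z = 2 → orderOf z' = 2 → z = z' := by
      intro z z' hz hz'
      obtain ⟨g, hg, -, hgi⟩ := hinvz z hz
      obtain ⟨g', hg', -, hgi'⟩ := hinvz z' hz'
      rw [← hg, ← hg', QuotientGroup.mk'_apply, QuotientGroup.mk'_apply]
      refine QuotientGroup.eq.2 ?_
      have hk : ∀ w ∈ V, Commute (g⁻¹ * g') w := by
        intro w hw
        show g⁻¹ * g' * w = w * (g⁻¹ * g')
        rw [← mul_inv_eq_iff_eq_mul]
        calc g⁻¹ * g' * w * (g⁻¹ * g')⁻¹ = g⁻¹ * (g' * w * g'⁻¹) * g := by group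
          _ = g⁻¹ * w⁻¹ * g := by rw [hgi' w hw]
          _ = g⁻¹ * (g * w * g⁻¹) * g := by rw [hgi w hw]
          _ = w := by group
      rcases pow_four_or_three hord (g⁻¹ * g') with h4 | h3
      · rcases eq_one_of_commute hord (hk v hv) h4 (isPGroup_three_pow hord hV hv) with h | h
        · rw [h]; exact one_mem _
        · exact absurd h hv1
      · -- a `3`-element centralising `V` maps into `O₃` of the quotient
        have hcn : (centralizer (V : Set G)).Normal := inferInstance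
        have hp3 : IsPGroup 3 (centralizer (V : Set G)) := by
          intro x
          refine ⟨1, Subtype.ext ?_⟩
          show (x : G) ^ 3 ^ 1 = 1
          rw [pow_one]
          rcases pow_four_or_three hord (x : G) with h4 | h3
          · rcases eq_one_of_commute hord (show Commute (x : G) v from
              ((mem_centralizer_iff.1 x.2 v hv)).symm) h4 (isPGroup_three_pow hord hV hv) with h | h
            · rw [h, one_pow]
            · exact absurd h hv1
          · exact h3
        exact CfsgLib.Cores.le_pCore hp3 (mem_centralizer_iff.2 fun w hw => ((hk w hw).eq).symm)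
    -- the quotient is a `2`-group
    have hQ2 : IsPGroup 2 (G ⧸ V) := by
      intro q
      obtain ⟨g, rfl⟩ := QuotientGroup.mk'_surjective V q
      rcases pow_four_or_three hord g with h4 | h3
      · exact ⟨2, by rw [show 2 ^ 2 = 4 from rfl, ← map_pow, h4, map_one]⟩
      · refine ⟨0, ?_⟩
        rw [pow_zero, pow_one]
        by_contra hne
        have hq3 : orderOf (QuotientGroup.mk' V g) = 3 :=
          orderOf_eq_prime (by rw [← map_pow, h3, map_one]) hne
        have hz : orderOf ((QuotientGroup.mk' V f) ^ 2) = 2 := by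
          rw [orderOf_pow_of_dvd two_ne_zero (by rw [hfQ]; norm_num), hfQ]
        refine hnoth _ _ hz hq3 ?_
        have := huniq (QuotientGroup.mk' V g * (QuotientGroup.mk' V f) ^ 2 * (QuotientGroup.mk' V g)⁻¹)
          _ (by rw [← MulAut.conj_apply, MulEquiv.orderOf_eq, hz]) hz
        exact (mul_inv_eq_iff_eq_mul.1 this).symm
    set φ := QuotientGroup.mk' V f with hφ
    set z := φ ^ 2 with hzdef
    have hzo : orderOf z = 2 := by rw [orderOf_pow_of_dvd two_ne_zero (by rw [hfQ]; norm_num), hfQ]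
    have hexp : ∀ q : G ⧸ V, q ^ 4 = 1 := by
      intro q
      obtain ⟨g, rfl⟩ := QuotientGroup.mk'_surjective V q
      rcases pow_four_or_three hord g with h4 | h3
      · rw [← map_pow, h4, map_one]
      · obtain ⟨k, hk⟩ := hQ2 (QuotientGroup.mk' V g)
        have := Nat.eq_one_of_dvd_coprimes (Nat.Coprime.pow_left k (by norm_num : Nat.Coprime 2 3))
          (orderOf_dvd_of_pow_eq_one hk)
          (orderOf_dvd_of_pow_eq_one (by rw [← map_pow, h3, map_one]))
        rw [orderOf_eq_one_iff.1 this, one_pow]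
    -- squares
    have hsqz : ∀ q : G ⧸ V, q ^ 2 = 1 ∨ q ^ 2 = z := by
      intro q
      by_cases h : q ^ 2 = 1
      · exact Or.inl h
      · exact Or.inr (huniq _ _ (orderOf_eq_prime (by rw [← pow_mul]; exact hexp q) h) hzo)
    have hzc : ∀ q : G ⧸ V, Commute q z := fun q => by
      have := huniq (q * z * q⁻¹) z (by rw [← MulAut.conj_apply, MulEquiv.orderOf_eq, hzo]) hzo
      exact mul_inv_eq_iff_eq_mul.1 this
    -- commuting elements lie in a cyclic group
    have hcc : ∀ q : G ⧸ V, Commute q φ → q ∈ zpowers φ := by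
      intro q hq
      rcases hsqz q with h | h
      · by_cases hq1 : q = 1
        · rw [hq1]; exact one_mem _
        · rw [huniq q z (orderOf_eq_prime h hq1) hzo]; exact pow_mem (mem_zpowers φ) 2
      · have h2 : (q * φ⁻¹) ^ 2 = 1 := by rw [hq.inv_right.mul_pow, h, inv_pow, ← hzdef, mul_inv_cancel]
        by_cases hq1 : q * φ⁻¹ = 1
        · rw [mul_inv_eq_one.1 hq1]; exact mem_zpowers φ
        · have := huniq _ z (orderOf_eq_prime h2 hq1) hzo
          rw [mul_inv_eq_iff_eq_mul] at this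
          rw [this]; exact mul_mem (pow_mem (mem_zpowers φ) 2) (mem_zpowers φ)
    refine ⟨V, inferInstance, Or.inr (Or.inr ⟨hel, ?_⟩)⟩
    by_cases hC : zpowers φ = ⊤
    · refine Or.inl ⟨isCyclic_iff_exists_zpowers_eq_top.2 ⟨φ, hC⟩, ?_⟩
      rw [index_eq_card, ← card_top (G := G ⧸ V), ← hC, Nat.card_zpowers, hfQ]
    · obtain ⟨ψ, -, hψ⟩ := SetLike.exists_of_lt (lt_top_iff_ne_top.2 hC)
      have hψ2 : ψ ^ 2 = z := by
        rcases hsqz ψ with h | h
        · exfalso
          by_cases h1 : ψ = 1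
          · exact hψ (h1 ▸ one_mem _)
          · exact hψ (huniq ψ z (orderOf_eq_prime h h1) hzo ▸ pow_mem (mem_zpowers φ) 2)
        · exact h
      -- conjugates of `φ` differ from it by central squares
      have hconj : ∀ q : G ⧸ V, q * φ * q⁻¹ = φ ∨ q * φ * q⁻¹ = φ * z := by
        intro q
        have h1 : q * φ * q⁻¹ * φ⁻¹ = (q * φ) ^ 2 * (φ⁻¹ * q⁻¹ ^ 2 * φ) * (φ⁻¹) ^ 2 := by
          rw [pow_two, pow_two, pow_two]; group
        have hz2 : z * z = 1 := by rw [← pow_two, ← hzo, pow_orderOf_eq_one]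
        have hzi : z⁻¹ = z := inv_eq_of_mul_eq_one_right hz2
        have hk : q * φ * q⁻¹ * φ⁻¹ = 1 ∨ q * φ * q⁻¹ * φ⁻¹ = z := by
          rw [h1, inv_pow φ, ← hzdef, hzi]
          have e2 : φ⁻¹ * q⁻¹ ^ 2 * φ = q⁻¹ ^ 2 := by
            rcases hsqz q⁻¹ with h | h <;> rw [h]
            · group
            · rw [(hzc φ⁻¹).eq, inv_mul_cancel_right]
          rw [e2]
          rcases hsqz (q * φ) with h | h <;> rcases hsqz q⁻¹ with h' | h' <;> rw [h, h'] <;>
            simp [hz2]
        rcases hk with h | h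
        · exact Or.inl (mul_inv_eq_one.1 h)
        · right; rw [mul_inv_eq_iff_eq_mul] at h; rw [h, (hzc φ).eq]
      have hψφ : ψ * φ * ψ⁻¹ = φ * z := by
        refine (hconj ψ).resolve_left fun h => hψ (hcc ψ ?_)
        exact mul_inv_eq_iff_eq_mul.1 h
      have hidx : (zpowers φ).index = 2 := by
        rw [index_eq_two_iff]
        refine ⟨ψ, fun q => ?_⟩
        by_cases hq : q ∈ zpowers φ
        · exact Or.inr ⟨hq, fun h => hψ (by simpa using (zpowers φ).mul_mem ((zpowers φ).inv_mem hq) h)⟩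
        · refine Or.inl ⟨hcc _ ?_, hq⟩
          show q * ψ * φ = φ * (q * ψ)
          rw [← mul_inv_eq_iff_eq_mul]
          calc q * ψ * φ * (q * ψ)⁻¹ = q * (ψ * φ * ψ⁻¹) * q⁻¹ := by group
            _ = q * φ * q⁻¹ * (q * z * q⁻¹) := by rw [hψφ]; group
            _ = φ := by
              rw [(hzc q).eq, mul_inv_cancel_right]
              rcases hconj q with h | h
              · exact absurd (hcc q (mul_inv_eq_iff_eq_mul.1 h)) hq
              · rw [h, mul_assoc, ← pow_two, ← hzo, pow_orderOf_eq_one, mul_one]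
      have hQ8 : Nat.card (G ⧸ V) = 2 ^ 3 := by
        rw [← (zpowers φ).card_mul_index, hidx, Nat.card_zpowers, hfQ]; norm_num
      refine Or.inr (CfsgLib.Fusion.quaternion_of_two_cyclic hQ8 (fun hall => hψ (hcc ψ (hall ψ φ)))
        (x := φ) (y := ψ) ?_ ?_ hψ)
      · intro e
        rw [← hzdef] at e
        rw [e, orderOf_one] at hzo; omega
      · intro e
        rw [← hψ2, e, orderOf_one] at hzo; omega

end CfsgLib.FGS.OrdersFour
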