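import Cfsg.Agent.Lib.FGS.Covering
import Cfsg.Agent.Lib.PGroup.Basic

/-!
# Normal subgroups with two `G`-class sizes

If `N ⊴ G` contains a noncentral Sylow `r`-subgroup of `G` and all noncentral elements of `N`
have centralizers in `G` of the same order, then `N` is nilpotent.
-/

set_option autoImplicit false
set_option linter.unusedSectionVars false
set_option linter.style.haveILetI false

open Subgroup

namespace Cfsg.Agent.TwoSizeNormal

variable {G : Type*} [Group G] [Finite G]

/-- The centralizer of an element. -/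
abbrev cen (x : G) : Subgroup G := Subgroup.centralizer ({x} : Set G)

theorem mem_cen {x g : G} : g ∈ cen x ↔ g * x = x * g := mem_centralizer_singleton_iff

theorem cen_comm {x g : G} (h : g ∈ cen x) : x ∈ cen g := mem_cen.2 (mem_cen.1 h).symm

theorem cen_mul_central {x z : G} (hz : z ∈ center G) : cen (x * z) = cen x := by
  have h := Subgroup.mem_center_iff.1 hz
  ext g
  rw [mem_cen, mem_cen, ← mul_assoc]
  constructor
  · intro e
    rw [mul_assoc x, ← h g, ← mul_assoc] at e
    exact mul_right_cancel e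
  · intro e
    rw [e, mul_assoc x g z, h g, ← mul_assoc]

theorem map_conj_cen (g x : G) :
    (cen x).map (MulAut.conj g).toMonoidHom = cen (g * x * g⁻¹) := by
  ext k
  rw [mem_map, mem_cen]
  constructor
  · rintro ⟨h, hh, rfl⟩
    simp only [MulEquiv.toMonoidHom_eq_coe, MonoidHom.coe_coe, MulAut.conj_apply]
    calc g * h * g⁻¹ * (g * x * g⁻¹) = g * (h * x) * g⁻¹ := by group
      _ = g * (x * h) * g⁻¹ := by rw [mem_cen.1 hh]
      _ = g * x * g⁻¹ * (g * h * g⁻¹) := by group
  · intro hk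
    refine ⟨g⁻¹ * k * g, mem_cen.2 ?_, by simp [mul_assoc]⟩
    calc g⁻¹ * k * g * x = g⁻¹ * (k * (g * x * g⁻¹)) * g := by group
      _ = g⁻¹ * (g * x * g⁻¹ * k) * g := by rw [hk]
      _ = x * (g⁻¹ * k * g) := by group

theorem conj_mem_cen {g x k : G} (hk : k ∈ cen x) : g * k * g⁻¹ ∈ cen (g * x * g⁻¹) := by
  rw [← map_conj_cen]
  exact ⟨k, hk, rfl⟩

/-- The standing hypotheses. -/
structure Hyp (N : Subgroup G) (r : ℕ) : Prop where
  card_cen : ∀ x ∈ N, ∀ y ∈ N, x ∉ center G → y ∉ center G → Nat.card (cen x) = Nat.card (cen y)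
  sylow_le : ∀ R : Sylow r G, (R : Subgroup G) ≤ N
  noncentral : ∀ R : Sylow r G, ¬ (R : Subgroup G) ≤ center G

variable {N : Subgroup G} [N.Normal] {r : ℕ} [hr : Fact r.Prime]

theorem Hyp.eq_of_le (H : Hyp N r) {x y : G} (hx : x ∈ N) (hy : y ∈ N) (hxc : x ∉ center G)
    (hyc : y ∉ center G) (hle : cen x ≤ cen y) : cen x = cen y :=
  Subgroup.eq_of_le_of_card_ge hle (H.card_cen x hx y hy hxc hyc).ge

/-- Commuting noncentral elements of coprime orders have the same centralizer. -/
theorem Hyp.eq_of_coprime (H : Hyp N r) {x y : G} (hx : x ∈ N) (hy : y ∈ N) (hxc : x ∉ center G)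
    (hyc : y ∉ center G) (hcomm : Commute x y) (hcop : (orderOf x).Coprime (orderOf y)) :
    cen x = cen y := by
  obtain ⟨k, hk1, hk2⟩ := Nat.chineseRemainder hcop 1 0
  obtain ⟨l, hl1, hl2⟩ := Nat.chineseRemainder hcop 0 1
  have hx' : (x * y) ^ k = x := by
    rw [hcomm.mul_pow, pow_eq_pow_iff_modEq.2 hk1, pow_eq_pow_iff_modEq.2 hk2, pow_one, pow_zero,
      mul_one]
  have hy' : (x * y) ^ l = y := by
    rw [hcomm.mul_pow, pow_eq_pow_iff_modEq.2 hl1, pow_eq_pow_iff_modEq.2 hl2, pow_one, pow_zero,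
      one_mul]
  have hxy : x * y ∉ center G := fun h => hxc (hx' ▸ pow_mem h k)
  have h1 : cen (x * y) ≤ cen x := fun g hg => by
    rw [← hx']; exact mem_cen.2 ((show Commute g (x * y) from mem_cen.1 hg).pow_right k)
  have h2 : cen (x * y) ≤ cen y := fun g hg => by
    rw [← hy']; exact mem_cen.2 ((show Commute g (x * y) from mem_cen.1 hg).pow_right l)
  rw [← H.eq_of_le (mul_mem hx hy) hx hxy hxc h1, H.eq_of_le (mul_mem hx hy) hy hxy hyc h2]

/-- A noncentral element has a noncentral part of prime power order with the same centralizer. -/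
theorem Hyp.exists_part (H : Hyp N r) {x : G} (hx : x ∈ N) (hxc : x ∉ center G) :
    ∃ a q k : ℕ, q.Prime ∧ orderOf (x ^ a) = q ^ k ∧ x ^ a ∉ center G ∧ cen (x ^ a) = cen x := by
  have : ¬ ∀ a : ℕ, (∃ q k : ℕ, q.Prime ∧ orderOf (x ^ a) = q ^ k) → x ^ a ∈ center G := fun h =>
    hxc (CfsgLib.FGS.mem_of_prime_powers _ x h)
  push Not at this
  obtain ⟨a, ⟨q, k, hq, hk⟩, ha⟩ := this
  refine ⟨a, q, k, hq, hk, ha, (H.eq_of_le hx (pow_mem hx a) hxc ha fun g hg => ?_).symm⟩
  exact mem_cen.2 ((show Commute g x from mem_cen.1 hg).pow_right a)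

theorem isPGroup_zpowers {w : G} {k : ℕ} (hw : orderOf w = r ^ k) : IsPGroup r (zpowers w) :=
  IsPGroup.of_card (n := k) (by rw [Nat.card_zpowers, hw])

theorem le_sylow_of_normalize (R : Sylow r G) {w : G} {k : ℕ} (hw : orderOf w = r ^ k)
    (hn : w ∈ normalizer ((R : Subgroup G) : Set G)) : w ∈ (R : Subgroup G) := by
  have hp : IsPGroup r (zpowers w ⊔ (R : Subgroup G) : Subgroup G) :=
    IsPGroup.to_sup_of_normal_right' (isPGroup_zpowers hw) R.isPGroup' (zpowers_le.2 hn)
  exact (R.3 hp le_sup_right).le (mem_sup_left (mem_zpowers w))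

theorem mem_sylow_of_commute (R : Sylow r G) {w : G} {k : ℕ} (hw : orderOf w = r ^ k)
    (hc : ∀ x ∈ (R : Subgroup G), x * w = w * x) : w ∈ (R : Subgroup G) := by
  refine le_sylow_of_normalize R hw (Subgroup.mem_normalizer_iff.2 fun x => ⟨fun hx => ?_, fun hx => ?_⟩)
  · rwa [← hc x hx, mul_inv_cancel_right]
  · have h1 := hc _ hx
    have h2 : x = w * x * w⁻¹ := by
      rw [mul_assoc (w * x), inv_mul_cancel, mul_one] at h1
      have h3 : w * x = w * (w * x * w⁻¹) := h1
      exact mul_left_cancel h3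
    rwa [h2]

theorem exists_orderOf_eq_pow (R : Sylow r G) {x : G} (hx : x ∈ (R : Subgroup G)) :
    ∃ k, orderOf x = r ^ k := by
  obtain ⟨k, hk⟩ := IsPGroup.iff_orderOf.1 R.isPGroup' ⟨x, hx⟩
  exact ⟨k, by rwa [Subgroup.orderOf_mk] at hk⟩

/-- An `r`-subgroup centralizing `x` has order at most the `r`-part of `|C(y)|`. -/
theorem Hyp.card_le_of_le_cen (H : Hyp N r) {x y : G} (hx : x ∈ N) (hy : y ∈ N)
    (hxc : x ∉ center G) (hyc : y ∉ center G) {P : Subgroup G} (hP : IsPGroup r P)
    (hle : P ≤ cen x) : Nat.card P ≤ r ^ (Nat.card (cen y)).factorization r := by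
  obtain ⟨n, hn⟩ := IsPGroup.iff_card.1 hP
  rw [hn, ← H.card_cen x hx y hy hxc hyc]
  refine Nat.pow_le_pow_right hr.out.pos ?_
  exact (hr.out.pow_dvd_iff_le_factorization Nat.card_pos.ne').1 (hn ▸ Subgroup.card_dvd_of_le hle)

/-- Some Sylow subgroup meets the centralizer of `x` in a Sylow subgroup of it. -/
theorem exists_full (x : G) : ∃ R : Sylow r G,
    Nat.card (cen x ⊓ R : Subgroup G) = r ^ (Nat.card (cen x)).factorization r := by
  obtain ⟨S⟩ := (inferInstance : Nonempty (Sylow r (cen x)))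
  set P := (S : Subgroup (cen x)).map (cen x).subtype with hP
  have hPp : IsPGroup r P := S.isPGroup'.map _
  obtain ⟨R, hR⟩ := hPp.exists_le_sylow
  refine ⟨R, le_antisymm ?_ ?_⟩
  · have h2 : IsPGroup r (cen x ⊓ R : Subgroup G) := R.isPGroup'.to_inf_right
    obtain ⟨n, hn⟩ := IsPGroup.iff_card.1 h2
    rw [hn]
    exact Nat.pow_le_pow_right hr.out.pos ((hr.out.pow_dvd_iff_le_factorization Nat.card_pos.ne').1
      (hn ▸ Subgroup.card_dvd_of_le inf_le_left))
  · rw [← S.card_eq_multiplicity,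
      ← Subgroup.card_map_of_injective (K := (S : Subgroup (cen x))) (cen x).subtype_injective]
    exact Subgroup.card_le_of_le (le_inf (Subgroup.map_subtype_le _) hR)

/-- Every noncentral element of `N` shares its centralizer with a noncentral `r`-element. -/
theorem Hyp.exists_r_elt (H : Hyp N r) {x : G} (hx : x ∈ N) (hxc : x ∉ center G) :
    ∃ w ∈ N, w ∉ center G ∧ (∃ k, orderOf w = r ^ k) ∧ cen w = cen x := by
  obtain ⟨a, q, k, hq, hk, ha, hcen⟩ := H.exists_part hx hxc
  by_cases hqr : q = r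
  · exact ⟨x ^ a, pow_mem hx a, ha, ⟨k, hqr ▸ hk⟩, hcen⟩
  by_contra hno
  obtain ⟨R, hR⟩ := exists_full (r := r) (x ^ a)
  have hsub : cen (x ^ a) ⊓ (R : Subgroup G) ≤ center G := by
    rintro w ⟨hw1, hw2⟩
    by_contra hwc
    obtain ⟨j, hj⟩ := exists_orderOf_eq_pow R hw2
    refine hno ⟨w, H.sylow_le R hw2, hwc, ⟨j, hj⟩, ?_⟩
    rw [← hcen]
    refine H.eq_of_coprime (H.sylow_le R hw2) (pow_mem hx a) hwc ha (mem_cen.1 hw1) ?_
    rw [hj, hk]
    exact Nat.Coprime.pow _ _ ((Nat.coprime_primes hr.out hq).2 (Ne.symm hqr))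
  obtain ⟨x0, hx0, hx0c⟩ := SetLike.not_le_iff_exists.1 (H.noncentral R)
  set B : Subgroup G := (cen (x ^ a) ⊓ (R : Subgroup G)) ⊔ zpowers x0 with hB
  have hBR : B ≤ R := sup_le inf_le_right (zpowers_le.2 hx0)
  have hBc : B ≤ cen x0 := sup_le (fun z hz => mem_cen.2
    ((Subgroup.mem_center_iff.1 (hsub hz) x0).symm)) (zpowers_le.2 (mem_cen.2 rfl))
  have h1 := H.card_le_of_le_cen (H.sylow_le R hx0) (pow_mem hx a) hx0c ha
    (R.isPGroup'.to_le hBR) hBc
  rw [← hR] at h1
  have heq := Subgroup.eq_of_le_of_card_ge (show cen (x ^ a) ⊓ (R : Subgroup G) ≤ B from le_sup_left) h1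
  exact hx0c (hsub (heq.symm.le (mem_sup_right (mem_zpowers x0))))

/-- `w` commutes with a noncentral element of `N` of order prime to `r`. -/
def Typed (N : Subgroup G) (r : ℕ) (w : G) : Prop :=
  ∃ y ∈ N, y ∈ cen w ∧ y ∉ center G ∧ (orderOf y).Coprime r

theorem Typed.part (H : Hyp N r) {w : G} (ht : Typed N r w) :
    ∃ y ∈ N, y ∈ cen w ∧ y ∉ center G ∧ ∃ q k, q.Prime ∧ q ≠ r ∧ orderOf y = q ^ k := by
  obtain ⟨y, hy, hyw, hyc, hco⟩ := ht
  obtain ⟨a, q, k, hq, hk, ha, -⟩ := H.exists_part hy hyc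
  refine ⟨y ^ a, pow_mem hy a, pow_mem hyw a, ha, q, k, hq, ?_, hk⟩
  rintro rfl
  have h1 : (q ^ k).Coprime q := Nat.Coprime.coprime_dvd_left (hk ▸ orderOf_pow_dvd a) hco
  rcases Nat.eq_zero_or_pos k with rfl | hk0
  · rw [pow_zero, orderOf_eq_one_iff] at hk
    exact ha (hk ▸ one_mem _)
  · exact hq.one_lt.ne' (Nat.eq_one_of_dvd_coprimes h1 (dvd_pow_self q hk0.ne') dvd_rfl)

/-- In the centralizer of a typed `r`-element all noncentral elements of `N` have the same
centralizer. -/
theorem Hyp.typed_same (H : Hyp N r) {w : G} (hw : w ∈ N) (hwc : w ∉ center G) {k : ℕ}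
    (hwk : orderOf w = r ^ k) (ht : Typed N r w) {x : G} (hx : x ∈ N) (hxw : x ∈ cen w)
    (hxc : x ∉ center G) : cen x = cen w := by
  obtain ⟨y, hy, hyw, hyc, hyo⟩ := ht
  have hyw' : cen y = cen w := by
    refine H.eq_of_coprime hy hw hyc hwc (mem_cen.1 hyw) ?_
    rw [hwk]; exact Nat.Coprime.pow_right _ hyo
  obtain ⟨a, q, j, hq, hj, ha, hcen⟩ := H.exists_part hx hxc
  rw [← hcen]
  by_cases hqr : q = r
  · rw [← hyw']
    refine H.eq_of_coprime (pow_mem hx a) hy ha hyc ?_ ?_
    · exact mem_cen.1 (pow_mem (hyw'.symm ▸ hxw : x ∈ cen y) a)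
    · rw [hj, hqr]; exact (Nat.Coprime.pow_right _ hyo).symm
  · refine H.eq_of_coprime (pow_mem hx a) hw ha hwc (mem_cen.1 (pow_mem hxw a)) ?_
    rw [hj, hwk]; exact Nat.Coprime.pow _ _ ((Nat.coprime_primes hq hr.out).2 hqr)

theorem Hyp.typed_commute (H : Hyp N r) {w : G} (hw : w ∈ N) (hwc : w ∉ center G) {k : ℕ}
    (hwk : orderOf w = r ^ k) (ht : Typed N r w) {x g : G} (hx : x ∈ N) (hxw : x ∈ cen w)
    (hg : g ∈ cen w) : g * x = x * g := by
  by_cases hxc : x ∈ center G
  · exact Subgroup.mem_center_iff.1 hxc g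
  · exact mem_cen.1 ((H.typed_same hw hwc hwk ht hx hxw hxc).symm ▸ hg)

theorem cen_eq_of_shift {d u : G} (h : d⁻¹ * u * d * u⁻¹ ∈ center G) :
    cen (d⁻¹ * u * d) = cen u := by
  rw [show d⁻¹ * u * d = (d⁻¹ * u * d * u⁻¹) * u by group,
    ← Subgroup.mem_center_iff.1 h u, cen_mul_central h]

theorem conj_mem_cen_shift {d u g : G} (h : d⁻¹ * u * d * u⁻¹ ∈ center G) :
    g ∈ cen u ↔ d⁻¹ * g * d ∈ cen u := by
  constructor
  · intro hg
    rw [← cen_eq_of_shift h]
    have := conj_mem_cen (g := d⁻¹) hg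
    rwa [inv_inv] at this
  · intro hg
    rw [← cen_eq_of_shift h] at hg
    have := conj_mem_cen (g := d) hg
    rwa [show d * (d⁻¹ * g * d) * d⁻¹ = g by group, show d * (d⁻¹ * u * d) * d⁻¹ = u by group]
      at this

/-- The pairing of `D` with an element central modulo the centre has cyclic image. -/
theorem Hyp.card_le_mul (H : Hyp N r) {u : G} (hu : u ∈ N) (huc : u ∉ center G) {k : ℕ}
    (huk : orderOf u = r ^ k) (ht : Typed N r u) (hur : u ^ r ∈ center G) (D : Subgroup G)
    (hcom : ∀ d ∈ D, d⁻¹ * u * d * u⁻¹ ∈ center G) :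
    Nat.card D ≤ r * Nat.card (cen u ⊓ D : Subgroup G) := by
  classical
  let φ : ↥D →* ↥(center G) := MonoidHom.mk' (fun d => ⟨_, hcom d d.2⟩) (fun a b => by
    apply Subtype.ext
    show (a * b : G)⁻¹ * u * (a * b) * u⁻¹ = ((a : G)⁻¹ * u * a * u⁻¹) * ((b : G)⁻¹ * u * b * u⁻¹)
    set z := (a : G)⁻¹ * u * a * u⁻¹ with hz
    have hzc : ∀ g : G, g * z = z * g := Subgroup.mem_center_iff.1 (hcom a a.2)
    calc (a * b : G)⁻¹ * u * (a * b) * u⁻¹ = (b : G)⁻¹ * z * u * b * u⁻¹ := by rw [hz]; group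
      _ = z * ((b : G)⁻¹ * u * b * u⁻¹) := by rw [hzc (b : G)⁻¹]; group)
  have hφ : ∀ d, (φ d : G) = (d : G)⁻¹ * u * d * u⁻¹ := fun d => rfl
  have hker : ∀ d, φ d = 1 ↔ (d : G) ∈ cen u := by
    intro d
    rw [mem_cen, ← Subtype.coe_inj, hφ, Subgroup.coe_one]
    constructor
    · intro e
      calc (d : G) * u = d * (((d : G)⁻¹ * u * d * u⁻¹) * u) := by rw [e, one_mul]
        _ = u * d := by group
    · intro e
      rw [mul_assoc (d : G)⁻¹, ← e]; group
  have hφr : ∀ d, φ d ^ r = 1 := by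
    intro d
    apply Subtype.ext
    rw [SubgroupClass.coe_pow, hφ, Subgroup.coe_one]
    set z := (d : G)⁻¹ * u * d * u⁻¹ with hz
    have h1 : Commute u z := Subgroup.mem_center_iff.1 (hcom d d.2) u
    have h2 : z * u = (d : G)⁻¹ * u * d := by rw [hz]; group
    have h3 := congrArg (· ^ r) h2
    simp only [h1.symm.mul_pow] at h3
    rw [show ((d : G)⁻¹ * u * d) ^ r = (d : G)⁻¹ * u ^ r * d by
      simpa using (conj_pow (a := (d : G)⁻¹) (b := u) (i := r))] at h3
    rw [mul_assoc (d : G)⁻¹, ← Subgroup.mem_center_iff.1 hur (d : G), inv_mul_cancel_left] at h3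
    exact mul_eq_right.1 h3
  have hkcard : Nat.card φ.ker = Nat.card (cen u ⊓ D : Subgroup G) := by
    rw [← Subgroup.card_map_of_injective (K := φ.ker) D.subtype_injective]
    congr 2
    ext g
    constructor
    · rintro ⟨d, hd, rfl⟩; exact ⟨(hker d).1 hd, d.2⟩
    · rintro ⟨h1, h2⟩; exact ⟨⟨g, h2⟩, (hker _).2 h1, rfl⟩
  have hrange : Nat.card φ.range ≤ r := by
    by_contra hlt
    push Not at hlt
    obtain ⟨a, hane⟩ : ∃ a, φ a ≠ 1 := by
      by_contra hall
      push Not at hall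
      have : φ.range = ⊥ := by
        rw [eq_bot_iff]; rintro _ ⟨d, rfl⟩; exact hall d
      rw [this, Subgroup.card_bot] at hlt
      exact absurd hlt (Nat.not_lt.2 hr.out.one_lt.le)
    have hao : orderOf (φ a) = r := orderOf_eq_prime (hφr a) hane
    obtain ⟨b, hb⟩ : ∃ b, φ b ∉ zpowers (φ a) := by
      by_contra hall
      push Not at hall
      have : φ.range ≤ zpowers (φ a) := by rintro _ ⟨d, rfl⟩; exact hall d
      have h := Subgroup.card_le_of_le this
      rw [Nat.card_zpowers, hao] at h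
      omega
    have hbne : φ b ≠ 1 := fun e => hb (e ▸ one_mem _)
    have hbo : orderOf (φ b) = r := orderOf_eq_prime (hφr b) hbne
    -- the abelian group on which `D` acts
    let M : Subgroup G := cen u ⊓ N
    letI : CommGroup M := { (inferInstance : Group M) with
      mul_comm := fun x y => Subtype.ext (H.typed_commute hu huc huk ht y.2.2 y.2.1 x.2.1) }
    have hact : ∀ (d : ↥D) (x : M), (d : G) * x * (d : G)⁻¹ ∈ M := fun d x =>
      ⟨(conj_mem_cen_shift (hcom d d.2)).2 (by
        rw [show (d : G)⁻¹ * ((d : G) * x * (d : G)⁻¹) * d = x by group]; exact x.2.1),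
        (inferInstance : N.Normal).conj_mem _ x.2.2 _⟩
    let act : ↥D → (M →* M) := fun d => MonoidHom.mk' (fun x => ⟨_, hact d x⟩)
      (fun x y => Subtype.ext (show (d : G) * (x * y) * (d : G)⁻¹ = _ * _ by group))
    have hact_mul : ∀ d e x, act (d * e) x = act d (act e x) := fun d e x => Subtype.ext
      (show (d * e : G) * x * (d * e : G)⁻¹ = (d : G) * ((e : G) * x * (e : G)⁻¹) * (d : G)⁻¹ by
        group)
    have hact_eq : ∀ d e x, φ d = φ e → act d x = act e x := by
      intro d e x hde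
      have h1 : ((d⁻¹ * e : ↥D) : G) ∈ cen u := (hker _).1 (by
        rw [map_mul, map_inv, hde, inv_mul_cancel])
      have h2 : act (d⁻¹ * e) x = x := Subtype.ext (by
        show ((d⁻¹ * e : ↥D) : G) * x * ((d⁻¹ * e : ↥D) : G)⁻¹ = x
        rw [H.typed_commute hu huc huk ht x.2.2 x.2.1 h1, mul_inv_cancel_right])
      calc act d x = act d (act (d⁻¹ * e) x) := by rw [h2]
        _ = act e x := by rw [← hact_mul, mul_inv_cancel_left]
    obtain ⟨y, hyN, hyu, hyc, hyo⟩ := ht
    let f : ZMod r → ZMod r → M := fun i j => act (a ^ i.val * b ^ j.val) ⟨y, hyu, hyN⟩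
    have hαp : ∀ (g : ↥(center G)), g ^ r = 1 → ∀ m : ℕ, g ^ ((m : ZMod r)).val = g ^ m := by
      intro g hg m
      rw [ZMod.val_natCast]
      exact (pow_eq_pow_mod m hg).symm
    have hstep : ∀ (d : ↥D) (s t : ℕ) (i j : ZMod r), φ d = φ a ^ s * φ b ^ t →
        act d (f i j) = f (i + s) (j + t) := by
      intro d s t i j hd
      show act d (act _ _) = _
      rw [← hact_mul]
      refine hact_eq _ _ _ ?_
      have hi : φ a ^ (i + s).val = φ a ^ (i.val + s) := by
        rw [← hαp _ (hφr a) (i.val + s), Nat.cast_add, ZMod.natCast_zmod_val]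
      have hj : φ b ^ (j + t).val = φ b ^ (j.val + t) := by
        rw [← hαp _ (hφr b) (j.val + t), Nat.cast_add, ZMod.natCast_zmod_val]
      simp only [map_mul, map_pow, hd, hi, hj, pow_add]
      have hc : ∀ x y : ↥(center G), Commute x y := fun x y =>
        Subtype.ext (Subgroup.mem_center_iff.1 y.2 x)
      rw [(hc (φ b ^ t) (φ a ^ i.val)).mul_mul_mul_comm, (hc (φ a ^ s) (φ a ^ i.val)).eq,
        (hc (φ b ^ t) (φ b ^ j.val)).eq]
    have hfix : ∀ (d : ↥D) (x : M), φ d ≠ 1 → act d x = x → (x : G) ∈ center G := by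
      intro d x hd hx
      by_contra hxc
      have h1 : (d : G) * x * (d : G)⁻¹ = x := congrArg Subtype.val hx
      have h2 : (d : G) ∈ cen (x : G) := mem_cen.2 (mul_inv_eq_iff_eq_mul.1 h1)
      rw [H.typed_same hu huc huk ⟨y, hyN, hyu, hyc, hyo⟩ x.2.2 x.2.1 hxc] at h2
      exact hd ((hker d).2 h2)
    let Z : Subgroup M := (center G).subgroupOf M
    have hline : ∀ k : ZMod r, ∏ i, f i (k * i) ∈ Z := by
      intro k
      have he : φ (a * b ^ k.val) ≠ 1 := by
        intro e
        rw [map_mul, map_pow] at e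
        rcases eq_or_ne k.val 0 with h0 | h0
        · rw [h0, pow_zero, mul_one] at e; exact hane e
        · apply hb
          have hc : (orderOf (φ b)).Coprime k.val := by
            rw [hbo]
            exact (hr.out.coprime_iff_not_dvd).2 fun hd =>
              absurd (Nat.le_of_dvd (Nat.pos_of_ne_zero h0) hd) (Nat.not_le.2 k.val_lt)
          obtain ⟨m, hm⟩ := exists_pow_eq_self_of_coprime hc.symm
          rw [← hm, eq_inv_of_mul_eq_one_right e]
          exact pow_mem (inv_mem (mem_zpowers _)) m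
      refine hfix _ _ he ?_
      rw [map_prod]
      refine Fintype.prod_equiv (Equiv.addRight 1) _ _ fun i => ?_
      rw [hstep _ 1 k.val i (k * i) (by rw [map_mul, map_pow, pow_one])]
      simp [mul_add]
    have hcol : ∏ j, f 0 j ∈ Z := by
      refine hfix b _ hbne ?_
      rw [map_prod]
      refine Fintype.prod_equiv (Equiv.addRight 1) _ _ fun j => ?_
      rw [hstep b 0 1 0 j (by simp)]
      simp
    have hall : ∏ i, ∏ j, f i j ∈ Z := by
      refine hfix a _ hane ?_
      rw [map_prod]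
      refine Fintype.prod_equiv (Equiv.addRight 1) _ _ fun i => ?_
      rw [map_prod]
      refine Finset.prod_congr rfl fun j _ => ?_
      rw [hstep a 1 0 i j (by simp)]
      simp
    have hid : (∏ k, ∏ i, f i (k * i)) * ∏ j, f 0 j = f 0 0 ^ r * ∏ i, ∏ j, f i j := by
      rw [Finset.prod_comm, Finset.mem_univ (0 : ZMod r) |> fun h =>
        (Finset.mul_prod_erase _ (fun i : ZMod r => ∏ k, f i (k * i)) h).symm,
        (Finset.mul_prod_erase _ (fun i : ZMod r => ∏ j, f i j) (Finset.mem_univ 0)).symm]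
      rw [Finset.prod_congr rfl (fun i (hi : i ∈ (Finset.univ : Finset (ZMod r)).erase 0) =>
        Fintype.prod_equiv (Equiv.mulRight₀ i (Finset.ne_of_mem_erase hi)) (fun k => f i (k * i))
          (fun j => f i j) (fun k => rfl))]
      simp only [mul_zero, Finset.prod_const, Finset.card_univ, ZMod.card]
      ac_rfl
    have hyr : f 0 0 ^ r ∈ Z := by
      have h1 : (∏ k, ∏ i, f i (k * i)) * ∏ j, f 0 j ∈ Z :=
        mul_mem (prod_mem fun k _ => hline k) hcol
      rw [hid] at h1
      simpa using mul_mem h1 (inv_mem hall)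
    have hyr' : y ^ r ∈ center G := by
      have : ((f 0 0 ^ r : M) : G) = y ^ r := by simp [f, act]
      exact this ▸ hyr
    obtain ⟨m, hm⟩ := exists_pow_eq_self_of_coprime hyo.symm
    exact hyc (hm ▸ pow_mem hyr' m)
  calc Nat.card D = Nat.card φ.ker * φ.ker.index := (Subgroup.card_mul_index _).symm
    _ ≤ Nat.card (cen u ⊓ D : Subgroup G) * r := by
        rw [hkcard, Subgroup.index_ker]; exact Nat.mul_le_mul_left _ hrange
    _ = _ := mul_comm _ _

theorem mem_center_of_map {g : G} (h : QuotientGroup.mk' (center G) g = 1) : g ∈ center G :=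
  (QuotientGroup.eq_one_iff g).1 h

/-- An element central modulo the centre of order `r` modulo the centre. -/
theorem exists_central_shift {P Q : Subgroup G} (hP : IsPGroup r P) (hQP : Q ≤ P)
    (hn : ∀ d ∈ P, ∀ x ∈ Q, d * x * d⁻¹ ∈ Q) (hQ : ¬ Q ≤ center G) :
    ∃ u ∈ Q, u ∉ center G ∧ u ^ r ∈ center G ∧ ∀ d ∈ P, d⁻¹ * u * d * u⁻¹ ∈ center G := by
  set π := QuotientGroup.mk' (center G) with hπ
  set P' := P.map π with hP'
  set Q' := (Q.map π).subgroupOf P' with hQ'
  have hP'p : IsPGroup r P' := hP.map _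
  haveI : Q'.Normal := by
    constructor
    intro x hx d
    rw [hQ', mem_subgroupOf] at hx ⊢
    obtain ⟨x0, hx0, hxe⟩ := mem_map.1 hx
    obtain ⟨d0, hd0, hde⟩ := mem_map.1 d.2
    refine mem_map.2 ⟨d0 * x0 * d0⁻¹, hn d0 hd0 x0 hx0, ?_⟩
    simp [hxe, hde]
  have hQne : Q' ≠ ⊥ := by
    obtain ⟨x, hx, hxc⟩ := SetLike.not_le_iff_exists.1 hQ
    intro hb
    have : (⟨π x, mem_map_of_mem π (hQP hx)⟩ : P') ∈ Q' := mem_subgroupOf.2 (mem_map_of_mem π hx)
    rw [hb, mem_bot, Subtype.ext_iff] at this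
    exact hxc (mem_center_of_map this)
  obtain ⟨v, hv, hvo⟩ := CfsgLib.PGroup.exists_orderOf_eq hP'p
    (CfsgLib.PGroup.inf_center_ne_bot hP'p Q' hQne)
  obtain ⟨u, hu, hue⟩ := mem_map.1 (mem_subgroupOf.1 (Subgroup.mem_inf.1 hv).1)
  refine ⟨u, hu, fun huc => ?_, mem_center_of_map ?_, fun d hd => mem_center_of_map ?_⟩
  · have h1 : (v : G ⧸ center G) = 1 := by
      rw [← hue]; exact (QuotientGroup.eq_one_iff u).2 huc
    have h2 : v = 1 := Subtype.ext h1
    rw [h2, orderOf_one] at hvo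
    exact hr.out.ne_one hvo.symm
  · rw [map_pow, hue, ← SubgroupClass.coe_pow, ← hvo, pow_orderOf_eq_one, Subgroup.coe_one]
  · have h1 := congrArg Subtype.val
      (Subgroup.mem_center_iff.1 (Subgroup.mem_inf.1 hv).2 ⟨π d, mem_map_of_mem π hd⟩)
    simp only [Subgroup.coe_mul] at h1
    rw [map_mul, map_mul, map_mul, map_inv, map_inv, hue, mul_assoc (π d)⁻¹, ← h1]
    group

theorem card_mul_relIndex {B D : Subgroup G} (h : B ≤ D) :
    Nat.card B * B.relIndex D = Nat.card D := by
  rw [← Subgroup.relIndex_bot_left B, ← Subgroup.relIndex_bot_left D,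
    Subgroup.relIndex_mul_relIndex ⊥ B D bot_le h]

theorem card_le_inf_mul {A B D : Subgroup G} (hA : A ≤ D) (hB : B ≤ D) {n : ℕ}
    (h : Nat.card D ≤ n * Nat.card B) : Nat.card A ≤ n * Nat.card (A ⊓ B : Subgroup G) := by
  have h1 : B.relIndex A ≤ B.relIndex D :=
    Subgroup.relIndex_le_of_le_right hA Subgroup.FiniteIndex.index_ne_zero
  have h2 : B.relIndex D ≤ n := by
    refine Nat.le_of_mul_le_mul_left ?_ (Nat.card_pos (α := B))
    rw [card_mul_relIndex hB, mul_comm]; exact h
  rw [← card_mul_relIndex (inf_le_left : A ⊓ B ≤ A), Subgroup.inf_relIndex_left, mul_comm n]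
  exact Nat.mul_le_mul_left _ (h1.trans h2)

theorem mul_card_le_of_lt {A B : Subgroup G} (hB : IsPGroup r B) (h : A < B) :
    r * Nat.card A ≤ Nat.card B := by
  obtain ⟨n, hn⟩ := IsPGroup.iff_card.1 hB
  obtain ⟨k, hk⟩ := IsPGroup.iff_card.1 (hB.to_le h.le)
  have hlt : Nat.card A < Nat.card B := by
    refine lt_of_le_of_ne (Subgroup.card_le_of_le h.le) fun e => h.ne ?_
    exact Subgroup.eq_of_le_of_card_ge h.le e.ge
  rw [hn, hk] at hlt ⊢
  rw [← pow_succ']
  exact Nat.pow_le_pow_right hr.out.pos ((Nat.pow_lt_pow_iff_right hr.out.one_lt).1 hlt)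

theorem mul_card_center_le (R : Sylow r G) {x : G} (hx : x ∈ (R : Subgroup G))
    (hxc : x ∉ center G) :
    r * Nat.card (center G ⊓ R : Subgroup G) ≤ Nat.card (cen x ⊓ R : Subgroup G) := by
  refine mul_card_le_of_lt R.isPGroup'.to_inf_right (lt_of_le_not_ge ?_ fun h => ?_)
  · exact le_inf (fun z hz => mem_cen.2 (Subgroup.mem_center_iff.1 hz.1 x).symm) inf_le_right
  · exact hxc (h ⟨mem_cen.2 rfl, hx⟩).1

theorem le_zpowers_sup (R : Sylow r G) {x : G} (hx : x ∈ (R : Subgroup G))
    (hxc : x ∉ center G)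
    (h : Nat.card (cen x ⊓ R : Subgroup G) ≤ r * Nat.card (center G ⊓ R : Subgroup G)) :
    cen x ⊓ (R : Subgroup G) ≤ zpowers x ⊔ (center G ⊓ R) := by
  have hle : zpowers x ⊔ (center G ⊓ R) ≤ cen x ⊓ (R : Subgroup G) := sup_le
    (zpowers_le.2 ⟨mem_cen.2 rfl, hx⟩)
    (le_inf (fun z hz => mem_cen.2 (Subgroup.mem_center_iff.1 hz.1 x).symm) inf_le_right)
  have h2 : r * Nat.card (center G ⊓ R : Subgroup G) ≤
      Nat.card (zpowers x ⊔ (center G ⊓ R) : Subgroup G) := by
    refine mul_card_le_of_lt (R.isPGroup'.to_le (hle.trans inf_le_right))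
      (lt_of_le_not_ge le_sup_right fun h' => ?_)
    exact hxc (h' (mem_sup_left (mem_zpowers x))).1
  exact (Subgroup.eq_of_le_of_card_ge hle (h.trans h2)).ge

theorem Hyp.mem_of_full (H : Hyp N r) (R : Sylow r G) {w : G} (hw : w ∈ N) (hwc : w ∉ center G)
    {k : ℕ} (hwk : orderOf w = r ^ k)
    (hfull : Nat.card (cen w ⊓ R : Subgroup G) = r ^ (Nat.card (cen w)).factorization r) :
    w ∈ (R : Subgroup G) := by
  have hn : zpowers w ≤ normalizer ((cen w ⊓ R : Subgroup G) : Set G) := by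
    have hfix : ∀ x ∈ cen w, w * x * w⁻¹ = x := fun x hx => by
      rw [← mem_cen.1 hx, mul_inv_cancel_right]
    refine zpowers_le.2 (Subgroup.mem_normalizer_iff.2 fun x => ?_)
    constructor
    · intro hx; rwa [hfix x hx.1]
    · intro hx
      have h2 : w⁻¹ * (w * x * w⁻¹) * w = w * x * w⁻¹ := by
        rw [mul_assoc, mem_cen.1 hx.1, inv_mul_cancel_left]
      rw [show w⁻¹ * (w * x * w⁻¹) * w = x by group] at h2
      rwa [← h2] at hx
  have hp : IsPGroup r (zpowers w ⊔ (cen w ⊓ R) : Subgroup G) :=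
    IsPGroup.to_sup_of_normal_right' (isPGroup_zpowers hwk) R.isPGroup'.to_inf_right hn
  have h1 := H.card_le_of_le_cen hw hw hwc hwc hp
    (sup_le (zpowers_le.2 (mem_cen.2 rfl)) inf_le_left)
  rw [← hfull] at h1
  exact ((Subgroup.eq_of_le_of_card_ge le_sup_right h1).ge (mem_sup_left (mem_zpowers w))).2

/-- No noncentral element centralizes a Sylow subgroup. -/
def NoBig (G : Type*) [Group G] (r : ℕ) : Prop :=
  ∀ R : Sylow r G, ∀ x ∈ (R : Subgroup G), (R : Subgroup G) ≤ cen x → x ∈ center G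

theorem Hyp.part_lt_card (H : Hyp N r) (hZ : NoBig G r) (R : Sylow r G) {x : G} (hx : x ∈ N)
    (hxc : x ∉ center G) :
    r ^ (Nat.card (cen x)).factorization r < Nat.card (R : Subgroup G) := by
  obtain ⟨w, hw, hwc, ⟨k, hk⟩, hwx⟩ := H.exists_r_elt hx hxc
  obtain ⟨S, hS⟩ := exists_full (r := r) w
  rw [← hwx, ← hS, show Nat.card (R : Subgroup G) = Nat.card (S : Subgroup G) by
    rw [R.card_eq_multiplicity, S.card_eq_multiplicity]]
  refine lt_of_le_of_ne (Subgroup.card_le_of_le inf_le_right) fun e => hwc ?_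
  exact hZ S w (H.mem_of_full S hw hwc hk hS)
    ((Subgroup.eq_of_le_of_card_ge inf_le_right e.ge).ge.trans inf_le_left)

theorem Hyp.exists_conj_sylow (H : Hyp N r) (R R' : Sylow r G) :
    ∃ g ∈ N, ∀ x, x ∈ (R' : Subgroup G) → g⁻¹ * x * g ∈ (R : Subgroup G) := by
  obtain ⟨g, hg⟩ :=
    MulAction.exists_smul_eq ↥N (R.subtype (H.sylow_le R)) (R'.subtype (H.sylow_le R'))
  refine ⟨g, g.2, fun x hx => ?_⟩
  have h1 : (⟨x, H.sylow_le R' hx⟩ : N) ∈ ((g • R.subtype (H.sylow_le R) : Sylow r N) : Subgroup N) := by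
    rw [hg, Sylow.coe_subtype, mem_subgroupOf]; exact hx
  rw [Sylow.smul_def, Sylow.pointwise_smul_def, Subgroup.mem_pointwise_smul_iff_inv_smul_mem,
    Sylow.coe_subtype, mem_subgroupOf] at h1
  simpa using h1

/-- An untyped element central modulo the centre in a Sylow subgroup with small centralizer there
excludes typed elements from that Sylow subgroup. -/
theorem Hyp.no_untyped_shift (H : Hyp N r) (R : Sylow r G) {z : G} (hz : z ∈ (R : Subgroup G))
    (hzc : z ∉ center G) (hzr : z ^ r ∈ center G)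
    (hcom : ∀ d ∈ (R : Subgroup G), d⁻¹ * z * d * z⁻¹ ∈ center G)
    (hsmall : Nat.card (cen z ⊓ R : Subgroup G) ≤ r * Nat.card (center G ⊓ R : Subgroup G))
    (hun : ¬ Typed N r z) {w : G} (hw : w ∈ (R : Subgroup G)) (hwc : w ∉ center G)
    (ht : Typed N r w) : False := by
  obtain ⟨k, hk⟩ := exists_orderOf_eq_pow R hw
  have hwN := H.sylow_le R hw
  have hzN := H.sylow_le R hz
  obtain ⟨y, hyN, hyw, hyc, q, j, hq, hqr, hyj⟩ := ht.part H
  haveI : Fact q.Prime := ⟨hq⟩
  set π := QuotientGroup.mk' (center G) with hπ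
  let E : Subgroup G := N ⊓ (Subgroup.centralizer ({π z} : Set (G ⧸ center G))).comap π
  have hmemE : ∀ g, g ∈ E ↔ g ∈ N ∧ g⁻¹ * z * g * z⁻¹ ∈ center G := by
    intro g
    show g ∈ N ∧ π g ∈ Subgroup.centralizer ({π z} : Set (G ⧸ center G)) ↔ _
    rw [mem_centralizer_singleton_iff]
    refine and_congr_right fun _ => ⟨fun e => mem_center_of_map ?_, fun hc => ?_⟩
    · rw [← hπ, map_mul, map_mul, map_mul, map_inv, map_inv, mul_assoc (π g)⁻¹, ← e]; group
    · have h1 : π (g⁻¹ * z * g * z⁻¹) = 1 := (QuotientGroup.eq_one_iff _).2 hc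
      rw [map_mul, map_mul, map_mul, map_inv, map_inv, mul_assoc (π g)⁻¹, mul_inv_eq_one] at h1
      rw [← mul_assoc, mul_assoc] at h1
      exact (inv_mul_eq_iff_eq_mul.1 h1).symm
  have hRE : (R : Subgroup G) ≤ E := fun d hd => (hmemE d).2 ⟨H.sylow_le R hd, hcom d hd⟩
  have hcentral : ∀ g ∈ E, (orderOf g).Coprime r → g ∈ center G := by
    intro g hg hgo
    obtain ⟨hgN, hgc⟩ := (hmemE g).1 hg
    by_contra hgne
    refine hun ⟨g, hgN, mem_cen.2 ?_, hgne, hgo⟩
    set t := g⁻¹ * z * g * z⁻¹ with ht'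
    have htc : ∀ x, x * t = t * x := Subgroup.mem_center_iff.1 hgc
    have hiter : ∀ i : ℕ, (g ^ i)⁻¹ * z * g ^ i = t ^ i * z := by
      intro i
      induction i with
      | zero => simp
      | succ i ih =>
        have hc : ∀ x, x * t ^ i = t ^ i * x := fun x => (show Commute x t from htc x).pow_right i
        calc (g ^ (i + 1))⁻¹ * z * g ^ (i + 1) = g⁻¹ * ((g ^ i)⁻¹ * z * g ^ i) * g := by group
          _ = g⁻¹ * t ^ i * z * g := by rw [ih]; group
          _ = t ^ i * (g⁻¹ * z * g) := by rw [hc g⁻¹]; group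
          _ = t ^ i * (t * z) := by rw [ht']; group
          _ = _ := by rw [pow_succ]; group
    have h1 : t ^ orderOf g = 1 := by
      have := hiter (orderOf g)
      rw [pow_orderOf_eq_one] at this
      simpa using this.symm
    have h2 : t ^ r = 1 := by
      have h3 : (g⁻¹ * z * g) ^ r = g⁻¹ * z ^ r * g := by
        simpa using (conj_pow (a := g⁻¹) (b := z) (i := r))
      rw [show g⁻¹ * z * g = t * z by rw [ht']; group, (show Commute t z from (htc z).symm).mul_pow,
        mul_assoc g⁻¹, ← Subgroup.mem_center_iff.1 hzr g, inv_mul_cancel_left] at h3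
      exact mul_eq_right.1 h3
    have h4 := pow_gcd_eq_one.2 ⟨h1, h2⟩
    rw [hgo, pow_one, ht', mul_inv_eq_one] at h4
    rw [mul_assoc] at h4
    exact inv_mul_eq_iff_eq_mul.1 h4 |>.symm
  have hEN : E ≤ normalizer ((R : Subgroup G) : Set G) := by
    set K : Subgroup G := (R : Subgroup G) ⊔ (E ⊓ center G) with hK
    have hKn : K ≤ normalizer ((R : Subgroup G) : Set G) :=
      sup_le Subgroup.le_normalizer fun c hc => Subgroup.mem_normalizer_iff.2 fun x => by
        rw [← Subgroup.mem_center_iff.1 hc.2 x, mul_inv_cancel_right]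
    refine le_trans (Subgroup.eq_of_le_of_card_ge (sup_le hRE inf_le_left) (Nat.le_of_dvd
      Nat.card_pos ((Nat.dvd_iff_prime_pow_dvd_dvd _ _).2 fun p n hp hpn => ?_))).ge hKn
    haveI : Fact p.Prime := ⟨hp⟩
    by_cases hpr : p = r
    · subst hpr
      refine dvd_trans ?_ (Subgroup.card_dvd_of_le (le_sup_left : (R : Subgroup G) ≤ K))
      rw [R.card_eq_multiplicity]
      exact pow_dvd_pow _ ((hp.pow_dvd_iff_le_factorization Nat.card_pos.ne').1
        (hpn.trans (Subgroup.card_subgroup_dvd_card E)))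
    · obtain ⟨Q⟩ := (inferInstance : Nonempty (Sylow p E))
      refine dvd_trans (Q.pow_dvd_card_of_pow_dvd_card hpn) ?_
      rw [← Subgroup.card_map_of_injective (K := (Q : Subgroup E)) E.subtype_injective]
      refine Subgroup.card_dvd_of_le fun x hx => mem_sup_right ?_
      obtain ⟨g, hg, rfl⟩ := hx
      refine ⟨g.2, hcentral _ g.2 ?_⟩
      obtain ⟨i, hi⟩ := exists_orderOf_eq_pow Q hg
      show (orderOf (g : G)).Coprime r
      rw [Subgroup.orderOf_coe, hi]
      exact Nat.Coprime.pow_left _ ((Nat.coprime_primes hp hr.out).2 hpr)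
  -- a Sylow subgroup of the centralizer of `z` centralizes `R`
  obtain ⟨S, hS⟩ := exists_full (r := q) z
  have hsR : ∀ s ∈ cen z ⊓ (S : Subgroup G), (R : Subgroup G) ≤ cen s := by
    rintro s ⟨hsz, hsS⟩ x hx
    obtain ⟨i, hi⟩ := exists_orderOf_eq_pow S hsS
    have hzs : s * z * s⁻¹ = z := by rw [mem_cen.1 hsz, mul_inv_cancel_right]
    set x' := s * x * s⁻¹ with hx'
    have hx'E : x' ∈ E := by
      refine (hmemE _).2 ⟨(inferInstance : N.Normal).conj_mem _ (H.sylow_le R hx) _, ?_⟩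
      have h1 : x'⁻¹ * z * x' * z⁻¹ = s * (x⁻¹ * z * x * z⁻¹) * s⁻¹ := by
        conv_lhs => rw [← hzs]
        rw [hx']; group
      rw [h1, Subgroup.mem_center_iff.1 (hcom x hx) s, mul_inv_cancel_right]
      exact hcom x hx
    obtain ⟨l, hl⟩ := exists_orderOf_eq_pow R hx
    have hx'R : x' ∈ (R : Subgroup G) := le_sylow_of_normalize R (k := l)
      (by rw [hx']; exact (MulEquiv.orderOf_eq (MulAut.conj s) x).trans hl) (hEN hx'E)
    set b := x⁻¹ * x' with hb
    have hbz : b ∈ cen z ⊓ (R : Subgroup G) := by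
      refine Subgroup.mem_inf.2 ⟨mem_cen.2 ?_, mul_mem (inv_mem hx) hx'R⟩
      set c := x⁻¹ * z * x * z⁻¹ with hc
      have hcc : ∀ g, g * c = c * g := Subgroup.mem_center_iff.1 (hcom x hx)
      have h1 : x'⁻¹ * z * x' = c * z := by
        calc x'⁻¹ * z * x' = s * (x⁻¹ * (s⁻¹ * z * s) * x) * s⁻¹ := by rw [hx']; group
          _ = s * (c * z) * s⁻¹ := by
            rw [show s⁻¹ * z * s = z by rw [mul_assoc, ← mem_cen.1 hsz, inv_mul_cancel_left], hc]
            group
          _ = c * (s * z * s⁻¹) := by rw [← mul_assoc s c, hcc s]; group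
          _ = c * z := by rw [hzs]
      have h2 : x⁻¹ * z * x = c * z := by rw [hc]; group
      calc b * z = x⁻¹ * x' * z := rfl
        _ = x⁻¹ * (x' * (x'⁻¹ * z * x') * c⁻¹) := by
            rw [h1, mul_assoc x', mul_assoc c, ← hcc (z * c⁻¹)]; group
        _ = x⁻¹ * z * x' * c⁻¹ := by group
        _ = x⁻¹ * z * x * b * c⁻¹ := by rw [hb]; group
        _ = z * b := by
            rw [h2]
            calc c * z * b * c⁻¹ = (c * (z * b)) * c⁻¹ := by group
              _ = ((z * b) * c) * c⁻¹ := by rw [hcc (z * b)]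
              _ = z * b := by group
    have hbs : Commute s b := by
      have h3 : zpowers z ⊔ (center G ⊓ R) ≤ cen s := sup_le (zpowers_le.2 (cen_comm hsz))
        fun c hc => mem_cen.2 (Subgroup.mem_center_iff.1 hc.1 s).symm
      exact (mem_cen.1 (h3 (le_zpowers_sup R hz hzc hsmall hbz))).symm
    have hiter : ∀ n : ℕ, s ^ n * x * (s ^ n)⁻¹ = x * b ^ n := by
      intro n
      induction n with
      | zero => simp
      | succ n ih =>
        calc s ^ (n + 1) * x * (s ^ (n + 1))⁻¹ = s * (s ^ n * x * (s ^ n)⁻¹) * s⁻¹ := by group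
          _ = x' * (s * b ^ n * s⁻¹) := by rw [ih, hx']; group
          _ = x * b * b ^ n := by
              rw [(hbs.pow_right n).eq, mul_inv_cancel_right, hb]; group
          _ = _ := by rw [pow_succ', mul_assoc]
    have h5 : b ^ q ^ i = 1 := by
      have := hiter (q ^ i)
      rw [← hi, pow_orderOf_eq_one] at this
      rw [← hi]
      simpa using this.symm
    obtain ⟨l', hl'⟩ := exists_orderOf_eq_pow R hbz.2
    have h6 : b = 1 := by
      have := pow_gcd_eq_one.2 ⟨h5, (hl' ▸ pow_orderOf_eq_one b : b ^ r ^ l' = 1)⟩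
      rwa [Nat.Coprime.gcd_eq_one (Nat.Coprime.pow _ _ ((Nat.coprime_primes hq hr.out).2 hqr)),
        pow_one] at this
    rw [hb, inv_mul_eq_one] at h6
    exact mem_cen.2 (mul_inv_eq_iff_eq_mul.1 h6.symm).symm
  have hSw : cen z ⊓ (S : Subgroup G) ≤ cen w := fun s hs => cen_comm (hsR s hs hw)
  have hSy : cen z ⊓ (S : Subgroup G) ≤ cen y := fun s hs =>
    mem_cen.2 (H.typed_commute hwN hwc hk ht hyN hyw (hSw hs))
  set B := cen z ⊓ (S : Subgroup G) with hB
  have hn : zpowers y ≤ normalizer (B : Set G) := by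
    refine zpowers_le.2 (Subgroup.mem_normalizer_iff.2 fun x => ?_)
    constructor
    · intro hx
      rwa [← mem_cen.1 (hSy hx), mul_inv_cancel_right]
    · intro hx
      have h2 : y⁻¹ * (y * x * y⁻¹) * y = y * x * y⁻¹ := by
        rw [mul_assoc, mem_cen.1 (hSy hx), inv_mul_cancel_left]
      rw [show y⁻¹ * (y * x * y⁻¹) * y = x by group] at h2
      rwa [← h2] at hx
  have hp : IsPGroup q (zpowers y ⊔ B : Subgroup G) :=
    IsPGroup.to_sup_of_normal_right' (IsPGroup.of_card (n := j) (by rw [Nat.card_zpowers, hyj]))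
      S.isPGroup'.to_inf_right hn
  obtain ⟨n, hn'⟩ := IsPGroup.iff_card.1 hp
  have hdvd : q ^ n ∣ Nat.card (cen w) := hn' ▸ Subgroup.card_dvd_of_le
    (sup_le (zpowers_le.2 hyw) hSw)
  rw [H.card_cen w hwN z hzN hwc hzc] at hdvd
  have hle : Nat.card (zpowers y ⊔ B : Subgroup G) ≤ Nat.card B := by
    rw [hn', hS]
    exact Nat.pow_le_pow_right hq.pos ((hq.pow_dvd_iff_le_factorization Nat.card_pos.ne').1 hdvd)
  have hyB : y ∈ B := (Subgroup.eq_of_le_of_card_ge le_sup_right hle).ge
    (mem_sup_left (mem_zpowers y))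
  exact hun ⟨y, hyN, hyB.1, hyc, by
    rw [hyj]; exact Nat.Coprime.pow_left _ ((Nat.coprime_primes hq hr.out).2 hqr)⟩

theorem card_eq_inf_mul_map (S : Subgroup G) (N : Subgroup G) [N.Normal] :
    Nat.card S = Nat.card (S ⊓ N : Subgroup G) * Nat.card (S.map (QuotientGroup.mk' N)) := by
  rw [← card_mul_relIndex (inf_le_left : S ⊓ N ≤ S), Subgroup.inf_relIndex_left,
    ← Subgroup.relIndex_ker, QuotientGroup.ker_mk']

theorem Hyp.factorization_inf (H : Hyp N r) (x : G) :
    (Nat.card (cen x ⊓ N : Subgroup G)).factorization r = (Nat.card (cen x)).factorization r := by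
  refine le_antisymm ?_ ?_
  · exact (hr.out.pow_dvd_iff_le_factorization Nat.card_pos.ne').1
      ((Nat.ordProj_dvd _ r).trans (Subgroup.card_dvd_of_le inf_le_left))
  · obtain ⟨R, hR⟩ := exists_full (r := r) x
    exact (hr.out.pow_dvd_iff_le_factorization Nat.card_pos.ne').1
      (hR ▸ Subgroup.card_dvd_of_le (inf_le_inf_left _ (H.sylow_le R)))

/-- Mutually normalizing typed elements have centralizers meeting `N` in groups of the same order,
one inequality. -/
theorem Hyp.factorization_line_le (H : Hyp N r) (R : Sylow r G) {u v : G}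
    (hu : u ∈ (R : Subgroup G)) (huc : u ∉ center G) (htu : Typed N r u)
    (hfull : Nat.card (cen u ⊓ R : Subgroup G) = r ^ (Nat.card (cen u)).factorization r)
    (hv : v ∈ (R : Subgroup G)) (hvc : v ∉ center G) (htv : Typed N r v)
    (hsh : v⁻¹ * u * v * u⁻¹ ∈ center G) (q : ℕ) :
    (Nat.card (cen v ⊓ N : Subgroup G)).factorization q ≤
      (Nat.card (cen u ⊓ N : Subgroup G)).factorization q := by
  have huN := H.sylow_le R hu
  have hvN := H.sylow_le R hv
  by_cases hq : q.Prime
  swap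
  · rw [Nat.factorization_eq_zero_of_not_prime _ hq]
    exact Nat.zero_le _
  by_cases hqr : q = r
  · subst hqr
    rw [H.factorization_inf, H.factorization_inf, H.card_cen v hvN u huN hvc huc]
  haveI : Fact q.Prime := ⟨hq⟩
  obtain ⟨k, hk⟩ := exists_orderOf_eq_pow R hu
  obtain ⟨l, hl⟩ := exists_orderOf_eq_pow R hv
  have hvn : v ∈ normalizer ((cen u : Subgroup G) : Set G) := Subgroup.mem_normalizer_iff.2 fun g => by
    rw [conj_mem_cen_shift (g := v * g * v⁻¹) hsh, show v⁻¹ * (v * g * v⁻¹) * v = g by group]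
  let φ : ↥(zpowers v) →* MulAut ↥(cen u) :=
    (cen u).normalizerMonoidHom.comp (Subgroup.inclusion (zpowers_le.2 hvn))
  letI : MulAction ↥(zpowers v) (Sylow q ↥(cen u)) := MulAction.compHom _ φ
  have hndvd : ¬ r ∣ Nat.card (Sylow q ↥(cen u)) := by
    obtain ⟨S0⟩ := (inferInstance : Nonempty (Sylow q ↥(cen u)))
    rw [S0.card_eq_index_normalizer]
    intro hd
    set R1 := (cen u ⊓ (R : Subgroup G)).subgroupOf (cen u) with hR1
    have hle : R1 ≤ normalizer ((S0 : Subgroup ↥(cen u)) : Set ↥(cen u)) := by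
      intro x hx
      rw [hR1, mem_subgroupOf] at hx
      refine Subgroup.mem_normalizer_iff.2 fun g => ?_
      have hxg : x * g = g * x := Subtype.ext
        (H.typed_commute huN huc hk htu (H.sylow_le R hx.2) hx.1 g.2).symm
      rw [hxg, mul_inv_cancel_right]
    have hd2 := hd.trans (Subgroup.index_dvd_of_le hle)
    have h1 := R1.card_mul_index
    rw [hR1, Nat.card_congr (Subgroup.subgroupOfEquivOfLe inf_le_left).toEquiv, hfull, ← hR1] at h1
    exact Nat.pow_succ_factorization_not_dvd Nat.card_pos.ne' hr.out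
      (h1 ▸ pow_succ r _ ▸ mul_dvd_mul_left _ hd2)
  haveI : IsPGroup r ↥(zpowers v) := isPGroup_zpowers hl
  obtain ⟨S, hS⟩ := (isPGroup_zpowers hl).nonempty_fixed_point_of_prime_not_dvd_card
    (Sylow q ↥(cen u)) hndvd
  set Sg : Subgroup G := (S : Subgroup ↥(cen u)).map (cen u).subtype with hSg
  have hSnorm : ∀ x ∈ Sg, ∀ g ∈ zpowers v, g * x * g⁻¹ ∈ Sg := by
    rintro _ ⟨x, hx, rfl⟩ g hg
    have h1 : φ ⟨g, hg⟩ • S = S := hS ⟨g, hg⟩
    refine ⟨φ ⟨g, hg⟩ x, ?_, rfl⟩
    have h2 : φ ⟨g, hg⟩ x ∈ ((φ ⟨g, hg⟩ • S : Sylow q ↥(cen u)) : Subgroup ↥(cen u)) := by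
      rw [Sylow.pointwise_smul_def]
      exact Subgroup.smul_mem_pointwise_smul x _ _ hx
    rwa [h1] at h2
  have hSgp : IsPGroup q Sg := S.isPGroup'.map _
  set π := QuotientGroup.mk' N with hπ
  have hmap : Sg.map π ≤ (Sg ⊓ cen v).map π := by
    rintro _ ⟨s, hs, rfl⟩
    let Ω := {x : G // x ∈ Sg ∧ s⁻¹ * x ∈ N}
    have hinv : ∀ g ∈ zpowers v, ∀ x : Ω, g * x * g⁻¹ ∈ Sg ∧ s⁻¹ * (g * x * g⁻¹) ∈ N := by
      intro g hg x
      refine ⟨hSnorm _ x.2.1 g hg, ?_⟩
      have hgN : g ∈ N := zpowers_le.2 hvN hg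
      rw [show s⁻¹ * (g * x * g⁻¹) = (s⁻¹ * x) * ((x : G)⁻¹ * g * x * g⁻¹) by group]
      exact mul_mem x.2.2 (mul_mem ((inferInstance : N.Normal).conj_mem' g hgN x) (inv_mem hgN))
    letI : MulAction ↥(zpowers v) Ω :=
      { smul := fun g x => ⟨_, hinv g g.2 x⟩
        one_smul := fun x => Subtype.ext (show (1 : G) * x * (1 : G)⁻¹ = x by group)
        mul_smul := fun g h x => Subtype.ext
          (show (g * h : G) * x * (g * h : G)⁻¹ = (g : G) * ((h : G) * x * (h : G)⁻¹) * (g : G)⁻¹ by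
            group) }
    have hcard : Nat.card Ω = Nat.card (Sg ⊓ N : Subgroup G) := Nat.card_congr
      { toFun := fun x => ⟨s⁻¹ * x, Subgroup.mem_inf.2 ⟨mul_mem (inv_mem hs) x.2.1, x.2.2⟩⟩
        invFun := fun a => ⟨s * a, mul_mem hs a.2.1, by rw [inv_mul_cancel_left]; exact a.2.2⟩
        left_inv := fun x => Subtype.ext (mul_inv_cancel_left s x)
        right_inv := fun a => Subtype.ext (inv_mul_cancel_left s a) }
    obtain ⟨n, hn⟩ := IsPGroup.iff_card.1 (hSgp.to_inf_left (K := N))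
    obtain ⟨x, hx⟩ := (isPGroup_zpowers hl).nonempty_fixed_point_of_prime_not_dvd_card Ω (by
      rw [hcard, hn]
      exact fun hd => hqr ((Nat.prime_dvd_prime_iff_eq hr.out hq).1 (hr.out.dvd_of_dvd_pow hd)).symm)
    have h1 : v * (x : G) * v⁻¹ = x := congrArg Subtype.val (hx ⟨v, mem_zpowers v⟩)
    refine ⟨x, ⟨x.2.1, cen_comm (mem_cen.2 (mul_inv_eq_iff_eq_mul.1 h1))⟩, ?_⟩
    exact (QuotientGroup.eq.2 x.2.2).symm
  -- compare with a Sylow subgroup of `cen v`
  obtain ⟨S2, hS2⟩ := (hSgp.to_inf_left (K := cen v)).comap_subtype (K := cen v) |>.exists_le_sylow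
  set S2g : Subgroup G := (S2 : Subgroup ↥(cen v)).map (cen v).subtype with hS2g
  have hle2 : Sg ⊓ cen v ≤ S2g := fun x hx => ⟨⟨x, hx.2⟩, hS2 (mem_subgroupOf.2 hx), rfl⟩
  have hcS : Nat.card Sg = Nat.card S2g := by
    rw [hSg, hS2g, Subgroup.card_map_of_injective (cen u).subtype_injective,
      Subgroup.card_map_of_injective (cen v).subtype_injective, S.card_eq_multiplicity,
      S2.card_eq_multiplicity, H.card_cen u huN v hvN huc hvc]
  have h1 := card_eq_inf_mul_map Sg N
  have h2 := card_eq_inf_mul_map S2g N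
  have hmle : Nat.card (Sg.map π) ≤ Nat.card (S2g.map π) :=
    Subgroup.card_le_of_le (hmap.trans (Subgroup.map_mono hle2))
  have h3 : Nat.card (S2g ⊓ N : Subgroup G) ≤ Nat.card (Sg ⊓ N : Subgroup G) := by
    refine Nat.le_of_mul_le_mul_right (c := Nat.card (Sg.map π)) ?_ Nat.card_pos
    calc Nat.card (S2g ⊓ N : Subgroup G) * Nat.card (Sg.map π)
        ≤ Nat.card (S2g ⊓ N : Subgroup G) * Nat.card (S2g.map π) := Nat.mul_le_mul_left _ hmle
      _ = Nat.card (Sg ⊓ N : Subgroup G) * Nat.card (Sg.map π) := by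
        rw [← hπ] at *; rw [← h2, ← h1, hcS]
  obtain ⟨a, ha⟩ := IsPGroup.iff_card.1 (hSgp.to_inf_left (K := N))
  have ha' : a ≤ (Nat.card (cen u ⊓ N : Subgroup G)).factorization q :=
    (hq.pow_dvd_iff_le_factorization Nat.card_pos.ne').1
      (ha ▸ Subgroup.card_dvd_of_le (inf_le_inf_right N (Subgroup.map_subtype_le _)))
  obtain ⟨Q⟩ := (inferInstance : Nonempty (Sylow q ↥(cen v ⊓ N)))
  set Qg : Subgroup G := (Q : Subgroup ↥(cen v ⊓ N)).map (cen v ⊓ N).subtype with hQg
  have hQle : Qg ≤ cen v ⊓ N := Subgroup.map_subtype_le _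
  have hS2p : IsPGroup q S2g := S2.isPGroup'.map _
  have hQn : Qg ≤ normalizer (S2g : Set G) := fun x hx => Subgroup.mem_normalizer_iff.2 fun g => by
    have hfix : ∀ h ∈ S2g, h * x = x * h := fun h hh =>
      H.typed_commute hvN hvc hl htv (hQle hx).2 (hQle hx).1 (Subgroup.map_subtype_le _ hh)
    constructor
    · intro hg; rwa [← hfix g hg, mul_inv_cancel_right]
    · intro hg
      have h2 : x⁻¹ * (x * g * x⁻¹) * x = x * g * x⁻¹ := by
        rw [mul_assoc, hfix _ hg, inv_mul_cancel_left]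
      rw [show x⁻¹ * (x * g * x⁻¹) * x = g by group] at h2
      rwa [← h2] at hg
  have hp : IsPGroup q (Qg ⊔ S2g : Subgroup G) :=
    IsPGroup.to_sup_of_normal_right' (Q.isPGroup'.map _) hS2p hQn
  obtain ⟨m, hm⟩ := IsPGroup.iff_card.1 hp
  have hbig : Nat.card (Qg ⊔ S2g : Subgroup G) ≤ Nat.card S2g := by
    have hd : q ^ m ∣ Nat.card (cen v) := hm ▸ Subgroup.card_dvd_of_le
      (sup_le (hQle.trans inf_le_left) (Subgroup.map_subtype_le _))
    rw [hm, hS2g, Subgroup.card_map_of_injective (cen v).subtype_injective, S2.card_eq_multiplicity]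
    exact Nat.pow_le_pow_right hq.pos ((hq.pow_dvd_iff_le_factorization Nat.card_pos.ne').1 hd)
  have hQS : Qg ≤ S2g ⊓ N :=
    le_inf (le_sup_left.trans (Subgroup.eq_of_le_of_card_ge le_sup_right hbig).ge)
      (hQle.trans inf_le_right)
  have h4 := (Subgroup.card_le_of_le hQS).trans h3
  rw [hQg, Subgroup.card_map_of_injective (cen v ⊓ N).subtype_injective, Q.card_eq_multiplicity,
    ha] at h4
  exact ((Nat.pow_le_pow_iff_right hq.one_lt).1 h4).trans ha'

theorem orbit_stab_mul (A : Subgroup G) (N : Subgroup G) [Fintype N]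
    [DecidableEq (Subgroup G)] :
    (Finset.univ.image (fun g : N => A.map (MulAut.conj (g : G)).toMonoidHom)).card *
      Nat.card ↥((Subgroup.normalizer (A : Set G)).subgroupOf N) = Nat.card N := by
  classical
  set S := (Subgroup.normalizer (A : Set G)).subgroupOf N
  have hkey : ∀ g h : N, A.map (MulAut.conj (g : G)).toMonoidHom =
      A.map (MulAut.conj (h : G)).toMonoidHom ↔ g⁻¹ * h ∈ S := by
    intro g h
    rw [mem_subgroupOf, Subgroup.mem_normalizer_iff]
    constructor
    · intro e x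
      have hmem : ∀ (c : N) (y : G), y ∈ A.map (MulAut.conj (c : G)).toMonoidHom ↔
          (c : G)⁻¹ * y * c ∈ A := by
        intro c y
        constructor
        · rintro ⟨a, ha, rfl⟩; simpa [mul_assoc] using ha
        · intro hy; exact ⟨_, hy, by simp [mul_assoc]⟩
      have h1 := (hmem h ((h : G) * x * (h : G)⁻¹))
      rw [← e, hmem g] at h1
      simp only [Subgroup.coe_mul, InvMemClass.coe_inv, mul_inv_rev, inv_inv] at h1 ⊢
      rw [show (h : G)⁻¹ * ((h : G) * x * (h : G)⁻¹) * h = x by group] at h1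
      rw [← h1]
      constructor <;> intro hx <;> simpa [mul_assoc] using hx
    · intro hx
      ext y
      constructor
      · rintro ⟨a, ha, rfl⟩
        refine ⟨((g : G)⁻¹ * h)⁻¹ * a * ((g : G)⁻¹ * h), (hx _).2 ?_, by simp [mul_assoc]⟩
        simpa [mul_assoc] using ha
      · rintro ⟨a, ha, rfl⟩
        exact ⟨_, (hx a).1 ha, by simp [mul_assoc]⟩
  rw [← Fintype.card_coe, ← Nat.card_eq_fintype_card, ← S.index_mul_card, Subgroup.index_eq_card]
  congr 1
  symm
  refine Nat.card_eq_of_bijective (fun c : N ⧸ S => Quotient.liftOn' c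
    (fun g => (⟨_, Finset.mem_image_of_mem _ (Finset.mem_univ g)⟩ :
      {B // B ∈ Finset.univ.image (fun g : N => A.map (MulAut.conj (g : G)).toMonoidHom)}))
    (fun g h hgh => Subtype.ext ((hkey g h).2 (QuotientGroup.leftRel_apply.1 hgh)))) ⟨?_, ?_⟩
  · intro c d
    induction c using Quotient.inductionOn' with
    | h g =>
      induction d using Quotient.inductionOn' with
      | h h' =>
        intro e
        exact Quotient.sound' (QuotientGroup.leftRel_apply.2 ((hkey g h').1 (congrArg Subtype.val e)))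
  · rintro ⟨B, hB⟩
    obtain ⟨g, -, rfl⟩ := Finset.mem_image.1 hB
    exact ⟨Quotient.mk'' g, rfl⟩

theorem counting_contra {β : Type*} [DecidableEq β] (O T : Finset β) (f : β → ℕ) {n z d r M : ℕ}
    (hr2 : 2 ≤ r) (hzpos : 0 < z) (han : z + d < n) (har : (r + 1) * z ≤ z + d)
    (hM : n = z + M * d) (hOcard : O.card ≤ r + 1) (hTO : T ⊆ O)
    (hsplit : M = ∑ o ∈ O \ T, f o + ∑ o ∈ T, f o)
    (hS1 : (∑ o ∈ O \ T, f o) * (r * (z + d)) = (O \ T).card * n)
    (hS2 : 2 * ((∑ o ∈ T, f o) * (r * (z + d))) ≤ T.card * n)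
    (hbad : ∀ o ∈ T, 2 * (f o * (r * (z + d))) ≤ n ∧ n * z ≤ f o * ((z + d) * d)) : False := by
  have hr0 : 0 < r := by omega
  have hcards : (O \ T).card + T.card = O.card := Finset.card_sdiff_add_card_eq_card hTO
  have hsmallcase : ¬ M * (z + d) ≤ n := by
    intro h
    have h1 : M * d * (z + d) ≤ n * d := by
      rw [mul_right_comm]; exact Nat.mul_le_mul_right d h
    nlinarith
  rcases Nat.lt_or_ge T.card 2 with hT2 | hT2
  · rcases Nat.eq_zero_or_pos T.card with hT0 | hTpos
    · have hTe : T = ∅ := Finset.card_eq_zero.1 hT0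
      rw [hTe, Finset.sdiff_empty, Finset.sum_empty, add_zero] at hsplit
      rw [hTe, Finset.sdiff_empty, ← hsplit] at hS1
      rcases Nat.lt_or_ge O.card (r + 1) with hlt | hge
      · apply hsmallcase
        refine Nat.le_of_mul_le_mul_left ?_ hr0
        calc r * (M * (z + d)) = M * (r * (z + d)) := by ring
          _ = O.card * n := hS1
          _ ≤ r * n := Nat.mul_le_mul_right n (by omega)
      · have hOe : O.card = r + 1 := le_antisymm hOcard hge
        rw [hOe] at hS1
        have h1 : M * d * (r * (z + d)) = (r + 1) * n * d := by rw [mul_right_comm, hS1]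
        have h2 : r * (z + d) ≤ (r + 1) * d := by nlinarith
        have h3 : r * (z + d) * n ≤ M * d * (r * (z + d)) := by
          rw [h1]
          calc r * (z + d) * n ≤ (r + 1) * d * n := Nat.mul_le_mul_right n h2
            _ = (r + 1) * n * d := by ring
        have h4 : n ≤ M * d := by
          refine Nat.le_of_mul_le_mul_left ?_ (show 0 < r * (z + d) from Nat.mul_pos hr0 (by omega))
          calc r * (z + d) * n ≤ M * d * (r * (z + d)) := h3
            _ = r * (z + d) * (M * d) := by ring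
        omega
    · have hT1 : T.card = 1 := by omega
      obtain ⟨o1, hTe⟩ := Finset.card_eq_one.1 hT1
      obtain ⟨hb1, hb2⟩ := hbad o1 (hTe ▸ Finset.mem_singleton_self o1)
      rw [hTe, Finset.sum_singleton] at hsplit
      rw [hTe] at hS1
      have hE : (O \ {o1}).card ≤ r := by
        rw [← hTe]; omega
      rcases Nat.lt_or_ge (O \ {o1}).card r with hlt | hge
      · apply hsmallcase
        refine Nat.le_of_mul_le_mul_left ?_ hr0
        calc r * (M * (z + d))
            = (∑ o ∈ O \ {o1}, f o) * (r * (z + d)) + f o1 * (r * (z + d)) := by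
              rw [hsplit]; ring
          _ ≤ (r - 1) * n + n := by
              rw [hS1]
              exact add_le_add (Nat.mul_le_mul_right n (by omega)) (by omega)
          _ = r * n := by
              rw [← Nat.succ_mul]; congr 1; omega
      · have hEe : (O \ {o1}).card = r := le_antisymm hE hge
        rw [hEe] at hS1
        have h1 : M * (z + d) = n + f o1 * (z + d) := by
          have : r * (M * (z + d)) = r * (n + f o1 * (z + d)) := by
            rw [hsplit]
            calc _ = (∑ o ∈ O \ {o1}, f o) * (r * (z + d)) + f o1 * (r * (z + d)) := by ring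
              _ = r * n + f o1 * (r * (z + d)) := by rw [hS1]
              _ = _ := by ring
          exact Nat.eq_of_mul_eq_mul_left hr0 this
        have h2 : M * d * (z + d) = n * d + f o1 * ((z + d) * d) := by
          rw [mul_right_comm, h1]; ring
        nlinarith
  · apply hsmallcase
    refine Nat.le_of_mul_le_mul_left ?_ (show 0 < 2 * r by omega)
    calc 2 * r * (M * (z + d))
        = 2 * ((∑ o ∈ O \ T, f o) * (r * (z + d))) +
          2 * ((∑ o ∈ T, f o) * (r * (z + d))) := by rw [hsplit]; ring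
      _ ≤ 2 * ((O \ T).card * n) + T.card * n := by rw [hS1]; omega
      _ ≤ 2 * r * n := by
        rw [← mul_assoc, ← add_mul]
        exact Nat.mul_le_mul_right n (by omega)

/-- The counting step: no Sylow subgroup of class two with all lines typed. -/
theorem Hyp.no_all_typed (H : Hyp N r) (R : Sylow r G)
    (hRcard : Nat.card (R : Subgroup G) = r * (r * Nat.card (center G ⊓ R : Subgroup G)))
    (hpow : ∀ x ∈ (R : Subgroup G), x ^ r ∈ center G)
    (hcom : ∀ x ∈ (R : Subgroup G), ∀ d ∈ (R : Subgroup G), d⁻¹ * x * d * x⁻¹ ∈ center G)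
    (hfull : ∀ x ∈ (R : Subgroup G), x ∉ center G →
      Nat.card (cen x ⊓ R : Subgroup G) = r * Nat.card (center G ⊓ R : Subgroup G) ∧
      Nat.card (cen x ⊓ R : Subgroup G) = r ^ (Nat.card (cen x)).factorization r)
    (hall : ∀ x ∈ (R : Subgroup G), x ∉ center G → Typed N r x) : False := by
  classical
  haveI := Fintype.ofFinite G
  set z := Nat.card (center G ⊓ N : Subgroup G) with hz
  set n := Nat.card N with hn
  obtain ⟨u0, hu0, hu0c⟩ := SetLike.not_le_iff_exists.1 (H.noncentral R)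
  set a := Nat.card (cen u0 ⊓ N : Subgroup G) with ha
  set zr := Nat.card (center G ⊓ R : Subgroup G) with hzr
  have hline : ∀ u ∈ (R : Subgroup G), u ∉ center G → Nat.card (cen u ⊓ N : Subgroup G) = a := by
    intro u hu huc
    refine Nat.eq_of_factorization_eq Nat.card_pos.ne' Nat.card_pos.ne' fun q => le_antisymm ?_ ?_
    · exact H.factorization_line_le R hu0 hu0c (hall _ hu0 hu0c) (hfull _ hu0 hu0c).2 hu huc
        (hall _ hu huc) (hcom _ hu0 _ hu) q
    · exact H.factorization_line_le R hu huc (hall _ hu huc) (hfull _ hu huc).2 hu0 hu0c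
        (hall _ hu0 hu0c) (hcom _ hu _ hu0) q
  have hzle : ∀ x : G, center G ⊓ N ≤ cen x ⊓ N := fun x =>
    inf_le_inf_right N fun c hc => mem_cen.2 (Subgroup.mem_center_iff.1 hc x).symm
  -- every noncentral element of `N` lies over a line
  have hrep : ∀ x ∈ N, x ∉ center G → ∃ g ∈ N, ∃ u ∈ (R : Subgroup G), u ∉ center G ∧
      cen x ⊓ N = (cen u ⊓ N).map (MulAut.conj g).toMonoidHom ∧
      ∀ t ∈ cen x ⊓ N, t ∉ center G → cen t = cen x := by
    intro x hx hxc
    obtain ⟨w, hw, hwc, ⟨k, hk⟩, hwx⟩ := H.exists_r_elt hx hxc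
    obtain ⟨R', hR'⟩ := exists_full (r := r) w
    obtain ⟨g, hg, hgR⟩ := H.exists_conj_sylow R R'
    set u := g⁻¹ * w * g with hu
    have huR : u ∈ (R : Subgroup G) := hgR w (H.mem_of_full R' hw hwc hk hR')
    have hwu : w = g * u * g⁻¹ := by rw [hu]; group
    have huc : u ∉ center G := fun h => hwc (by
      rw [hwu, Subgroup.mem_center_iff.1 h g, mul_inv_cancel_right]; exact h)
    refine ⟨g, hg, u, huR, huc, ?_, fun t ht htc => ?_⟩
    · rw [← hwx, hwu, ← map_conj_cen, Subgroup.map_inf _ _ _ (MulAut.conj g).injective]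
      congr 1
      refine (Subgroup.eq_of_le_of_card_ge ?_ ?_).symm
      · rintro _ ⟨y, hy, rfl⟩
        exact (inferInstance : N.Normal).conj_mem y hy g
      · rw [Subgroup.card_map_of_injective (MulAut.conj g).injective]
    · obtain ⟨i, hi⟩ := exists_orderOf_eq_pow R huR
      have htu : g⁻¹ * t * g ∈ cen u := by
        have h1 : t ∈ cen w := hwx.symm ▸ ht.1
        have h2 := conj_mem_cen (g := g⁻¹) h1
        rwa [inv_inv, ← hu] at h2
      have htc' : g⁻¹ * t * g ∉ center G := fun h => htc (by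
        rw [show t = g * (g⁻¹ * t * g) * g⁻¹ by group, Subgroup.mem_center_iff.1 h g,
          mul_inv_cancel_right]
        exact h)
      have h3 := H.typed_same (H.sylow_le R huR) huc hi (hall _ huR huc)
        ((inferInstance : N.Normal).conj_mem' t ht.2 g) htu htc'
      rw [← hwx, hwu, ← map_conj_cen g u, ← h3, map_conj_cen]
      congr 1
      group
  have hAcard : ∀ x ∈ N, x ∉ center G → Nat.card (cen x ⊓ N : Subgroup G) = a := by
    intro x hx hxc
    obtain ⟨g, -, u, hu, huc, he, -⟩ := hrep x hx hxc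
    rw [he, Subgroup.card_map_of_injective (MulAut.conj g).injective, hline u hu huc]
  let A : G → Subgroup G := fun x => cen x ⊓ N
  let cnt : Subgroup G → Finset G := fun B => Finset.univ.filter fun t => t ∈ B ∧ t ∉ center G
  have hcnt : ∀ B : Subgroup G, center G ⊓ N ≤ B → B ≤ N → (cnt B).card + z = Nat.card B := by
    intro B h1 h2
    have e1 : z = (Finset.univ.filter fun t => t ∈ B ∧ t ∈ center G).card := by
      rw [hz, Nat.card_eq_fintype_card]
      refine Fintype.card_of_subtype _ fun t => ?_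
      simp only [Finset.mem_filter, Finset.mem_univ, true_and]
      exact ⟨fun h => ⟨h.2, h2 h.1⟩, fun h => ⟨h1 h, h.1⟩⟩
    have e2 : Nat.card B = (Finset.univ.filter fun t => t ∈ B).card := by
      rw [Nat.card_eq_fintype_card]
      exact Fintype.card_of_subtype _ fun t => by simp
    rw [e1, e2, ← Finset.card_union_of_disjoint]
    · congr 1
      ext t
      simp only [cnt, Finset.mem_union, Finset.mem_filter, Finset.mem_univ, true_and]
      tauto
    · rw [Finset.disjoint_left]
      intro t ht ht'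
      simp only [cnt, Finset.mem_filter, Finset.mem_univ, true_and] at ht ht'
      exact ht.2 ht'.2
  set 𝒦 := (cnt N).image A with h𝒦
  have hM : n = z + 𝒦.card * (a - z) := by
    rw [hn, ← hcnt N inf_le_right le_rfl, Finset.card_eq_sum_card_image A (cnt N),
      Finset.sum_const_nat (m := a - z) fun B hB => ?_, add_comm]
    obtain ⟨x, hx, rfl⟩ := Finset.mem_image.1 hB
    simp only [cnt, Finset.mem_filter, Finset.mem_univ, true_and] at hx
    obtain ⟨g, -, u, hu, huc, -, hsame⟩ := hrep x hx.1 hx.2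
    have e : (cnt N).filter (fun t => A t = A x) = cnt (A x) := by
      ext t
      simp only [cnt, A, Finset.mem_filter, Finset.mem_univ, true_and]
      constructor
      · rintro ⟨⟨htN, htc⟩, he⟩
        exact ⟨he ▸ ⟨mem_cen.2 rfl, htN⟩, htc⟩
      · rintro ⟨ht, htc⟩
        exact ⟨⟨ht.2, htc⟩, by rw [hsame t ht htc]⟩
    have h1 := hcnt (A x) (hzle x) inf_le_right
    rw [show Nat.card (A x) = a from hAcard x hx.1 hx.2, ← e] at h1
    omega
  -- the lines
  set L := (cnt (R : Subgroup G)).image A with hL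
  have hLcard : L.card ≤ r + 1 := by
    have hzc : ∀ B : Subgroup G, center G ⊓ (R : Subgroup G) ≤ B → B ≤ R →
        (cnt B).card + zr = Nat.card B := by
      intro B h1 h2
      have e1 : zr = (Finset.univ.filter fun t => t ∈ B ∧ t ∈ center G).card := by
        rw [hzr, Nat.card_eq_fintype_card]
        refine Fintype.card_of_subtype _ fun t => ?_
        simp only [Finset.mem_filter, Finset.mem_univ, true_and]
        exact ⟨fun h => ⟨h.2, h2 h.1⟩, fun h => ⟨h1 h, h.1⟩⟩
      have e2 : Nat.card B = (Finset.univ.filter fun t => t ∈ B).card := by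
        rw [Nat.card_eq_fintype_card]
        exact Fintype.card_of_subtype _ fun t => by simp
      rw [e1, e2, ← Finset.card_union_of_disjoint]
      · congr 1
        ext t
        simp only [cnt, Finset.mem_union, Finset.mem_filter, Finset.mem_univ, true_and]
        tauto
      · rw [Finset.disjoint_left]
        intro t ht ht'
        simp only [cnt, Finset.mem_filter, Finset.mem_univ, true_and] at ht ht'
        exact ht.2 ht'.2
    have hsum : (cnt (R : Subgroup G)).card = L.card * (r * zr - zr) := by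
      rw [Finset.card_eq_sum_card_image A (cnt (R : Subgroup G))]
      refine Finset.sum_const_nat fun B hB => ?_
      obtain ⟨x, hx, rfl⟩ := Finset.mem_image.1 hB
      simp only [cnt, Finset.mem_filter, Finset.mem_univ, true_and] at hx
      obtain ⟨g, -, u, hu, huc, -, hsame⟩ := hrep x (H.sylow_le R hx.1) hx.2
      have e : (cnt (R : Subgroup G)).filter (fun t => A t = A x) = cnt (cen x ⊓ R) := by
        ext t
        simp only [cnt, A, Finset.mem_filter, Finset.mem_univ, true_and]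
        constructor
        · rintro ⟨⟨htR, htc⟩, he⟩
          have : t ∈ cen x ⊓ N := he ▸ ⟨mem_cen.2 rfl, H.sylow_le R htR⟩
          exact ⟨⟨this.1, htR⟩, htc⟩
        · rintro ⟨ht, htc⟩
          exact ⟨⟨ht.2, htc⟩, by rw [hsame t ⟨ht.1, H.sylow_le R ht.2⟩ htc]⟩
      have h1 := hzc (cen x ⊓ R)
        (inf_le_inf_right _ fun c hc => mem_cen.2 (Subgroup.mem_center_iff.1 hc x).symm) inf_le_right
      rw [(hfull x hx.1 hx.2).1, ← e] at h1
      omega
    have h1 := hzc R inf_le_right le_rfl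
    rw [hRcard, hsum] at h1
    have hpos : 0 < zr := Nat.card_pos
    have hr2 := hr.out.two_le
    rw [← Nat.sub_one_mul, ← mul_assoc] at h1
    by_contra hlt
    push Not at hlt
    have h4 : (r + 2) * ((r - 1) * zr) ≤ L.card * (r - 1) * zr := by
      rw [mul_assoc]; exact Nat.mul_le_mul_right _ hlt
    obtain ⟨r', rfl⟩ : ∃ r', r = r' + 2 := ⟨r - 2, by omega⟩
    simp only [show r' + 2 - 1 = r' + 1 by omega] at h1 h4
    nlinarith
  -- orbits
  let orb : Subgroup G → Finset (Subgroup G) := fun B =>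
    Finset.univ.image (fun g : N => B.map (MulAut.conj (g : G)).toMonoidHom)
  set O := L.image orb with hO
  have hmemA : ∀ u ∈ (R : Subgroup G), u ∉ center G → A u ∈ L := fun u hu huc =>
    Finset.mem_image_of_mem _ (by simp [cnt, hu, huc])
  have hconjA : ∀ g ∈ N, ∀ u : G,
      (A u).map (MulAut.conj g).toMonoidHom = A (g * u * g⁻¹) := by
    intro g hg u
    show (cen u ⊓ N).map _ = _
    rw [Subgroup.map_inf _ _ _ (MulAut.conj g).injective, map_conj_cen]
    congr 1
    refine Subgroup.eq_of_le_of_card_ge ?_ ?_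
    · rintro _ ⟨y, hy, rfl⟩
      exact (inferInstance : N.Normal).conj_mem y hy g
    · rw [Subgroup.card_map_of_injective (MulAut.conj g).injective]
  have hK : 𝒦 = O.biUnion id := by
    ext B
    simp only [h𝒦, hO, Finset.mem_image, Finset.mem_biUnion, id_eq]
    constructor
    · rintro ⟨x, hx, rfl⟩
      simp only [cnt, Finset.mem_filter, Finset.mem_univ, true_and] at hx
      obtain ⟨g, hg, u, hu, huc, he, -⟩ := hrep x hx.1 hx.2
      exact ⟨orb (A u), ⟨A u, hmemA u hu huc, rfl⟩,
        Finset.mem_image.2 ⟨⟨g, hg⟩, Finset.mem_univ _, he.symm⟩⟩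
    · rintro ⟨o, ⟨B0, hB0, rfl⟩, hB⟩
      obtain ⟨u, hu, rfl⟩ := Finset.mem_image.1 hB0
      simp only [cnt, Finset.mem_filter, Finset.mem_univ, true_and] at hu
      obtain ⟨g, -, rfl⟩ := Finset.mem_image.1 hB
      refine ⟨(g : G) * u * (g : G)⁻¹, ?_, (hconjA g g.2 u).symm⟩
      simp only [cnt, Finset.mem_filter, Finset.mem_univ, true_and]
      exact ⟨(inferInstance : N.Normal).conj_mem u (H.sylow_le R hu.1) _, fun h => hu.2 (by
        rw [show u = (g : G)⁻¹ * ((g : G) * u * (g : G)⁻¹) * g by group, mul_assoc _ _ (g : G),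
          ← Subgroup.mem_center_iff.1 h g, inv_mul_cancel_left]
        exact h)⟩
  have hdisj : ∀ o ∈ O, ∀ o' ∈ O, o ≠ o' → Disjoint o o' := by
    intro o ho o' ho' hne
    obtain ⟨B, -, rfl⟩ := Finset.mem_image.1 ho
    obtain ⟨B', -, rfl⟩ := Finset.mem_image.1 ho'
    rw [Finset.disjoint_left]
    intro D hD hD'
    apply hne
    have key : ∀ B : Subgroup G, ∀ g : N,
        orb (B.map (MulAut.conj (g : G)).toMonoidHom) = orb B := by
      intro B g
      ext D
      simp only [orb, Finset.mem_image, Finset.mem_univ, true_and]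
      constructor
      · rintro ⟨h, rfl⟩
        refine ⟨h * g, ?_⟩
        rw [Subgroup.map_map]; congr 1
        ext x; simp [mul_assoc]
      · rintro ⟨h, rfl⟩
        refine ⟨h * g⁻¹, ?_⟩
        rw [Subgroup.map_map]; congr 1
        ext x; simp [mul_assoc]
    obtain ⟨g, -, hg⟩ := Finset.mem_image.1 hD
    obtain ⟨g', -, hg'⟩ := Finset.mem_image.1 hD'
    rw [← key B g, hg, ← hg', key B' g']
  have hMsum : 𝒦.card = ∑ o ∈ O, o.card := by
    rw [hK, Finset.card_biUnion]
    · rfl
    · exact fun o ho o' ho' hne => hdisj o ho o' ho' hne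
  have hza : z ≤ a := Subgroup.card_le_of_le (hzle u0)
  have horb : ∀ o ∈ O, o.card * (r * a) = n ∨
      (2 * (o.card * (r * a)) ≤ n ∧ n * z ≤ o.card * (a * (a - z))) := by
    intro o ho
    obtain ⟨B, hB, rfl⟩ := Finset.mem_image.1 ho
    obtain ⟨u, hu, rfl⟩ := Finset.mem_image.1 hB
    simp only [cnt, Finset.mem_filter, Finset.mem_univ, true_and] at hu
    obtain ⟨hu, huc⟩ := hu
    obtain ⟨k, hk⟩ := exists_orderOf_eq_pow R hu
    have huN := H.sylow_le R hu
    have hos := orbit_stab_mul (A u) N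
    set St := (Subgroup.normalizer ((A u : Subgroup G) : Set G)).subgroupOf N with hSt
    have hAle : (A u).subgroupOf N ≤ St := Subgroup.comap_mono Subgroup.le_normalizer
    have hRle : (R : Subgroup G).subgroupOf N ≤ St := by
      refine Subgroup.comap_mono fun d hd => Subgroup.mem_normalizer_iff.2 fun g => ?_
      have hdN := H.sylow_le R hd
      show g ∈ cen u ⊓ N ↔ _
      rw [Subgroup.mem_inf, Subgroup.mem_inf,
        conj_mem_cen_shift (g := d * g * d⁻¹) (hcom u hu d hd),
        show d⁻¹ * (d * g * d⁻¹) * d = g by group]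
      refine and_congr_right fun _ => ⟨fun h => (inferInstance : N.Normal).conj_mem g h d,
        fun h => ?_⟩
      rw [show g = d⁻¹ * (d * g * d⁻¹) * d by group]
      exact (inferInstance : N.Normal).conj_mem' _ h d
    have h1 : a ∣ Nat.card St := by
      rw [← hline u hu huc, ← Nat.card_congr (Subgroup.subgroupOfEquivOfLe
        (inf_le_right : A u ≤ N)).toEquiv]
      exact Subgroup.card_dvd_of_le hAle
    have h2 : Nat.card (R : Subgroup G) ∣ Nat.card St := by
      rw [← Nat.card_congr (Subgroup.subgroupOfEquivOfLe (H.sylow_le R)).toEquiv]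
      exact Subgroup.card_dvd_of_le hRle
    have hfa : a.factorization r = (Nat.card (cen u)).factorization r := by
      rw [← hline u hu huc, H.factorization_inf]
    have hra : r * a ∣ Nat.card St := by
      have e := Nat.ordProj_mul_ordCompl_eq_self a r
      have hrz : r * zr = r ^ a.factorization r := by
        rw [hfa, ← (hfull u hu huc).2, (hfull u hu huc).1]
      rw [← e, ← mul_assoc, ← pow_succ']
      refine Nat.Coprime.mul_dvd_of_dvd_of_dvd
        (Nat.Coprime.pow_left _ (Nat.coprime_ordCompl hr.out Nat.card_pos.ne')) ?_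
        ((Nat.ordCompl_dvd a r).trans h1)
      rw [pow_succ', ← hrz, ← hRcard]
      exact h2
    by_cases hs : Nat.card St = r * a
    · exact Or.inl (hs ▸ hos)
    right
    obtain ⟨f, hf⟩ := hra
    have hf2 : 2 ≤ f := by
      rcases f with _ | _ | f
      · rw [mul_zero] at hf; exact absurd hf Nat.card_pos.ne'
      · exact absurd (by simpa using hf) hs
      · omega
    constructor
    · calc 2 * ((orb (A u)).card * (r * a)) = (orb (A u)).card * (r * a * 2) := by ring
        _ ≤ (orb (A u)).card * Nat.card St := by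
          rw [hf]; exact Nat.mul_le_mul_left _ (Nat.mul_le_mul_left _ hf2)
        _ = n := hos
    -- cosets of `A u` in the normalizer act semiregularly on a mixed element
    obtain ⟨y, hyN, hyu, hyc, q, j, hq, hqr, hyj⟩ := (hall u hu huc).part H
    have hcy : cen y = cen u := by
      refine H.eq_of_coprime hyN huN hyc huc (mem_cen.1 hyu) ?_
      rw [hyj, hk]; exact Nat.Coprime.pow _ _ ((Nat.coprime_primes hq hr.out).2 hqr)
    have hxA : u * y ∈ cen u ⊓ N :=
      ⟨mul_mem (mem_cen.2 rfl) hyu, mul_mem huN hyN⟩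
    have hxnc : u * y ∉ center G := by
      intro h
      apply huc
      have hpw : u ^ (q ^ j) ∈ center G := by
        have h1 := pow_mem h (q ^ j)
        rwa [(show Commute u y from (mem_cen.1 hyu).symm).mul_pow, ← hyj, pow_orderOf_eq_one,
          mul_one, hyj] at h1
      obtain ⟨m, hm⟩ := exists_pow_eq_self_of_coprime (show (q ^ j).Coprime (orderOf u) by
        rw [hk]; exact Nat.Coprime.pow _ _ ((Nat.coprime_primes hq hr.out).2 hqr))
      exact hm ▸ pow_mem hpw m
    have hstab : ∀ g : St, ∀ t ∈ A u, ((g : N) : G) * t * ((g : N) : G)⁻¹ ∈ A u := fun g t ht =>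
      (Subgroup.mem_normalizer_iff.1 g.2 t).1 ht
    have hkey : ∀ g : St,
        (u * y)⁻¹ * (((g : N) : G) * (u * y) * ((g : N) : G)⁻¹) ∈ center G →
          ((g : N) : G) ∈ A u := by
      intro g hg
      set c := ((g : N) : G) with hc
      refine ⟨?_, (g : N).2⟩
      set t := u⁻¹ * (c * u * c⁻¹) with ht
      set s := y⁻¹ * (c * y * c⁻¹) with hs'
      have hcuA := hstab g u ⟨mem_cen.2 rfl, huN⟩
      have hcyA := hstab g y ⟨hyu, hyN⟩
      have htA : t ∈ A u := mul_mem (inv_mem ⟨mem_cen.2 rfl, huN⟩) hcuA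
      have hsA : s ∈ A u := mul_mem (inv_mem ⟨hyu, hyN⟩) hcyA
      have hcomA : ∀ p ∈ A u, ∀ p' ∈ A u, Commute p p' := fun p hp p' hp' =>
        H.typed_commute huN huc hk (hall u hu huc) hp'.2 hp'.1 hp.1
      have hts : (u * y)⁻¹ * (c * (u * y) * c⁻¹) = t * s := by
        calc (u * y)⁻¹ * (c * (u * y) * c⁻¹) = y⁻¹ * t * (c * y * c⁻¹) := by rw [ht]; group
          _ = t * y⁻¹ * (c * y * c⁻¹) := by rw [(hcomA _ (inv_mem ⟨hyu, hyN⟩) _ htA).eq]
          _ = t * s := by rw [hs']; group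
      rw [hts] at hg
      have htr : t ^ r ∈ center G := by
        rw [ht, (hcomA _ (inv_mem ⟨mem_cen.2 rfl, huN⟩) _ hcuA).mul_pow, inv_pow]
        refine mul_mem (inv_mem (hpow u hu)) ?_
        rw [conj_pow, Subgroup.mem_center_iff.1 (hpow u hu) c, mul_inv_cancel_right]
        exact hpow u hu
      have hsq : s ^ (q ^ j) = 1 := by
        rw [hs', (hcomA _ (inv_mem ⟨hyu, hyN⟩) _ hcyA).mul_pow, inv_pow, conj_pow, ← hyj,
          pow_orderOf_eq_one]
        group
      have htq : t ^ (q ^ j) ∈ center G := by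
        have h1 := pow_mem hg (q ^ j)
        rwa [(hcomA _ htA _ hsA).mul_pow, hsq, mul_one] at h1
      have hcop : r.Coprime (q ^ j) :=
        Nat.Coprime.pow_right _ ((Nat.coprime_primes hr.out hq).2 (Ne.symm hqr))
      have htc : t ∈ center G := by
        rw [← QuotientGroup.eq_one_iff]
        have h4 := pow_gcd_eq_one.2
          ⟨(show ((t : G ⧸ center G)) ^ r = 1 by
              rw [← QuotientGroup.mk_pow]; exact (QuotientGroup.eq_one_iff _).2 htr),
           (show ((t : G ⧸ center G)) ^ (q ^ j) = 1 by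
              rw [← QuotientGroup.mk_pow]; exact (QuotientGroup.eq_one_iff _).2 htq)⟩
        rwa [hcop, pow_one] at h4
      have hsc : s ∈ center G := by
        have h5 := mul_mem (inv_mem htc) hg
        rwa [inv_mul_cancel_left] at h5
      have hiter : ∀ (b e : G), e ∈ center G → c * b * c⁻¹ = b * e →
          ∀ i : ℕ, c ^ i * b * (c ^ i)⁻¹ = b * e ^ i := by
        intro b e he hb i
        induction i with
        | zero => simp
        | succ i ih =>
          calc c ^ (i + 1) * b * (c ^ (i + 1))⁻¹ = c * (c ^ i * b * (c ^ i)⁻¹) * c⁻¹ := by group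
            _ = c * b * c⁻¹ * (c * e ^ i * c⁻¹) := by rw [ih]; group
            _ = b * e * e ^ i := by
                rw [hb, Subgroup.mem_center_iff.1 (pow_mem he i) c, mul_inv_cancel_right]
            _ = _ := by rw [mul_assoc, pow_succ']
      have htr1 : t ^ r = 1 := by
        rw [ht, (hcomA _ (inv_mem ⟨mem_cen.2 rfl, huN⟩) _ hcuA).mul_pow, inv_pow, conj_pow,
          Subgroup.mem_center_iff.1 (hpow u hu) c, mul_inv_cancel_right, inv_mul_cancel]
      have h6 : c ^ r ∈ cen u := by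
        have := hiter u t htc (by rw [ht]; group) r
        rw [htr1, mul_one] at this
        exact mem_cen.2 (mul_inv_eq_iff_eq_mul.1 this)
      have h7 : c ^ (q ^ j) ∈ cen u := by
        have := hiter y s hsc (by rw [hs']; group) (q ^ j)
        rw [hsq, mul_one] at this
        exact hcy ▸ mem_cen.2 (mul_inv_eq_iff_eq_mul.1 this)
      have h8 : (1 : ℤ) = (r : ℤ) * Nat.gcdA r (q ^ j) + ((q ^ j : ℕ) : ℤ) * Nat.gcdB r (q ^ j) := by
        rw [← Nat.gcd_eq_gcd_ab, hcop]; rfl
      rw [show c = c ^ (1 : ℤ) by group, h8, zpow_add, zpow_mul, zpow_mul, zpow_natCast, zpow_natCast]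
      exact mul_mem (zpow_mem h6 _) (zpow_mem h7 _)
    set A' := ((A u).subgroupOf N).subgroupOf St with hA'
    have hA'card : Nat.card A' = a := by
      rw [hA', Nat.card_congr (Subgroup.subgroupOfEquivOfLe hAle).toEquiv,
        Nat.card_congr (Subgroup.subgroupOfEquivOfLe (inf_le_right : A u ≤ N)).toEquiv,
        hline u hu huc]
    have hidx : A'.index * z ≤ a - z := by
      have hc := hcnt (A u) (hzle u) inf_le_right
      rw [show Nat.card (A u) = a from hline u hu huc] at hc
      rw [show a - z = (cnt (A u)).card by omega, Subgroup.index_eq_card, hz, ← Nat.card_prod,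
        ← Fintype.card_coe, ← Nat.card_eq_fintype_card]
      refine Nat.card_le_card_of_injective (fun p : (St ⧸ A') × ↥(center G ⊓ N : Subgroup G) =>
        (⟨((p.1.out : N) : G) * (u * y) * ((p.1.out : N) : G)⁻¹ * p.2, ?_⟩ :
          {t // t ∈ cnt (A u)})) ?_
      · simp only [cnt, Finset.mem_filter, Finset.mem_univ, true_and]
        refine ⟨mul_mem (hstab p.1.out _ hxA) (hzle u p.2.2), fun h => hxnc ?_⟩
        have h2 := mul_mem h (inv_mem p.2.2.1)
        rw [mul_inv_cancel_right] at h2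
        set c := ((p.1.out : N) : G)
        rw [show u * y = c⁻¹ * (c * (u * y) * c⁻¹) * c by group, mul_assoc _ _ c,
          ← Subgroup.mem_center_iff.1 h2 c, inv_mul_cancel_left]
        exact h2
      · rintro ⟨g, c⟩ ⟨g', c'⟩ e
        have e1 : ((g.out : N) : G) * (u * y) * ((g.out : N) : G)⁻¹ * c =
            ((g'.out : N) : G) * (u * y) * ((g'.out : N) : G)⁻¹ * c' := congrArg Subtype.val e
        have hgg : g = g' := by
          rw [← QuotientGroup.out_eq' g, ← QuotientGroup.out_eq' g', QuotientGroup.eq]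
          refine mem_subgroupOf.2 (mem_subgroupOf.2 (hkey (g.out⁻¹ * g'.out) ?_))
          set a1 := ((g.out : N) : G) with ha1
          set b1 := ((g'.out : N) : G) with hb1
          show (u * y)⁻¹ * ((a1⁻¹ * b1) * (u * y) * (a1⁻¹ * b1)⁻¹) ∈ center G
          have hcc' : (c : G) * (c' : G)⁻¹ ∈ center G := mul_mem c.2.1 (inv_mem c'.2.1)
          have e2 : b1 * (u * y) * b1⁻¹ = a1 * (u * y) * a1⁻¹ * ((c : G) * (c' : G)⁻¹) := by
            rw [show a1 * (u * y) * a1⁻¹ * ((c : G) * (c' : G)⁻¹) =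
              a1 * (u * y) * a1⁻¹ * c * (c' : G)⁻¹ by group, e1, mul_inv_cancel_right]
          rw [show (u * y)⁻¹ * ((a1⁻¹ * b1) * (u * y) * (a1⁻¹ * b1)⁻¹) =
            (u * y)⁻¹ * (a1⁻¹ * (b1 * (u * y) * b1⁻¹) * a1) by group, e2]
          rw [show (u * y)⁻¹ * (a1⁻¹ * (a1 * (u * y) * a1⁻¹ * ((c : G) * (c' : G)⁻¹)) * a1) =
            a1⁻¹ * ((c : G) * (c' : G)⁻¹) * a1 by group,
            Subgroup.mem_center_iff.1 hcc' a1⁻¹, inv_mul_cancel_right]
          exact hcc'
        subst hgg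
        exact Prod.ext rfl (Subtype.ext (mul_left_cancel e1))
    have h9 := A'.index_mul_card
    rw [hA'card] at h9
    calc n * z = (orb (A u)).card * (A'.index * a) * z := by rw [h9, hn, ← hos]
      _ = (orb (A u)).card * (a * (A'.index * z)) := by ring
      _ ≤ (orb (A u)).card * (a * (a - z)) :=
        Nat.mul_le_mul_left _ (Nat.mul_le_mul_left _ hidx)
  -- arithmetic
  have hzpos : 0 < z := Nat.card_pos
  have han : a < n := by
    refine lt_of_le_of_ne (Subgroup.card_le_of_le inf_le_right) fun e => ?_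
    have h1 : cen u0 ⊓ N = N := Subgroup.eq_of_le_of_card_ge inf_le_right e.ge
    have h2 := (hfull u0 hu0 hu0c).1
    rw [inf_eq_right.2 ((H.sylow_le R).trans (h1.ge.trans inf_le_left)), hRcard] at h2
    have := hr.out.two_le
    have hpos : 0 < r * zr := Nat.mul_pos hr.out.pos Nat.card_pos
    nlinarith
  have har : (r + 1) * z ≤ a := by
    obtain ⟨y, hyN, hyu, hyc, q, j, hq, hqr, hyj⟩ := (hall u0 hu0 hu0c).part H
    set π := QuotientGroup.mk' (center G)
    set P := (cen u0 ⊓ N).map π with hP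
    have hpi : a = z * Nat.card P := by
      rw [ha, card_eq_inf_mul_map (cen u0 ⊓ N) (center G), hz]
      congr 3
      refine le_antisymm (le_inf inf_le_right (inf_le_left.trans inf_le_right)) ?_
      exact le_inf (hzle u0) inf_le_left
    have hd1 : r ∣ Nat.card P := by
      have h1 : π u0 ∈ P := mem_map_of_mem π ⟨mem_cen.2 rfl, H.sylow_le R hu0⟩
      have h2 : orderOf (π u0) = r := by
        refine orderOf_eq_prime ?_ fun h => hu0c (mem_center_of_map h)
        rw [← map_pow]; exact (QuotientGroup.eq_one_iff _).2 (hpow u0 hu0)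
      rw [← h2, ← Subgroup.orderOf_mk (π u0) h1]
      exact orderOf_dvd_natCard _
    have hd2 : q ∣ Nat.card P := by
      have h1 : π y ∈ P := mem_map_of_mem π ⟨hyu, hyN⟩
      have h2 : orderOf (π y) ∣ q ^ j := hyj ▸ orderOf_map_dvd π y
      obtain ⟨i, -, hi⟩ := (Nat.dvd_prime_pow hq).1 h2
      have h3 : i ≠ 0 := fun h0 => hyc (mem_center_of_map
        (orderOf_eq_one_iff.1 (by rw [hi, h0, pow_zero])))
      refine dvd_trans ?_ (orderOf_dvd_natCard (⟨π y, h1⟩ : P))
      rw [Subgroup.orderOf_mk, hi]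
      exact dvd_pow_self q h3
    have h4 : r * q ≤ Nat.card P := Nat.le_of_dvd Nat.card_pos
      (((Nat.coprime_primes hr.out hq).2 (Ne.symm hqr)).mul_dvd_of_dvd_of_dvd hd1 hd2)
    rw [hpi, mul_comm z]
    refine Nat.mul_le_mul_right z (le_trans ?_ h4)
    have := hr.out.two_le; have := hq.two_le
    nlinarith
  clear_value a
  obtain ⟨d, rfl⟩ : ∃ d, a = z + d := ⟨a - z, by omega⟩
  rw [Nat.add_sub_cancel_left, hMsum] at hM
  set M := ∑ o ∈ O, o.card with hMdef
  have hOcard : O.card ≤ r + 1 := Finset.card_image_le.trans hLcard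
  set T := O.filter (fun o => ¬ o.card * (r * (z + d)) = n) with hT
  have hTO : T ⊆ O := Finset.filter_subset _ _
  have hgood : ∀ o ∈ O \ T, o.card * (r * (z + d)) = n := by
    intro o ho
    simp only [hT, Finset.mem_sdiff, Finset.mem_filter, not_and, not_not] at ho
    exact ho.2 ho.1
  have hbad : ∀ o ∈ T, 2 * (o.card * (r * (z + d))) ≤ n ∧
      n * z ≤ o.card * ((z + d) * d) := by
    intro o ho
    have ho' := Finset.mem_filter.1 ho
    rcases horb o ho'.1 with h | h
    · exact absurd h ho'.2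
    · simpa using h
  have hsplit : M = ∑ o ∈ O \ T, o.card + ∑ o ∈ T, o.card :=
    (Finset.sum_sdiff hTO).symm
  have hS1 : (∑ o ∈ O \ T, o.card) * (r * (z + d)) = (O \ T).card * n := by
    rw [Finset.sum_mul, Finset.sum_const_nat hgood]
  have hS2 : 2 * ((∑ o ∈ T, o.card) * (r * (z + d))) ≤ T.card * n := by
    rw [Finset.sum_mul, Finset.mul_sum]
    have := Finset.sum_le_card_nsmul T _ n fun o ho => (hbad o ho).1
    simpa using this
  refine counting_contra O T Finset.card hr.out.two_le hzpos han har ?_ hOcard hTO hsplit hS1 hS2 hbad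
  exact hM

theorem mem_normalizer_of_conj_mem {A : Subgroup G} {g : G} (h : ∀ x ∈ A, g * x * g⁻¹ ∈ A) :
    g ∈ normalizer (A : Set G) := by
  have h1 : A.map (MulAut.conj g).toMonoidHom = A := by
    refine Subgroup.eq_of_le_of_card_ge ?_
      (Subgroup.card_map_of_injective (MulAut.conj g).injective).ge
    rintro _ ⟨x, hx, rfl⟩
    exact h x hx
  refine Subgroup.mem_normalizer_iff.2 fun x => ⟨h x, fun hx => ?_⟩
  rw [← h1] at hx
  obtain ⟨y, hy, hye⟩ := hx
  exact ((MulAut.conj g).injective hye) ▸ hy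

theorem exists_normalizing {P A : Subgroup G} (hP : IsPGroup r P) (hA : A ≤ P) (hne : A ≠ P) :
    ∃ g ∈ P, g ∉ A ∧ ∀ x ∈ A, g * x * g⁻¹ ∈ A := by
  haveI := hP.isNilpotent
  have hlt : A.subgroupOf P < ⊤ :=
    lt_top_iff_ne_top.2 fun e => hne (le_antisymm hA (Subgroup.subgroupOf_eq_top.1 e))
  obtain ⟨g, hg, hgn⟩ := SetLike.exists_of_lt
    (Group.normalizerCondition_of_isNilpotent (G := P) _ hlt)
  refine ⟨g, g.2, fun h => hgn (mem_subgroupOf.2 h), fun x hx => ?_⟩
  exact mem_subgroupOf.1 ((Subgroup.mem_normalizer_iff.1 hg ⟨x, hA hx⟩).1 (mem_subgroupOf.2 hx))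

/-- No typed element exists when no noncentral element centralizes a Sylow subgroup. -/
theorem Hyp.no_typed (H : Hyp N r) (hZ : NoBig G r) {w0 : G} (hw0 : w0 ∈ N)
    (hw0c : w0 ∉ center G) {k : ℕ} (hk0 : orderOf w0 = r ^ k) (ht0 : Typed N r w0) : False := by
  obtain ⟨R, hR⟩ := exists_full (r := r) w0
  have hw0R : w0 ∈ (R : Subgroup G) := H.mem_of_full R hw0 hw0c hk0 hR
  set R1 := cen w0 ⊓ (R : Subgroup G) with hR1
  set zr := Nat.card (center G ⊓ R : Subgroup G) with hzr
  have hle : ∀ x ∈ (R : Subgroup G), x ∉ center G →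
      Nat.card (cen x ⊓ R : Subgroup G) ≤ Nat.card R1 := fun x hx hxc => by
    rw [hR]
    exact H.card_le_of_le_cen (H.sylow_le R hx) hw0 hxc hw0c R.isPGroup'.to_inf_right inf_le_left
  have hR1lt : Nat.card R1 < Nat.card (R : Subgroup G) := hR ▸ H.part_lt_card hZ R hw0 hw0c
  have hR1ne : R1 ≠ (R : Subgroup G) := fun e => by rw [e] at hR1lt; exact lt_irrefl _ hR1lt
  have hsame : ∀ x ∈ R1, x ∉ center G → cen x = cen w0 := fun x hx hxc =>
    H.typed_same hw0 hw0c hk0 ht0 (H.sylow_le R hx.2) hx.1 hxc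
  have hzR1 : center G ⊓ (R : Subgroup G) ≤ R1 :=
    inf_le_inf_right _ fun c hc => mem_cen.2 (Subgroup.mem_center_iff.1 hc w0).symm
  set D := (R : Subgroup G) ⊓ normalizer (R1 : Set G) with hD
  have hR1D : R1 ≤ D := le_inf inf_le_right Subgroup.le_normalizer
  have hR1c : ¬ R1 ≤ center G := fun h => hw0c (h ⟨mem_cen.2 rfl, hw0R⟩)
  obtain ⟨u, hu, huc, hur, hucom⟩ := exists_central_shift (R.isPGroup'.to_le inf_le_left)
    hR1D (fun d hd x hx => (Subgroup.mem_normalizer_iff.1 hd.2 x).1 hx) hR1c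
  have hcu := hsame u hu huc
  obtain ⟨ku, hku⟩ := exists_orderOf_eq_pow R hu.2
  have htu : Typed N r u := by
    obtain ⟨y, hy, hyw, hyc, hyo⟩ := ht0
    exact ⟨y, hy, hcu.symm ▸ hyw, hyc, hyo⟩
  have hDle : Nat.card D ≤ r * Nat.card R1 := by
    refine (H.card_le_mul (H.sylow_le R hu.2) huc hku htu hur D hucom).trans ?_
    exact Nat.mul_le_mul_left _ (Subgroup.card_le_of_le (by
      rw [hcu]; exact inf_le_inf_left _ inf_le_left))
  obtain ⟨z, hz, hzc, hzr', hzcom⟩ := exists_central_shift R.isPGroup' le_rfl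
    (fun d hd x hx => mul_mem (mul_mem hd hx) (inv_mem hd)) (H.noncentral R)
  obtain ⟨kz, hkz⟩ := exists_orderOf_eq_pow R hz
  by_cases hDR : D = (R : Subgroup G)
  swap
  · have hzD : z ∈ D := by
      refine ⟨hz, mem_normalizer_of_conj_mem fun x hx => ?_⟩
      have e : z * x * z⁻¹ = x * (x⁻¹ * z * x * z⁻¹) := by group
      rw [e]
      exact mul_mem hx (hzR1 (Subgroup.mem_inf.2 ⟨hzcom x hx.2,
        mul_mem (mul_mem (mul_mem (inv_mem hx.2) hz) hx.2) (inv_mem hz)⟩))
    have hzR1' : z ∉ R1 := by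
      intro hzin
      have hcz := hsame z hzin hzc
      refine hDR (le_antisymm inf_le_left fun d hd => ⟨hd, mem_normalizer_of_conj_mem fun x hx => ?_⟩)
      refine Subgroup.mem_inf.2 ⟨?_, mul_mem (mul_mem hd hx.2) (inv_mem hd)⟩
      show d * x * d⁻¹ ∈ cen w0
      rw [← hcz, conj_mem_cen_shift (hzcom d hd), show d⁻¹ * (d * x * d⁻¹) * d = x by group, hcz]
      exact hx.1
    obtain ⟨g, hgR, hgD, hgn⟩ := exists_normalizing R.isPGroup' (inf_le_left : D ≤ R) hDR
    set R1' := R1.map (MulAut.conj g).toMonoidHom with hR1'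
    have hR1'D : R1' ≤ D := by
      rintro _ ⟨x, hx, rfl⟩
      exact hgn x (hR1D hx)
    have hint : R1' ⊓ R1 ≤ center G ⊓ (R : Subgroup G) := by
      rintro x ⟨⟨y, hy, rfl⟩, hx2⟩
      refine ⟨?_, hx2.2⟩
      by_contra hxc
      have hyc : y ∉ center G := fun h => hxc (by
        show g * y * g⁻¹ ∈ center G
        rw [Subgroup.mem_center_iff.1 h g, mul_inv_cancel_right]; exact h)
      have h1 : cen (g * y * g⁻¹) = cen w0 := hsame _ hx2 hxc
      have h2 := hsame y hy hyc
      refine hgD ⟨hgR, mem_normalizer_of_conj_mem fun t ht => Subgroup.mem_inf.2 ⟨?_, ?_⟩⟩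
      · show g * t * g⁻¹ ∈ cen w0
        rw [← h1]; exact conj_mem_cen (h2.symm ▸ ht.1)
      · exact mul_mem (mul_mem hgR ht.2) (inv_mem hgR)
    have hR1le : Nat.card R1 ≤ r * zr := by
      rw [show Nat.card R1 = Nat.card R1' from
        (Subgroup.card_map_of_injective (MulAut.conj g).injective).symm]
      exact (card_le_inf_mul hR1'D hR1D hDle).trans
        (Nat.mul_le_mul_left _ (Subgroup.card_le_of_le hint))
    have hsmall : Nat.card (cen z ⊓ R : Subgroup G) ≤ r * zr := (hle z hz hzc).trans hR1le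
    by_cases hzt : Typed N r z
    · have h1 := H.card_le_mul (H.sylow_le R hz) hzc hkz hzt hzr' R hzcom
      have h2 : r * Nat.card R1 ≤ Nat.card D := by
        refine mul_card_le_of_lt (R.isPGroup'.to_le inf_le_left) (lt_of_le_of_ne hR1D fun e => ?_)
        obtain ⟨g', hg', hg'1, hg'n⟩ := exists_normalizing R.isPGroup' inf_le_right hR1ne
        exact hg'1 (e.ge ⟨hg', mem_normalizer_of_conj_mem hg'n⟩)
      refine hDR (Subgroup.eq_of_le_of_card_ge inf_le_left (h1.trans (le_trans ?_ h2)))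
      exact Nat.mul_le_mul_left _ (hle z hz hzc)
    · exact H.no_untyped_shift R hz hzc hzr' hzcom hsmall hzt hw0R hw0c ht0
  rw [hDR] at hDle
  have hR1R : r * Nat.card R1 ≤ Nat.card (R : Subgroup G) :=
    mul_card_le_of_lt R.isPGroup' (lt_of_le_of_ne inf_le_right hR1ne)
  by_cases hbig : r * zr < Nat.card R1
  · have hout : ∀ t ∈ (R : Subgroup G), t ∉ center G → t ∉ R1 →
        Nat.card (cen t ⊓ R : Subgroup G) ≤ r * zr := by
      intro t ht htc ht1
      refine (card_le_inf_mul (inf_le_right : cen t ⊓ (R : Subgroup G) ≤ R) inf_le_right hDle).trans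
        (Nat.mul_le_mul_left _ (Subgroup.card_le_of_le fun x hx => ⟨?_, hx.1.2⟩))
      by_contra hxc
      exact ht1 ⟨hsame x hx.2 hxc ▸ cen_comm hx.1.1, ht⟩
    have htop : (cen w0 ⊓ N).subgroupOf N = ⊤ := by
      refine CfsgLib.FGS.eq_top_of_forall_exists_conj fun x => ?_
      by_cases hxc : (x : G) ∈ center G
      · refine ⟨1, ?_⟩
        rw [one_mul, inv_one, mul_one, mem_subgroupOf]
        exact ⟨mem_cen.2 (Subgroup.mem_center_iff.1 hxc w0).symm, x.2⟩
      obtain ⟨v, hv, hvc, ⟨kv, hkv⟩, hvx⟩ := H.exists_r_elt x.2 hxc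
      obtain ⟨R', hR'⟩ := exists_full (r := r) v
      obtain ⟨g, hg, hgR⟩ := H.exists_conj_sylow R R'
      have hvR' := H.mem_of_full R' hv hvc hkv hR'
      set v' := g⁻¹ * v * g with hv'
      have hv'c : v' ∉ center G := fun h => hvc (by
        rw [show v = g * v' * g⁻¹ by rw [hv']; group, Subgroup.mem_center_iff.1 h g,
          mul_inv_cancel_right]
        exact h)
      have hfull : Nat.card R1 ≤ Nat.card (cen v' ⊓ R : Subgroup G) := by
        rw [hR, H.card_cen w0 hw0 v hv hw0c hvc, ← hR',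
          ← Subgroup.card_map_of_injective (K := (cen v ⊓ R' : Subgroup G))
            (f := (MulAut.conj g⁻¹).toMonoidHom) (MulAut.conj g⁻¹).injective]
        refine Subgroup.card_le_of_le ?_
        rintro _ ⟨t, ht, rfl⟩
        refine ⟨?_, ?_⟩
        · show g⁻¹ * t * g⁻¹⁻¹ ∈ cen v'
          have := conj_mem_cen (g := g⁻¹) ht.1
          rwa [show g⁻¹ * v * g⁻¹⁻¹ = v' by rw [hv', inv_inv]] at this
        · show g⁻¹ * t * g⁻¹⁻¹ ∈ (R : Subgroup G)
          rw [inv_inv]; exact hgR t ht.2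
      have hv'R1 : v' ∈ R1 := by
        by_contra hn
        have := hout v' (hgR v hvR') hv'c hn
        omega
      refine ⟨⟨g⁻¹, inv_mem hg⟩, mem_subgroupOf.2 ⟨?_, ?_⟩⟩
      · show g⁻¹ * (x : G) * g⁻¹⁻¹ ∈ cen w0
        rw [← hsame v' hv'R1 hv'c, inv_inv, hv']
        have h1 : (x : G) ∈ cen v := hvx.symm ▸ mem_cen.2 rfl
        have h2 := conj_mem_cen (g := g⁻¹) h1
        rwa [inv_inv] at h2
      · exact (((⟨g⁻¹, inv_mem hg⟩ : N) * x * (⟨g⁻¹, inv_mem hg⟩ : N)⁻¹) : N).2
    exact hR1ne (le_antisymm inf_le_right fun x hx =>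
      ⟨((Subgroup.subgroupOf_eq_top.1 htop) (H.sylow_le R hx)).1, hx⟩)
  push Not at hbig
  have hR1eq : Nat.card R1 = r * zr :=
    le_antisymm hbig (mul_card_center_le R hw0R hw0c)
  have hRcard : Nat.card (R : Subgroup G) = r * (r * zr) := by
    rw [← hR1eq]; exact le_antisymm hDle hR1R
  have hfull : ∀ x ∈ (R : Subgroup G), x ∉ center G →
      Nat.card (cen x ⊓ R : Subgroup G) = r * zr ∧
        Nat.card (cen x ⊓ R : Subgroup G) = r ^ (Nat.card (cen x)).factorization r := by
    intro x hx hxc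
    have h1 : Nat.card (cen x ⊓ R : Subgroup G) = r * zr :=
      le_antisymm (hR1eq ▸ hle x hx hxc) (mul_card_center_le R hx hxc)
    refine ⟨h1, ?_⟩
    rw [h1, ← hR1eq, hR, H.card_cen w0 hw0 x (H.sylow_le R hx) hw0c hxc]
  set π := QuotientGroup.mk' (center G) with hπ
  have hpow : ∀ x ∈ (R : Subgroup G), x ^ r ∈ center G := by
    intro x hx
    by_contra hxr
    have hxc : x ∉ center G := fun h => hxr (pow_mem h r)
    set K := zpowers (x ^ r) ⊔ (center G ⊓ R) with hK
    have hKle : K ≤ cen x ⊓ (R : Subgroup G) := sup_le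
      (zpowers_le.2 ⟨mem_cen.2 ((Commute.refl x).pow_left r), pow_mem hx r⟩)
      (le_inf (fun c hc => mem_cen.2 (Subgroup.mem_center_iff.1 hc.1 x).symm) inf_le_right)
    have hKbig : r * zr ≤ Nat.card K := by
      refine mul_card_le_of_lt (R.isPGroup'.to_le (hKle.trans inf_le_right))
        (lt_of_le_not_ge le_sup_right fun h' => ?_)
      exact hxr (h' (mem_sup_left (mem_zpowers _))).1
    have hxK : x ∈ K := by
      have := Subgroup.eq_of_le_of_card_ge hKle ((hfull x hx hxc).1 ▸ hKbig)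
      exact this.ge ⟨mem_cen.2 rfl, hx⟩
    have h1 : π x ∈ zpowers (π (x ^ r)) := by
      have h2 := mem_map_of_mem π hxK
      rw [hK, Subgroup.map_sup, MonoidHom.map_zpowers] at h2
      have h3 : (center G ⊓ (R : Subgroup G)).map π = ⊥ := by
        rw [eq_bot_iff]
        rintro _ ⟨c, hc, rfl⟩
        exact (QuotientGroup.eq_one_iff c).2 hc.1
      rwa [h3, sup_bot_eq] at h2
    obtain ⟨kx, hkx⟩ := exists_orderOf_eq_pow R hx
    obtain ⟨j, -, hj⟩ := (Nat.dvd_prime_pow hr.out).1 (hkx ▸ orderOf_map_dvd π x)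
    obtain ⟨i, hi⟩ := Subgroup.mem_zpowers_iff.1 h1
    rw [map_pow, ← zpow_natCast, ← zpow_mul] at hi
    have h4 : (π x) ^ ((r : ℤ) * i - 1) = 1 := by
      rw [zpow_sub, hi, zpow_one, mul_inv_cancel]
    have h5 := orderOf_dvd_iff_zpow_eq_one.2 h4
    rcases Nat.eq_zero_or_pos j with rfl | hj0
    · rw [pow_zero, orderOf_eq_one_iff] at hj
      exact hxc (mem_center_of_map hj)
    · rw [hj] at h5
      have h6 : (r : ℤ) ∣ (r : ℤ) * i - 1 :=
        (Int.natCast_dvd_natCast.2 (dvd_pow_self r hj0.ne')).trans h5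
      have h7 := dvd_sub (dvd_mul_right (r : ℤ) i) h6
      rw [sub_sub_cancel] at h7
      exact hr.out.one_lt.ne' (by exact_mod_cast Int.eq_one_of_dvd_one (by positivity) h7)
  have hcom : ∀ x ∈ (R : Subgroup G), ∀ d ∈ (R : Subgroup G),
      d⁻¹ * x * d * x⁻¹ ∈ center G := by
    intro x hx d hd
    have hcard : Nat.card ((R : Subgroup G).map π) = r ^ 2 := by
      have h1 := card_eq_inf_mul_map (R : Subgroup G) (center G)
      rw [hRcard, inf_comm, ← hzr, ← hπ] at h1
      have hpos : 0 < zr := Nat.card_pos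
      refine Nat.eq_of_mul_eq_mul_left hpos ?_
      rw [← h1]; ring
    have hc := (IsPGroup.isMulCommutative_of_card_eq_prime_sq hcard).is_comm.comm
      ⟨π x, mem_map_of_mem π hx⟩ ⟨π d, mem_map_of_mem π hd⟩
    have hc' : π x * π d = π d * π x := congrArg Subtype.val hc
    refine mem_center_of_map ?_
    rw [← hπ, map_mul, map_mul, map_mul, map_inv, map_inv, mul_assoc (π d)⁻¹, hc',
      inv_mul_cancel_left, mul_inv_cancel]
  by_cases hall : ∀ x ∈ (R : Subgroup G), x ∉ center G → Typed N r x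
  · exact H.no_all_typed R hRcard hpow hcom hfull hall
  · push Not at hall
    obtain ⟨x, hx, hxc, hxt⟩ := hall
    exact H.no_untyped_shift R hx hxc (hpow x hx) (hcom x hx) (hfull x hx hxc).1.le hxt hw0R hw0c ht0

/-- The theorem in terms of centralizer orders. -/
theorem Hyp.isNilpotent (H : Hyp N r) : Group.IsNilpotent N := by
  by_cases hZ : NoBig G r
  · have hcent : ∀ x ∈ N, ∀ q k, q.Prime → q ≠ r → orderOf x = q ^ k → x ∈ center G := by
      intro x hx q k hq hqr hxk
      by_contra hxc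
      obtain ⟨w, hw, hwc, ⟨j, hj⟩, hwx⟩ := H.exists_r_elt hx hxc
      refine H.no_typed hZ hw hwc hj ⟨x, hx, hwx.symm ▸ mem_cen.2 rfl, hxc, ?_⟩
      rw [hxk]; exact Nat.Coprime.pow_left _ ((Nat.coprime_primes hq hr.out).2 hqr)
    refine Group.of_quotient_center_nilpotent (IsPGroup.isNilpotent (p := r) ?_)
    intro a
    induction a using QuotientGroup.induction_on with
    | H x =>
      obtain ⟨e, m, hm, hxe⟩ := Nat.exists_eq_pow_mul_and_not_dvd (orderOf_pos x).ne' r hr.out.ne_one
      refine ⟨e, ?_⟩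
      rw [← QuotientGroup.mk_pow, QuotientGroup.eq_one_iff]
      refine Subgroup.mem_center_iff.2 fun g => Subtype.ext ?_
      have h1 : ((x ^ r ^ e : N) : G) ∈ center G := by
        refine CfsgLib.FGS.mem_of_prime_powers _ _ fun a ha => ?_
        obtain ⟨q, k, hq, hk⟩ := ha
        by_cases hqr : q = r
        · have hd : orderOf (((x ^ r ^ e : N) : G) ^ a) ∣ m := by
            apply orderOf_dvd_of_pow_eq_one
            rw [← pow_mul, SubgroupClass.coe_pow, ← pow_mul, mul_comm a m, ← mul_assoc, ← hxe,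
              pow_mul, ← Subgroup.orderOf_coe, pow_orderOf_eq_one, one_pow]
          rw [hk, hqr] at hd
          rcases Nat.eq_zero_or_pos k with rfl | hk0
          · rw [pow_zero, orderOf_eq_one_iff] at hk
            rw [hk]; exact one_mem _
          · exact absurd ((dvd_pow_self r hk0.ne').trans hd) hm
        · exact hcent _ (pow_mem (x ^ r ^ e : N).2 a) q k hq hqr hk
      exact Subgroup.mem_center_iff.1 h1 g
  -- some noncentral element centralizes a Sylow subgroup: `N` is abelian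
  rw [NoBig] at hZ
  push Not at hZ
  obtain ⟨R0, z, hz, hzR, hzc⟩ := hZ
  have hzN := H.sylow_le R0 hz
  have hcov : ∀ x ∈ N, ∀ y ∈ (R0 : Subgroup G), x * y = y * x := by
    have htop : ((Subgroup.centralizer ((R0 : Subgroup G) : Set G)).subgroupOf N) = ⊤ := by
      refine CfsgLib.FGS.eq_top_of_forall_exists_conj fun x => ?_
      by_cases hxc : (x : G) ∈ center G
      · refine ⟨1, ?_⟩
        rw [one_mul, inv_one, mul_one, mem_subgroupOf, Subgroup.mem_centralizer_iff]
        exact fun y _ => Subgroup.mem_center_iff.1 hxc y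
      obtain ⟨S, hS⟩ := exists_full (r := r) (x : G)
      have hScard : Nat.card (R0 : Subgroup G) ≤ Nat.card (cen (x : G) ⊓ S : Subgroup G) := by
        rw [hS]; exact H.card_le_of_le_cen hzN x.2 hzc hxc R0.isPGroup' hzR
      have hSx : (S : Subgroup G) ≤ cen (x : G) := by
        refine le_trans (Subgroup.eq_of_le_of_card_ge inf_le_right ?_).ge inf_le_left
        rw [show Nat.card (S : Subgroup G) = Nat.card (R0 : Subgroup G) by
          rw [S.card_eq_multiplicity, R0.card_eq_multiplicity]]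
        exact hScard
      obtain ⟨g, hg, hgS⟩ := H.exists_conj_sylow S R0
      refine ⟨⟨g, hg⟩, mem_subgroupOf.2 (Subgroup.mem_centralizer_iff.2 fun y hy => ?_)⟩
      show y * (g * (x : G) * g⁻¹) = g * (x : G) * g⁻¹ * y
      have h1 : g⁻¹ * y * g * (x : G) = (x : G) * (g⁻¹ * y * g) := mem_cen.1 (hSx (hgS y hy))
      calc y * (g * (x : G) * g⁻¹) = g * (g⁻¹ * y * g * (x : G)) * g⁻¹ := by group
        _ = g * ((x : G) * (g⁻¹ * y * g)) * g⁻¹ := by rw [h1]
        _ = _ := by group
    intro x hx y hy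
    exact (Subgroup.mem_centralizer_iff.1 (Subgroup.subgroupOf_eq_top.1 htop hx) y hy).symm
  have hab : ∀ x ∈ N, x ∉ center G → N ≤ cen x := by
    intro x hx hxc
    obtain ⟨a, q, k, hq, hk, ha, hcen⟩ := H.exists_part hx hxc
    rw [← hcen]
    by_cases hqr : q = r
    · intro n hn
      have : x ^ a ∈ (R0 : Subgroup G) := mem_sylow_of_commute R0 (hqr ▸ hk)
        fun y hy => (hcov _ (pow_mem hx a) y hy).symm
      exact mem_cen.2 (hcov n hn _ this)
    · intro n hn
      obtain ⟨j, hj⟩ := exists_orderOf_eq_pow R0 hz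
      rw [H.eq_of_coprime (pow_mem hx a) hzN ha hzc (hcov _ (pow_mem hx a) z hz) (by
        rw [hk, hj]; exact Nat.Coprime.pow _ _ ((Nat.coprime_primes hq hr.out).2 hqr))]
      exact mem_cen.2 (hcov n hn z hz)
  letI : CommGroup N := { (inferInstance : Group N) with
    mul_comm := fun x y => Subtype.ext (by
      by_cases hxc : (x : G) ∈ center G
      · exact (Subgroup.mem_center_iff.1 hxc y).symm
      · exact (mem_cen.1 (hab x x.2 hxc y.2)).symm) }
  exact CommGroup.isNilpotent

end Cfsg.Agent.TwoSizeNormal
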