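import Cfsg.Agent.Lib.Solvable.Supersolvable
import Cfsg.Agent.Lib.Solvable.Fitting
import Cfsg.Agent.Lib.Cores.Fitting
import Cfsg.Agent.Lib.FGS.Covering
import Cfsg.Agent.S4167

/-!
# Groups with square-free class sizes

Chillag–Herzog: such a group is supersolvable, the index of the Fitting subgroup and the order of
the derived subgroup are square-free.
-/

set_option autoImplicit false
set_option linter.style.haveILetI false
set_option linter.unusedSectionVars false

open Subgroup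
open scoped commutatorElement

namespace Cfsg.Agent.SquarefreeClasses

universe u

/-- The centralizer of an element. -/
abbrev ctr {G : Type*} [Group G] (x : G) : Subgroup G := Subgroup.centralizer ({x} : Set G)

/-- All class sizes are square-free. -/
def Hyp (G : Type*) [Group G] : Prop := ∀ x : G, Squarefree (ctr x).index

theorem mem_ctr {G : Type*} [Group G] {x g : G} : g ∈ ctr x ↔ g * x = x * g :=
  mem_centralizer_singleton_iff

variable {G : Type*} [Group G] [Finite G]

theorem ctr_pow_le (x : G) (k : ℕ) : ctr x ≤ ctr (x ^ k) := fun _ hg =>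
  mem_ctr.2 (Commute.pow_right (mem_ctr.1 hg) k)

theorem ctr_mul_le {a b : G} (hc : Commute a b) (hcop : (orderOf a).Coprime (orderOf b)) :
    ctr (a * b) ≤ ctr a ⊓ ctr b := by
  intro g hg
  have key : ∀ {u v : G}, Commute u v → (orderOf u).Coprime (orderOf v) →
      Commute g (u * v) → Commute g u := by
    intro u v huv hco hguv
    obtain ⟨k, hk⟩ := exists_pow_eq_self_of_coprime hco.symm (x := u)
    have e : (u * v) ^ orderOf v = u ^ orderOf v := by
      rw [huv.mul_pow, pow_orderOf_eq_one, mul_one]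
    have h1 := (hguv.pow_right (orderOf v)).pow_right k
    rwa [e, hk] at h1
  have h : Commute g (a * b) := mem_ctr.1 hg
  exact Subgroup.mem_inf.2 ⟨mem_ctr.2 (key hc hcop h),
    mem_ctr.2 (key hc.symm hcop.symm (by rwa [← hc.eq]))⟩

theorem Hyp.subgroup (h : Hyp G) (N : Subgroup G) [N.Normal] : Hyp ↥N := fun x =>
  (h x).squarefree_of_dvd (S4167.index_inf_dvd N x)

theorem Hyp.quotient (h : Hyp G) (N : Subgroup G) [N.Normal] : Hyp (G ⧸ N) := fun x => by
  obtain ⟨y, rfl⟩ := QuotientGroup.mk_surjective x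
  exact (h y).squarefree_of_dvd (S4167.index_quot_dvd N y)

theorem Hyp.isSolvable (h : Hyp G) : Group.IsSolvable G :=
  S4167.result fun x h4 => by
    have := h x 2 h4
    norm_num at this

theorem relIndex_dvd (N C : Subgroup G) [N.Normal] : C.relIndex N ∣ C.index := by
  have e1 : Nat.card (N ⊓ C : Subgroup G) * C.relIndex N = Nat.card N := by
    rw [← Subgroup.inf_relIndex_left, ← Subgroup.relIndex_bot_left (N ⊓ C),
      ← Subgroup.relIndex_bot_left N, Subgroup.relIndex_mul_relIndex ⊥ _ N bot_le inf_le_left]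
  have e2 : Nat.card C = Nat.card (N ⊓ C : Subgroup G) * N.relIndex C := by
    rw [← Subgroup.inf_relIndex_right, ← Subgroup.relIndex_bot_left (N ⊓ C),
      ← Subgroup.relIndex_bot_left C, Subgroup.relIndex_mul_relIndex ⊥ _ C bot_le inf_le_right]
  obtain ⟨d, hd⟩ := Subgroup.relIndex_dvd_index_of_normal N C
  refine ⟨d, ?_⟩
  have hk : 0 < Nat.card (N ⊓ C : Subgroup G) := Nat.card_pos
  have hj : 0 < N.relIndex C := Nat.pos_of_ne_zero Subgroup.index_ne_zero_of_finite
  have h3 : Nat.card N * N.index = Nat.card C * C.index := by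
    rw [N.card_mul_index, C.card_mul_index]
  rw [← e1, e2, hd] at h3
  apply Nat.eq_of_mul_eq_mul_left (Nat.mul_pos hk hj)
  rw [← h3]; ring

theorem Hyp.relIndex_dvd_prime (h : Hyp G) {p : ℕ} [hp : Fact p.Prime] (K : Subgroup G) [K.Normal]
    (hK : IsPGroup p K) (y : G) : (ctr y).relIndex K ∣ p := by
  obtain ⟨a, ha⟩ := IsPGroup.iff_card.1 hK
  obtain ⟨i, -, hi⟩ := (Nat.dvd_prime_pow hp.out).1 (ha ▸ Subgroup.relIndex_dvd_card (ctr y) K)
  have hsq : Squarefree ((ctr y).relIndex K) := (h y).squarefree_of_dvd (relIndex_dvd K (ctr y))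
  rw [hi] at hsq ⊢
  rcases Nat.lt_or_ge i 2 with h' | h'
  · exact (pow_dvd_pow p (show i ≤ 1 by omega)).trans (pow_one p).dvd
  · exfalso
    have := hsq p (((sq p).symm ▸ dvd_rfl : p * p ∣ p ^ 2).trans (pow_dvd_pow p h'))
    rw [Nat.isUnit_iff] at this
    exact hp.out.one_lt.ne' this

theorem not_dvd_orderOf_pow {p : ℕ} [hp : Fact p.Prime] (y : G) :
    ∃ k j : ℕ, ¬ p ∣ orderOf (y ^ k) ∧ orderOf (y ^ j) ∣ orderOf y ∧
      (∃ i, orderOf (y ^ j) = p ^ i) ∧ y ^ j * y ^ k = y := by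
  obtain ⟨a, b, ⟨i, hi⟩, hcop, hab, -⟩ := CfsgLib.FGS.exists_p_parts p y
  refine ⟨b, a, ?_, orderOf_pow_dvd a, ⟨i, hi⟩, hab⟩
  exact fun hd => hp.out.one_lt.ne' (Nat.eq_one_of_dvd_coprimes hcop hd dvd_rfl)

/-! ### Prime power order -/

/-- A `p`-group with class sizes at most `p` has derived subgroup of order at most `p`. -/
theorem card_commutator_dvd {P : Type*} [Group P] [Finite P] {p : ℕ} [hp : Fact p.Prime]
    (hP : IsPGroup p P) (h : ∀ x : P, (ctr x).index ∣ p) : Nat.card (commutator P) ∣ p := by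
  classical
  have hder : ∀ x : P, commutator P ≤ ctr x := by
    intro x
    rcases (Nat.dvd_prime hp.out).1 (h x) with h1 | h1
    · rw [Subgroup.index_eq_one.1 h1]; exact le_top
    · haveI : (ctr x).Normal := by
        obtain ⟨a, ha⟩ := IsPGroup.iff_card.1 hP
        refine Subgroup.normal_of_index_eq_minFac_card ?_
        rcases Nat.eq_zero_or_pos a with h0 | h0
        · exfalso
          have hd := Subgroup.index_dvd_card (ctr x)
          rw [h1, ha, h0, pow_zero] at hd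
          exact hp.out.one_lt.ne' (Nat.dvd_one.1 hd)
        · rw [h1, ha, Nat.pow_minFac h0.ne', hp.out.minFac_eq]
      haveI : IsCyclic (P ⧸ ctr x) :=
        isCyclic_of_prime_card (p := p) (by rw [← Subgroup.index_eq_card]; exact h1)
      rw [← QuotientGroup.ker_mk' (ctr x)]
      refine Subgroup.commutator_le.2 fun a _ b _ => ?_
      rw [MonoidHom.mem_ker, map_commutatorElement, commutatorElement_eq_one_iff_mul_comm]
      obtain ⟨g, hg⟩ := IsCyclic.exists_generator (α := P ⧸ ctr x)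
      obtain ⟨i, hi⟩ := hg (QuotientGroup.mk' (ctr x) a)
      obtain ⟨j, hj⟩ := hg (QuotientGroup.mk' (ctr x) b)
      simp only at hi hj
      rw [← hi, ← hj, ← zpow_add, ← zpow_add, add_comm]
  have hcen : ∀ c ∈ commutator P, ∀ x : P, c * x = x * c := fun c hc x => mem_ctr.1 (hder x hc)
  let δ : P → (P →* P) := fun x =>
    { toFun := fun b => b * x * b⁻¹ * x⁻¹
      map_one' := by group
      map_mul' := fun a b => by
        have hm : b * x * b⁻¹ * x⁻¹ ∈ commutator P :=
          Subgroup.commutator_mem_commutator (Subgroup.mem_top b) (Subgroup.mem_top x)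
        calc a * b * x * (a * b)⁻¹ * x⁻¹
            = a * (b * x * b⁻¹ * x⁻¹) * (x * a⁻¹ * x⁻¹) := by group
          _ = a * ((x * a⁻¹ * x⁻¹) * (b * x * b⁻¹ * x⁻¹)) := by
              rw [mul_assoc, hcen _ hm]
          _ = _ := by group }
  have hker : ∀ x, (δ x).ker = ctr x := fun x => by
    ext b
    rw [MonoidHom.mem_ker, mem_ctr]
    show b * x * b⁻¹ * x⁻¹ = 1 ↔ _
    rw [mul_inv_eq_one, mul_inv_eq_iff_eq_mul]
  have hU : ∀ x, Nat.card (δ x).range ∣ p := fun x => by
    rw [← Subgroup.index_ker, hker]; exact h x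
  suffices hs : ∃ U : Subgroup P, Nat.card U ∣ p ∧ ∀ x, (δ x).range ≤ U by
    obtain ⟨U, hUc, hUle⟩ := hs
    refine (Subgroup.card_dvd_of_le ?_).trans hUc
    exact Subgroup.commutator_le.2 fun a _ b _ => hUle b ⟨a, rfl⟩
  by_contra hcon
  push Not at hcon
  have hsub : ∀ (x : P) (U : Subgroup P), Nat.card U ∣ p → U ≤ (δ x).range → U ≠ ⊥ → U = (δ x).range := by
    intro x U hUp hle hne
    refine Subgroup.eq_of_le_of_card_ge hle ?_
    rcases (Nat.dvd_prime hp.out).1 hUp with h1 | h1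
    · exact absurd (Subgroup.card_eq_one.1 h1) hne
    · rw [h1]; exact Nat.le_of_dvd hp.out.pos (hU x)
  have heq : ∀ x y, (δ x).range ≠ ⊥ → (δ y).range ≠ ⊥ → (δ x).range ≠ (δ y).range →
      ctr x = ctr y := by
    intro x y hx hy hne
    have hi : ∀ w, (δ w).range ≠ ⊥ → (ctr w).index = p := fun w hw =>
      ((Nat.dvd_prime hp.out).1 (h w)).resolve_left fun h1 => hw (by
        rw [← Subgroup.card_eq_one, ← Subgroup.index_ker, hker]; exact h1)
    by_contra hne'
    have hnle : ∀ u v : P, (ctr u).index = (ctr v).index → ctr u ≠ ctr v → ∃ b ∈ ctr u, b ∉ ctr v := by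
      intro u v hi' hne''
      by_contra hall
      push Not at hall
      refine hne'' (Subgroup.eq_of_le_of_card_ge hall ?_)
      have e := (ctr u).card_mul_index.trans (ctr v).card_mul_index.symm
      rw [hi'] at e
      exact (Nat.eq_of_mul_eq_mul_right (Nat.pos_of_ne_zero Subgroup.index_ne_zero_of_finite) e).ge
    obtain ⟨b, hbx, hby⟩ := hnle x y ((hi x hx).trans (hi y hy).symm) hne'
    obtain ⟨b', hby', hbx'⟩ := hnle y x ((hi y hy).trans (hi x hx).symm) (Ne.symm hne')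
    have e1 : δ (x * y) b = δ y b := by
      show b * (x * y) * b⁻¹ * (x * y)⁻¹ = b * y * b⁻¹ * y⁻¹
      have hm : b * y * b⁻¹ * y⁻¹ ∈ commutator P :=
        Subgroup.commutator_mem_commutator (Subgroup.mem_top b) (Subgroup.mem_top y)
      calc b * (x * y) * b⁻¹ * (x * y)⁻¹ = b * x * (y * b⁻¹ * y⁻¹) * x⁻¹ := by group
        _ = x * b * (y * b⁻¹ * y⁻¹) * x⁻¹ := by rw [mem_ctr.1 hbx]
        _ = x * ((b * y * b⁻¹ * y⁻¹) * x⁻¹) := by group
        _ = x * (x⁻¹ * (b * y * b⁻¹ * y⁻¹)) := by rw [hcen _ hm x⁻¹]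
        _ = _ := by group
    have e2 : δ (x * y) b' = δ x b' := by
      show b' * (x * y) * b'⁻¹ * (x * y)⁻¹ = b' * x * b'⁻¹ * x⁻¹
      have hy'' : b'⁻¹ * y⁻¹ = y⁻¹ * b'⁻¹ := by
        rw [← mul_inv_rev, ← mul_inv_rev, mem_ctr.1 hby']
      calc b' * (x * y) * b'⁻¹ * (x * y)⁻¹ = b' * x * y * (b'⁻¹ * y⁻¹) * x⁻¹ := by group
        _ = _ := by rw [hy'']; group
    have key : ∀ w c, c ∉ ctr w → δ (x * y) c = δ w c → (δ w).range = (δ (x * y)).range := by
      intro w c hc e
      have hne0 : δ w c ≠ 1 := fun h0 => hc (hker w ▸ MonoidHom.mem_ker.2 h0)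
      have h1 : Subgroup.zpowers (δ w c) ≠ ⊥ := fun h0 => hne0 (Subgroup.zpowers_eq_bot.1 h0)
      have h2 : Nat.card (Subgroup.zpowers (δ w c)) ∣ p :=
        (Subgroup.card_dvd_of_le (Subgroup.zpowers_le.2 (⟨c, rfl⟩ : δ w c ∈ (δ w).range))).trans (hU w)
      exact (hsub w _ h2 (Subgroup.zpowers_le.2 ⟨c, rfl⟩) h1).symm.trans
        (hsub (x * y) _ h2 (Subgroup.zpowers_le.2 ⟨c, e⟩) h1)
    exact hne ((key x b' hbx' e2).trans (key y b hby e1).symm)
  obtain ⟨x, hx⟩ := hcon ⊥ (by rw [Subgroup.card_bot]; exact one_dvd p)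
  obtain ⟨y, hy⟩ := hcon (δ x).range (hU x)
  have hx0 : (δ x).range ≠ ⊥ := fun h0 => hx h0.le
  have hy0 : (δ y).range ≠ ⊥ := fun h0 => hy (h0.le.trans bot_le)
  have hxy : (δ x).range ≠ (δ y).range := fun h0 => hy h0.ge
  have hall : ∀ z, (δ z).range ≠ ⊥ → ctr z = ctr x := by
    intro z hz
    by_cases hzx : (δ z).range = (δ x).range
    · rw [heq z y hz hy0 (hzx ▸ hxy), heq x y hx0 hy0 hxy]
    · exact heq z x hz hx0 hzx
  obtain ⟨a, ha⟩ : ∃ a, a ∉ ctr x := by
    by_contra hc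
    push Not at hc
    refine hx ?_
    rintro _ ⟨b, rfl⟩
    exact Subgroup.mem_bot.2 (MonoidHom.mem_ker.1 ((hker x).ge (hc b)))
  refine ha ((hall a fun h0 => ha ?_) ▸ mem_ctr.2 rfl)
  have hxa : x ∈ ctr a := hker a ▸ MonoidHom.mem_ker.2 (Subgroup.mem_bot.1 (h0 ▸ ⟨x, rfl⟩))
  exact mem_ctr.2 (mem_ctr.1 hxa).symm

/-! ### Coprime elements acting on a normal `p`-subgroup -/

theorem fixed_shift {p : ℕ} [hp : Fact p.Prime] {K : Subgroup G} (hK : IsPGroup p K) {y v d : G}
    (hy : ¬ p ∣ orderOf y) (hd : d ∈ K) (hyd : y * d = d * y) (he : y * v * y⁻¹ = v * d) :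
    d = 1 := by
  have hiter : ∀ i : ℕ, y ^ i * v * (y ^ i)⁻¹ = v * d ^ i := by
    intro i
    induction i with
    | zero => simp
    | succ i ih =>
      calc y ^ (i + 1) * v * (y ^ (i + 1))⁻¹ = y ^ i * (y * v * y⁻¹) * (y ^ i)⁻¹ := by
            rw [pow_succ]; group
        _ = (y ^ i * v * (y ^ i)⁻¹) * (y ^ i * d * (y ^ i)⁻¹) := by rw [he]; group
        _ = v * d ^ i * d := by
            rw [ih, ((Commute.pow_left (show Commute y d from hyd) i)).eq, mul_inv_cancel_right]
        _ = _ := by rw [pow_succ]; group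
  have h := hiter (orderOf y)
  rw [pow_orderOf_eq_one, inv_one, mul_one, one_mul] at h
  have h1 : d ^ orderOf y = 1 := by
    have := h.symm
    rwa [mul_eq_left] at this
  obtain ⟨k, hk⟩ := (IsPGroup.iff_orderOf.1 hK) ⟨d, hd⟩
  rw [Subgroup.orderOf_mk] at hk
  refine orderOf_eq_one_iff.1 (Nat.eq_one_of_dvd_coprimes ?_ hk.dvd (orderOf_dvd_of_pow_eq_one h1))
  exact ((Nat.Prime.coprime_iff_not_dvd hp.out).2 hy).pow_left k

/-- A normal `p`-subgroup moved by an element of order prime to `p` is abelian. -/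
theorem Hyp.abelian (h : Hyp G) {p : ℕ} [hp : Fact p.Prime] (K : Subgroup G) [K.Normal]
    (hK : IsPGroup p K) {y : G} (hy : ¬ p ∣ orderOf y) (hne : ¬ K ≤ ctr y) :
    ∀ a ∈ K, ∀ b ∈ K, a * b = b * a := by
  have hMi : (ctr y).relIndex K = p := ((Nat.dvd_prime hp.out).1 (h.relIndex_dvd_prime K hK y)).resolve_left
    fun h1 => hne (Subgroup.relIndex_eq_one.1 h1)
  have hMab : ∀ m ∈ K, m ∈ ctr y → ∀ m' ∈ K, m' ∈ ctr y → m' * m = m * m' := by
    intro m hm hmy m' hm' hmy'
    have hcop : (orderOf m).Coprime (orderOf y) := by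
      obtain ⟨k, hk⟩ := (IsPGroup.iff_orderOf.1 hK) ⟨m, hm⟩
      rw [Subgroup.orderOf_mk] at hk
      rw [hk]
      exact ((Nat.Prime.coprime_iff_not_dvd hp.out).2 hy).pow_left k
    have hle := ctr_mul_le (show Commute m y from mem_ctr.1 hmy) hcop
    have h1 : (ctr (m * y)).relIndex K ∣ p := h.relIndex_dvd_prime K hK (m * y)
    have h2 : (ctr y).subgroupOf K ≤ (ctr m).subgroupOf K := by
      intro k hk
      have hsub : (ctr (m * y)).subgroupOf K ≤ (ctr y).subgroupOf K := fun w hw =>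
        (Subgroup.mem_inf.1 (hle hw)).2
      have heq : (ctr (m * y)).subgroupOf K = (ctr y).subgroupOf K := by
        refine Subgroup.eq_of_le_of_card_ge hsub ?_
        have e1 := ((ctr (m * y)).subgroupOf K).card_mul_index
        have e2 := ((ctr y).subgroupOf K).card_mul_index
        have h3 : ((ctr (m * y)).subgroupOf K).index ≤ p := Nat.le_of_dvd hp.out.pos h1
        have h4 : ((ctr y).subgroupOf K).index = p := hMi
        rw [h4] at e2
        by_contra hlt
        push Not at hlt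
        have h5 := Nat.mul_lt_mul_of_lt_of_le hlt h3 hp.out.pos
        omega
      exact (Subgroup.mem_inf.1 (hle (show (k : G) ∈ ctr (m * y) from heq.ge hk))).1
    exact mem_ctr.1 (h2 (show (⟨m', hm'⟩ : K) ∈ (ctr y).subgroupOf K from hmy'))
  haveI : ((ctr y).subgroupOf K).Normal := by
    refine Subgroup.normal_of_index_eq_minFac_card ?_
    obtain ⟨a, ha⟩ := IsPGroup.iff_card.1 hK
    rw [show ((ctr y).subgroupOf K).index = p from hMi, ha]
    rcases Nat.eq_zero_or_pos a with h0 | h0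
    · exfalso
      have hd := Subgroup.relIndex_dvd_card (ctr y) K
      rw [hMi, ha, h0, pow_zero] at hd
      exact hp.out.one_lt.ne' (Nat.dvd_one.1 hd)
    · rw [Nat.pow_minFac h0.ne', hp.out.minFac_eq]
  obtain ⟨v, hvK, hvy⟩ : ∃ v ∈ K, v ∉ ctr y := by
    by_contra hc; push Not at hc; exact hne hc
  set d := v⁻¹ * (y * v * y⁻¹) with hd
  have hdK : d ∈ K := mul_mem (inv_mem hvK) ((inferInstance : K.Normal).conj_mem v hvK y)
  have hyd : y * v * y⁻¹ = v * d := by rw [hd]; group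
  have hdy : d ∉ ctr y := by
    intro hdc
    refine hvy (mem_ctr.2 ?_)
    have h1 := hyd
    rw [fixed_shift hK hy hdK (mem_ctr.1 hdc).symm hyd, mul_one, mul_inv_eq_iff_eq_mul] at h1
    exact h1.symm
  have hdM : ∀ m ∈ K, m ∈ ctr y → m * d = d * m := by
    intro m hm hmy
    have hc : v * m * v⁻¹ ∈ ctr y :=
      Subgroup.mem_subgroupOf.1 ((inferInstance : ((ctr y).subgroupOf K).Normal).conj_mem
        ⟨m, hm⟩ hmy ⟨v, hvK⟩)
    have e1 : y * m * y⁻¹ = m := by rw [← mem_ctr.1 hmy, mul_inv_cancel_right]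
    have e2 : v * d * m * (v * d)⁻¹ = v * m * v⁻¹ := by
      calc v * d * m * (v * d)⁻¹ = (y * v * y⁻¹) * (y * m * y⁻¹) * (y * v * y⁻¹)⁻¹ := by
            rw [e1, hyd]
        _ = y * (v * m * v⁻¹) * y⁻¹ := by group
        _ = _ := by rw [← mem_ctr.1 hc, mul_inv_cancel_right]
    calc m * d = v⁻¹ * (v * m * v⁻¹) * v * d := by group
      _ = v⁻¹ * (v * d * m * (v * d)⁻¹) * v * d := by rw [e2]
      _ = _ := by group
  -- the centralizer of `d` in `K` is everything
  have hK' : ∀ k ∈ K, k * d = d * k := by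
    have hlt : (ctr y).subgroupOf K < (ctr d).subgroupOf K := by
      refine lt_of_le_of_ne (fun k hk => mem_ctr.2 (hdM k k.2 hk)) fun e => hdy ?_
      exact Subgroup.mem_subgroupOf.1 (e.ge (show (⟨d, hdK⟩ : K) ∈ (ctr d).subgroupOf K from mem_ctr.2 rfl))
    have htop : (ctr d).subgroupOf K = ⊤ := by
      by_contra hne'
      have h1 := Subgroup.index_dvd_of_le hlt.le
      rw [show ((ctr y).subgroupOf K).index = p from hMi] at h1
      rcases (Nat.dvd_prime hp.out).1 h1 with h2 | h2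
      · exact hne' (Subgroup.index_eq_one.1 h2)
      · exact absurd (Subgroup.eq_of_le_of_card_ge hlt.le (by
          have e1 := ((ctr y).subgroupOf K).card_mul_index
          have e2 := ((ctr d).subgroupOf K).card_mul_index
          rw [show ((ctr y).subgroupOf K).index = p from hMi] at e1
          rw [h2] at e2
          exact (Nat.eq_of_mul_eq_mul_right hp.out.pos (e2.trans e1.symm)).le)) hlt.ne
    intro k hk
    exact mem_ctr.1 (show (⟨k, hk⟩ : K) ∈ (ctr d).subgroupOf K from htop ▸ Subgroup.mem_top _)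
  let Z : Subgroup ↥K := Subgroup.center ↥K
  have hdZ : (⟨d, hdK⟩ : K) ∈ Z := Subgroup.mem_center_iff.2 fun g => Subtype.ext (hK' g g.2)
  have hMZ : (ctr y).subgroupOf K ≤ Z := by
    intro m hm
    refine Subgroup.mem_center_iff.2 fun g => ?_
    have hW : (⊤ : Subgroup K) ≤ Subgroup.centralizer ({m} : Set K) := by
      have h1 : (ctr y).subgroupOf K < Subgroup.centralizer ({m} : Set K) := by
        refine lt_of_le_of_ne (fun k hk => Subgroup.mem_centralizer_singleton_iff.2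
          (Subtype.ext (hMab m m.2 hm k k.2 hk))) fun e => hdy ?_
        exact Subgroup.mem_subgroupOf.1 (e.ge (Subgroup.mem_centralizer_singleton_iff.2
          (Subgroup.mem_center_iff.1 hdZ m).symm : (⟨d, hdK⟩ : K) ∈ _))
      have h2 := Subgroup.index_dvd_of_le h1.le
      rw [show ((ctr y).subgroupOf K).index = p from hMi] at h2
      rcases (Nat.dvd_prime hp.out).1 h2 with h3 | h3
      · exact (Subgroup.index_eq_one.1 h3).ge
      · exact absurd (Subgroup.eq_of_le_of_card_ge h1.le (by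
          have e1 := ((ctr y).subgroupOf K).card_mul_index
          have e2 := (Subgroup.centralizer ({m} : Set K)).card_mul_index
          rw [show ((ctr y).subgroupOf K).index = p from hMi] at e1
          rw [h3] at e2
          exact (Nat.eq_of_mul_eq_mul_right hp.out.pos (e2.trans e1.symm)).le)) h1.ne
    exact Subgroup.mem_centralizer_singleton_iff.1 (hW (Subgroup.mem_top g))
  have hZtop : Z = ⊤ := by
    have h1 : (ctr y).subgroupOf K < Z := lt_of_le_of_ne hMZ fun e => hdy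
      (Subgroup.mem_subgroupOf.1 (e.ge hdZ))
    have h2 := Subgroup.index_dvd_of_le h1.le
    rw [show ((ctr y).subgroupOf K).index = p from hMi] at h2
    rcases (Nat.dvd_prime hp.out).1 h2 with h3 | h3
    · exact Subgroup.index_eq_one.1 h3
    · exact absurd (Subgroup.eq_of_le_of_card_ge h1.le (by
        have e1 := ((ctr y).subgroupOf K).card_mul_index
        have e2 := Z.card_mul_index
        rw [show ((ctr y).subgroupOf K).index = p from hMi] at e1
        rw [h3] at e2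
        exact (Nat.eq_of_mul_eq_mul_right hp.out.pos (e2.trans e1.symm)).le)) h1.ne
  intro a ha b hb
  exact congrArg Subtype.val
    (Subgroup.mem_center_iff.1 (show (⟨b, hb⟩ : K) ∈ Z from hZtop ▸ Subgroup.mem_top _) ⟨a, ha⟩)

/-- Elements commuting in their action on an abelian normal `p`-subgroup move it in the same
line, and fix the same hyperplane. -/
theorem Hyp.two_actions (h : Hyp G) {p : ℕ} [hp : Fact p.Prime] (K : Subgroup G) [K.Normal]
    (hK : IsPGroup p K) (hab : ∀ a ∈ K, ∀ b ∈ K, a * b = b * a) {y : G} (hy : ¬ p ∣ orderOf y)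
    (hne : ¬ K ≤ ctr y) :
    ∃ L : Subgroup G, L ≤ K ∧ Nat.card L = p ∧
      (∀ z : G, (∀ k ∈ K, z * y * k * (z * y)⁻¹ = y * z * k * (y * z)⁻¹) →
        (∀ k ∈ K, k ∈ ctr y → k ∈ ctr z) ∧ (∀ k ∈ K, z * k * z⁻¹ * k⁻¹ ∈ L) ∧
          ∀ l ∈ L, z * l * z⁻¹ ∈ L) := by
  let δ : G → (↥K →* G) := fun z =>
    { toFun := fun k => z * k * z⁻¹ * (k : G)⁻¹
      map_one' := by simp
      map_mul' := fun a b => by
        have hm : z * b * z⁻¹ ∈ K := (inferInstance : K.Normal).conj_mem _ b.2 z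
        have hm' : z * b * z⁻¹ * (b : G)⁻¹ ∈ K := mul_mem hm (inv_mem b.2)
        show z * ((a * b : K) : G) * z⁻¹ * ((a * b : K) : G)⁻¹ = _
        rw [Subgroup.coe_mul]
        calc z * ((a : G) * b) * z⁻¹ * ((a : G) * b)⁻¹
            = z * a * z⁻¹ * ((z * b * z⁻¹ * (b : G)⁻¹) * (a : G)⁻¹) := by group
          _ = z * a * z⁻¹ * ((a : G)⁻¹ * (z * b * z⁻¹ * (b : G)⁻¹)) := by
              rw [hab _ hm' _ (inv_mem a.2)]
          _ = _ := by group }
  have hδ : ∀ z (k : ↥K), δ z k = z * k * z⁻¹ * (k : G)⁻¹ := fun _ _ => rfl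
  have hker : ∀ z, (δ z).ker = (ctr z).subgroupOf K := fun z => by
    ext k
    rw [MonoidHom.mem_ker, Subgroup.mem_subgroupOf, mem_ctr, hδ, mul_inv_eq_one,
      mul_inv_eq_iff_eq_mul, eq_comm]
  have hrange : ∀ z, Nat.card (δ z).range ∣ p := fun z => by
    rw [← Subgroup.index_ker, hker]; exact h.relIndex_dvd_prime K hK z
  have hle : ∀ z, (δ z).range ≤ K := by
    rintro z _ ⟨k, rfl⟩
    exact mul_mem ((inferInstance : K.Normal).conj_mem _ k.2 z) (inv_mem k.2)
  have hL : Nat.card (δ y).range = p :=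
    ((Nat.dvd_prime hp.out).1 (hrange y)).resolve_left fun h1 => hne fun k hk => by
      have h2 : δ y ⟨k, hk⟩ = 1 := Subgroup.mem_bot.1 (Subgroup.card_eq_one.1 h1 ▸ ⟨_, rfl⟩)
      rw [← MonoidHom.mem_ker, hker] at h2
      exact h2
  refine ⟨(δ y).range, hle y, hL, fun z hz => ?_⟩
  have hfix : ∀ l ∈ (δ y).range, l ∈ ctr y → l = 1 := by
    rintro _ ⟨k, rfl⟩ hl
    have e : y * k * y⁻¹ = k * δ y k := by
      rw [hab _ k.2 _ (hle y ⟨k, rfl⟩), hδ]; group
    exact fixed_shift hK hy (hle y ⟨k, rfl⟩) (mem_ctr.1 hl).symm e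
  have hzL : ∀ l ∈ (δ y).range, z * l * z⁻¹ ∈ (δ y).range := by
    rintro _ ⟨k, rfl⟩
    refine ⟨⟨z * k * z⁻¹, (inferInstance : K.Normal).conj_mem _ k.2 z⟩, ?_⟩
    rw [hδ, hδ]
    calc y * (z * k * z⁻¹) * y⁻¹ * (z * k * z⁻¹)⁻¹
        = (y * z * k * (y * z)⁻¹) * (z * k * z⁻¹)⁻¹ := by group
      _ = (z * y * k * (z * y)⁻¹) * (z * k * z⁻¹)⁻¹ := by rw [hz k k.2]
      _ = _ := by group
  have hzM : ∀ m ∈ K, m ∈ ctr y → z * m * z⁻¹ ∈ ctr y := by
    intro m hm hmy
    refine mem_ctr.2 ?_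
    have e : y * m * y⁻¹ = m := by rw [← mem_ctr.1 hmy, mul_inv_cancel_right]
    have e2 : y * (z * m * z⁻¹) * y⁻¹ = z * m * z⁻¹ := by
      calc y * (z * m * z⁻¹) * y⁻¹ = y * z * m * (y * z)⁻¹ := by group
        _ = z * y * m * (z * y)⁻¹ := (hz m hm).symm
        _ = z * (y * m * y⁻¹) * z⁻¹ := by group
        _ = _ := by rw [e]
    exact (mul_inv_eq_iff_eq_mul.1 e2).symm
  -- the images of the two parts
  have himgL : ∀ w, (∀ l ∈ (δ y).range, w * l * w⁻¹ ∈ (δ y).range) →
      ∀ l : ↥K, (l : G) ∈ (δ y).range → δ w l ∈ (δ y).range := fun w hw l hl => by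
    rw [hδ]; exact mul_mem (hw _ hl) (inv_mem hl)
  have hsame : ∀ w (u v : ↥K), δ w u ≠ 1 → δ w u ∈ (δ y).range → δ w v ∈ (δ y).range := by
    intro w u v hu hul
    have h1 : Subgroup.zpowers (δ w u) = (δ y).range := by
      refine Subgroup.eq_of_le_of_card_ge (Subgroup.zpowers_le.2 hul) ?_
      rcases (Nat.dvd_prime hp.out).1 ((Subgroup.card_dvd_of_le
        (Subgroup.zpowers_le.2 (⟨u, rfl⟩ : δ w u ∈ (δ w).range))).trans (hrange w)) with h2 | h2
      · exact absurd (Subgroup.zpowers_eq_bot.1 (Subgroup.card_eq_one.1 h2)) hu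
      · rw [hL, h2]
    have h3 : Subgroup.zpowers (δ w u) = (δ w).range := by
      refine Subgroup.eq_of_le_of_card_ge (Subgroup.zpowers_le.2 ⟨u, rfl⟩) ?_
      rw [h1, hL]
      exact Nat.le_of_dvd hp.out.pos (hrange w)
    rw [← h1, h3]
    exact ⟨v, rfl⟩
  have hmove : ∀ w, (∀ l ∈ (δ y).range, w * l * w⁻¹ ∈ (δ y).range) →
      (∀ m ∈ K, m ∈ ctr y → w * m * w⁻¹ ∈ ctr y) →
      ∀ l m : ↥K, (l : G) ∈ (δ y).range → (m : G) ∈ ctr y → δ w l ≠ 1 → δ w m = 1 := by
    intro w hwL hwM l m hl hm hne'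
    refine hfix _ (hsame w l m hne' (himgL w hwL l hl)) ?_
    rw [hδ]
    exact mul_mem (hwM _ m.2 hm) (inv_mem hm)
  have hl0 : ∃ l : ↥K, (l : G) ∈ (δ y).range ∧ δ y l ≠ 1 := by
    obtain ⟨l, hl, hl1⟩ := (δ y).range.bot_or_exists_ne_one.resolve_left (fun hb => by
      rw [hb, Subgroup.card_bot] at hL; exact hp.out.one_lt.ne hL)
    refine ⟨⟨l, hle y hl⟩, hl, fun h1 => hl1 (hfix l hl ?_)⟩
    rw [← MonoidHom.mem_ker, hker] at h1
    exact h1
  obtain ⟨l₀, hl₀, hl₀y⟩ := hl0
  have hM : ∀ k ∈ K, k ∈ ctr y → k ∈ ctr z := by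
    intro m hm hmy
    suffices h1 : δ z ⟨m, hm⟩ = 1 by
      rw [← MonoidHom.mem_ker, hker] at h1
      exact h1
    by_cases hzl : δ z l₀ = 1
    · by_contra hm1
      have hzl' : z * l₀ * z⁻¹ = l₀ := by rw [hδ, mul_inv_eq_one] at hzl; exact hzl
      have hw : δ (y * z) l₀ ≠ 1 := by
        intro h1
        apply hl₀y
        rw [hδ] at h1 ⊢
        calc y * l₀ * y⁻¹ * (l₀ : G)⁻¹ = y * (z * l₀ * z⁻¹) * y⁻¹ * (l₀ : G)⁻¹ := by rw [hzl']
          _ = y * z * l₀ * (y * z)⁻¹ * (l₀ : G)⁻¹ := by group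
          _ = 1 := h1
      have hyL : ∀ l ∈ (δ y).range, y * l * y⁻¹ ∈ (δ y).range := fun l hl => by
        have h1 : δ y ⟨l, hle y hl⟩ * l ∈ (δ y).range := mul_mem ⟨_, rfl⟩ hl
        rwa [hδ, inv_mul_cancel_right] at h1
      have hfixy : ∀ m' ∈ K, m' ∈ ctr y → y * m' * y⁻¹ = m' := fun m' _ h' => by
        rw [← mem_ctr.1 h', mul_inv_cancel_right]
      refine hm1 ?_
      have h2 := hmove (y * z) (fun l hl => by
        rw [show y * z * l * (y * z)⁻¹ = y * (z * l * z⁻¹) * y⁻¹ by group]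
        exact hyL _ (hzL l hl)) (fun m' hm' hmy' => by
        rw [show y * z * m' * (y * z)⁻¹ = y * (z * m' * z⁻¹) * y⁻¹ by group,
          hfixy _ ((inferInstance : K.Normal).conj_mem _ hm' z) (hzM m' hm' hmy')]
        exact hzM m' hm' hmy') l₀ ⟨m, hm⟩ hl₀ hmy hw
      rw [hδ] at h2 ⊢
      rw [← h2, show y * z * m * (y * z)⁻¹ * m⁻¹ = y * (z * m * z⁻¹) * y⁻¹ * m⁻¹ by group,
        hfixy _ ((inferInstance : K.Normal).conj_mem _ hm z) (hzM m hm hmy)]
    · exact hmove z hzL hzM l₀ ⟨m, hm⟩ hl₀ hmy hzl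
  refine ⟨hM, fun k hk => ?_, hzL⟩
  -- every element is a product of a fixed element and an element of the line
  let P' : Subgroup ↥K := (ctr y).subgroupOf K ⊔ (δ y).range.subgroupOf K
  have hP' : P' = ⊤ := by
    have h1 : (ctr y).subgroupOf K < P' := lt_of_le_of_ne le_sup_left fun e => hl₀y (by
      rw [← MonoidHom.mem_ker, hker]
      exact e.ge ((le_sup_right : (δ y).range.subgroupOf K ≤ P') hl₀))
    have hMi : ((ctr y).subgroupOf K).index = p := by rw [← hker, Subgroup.index_ker]; exact hL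
    have h2 := Subgroup.index_dvd_of_le h1.le
    rw [hMi] at h2
    rcases (Nat.dvd_prime hp.out).1 h2 with h3 | h3
    · exact Subgroup.index_eq_one.1 h3
    · exact absurd (Subgroup.eq_of_le_of_card_ge h1.le (by
        have e1 := ((ctr y).subgroupOf K).card_mul_index
        have e2 := P'.card_mul_index
        rw [hMi] at e1; rw [h3] at e2
        exact (Nat.eq_of_mul_eq_mul_right hp.out.pos (e2.trans e1.symm)).le)) h1.ne
  have hsub : P' ≤ (δ y).range.comap (δ z) := by
    refine sup_le (fun m hm => ?_) (fun l hl => himgL z hzL l hl)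
    have h1 : δ z m = 1 := by
      rw [← MonoidHom.mem_ker, hker]
      exact hM m m.2 hm
    rw [Subgroup.mem_comap, h1]
    exact one_mem _
  exact hsub (hP' ▸ Subgroup.mem_top (⟨k, hk⟩ : K))

/-! ### Supersolvability -/

theorem Hyp.exists_prime_normal (h : Hyp G) [Nontrivial G] :
    ∃ N : Subgroup G, N.Normal ∧ (Nat.card N).Prime := by
  classical
  haveI := h.isSolvable
  obtain ⟨N, hNn, hN, hmin⟩ := CfsgLib.Solvable.exists_minimal_normal (G := G)
  obtain ⟨p, a, hp, ha, hpg, hcard⟩ :=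
    CfsgLib.Solvable.exists_pow_card_of_minimal_normal N hN hmin inferInstance
  haveI : Fact p.Prime := ⟨hp⟩
  have hab := CfsgLib.Solvable.commute_of_minimal_normal N hN hmin inferInstance
  refine ⟨N, hNn, ?_⟩
  by_cases hcen : N ≤ Subgroup.center G
  · have hdvd : p ∣ Nat.card N := hcard ▸ dvd_pow_self p ha.ne'
    obtain ⟨z, hz⟩ := exists_prime_orderOf_dvd_card' p hdvd
    have hzN : Subgroup.zpowers (z : G) ≤ N := Subgroup.zpowers_le.2 z.2
    haveI : (Subgroup.zpowers (z : G)).Normal := ⟨fun w hw g => by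
      rw [Subgroup.mem_center_iff.1 (hcen (hzN hw)) g, mul_inv_cancel_right]; exact hw⟩
    rcases hmin _ inferInstance hzN with h1 | h1
    · rw [Subgroup.zpowers_eq_bot] at h1
      rw [← Subgroup.orderOf_coe, h1, orderOf_one] at hz
      exact absurd hz hp.one_lt.ne
    · rw [← h1, Nat.card_zpowers, Subgroup.orderOf_coe, hz]; exact hp
  -- some derived term acts as a nontrivial abelian group
  set C := Subgroup.centralizer (N : Set G) with hC
  haveI : C.Normal := inferInstance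
  have hC0 : ¬ derivedSeries G 0 ≤ C := fun h0 => hcen fun n hn =>
    Subgroup.mem_center_iff.2 fun g =>
      (Subgroup.mem_centralizer_iff.1 (h0 (by rw [derivedSeries_zero]; exact Subgroup.mem_top g)) n hn).symm
  obtain ⟨k, hk, hk1⟩ : ∃ k, ¬ derivedSeries G k ≤ C ∧ derivedSeries G (k + 1) ≤ C := by
    by_contra hcon
    push Not at hcon
    have hall : ∀ k, ¬ derivedSeries G k ≤ C := fun k => by
      induction k with
      | zero => exact hC0
      | succ k ih => exact hcon k ih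
    obtain ⟨k, hk⟩ := (Group.isSolvable_def G).1 inferInstance
    exact hall k (hk ▸ bot_le)
  set B := derivedSeries G k with hB
  haveI : B.Normal := derivedSeries_normal G k
  have hBcomm : ∀ u ∈ B, ∀ v ∈ B, u * v * u⁻¹ * v⁻¹ ∈ C := fun u hu v hv =>
    hk1 (Subgroup.commutator_mem_commutator hu hv)
  have hcomm : ∀ u ∈ B, ∀ v ∈ B, ∀ n ∈ N, u * v * n * (u * v)⁻¹ = v * u * n * (v * u)⁻¹ := by
    intro u hu v hv n hn
    have hm : v * u * n * (v * u)⁻¹ ∈ N := hNn.conj_mem n hn _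
    have h1 := Subgroup.mem_centralizer_iff.1 (hBcomm u hu v hv) _ hm
    calc u * v * n * (u * v)⁻¹
        = (u * v * u⁻¹ * v⁻¹) * (v * u * n * (v * u)⁻¹) * (u * v * u⁻¹ * v⁻¹)⁻¹ := by group
      _ = _ := by rw [← h1, mul_inv_cancel_right]
  -- an element of order prime to `p` moving `N`
  obtain ⟨y, hyB, hyC, hyp⟩ : ∃ y ∈ B, y ∉ C ∧ ¬ p ∣ orderOf y := by
    by_contra hcon
    push Not at hcon
    apply hk
    let φ : ↥B →* MulAut ↥N := MulAut.conjNormal.comp B.subtype
    have hφ : ∀ (b : ↥B) (n : ↥N), ((φ b n : ↥N) : G) = b * n * (b : G)⁻¹ := fun _ _ => rfl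
    have hker : ∀ b : ↥B, φ b = 1 ↔ (b : G) ∈ C := by
      intro b
      rw [MulEquiv.ext_iff, Subgroup.mem_centralizer_iff]
      constructor
      · intro h1 n hn
        have h2 := congrArg Subtype.val (h1 ⟨n, hn⟩)
        rw [hφ] at h2
        exact (mul_inv_eq_iff_eq_mul.1 h2).symm
      · intro h1 n
        apply Subtype.ext
        rw [hφ]
        show (b : G) * n * (b : G)⁻¹ = n
        rw [← h1 n n.2, mul_inv_cancel_right]
    have hpr : IsPGroup p φ.range := by
      rintro ⟨_, b, rfl⟩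
      obtain ⟨k', j, hk', -, ⟨i, hi⟩, hjk⟩ := not_dvd_orderOf_pow (p := p) b
      refine ⟨i, Subtype.ext ?_⟩
      show φ b ^ p ^ i = 1
      have h1 : φ (b ^ k') = 1 := (hker _).2 (by
        by_contra hn
        exact hk' (Subgroup.orderOf_coe (b ^ k') ▸ hcon _ (b ^ k').2 hn))
      rw [show φ b = φ (b ^ j) by rw [← congrArg φ hjk, map_mul, h1, mul_one], ← map_pow, ← hi,
        pow_orderOf_eq_one, map_one]
    letI : MulAction φ.range ↥N := MulAction.compHom _ φ.range.subtype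
    have hmod := hpr.card_modEq_card_fixedPoints ↥N
    let W : Subgroup G :=
      { carrier := {n | n ∈ N ∧ ∀ b ∈ B, b * n = n * b}
        one_mem' := ⟨one_mem _, fun b _ => by simp⟩
        mul_mem' := fun {u v} hu hv => ⟨mul_mem hu.1 hv.1, fun b hb =>
          (Commute.mul_right (hu.2 b hb) (hv.2 b hb))⟩
        inv_mem' := fun {u} hu => ⟨inv_mem hu.1, fun b hb => (Commute.inv_right (hu.2 b hb))⟩ }
    haveI : W.Normal := ⟨fun n hn g => ⟨hNn.conj_mem n hn.1 g, fun b hb => by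
      have hb' : g⁻¹ * b * g ∈ B := by
        have := (inferInstance : B.Normal).conj_mem b hb g⁻¹
        rwa [inv_inv] at this
      calc b * (g * n * g⁻¹) = g * ((g⁻¹ * b * g) * n) * g⁻¹ := by group
        _ = g * (n * (g⁻¹ * b * g)) * g⁻¹ := by rw [hn.2 _ hb']
        _ = _ := by group⟩⟩
    rcases hmin W inferInstance fun n hn => hn.1 with hW | hW
    · exfalso
      have hone : Nat.card (MulAction.fixedPoints φ.range ↥N) = 1 := by
        haveI : Nonempty (MulAction.fixedPoints φ.range ↥N) :=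
          ⟨⟨1, fun w => map_one (w : MulAut ↥N)⟩⟩
        refine Nat.card_eq_one_iff_unique.2 ⟨⟨fun u v => Subtype.ext ?_⟩, inferInstance⟩
        have key : ∀ u : MulAction.fixedPoints φ.range ↥N, (u : ↥N) = 1 := fun u => by
          have hu : ((u : ↥N) : G) ∈ W := ⟨(u : ↥N).2, fun b hb => by
            have h1 := congrArg Subtype.val (u.2 ⟨φ ⟨b, hb⟩, ⟨_, rfl⟩⟩)
            exact mul_inv_eq_iff_eq_mul.1 h1⟩
          rw [hW, Subgroup.mem_bot] at hu
          exact Subtype.ext hu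
        rw [key u, key v]
      rw [hone, hcard] at hmod
      have h0 := (Nat.modEq_zero_iff_dvd.2 (dvd_pow_self p ha.ne')).symm.trans hmod
      exact hp.one_lt.ne' (Nat.dvd_one.1 (Nat.modEq_zero_iff_dvd.1 h0.symm))
    · intro b hb
      exact Subgroup.mem_centralizer_iff.2 fun n hn => ((hW.ge hn).2 b hb).symm
  have hne : ∀ u, u ∉ C → ¬ N ≤ ctr u := fun u hu hle => hu
    (Subgroup.mem_centralizer_iff.2 fun n hn => (mem_ctr.1 (hle hn)))
  obtain ⟨L, -, -, hL⟩ := h.two_actions N hpg hab hyp (hne y hyC)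
  haveI hMn : (N ⊓ ctr y).Normal := ⟨fun m hm g => by
    refine Subgroup.mem_inf.2 ⟨hNn.conj_mem m (Subgroup.mem_inf.1 hm).1 g, ?_⟩
    set y' := g * y * g⁻¹ with hy'
    have hy'B : y' ∈ B := (inferInstance : B.Normal).conj_mem y hyB g
    have hy'C : y' ∉ C := fun hc => hyC (by
      have := (inferInstance : C.Normal).conj_mem y' hc g⁻¹
      rwa [hy', inv_inv, show g⁻¹ * (g * y * g⁻¹) * g = y by group] at this)
    have hy'p : ¬ p ∣ orderOf y' := by
      rwa [hy', ← MulAut.conj_apply, MulEquiv.orderOf_eq]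
    obtain ⟨L', -, -, hL'⟩ := h.two_actions N hpg hab hy'p (hne y' hy'C)
    refine (hL' y (hcomm y hyB y' hy'B)).1 _ (hNn.conj_mem m (Subgroup.mem_inf.1 hm).1 g) ?_
    refine mem_ctr.2 ?_
    calc g * m * g⁻¹ * y' = g * (m * y) * g⁻¹ := by rw [hy']; group
      _ = g * (y * m) * g⁻¹ := by rw [mem_ctr.1 (Subgroup.mem_inf.1 hm).2]
      _ = _ := by rw [hy']; group⟩
  rcases hmin _ hMn inf_le_left with h1 | h1
  · have h2 := h.relIndex_dvd_prime N hpg y
    rw [← Subgroup.inf_relIndex_left, h1, Subgroup.relIndex_bot_left] at h2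
    rcases (Nat.dvd_prime hp).1 h2 with h3 | h3
    · exact absurd (Subgroup.card_eq_one.1 h3) hN
    · rw [h3]; exact hp
  · exact absurd (h1 ▸ inf_le_right) (hne y hyC)

private theorem supersolvable_aux : ∀ (n : ℕ) (G : Type u) [Group G] [Finite G], Nat.card G = n →
    Hyp G → Cfsg.IsSupersolvable G ∧ Group.IsNilpotent (commutator G) := by
  intro n
  induction n using Nat.strong_induction_on with
  | _ n ih =>
  intro G _ _ hn h
  rcases subsingleton_or_nontrivial G with hs | hs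
  · exact ⟨CfsgLib.Solvable.isSupersolvable_of_subsingleton, inferInstance⟩
  obtain ⟨N, hNn, hNp⟩ := h.exists_prime_normal
  haveI : Fact (Nat.card N).Prime := ⟨hNp⟩
  haveI : IsCyclic N := isCyclic_of_prime_card rfl
  obtain ⟨hS, hD⟩ := ih _ (by
    subst hn
    rw [← Subgroup.index_eq_card, ← N.card_mul_index]
    exact lt_mul_left (Nat.pos_of_ne_zero N.index_ne_zero_of_finite) hNp.one_lt) (G ⧸ N) rfl
    (h.quotient N)
  refine ⟨CfsgLib.Solvable.isSupersolvable_extension N hS, ?_⟩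
  -- the derived subgroup centralises `N`
  have hcen : commutator G ≤ Subgroup.centralizer (N : Set G) := by
    rw [_root_.commutator_def, Subgroup.commutator_le]
    intro u _ v _
    refine Subgroup.mem_centralizer_iff.2 fun m hm => ?_
    obtain ⟨g, hg⟩ := IsCyclic.exists_generator (α := N)
    have hact : ∀ w : G, ∃ i : ℤ, ∀ n : N, w * (n : G) * w⁻¹ = (n : G) ^ i := by
      intro w
      obtain ⟨i, hi⟩ := hg ⟨w * g * w⁻¹, hNn.conj_mem _ g.2 w⟩
      refine ⟨i, fun n => ?_⟩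
      obtain ⟨j, rfl⟩ := hg n
      have hi' : (g : G) ^ i = w * g * w⁻¹ := congrArg Subtype.val hi
      show w * ((g ^ j : N) : G) * w⁻¹ = ((g ^ j : N) : G) ^ i
      rw [Subgroup.coe_zpow, ← conj_zpow, ← hi', ← zpow_mul, ← zpow_mul, mul_comm]
    obtain ⟨i, hi⟩ := hact u
    obtain ⟨j, hj⟩ := hact v
    have key : v * u * m * (v * u)⁻¹ = u * v * m * (u * v)⁻¹ := by
      have e1 : v * u * m * (v * u)⁻¹ = v * (u * m * u⁻¹) * v⁻¹ := by group
      have e2 : u * v * m * (u * v)⁻¹ = u * (v * m * v⁻¹) * u⁻¹ := by group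
      rw [e1, e2, hi ⟨m, hm⟩, hj ⟨m, hm⟩, ← conj_zpow, ← conj_zpow, hi ⟨m, hm⟩, hj ⟨m, hm⟩,
        ← zpow_mul, ← zpow_mul, mul_comm]
    have e3 : ∀ m' : G, v * u * m' * (v * u)⁻¹ = u * v * m' * (u * v)⁻¹ →
        ⁅u, v⁆ * (v * u * m' * (v * u)⁻¹) = (v * u * m' * (v * u)⁻¹) * ⁅u, v⁆ := by
      intro m' hm'
      have e4 : ⁅u, v⁆ * (v * u * m' * (v * u)⁻¹) = u * v * m' * (v * u)⁻¹ := by
        rw [commutatorElement_def]; group
      have e5 : u * v * m' * (u * v)⁻¹ * ⁅u, v⁆ = u * v * m' * (v * u)⁻¹ := by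
        rw [commutatorElement_def]; group
      rw [e4, hm', e5]
    have hm2 : (v * u)⁻¹ * m * (v * u) ∈ N := by
      have := hNn.conj_mem m hm (v * u)⁻¹
      rwa [inv_inv] at this
    have key2 : ∀ m' ∈ N, v * u * m' * (v * u)⁻¹ = u * v * m' * (u * v)⁻¹ := by
      intro m' hm'
      have e1 : v * u * m' * (v * u)⁻¹ = v * (u * m' * u⁻¹) * v⁻¹ := by group
      have e2 : u * v * m' * (u * v)⁻¹ = u * (v * m' * v⁻¹) * u⁻¹ := by group
      rw [e1, e2, hi ⟨m', hm'⟩, hj ⟨m', hm'⟩, ← conj_zpow, ← conj_zpow, hi ⟨m', hm'⟩,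
        hj ⟨m', hm'⟩, ← zpow_mul, ← zpow_mul, mul_comm]
    have h5 := e3 _ (key2 _ hm2)
    rw [show v * u * ((v * u)⁻¹ * m * (v * u)) * (v * u)⁻¹ = m by group] at h5
    exact h5.symm
  let f : ↥(commutator G) →* ↥(commutator (G ⧸ N)) :=
    ((QuotientGroup.mk' N).comp (commutator G).subtype).codRestrict _ fun c => by
      have : (commutator G).map (QuotientGroup.mk' N) ≤ commutator (G ⧸ N) := by
        rw [_root_.commutator_def, _root_.commutator_def, Subgroup.map_commutator]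
        exact Subgroup.commutator_mono le_top le_top
      exact this ⟨c, c.2, rfl⟩
  refine @Subgroup.isNilpotent_of_ker_le_center _ _ _ _ f (fun c hc => ?_) hD
  have hcN : (c : G) ∈ N := (QuotientGroup.eq_one_iff _).1 (congrArg Subtype.val (MonoidHom.mem_ker.1 hc))
  exact Subgroup.mem_center_iff.2 fun d =>
    Subtype.ext (Subgroup.mem_centralizer_iff.1 (hcen d.2) _ hcN).symm

theorem Hyp.supersolvable {G : Type u} [Group G] [Finite G] (h : Hyp G) :
    Cfsg.IsSupersolvable G := (supersolvable_aux _ G rfl h).1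

theorem Hyp.commutator_le_fitting {G : Type u} [Group G] [Finite G] (h : Hyp G) :
    commutator G ≤ Cfsg.fittingSubgroup G :=
  CfsgLib.Cores.le_fittingSubgroup (supersolvable_aux _ G rfl h).2

/-! ### The index of the Fitting subgroup -/

theorem mem_fitting_of_commute {r : ℕ} [hr : Fact r.Prime]
    (hG' : commutator G ≤ Cfsg.fittingSubgroup G) {y : G} (hy : ∃ i, orderOf y = r ^ i)
    (hc : ∀ q : ℕ, q.Prime → q ≠ r → Cfsg.pCore q G ≤ ctr y) : y ∈ Cfsg.fittingSubgroup G := by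
  set F := Cfsg.fittingSubgroup G with hF
  let N := Subgroup.zpowers y ⊔ F
  haveI : N.Normal := ⟨fun a ha g => by
    have h1 : g * a * g⁻¹ * a⁻¹ ∈ N := (le_sup_right : F ≤ N)
      (hG' (Subgroup.commutator_mem_commutator (Subgroup.mem_top g) (Subgroup.mem_top a)))
    have := mul_mem h1 ha
    rwa [inv_mul_cancel_right] at this⟩
  let H := Subgroup.zpowers y ⊔ Cfsg.pCore r G
  haveI hR : (Cfsg.pCore r G).Normal := Subgroup.sSup_normal _ fun _ hM => hM.1
  have hH : IsPGroup r H := by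
    obtain ⟨i, hi⟩ := hy
    exact (IsPGroup.of_card (n := i) (by rw [Nat.card_zpowers, hi])).to_sup_of_normal_right
      (CfsgLib.Cores.isPGroup_pCore r)
  have hnorm : N ≤ Subgroup.normalizer (H : Set G) := by
    refine sup_le ((le_sup_left : _ ≤ H).trans Subgroup.le_normalizer) ?_
    rw [hF, CfsgLib.Cores.fittingSubgroup_eq_iSup_pCore]
    refine iSup_le fun q => ?_
    haveI : Fact (q : ℕ).Prime := ⟨Nat.prime_of_mem_primeFactors q.2⟩
    by_cases hq : (q : ℕ) = r
    · rw [hq]; exact (le_sup_right : _ ≤ H).trans Subgroup.le_normalizer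
    intro k hk
    have hle : H ≤ Subgroup.centralizer ({k} : Set G) := by
      refine sup_le (Subgroup.zpowers_le.2 ?_) fun a ha => ?_
      · exact mem_ctr.2 (mem_ctr.1 (hc q Fact.out hq hk)).symm
      · exact mem_ctr.2 (CfsgLib.Cores.commute_pCore_of_ne hq hk ha).eq.symm
    refine Subgroup.mem_normalizer_iff.2 fun a => ⟨fun ha => ?_, fun ha => ?_⟩
    · rw [← mem_ctr.1 (hle ha), mul_inv_cancel_right]; exact ha
    · have h2 := mem_ctr.1 (hle ha)
      have e : k * a * k⁻¹ = a := by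
        have h3 : k * a = k * (k * a * k⁻¹) := by rw [← h2]; group
        exact ((mul_left_cancel h3)).symm
      rwa [e] at ha
  have hsn : H.IsSubnormal := by
    have hHN : H ≤ N := sup_le le_sup_left
      ((CfsgLib.Cores.pCore_le_fittingSubgroup r).trans le_sup_right)
    exact Subgroup.IsSubnormal.step H N hHN
      (Subgroup.Normal.isSubnormal inferInstance)
      (Subgroup.normal_subgroupOf_of_le_normalizer hnorm)
  exact CfsgLib.Cores.le_fittingSubgroup_of_isSubnormal hsn hH.isNilpotent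
    ((le_sup_left : _ ≤ H) (Subgroup.mem_zpowers y))

theorem exists_witness (h : Hyp G) (hG' : commutator G ≤ Cfsg.fittingSubgroup G) (r : ℕ)
    [hr : Fact r.Prime] (q : ℕ) [hq : Fact q.Prime] (hqr : q ≠ r) :
    ∃ x ∈ Cfsg.pCore q G, (x = 1 ∨ Cfsg.fittingSubgroup G ≤ ctr x) ∧
      ∀ y : G, (∃ i, orderOf y = r ^ i) → y ∈ ctr x → Cfsg.pCore q G ≤ ctr y := by
  classical
  set K := Cfsg.pCore q G
  haveI : K.Normal := Subgroup.sSup_normal _ fun _ hM => hM.1
  have hKp : IsPGroup q K := CfsgLib.Cores.isPGroup_pCore q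
  have hndvd : ∀ y : G, (∃ i, orderOf y = r ^ i) → ¬ q ∣ orderOf y := by
    rintro y ⟨i, hi⟩ hd
    rw [hi] at hd
    exact hqr ((Nat.prime_dvd_prime_iff_eq hq.out hr.out).1 (hq.out.dvd_of_dvd_pow hd))
  by_cases hw : ∀ y : G, (∃ i, orderOf y = r ^ i) → K ≤ ctr y
  · exact ⟨1, one_mem _, Or.inl rfl, fun y hy _ => hw y hy⟩
  push Not at hw
  obtain ⟨y₀, hy₀, hne⟩ := hw
  have hab := h.abelian K hKp (hndvd y₀ hy₀) hne
  have hFK : Cfsg.fittingSubgroup G ≤ Subgroup.centralizer (K : Set G) := by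
    rw [CfsgLib.Cores.fittingSubgroup_eq_iSup_pCore]
    refine iSup_le fun s => fun a ha => Subgroup.mem_centralizer_iff.2 fun k hk => ?_
    haveI : Fact (s : ℕ).Prime := ⟨Nat.prime_of_mem_primeFactors s.2⟩
    by_cases hs : (s : ℕ) = q
    · rw [hs] at ha
      exact hab k hk a ha
    · exact (CfsgLib.Cores.commute_pCore_of_ne hs ha hk).eq.symm
  obtain ⟨x, hxK, hx⟩ : ∃ x ∈ K, x ∉ ctr y₀ := by
    by_contra hc; push Not at hc; exact hne hc
  refine ⟨x, hxK, Or.inr fun a ha => mem_ctr.2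
    ((Subgroup.mem_centralizer_iff.1 (hFK ha)) x hxK).symm, fun y hy hyx => ?_⟩
  by_contra hne'
  have hcomm : ∀ k ∈ K, y₀ * y * k * (y₀ * y)⁻¹ = y * y₀ * k * (y * y₀)⁻¹ := by
    intro k hk
    have hm : y * y₀ * k * (y * y₀)⁻¹ ∈ K := (inferInstance : K.Normal).conj_mem k hk _
    have h1 := Subgroup.mem_centralizer_iff.1 (hFK (hG'
      (Subgroup.commutator_mem_commutator (Subgroup.mem_top y₀) (Subgroup.mem_top y)))) _ hm
    calc y₀ * y * k * (y₀ * y)⁻¹
        = ⁅y₀, y⁆ * (y * y₀ * k * (y * y₀)⁻¹) * ⁅y₀, y⁆⁻¹ := by rw [commutatorElement_def]; group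
      _ = _ := by rw [← h1, mul_inv_cancel_right]
  obtain ⟨L, -, -, hL⟩ := h.two_actions K hKp hab (hndvd y hy) hne'
  exact hx ((hL y₀ hcomm).1 x hxK (mem_ctr.2 (mem_ctr.1 hyx).symm))

theorem Hyp.squarefree_fitting_index {G : Type u} [Group G] [Finite G] (h : Hyp G) :
    Squarefree (Cfsg.fittingSubgroup G).index := by
  classical
  set F := Cfsg.fittingSubgroup G with hF
  have hG' : commutator G ≤ F := h.commutator_le_fitting
  rw [Nat.squarefree_iff_factorization_le_one Subgroup.index_ne_zero_of_finite]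
  intro r
  by_cases hrp : r.Prime
  swap
  · rw [Nat.factorization_eq_zero_of_not_prime _ hrp]; exact Nat.zero_le _
  haveI : Fact r.Prime := ⟨hrp⟩
  have hbuild : ∀ s : Finset ℕ, (∀ q ∈ s, q.Prime ∧ q ≠ r) → ∃ x ∈ F,
      (∀ q : ℕ, q.Prime → q ∣ orderOf x → q ∈ s) ∧
      ∀ q ∈ s, ∀ y : G, (∃ i, orderOf y = r ^ i) → y ∈ ctr x → Cfsg.pCore q G ≤ ctr y := by
    intro s
    induction s using Finset.induction_on with
    | empty =>
      exact fun _ => ⟨1, one_mem _, fun q hq hd => absurd (Nat.dvd_one.1 (orderOf_one (G := G) ▸ hd))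
        hq.ne_one, fun q hq => absurd hq (Finset.notMem_empty q)⟩
    | @insert q s hqs ih =>
      intro hs
      obtain ⟨hqp, hqr⟩ := hs q (Finset.mem_insert_self q s)
      obtain ⟨x, hxF, hxo, hxc⟩ := ih fun q' hq' => hs q' (Finset.mem_insert_of_mem hq')
      haveI : Fact q.Prime := ⟨hqp⟩
      obtain ⟨w, hwK, hwF, hwc⟩ := exists_witness h hG' r q hqr
      have hcom : Commute x w := by
        rcases hwF with rfl | hwF
        · exact Commute.one_right x
        · exact mem_ctr.1 (hwF hxF)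
      obtain ⟨i, hi⟩ := (IsPGroup.iff_orderOf.1 (CfsgLib.Cores.isPGroup_pCore (G := G) q)) ⟨w, hwK⟩
      rw [Subgroup.orderOf_mk] at hi
      have hcop : (orderOf x).Coprime (orderOf w) := by
        rw [hi]
        refine Nat.Coprime.pow_right i (Nat.Coprime.symm ((Nat.Prime.coprime_iff_not_dvd hqp).2 ?_))
        exact fun hd => hqs (hxo q hqp hd)
      refine ⟨x * w, mul_mem hxF (CfsgLib.Cores.pCore_le_fittingSubgroup q hwK), ?_, ?_⟩
      · intro q' hq' hd
        have hd' := hd.trans (hcom.orderOf_mul_dvd_mul_orderOf)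
        rcases (Nat.Prime.dvd_mul hq').1 hd' with h1 | h1
        · exact Finset.mem_insert_of_mem (hxo q' hq' h1)
        · rw [hi] at h1
          rw [(Nat.prime_dvd_prime_iff_eq hq' hqp).1 (hq'.dvd_of_dvd_pow h1)]
          exact Finset.mem_insert_self q s
      · intro q' hq' y hy hyc
        have hy2 := Subgroup.mem_inf.1 (ctr_mul_le hcom hcop hyc)
        rcases Finset.mem_insert.1 hq' with rfl | hq'
        · exact hwc y hy hy2.2
        · exact hxc q' hq' y hy hy2.1
  obtain ⟨x, -, -, hx⟩ := hbuild ((Nat.card G).primeFactors.erase r) fun q hq =>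
    ⟨Nat.prime_of_mem_primeFactors (Finset.mem_of_mem_erase hq), Finset.ne_of_mem_erase hq⟩
  obtain ⟨T⟩ : Nonempty (Sylow r ↥(ctr x)) := inferInstance
  have hT : (T : Subgroup ↥(ctr x)).map (ctr x).subtype ≤ F := by
    rintro _ ⟨y, hy, rfl⟩
    have hyr : ∃ i, orderOf (y : G) = r ^ i := by
      obtain ⟨i, hi⟩ := (IsPGroup.iff_orderOf.1 T.isPGroup') ⟨y, hy⟩
      exact ⟨i, by rw [← hi, Subgroup.orderOf_mk, Subgroup.orderOf_coe]⟩
    refine mem_fitting_of_commute hG' hyr fun q hq hqr => ?_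
    haveI : Fact q.Prime := ⟨hq⟩
    by_cases hqG : q ∈ (Nat.card G).primeFactors
    · exact hx q (Finset.mem_erase.2 ⟨hqr, hqG⟩) y hyr y.2
    · intro k hk
      rcases (CfsgLib.Cores.isPGroup_pCore (G := G) q).card_eq_or_dvd with h1 | h1
      · rw [Subgroup.card_eq_one.1 h1, Subgroup.mem_bot] at hk
        exact mem_ctr.2 (by rw [hk, one_mul, mul_one])
      · exact absurd (Nat.mem_primeFactors.2
          ⟨hq, h1.trans (Subgroup.card_subgroup_dvd_card _), Nat.card_pos.ne'⟩) hqG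
  have h1 := Subgroup.card_dvd_of_le hT
  rw [Subgroup.card_map_of_injective (ctr x).subtype_injective, T.card_eq_multiplicity,
    hrp.pow_dvd_iff_le_factorization Nat.card_pos.ne'] at h1
  have h2 := congrArg (fun n => n.factorization r) (F.card_mul_index.trans (ctr x).card_mul_index.symm)
  simp only [Nat.factorization_mul Nat.card_pos.ne' Subgroup.index_ne_zero_of_finite,
    Finsupp.add_apply] at h2
  have h3 := (Nat.squarefree_iff_factorization_le_one Subgroup.index_ne_zero_of_finite).1 (h x) r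
  omega

/-! ### The derived subgroup -/

theorem Hyp.commutator_aux {G : Type u} [Group G] [Finite G] (h : Hyp G) {p : ℕ}
    [hp : Fact p.Prime] (hcore : Cfsg.pPrimeCore p G = ⊥) : Nat.card (commutator G) ∣ p := by
  classical
  haveI := h.isSolvable
  set K := Cfsg.pCore p G with hKdef
  haveI : K.Normal := Subgroup.sSup_normal _ fun _ hM => hM.1
  have hKp : IsPGroup p K := CfsgLib.Cores.isPGroup_pCore p
  have hFK := CfsgLib.Solvable.fittingSubgroup_eq_pCore_of_pPrimeCore_eq_bot p hcore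
  have hG' : commutator G ≤ K := h.commutator_le_fitting.trans hFK.le
  have hCK := CfsgLib.Solvable.centralizer_pCore_le p hcore
  obtain ⟨P⟩ : Nonempty (Sylow p G) := inferInstance
  have hKP : K ≤ (P : Subgroup G) := CfsgLib.Cores.pCore_le_sylow P
  haveI : (P : Subgroup G).Normal := ⟨fun a ha g => by
    have h1 : g * a * g⁻¹ * a⁻¹ ∈ (P : Subgroup G) := hKP
      (hG' (Subgroup.commutator_mem_commutator (Subgroup.mem_top g) (Subgroup.mem_top a)))
    have := mul_mem h1 ha
    rwa [inv_mul_cancel_right] at this⟩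
  have hPK : (P : Subgroup G) = K := le_antisymm (CfsgLib.Cores.le_pCore P.isPGroup') hKP
  by_cases hw : ∀ y : G, ¬ p ∣ orderOf y → K ≤ ctr y
  · have hG : IsPGroup p G := by
      intro g
      obtain ⟨k, j, hk, -, ⟨i, hi⟩, hjk⟩ := not_dvd_orderOf_pow (p := p) g
      have h1 : g ^ k ∈ K := hCK (Subgroup.mem_centralizer_iff.2 fun a ha => mem_ctr.1 (hw _ hk ha))
      obtain ⟨i', hi'⟩ := (IsPGroup.iff_orderOf.1 hKp) ⟨_, h1⟩
      rw [Subgroup.orderOf_mk] at hi'
      have h2 : g ^ k = 1 := by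
        rcases Nat.eq_zero_or_pos i' with h0 | h0
        · exact orderOf_eq_one_iff.1 (by rw [hi', h0, pow_zero])
        · exact absurd (hi' ▸ dvd_pow_self p h0.ne') hk
      exact ⟨i, by rw [← hjk, h2, mul_one, ← hi, pow_orderOf_eq_one]⟩
    refine card_commutator_dvd hG fun x => ?_
    have h3 := h.relIndex_dvd_prime (⊤ : Subgroup G)
      (hG.of_equiv Subgroup.topEquiv.symm) x
    rwa [Subgroup.relIndex_top_right] at h3
  push Not at hw
  obtain ⟨y, hy, hne⟩ := hw
  have hab := h.abelian K hKp hy hne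
  obtain ⟨H, hH⟩ := Subgroup.exists_right_complement'_of_coprime (N := K) (by
    obtain ⟨a, ha⟩ := IsPGroup.iff_card.1 hKp
    rw [ha]
    exact ((Nat.Prime.coprime_iff_not_dvd hp.out).2 (hPK ▸ P.not_dvd_index)).pow_left a)
  have hdec : ∀ g : G, ∃ a ∈ K, ∃ b ∈ H, g = a * b := fun g => by
    obtain ⟨⟨a, b⟩, e⟩ := hH.2 g
    exact ⟨a, a.2, b, b.2, e.symm⟩
  have hHab : ∀ u ∈ H, ∀ v ∈ H, u * v = v * u := fun u hu v hv => by
    rw [← commutatorElement_eq_one_iff_mul_comm]
    exact Subgroup.disjoint_def.1 hH.disjoint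
      (hG' (Subgroup.commutator_mem_commutator (Subgroup.mem_top u) (Subgroup.mem_top v)))
      (mul_mem (mul_mem (mul_mem hu hv) (inv_mem hu)) (inv_mem hv))
  obtain ⟨a₀, ha₀, z₀, hz₀, hy0⟩ := hdec y
  obtain ⟨L, hLK, hLc, hL⟩ := h.two_actions K hKp hab hy hne
  have hcommK : ∀ b ∈ H, ∀ k ∈ K, b * y * k * (b * y)⁻¹ = y * b * k * (y * b)⁻¹ := by
    intro b hb k hk
    have hm : z₀ * k * z₀⁻¹ ∈ K := (inferInstance : K.Normal).conj_mem k hk z₀
    have hy1 : ∀ k' ∈ K, y * k' * y⁻¹ = z₀ * k' * z₀⁻¹ := by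
      intro k' hk'
      have hm' : z₀ * k' * z₀⁻¹ ∈ K := (inferInstance : K.Normal).conj_mem k' hk' z₀
      calc y * k' * y⁻¹ = a₀ * (z₀ * k' * z₀⁻¹) * a₀⁻¹ := by rw [hy0]; group
        _ = _ := by rw [hab a₀ ha₀ _ hm', mul_inv_cancel_right]
    calc b * y * k * (b * y)⁻¹ = b * (y * k * y⁻¹) * b⁻¹ := by group
      _ = (b * z₀) * k * (b * z₀)⁻¹ := by rw [hy1 k hk]; group
      _ = (z₀ * b) * k * (z₀ * b)⁻¹ := by rw [hHab b hb z₀ hz₀]
      _ = z₀ * (b * k * b⁻¹) * z₀⁻¹ := by group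
      _ = y * (b * k * b⁻¹) * y⁻¹ := (hy1 _ ((inferInstance : K.Normal).conj_mem k hk b)).symm
      _ = _ := by group
  haveI : L.Normal := ⟨fun l hl g => by
    obtain ⟨a, ha, b, hb, rfl⟩ := hdec g
    have h1 : b * l * b⁻¹ ∈ L := (hL b (hcommK b hb)).2.2 l hl
    rw [show a * b * l * (a * b)⁻¹ = a * (b * l * b⁻¹) * a⁻¹ by group,
      hab a ha _ (hLK h1), mul_inv_cancel_right]
    exact h1⟩
  refine hLc ▸ Subgroup.card_dvd_of_le ?_
  rw [← QuotientGroup.ker_mk' L, _root_.commutator_def, Subgroup.commutator_le]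
  intro u _ v _
  rw [MonoidHom.mem_ker, map_commutatorElement, commutatorElement_eq_one_iff_mul_comm]
  set q := QuotientGroup.mk' L
  have hkh : ∀ k ∈ K, ∀ b ∈ H, Commute (q b) (q k) := by
    intro k hk b hb
    have h1 : q (b * k * b⁻¹ * k⁻¹) = 1 :=
      (QuotientGroup.eq_one_iff _).2 ((hL b (hcommK b hb)).2.1 k hk)
    rw [← commutatorElement_def, map_commutatorElement, commutatorElement_eq_one_iff_mul_comm] at h1
    exact h1
  obtain ⟨a, ha, b, hb, rfl⟩ := hdec u
  obtain ⟨a', ha', b', hb', rfl⟩ := hdec v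
  have c1 : Commute (q a) (q a') := (show Commute a a' from hab a ha a' ha').map q
  have c2 : Commute (q b) (q b') := (show Commute b b' from hHab b hb b' hb').map q
  have c : Commute (q a * q b) (q a' * q b') :=
    (c1.mul_right (hkh a ha b' hb').symm).mul_left ((hkh a' ha' b hb).mul_right c2)
  rw [map_mul, map_mul]
  exact c

theorem Hyp.squarefree_commutator {G : Type u} [Group G] [Finite G] (h : Hyp G) :
    Squarefree (Nat.card (commutator G)) := by
  rw [Nat.squarefree_iff_factorization_le_one Nat.card_pos.ne']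
  intro p
  by_cases hpp : p.Prime
  swap
  · rw [Nat.factorization_eq_zero_of_not_prime _ hpp]; exact Nat.zero_le _
  haveI : Fact p.Prime := ⟨hpp⟩
  set N := Cfsg.pPrimeCore p G with hN
  haveI : N.Normal := Subgroup.sSup_normal _ fun _ hM => hM.1
  have h1 := (h.quotient N).commutator_aux (p := p) (CfsgLib.Cores.pPrimeCore_quotient_self p)
  let f : ↥(commutator G) →* G ⧸ N := (QuotientGroup.mk' N).comp (commutator G).subtype
  have hrange : f.range ≤ commutator (G ⧸ N) := by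
    rintro _ ⟨c, rfl⟩
    have : (commutator G).map (QuotientGroup.mk' N) ≤ commutator (G ⧸ N) := by
      rw [_root_.commutator_def, _root_.commutator_def, Subgroup.map_commutator]
      exact Subgroup.commutator_mono le_top le_top
    exact this ⟨c, c.2, rfl⟩
  have hker : Nat.card f.ker ∣ Nat.card N := by
    have e : f.ker.map (commutator G).subtype ≤ N := by
      rintro _ ⟨c, hc, rfl⟩
      exact (QuotientGroup.eq_one_iff _).1 hc
    have := Subgroup.card_dvd_of_le e
    rwa [Subgroup.card_map_of_injective (commutator G).subtype_injective] at this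
  rw [← f.ker.card_mul_index, Subgroup.index_ker,
    Nat.factorization_mul Nat.card_pos.ne' Nat.card_pos.ne', Finsupp.add_apply]
  have h2 : (Nat.card f.range).factorization p ≤ 1 := by
    have h3 := ((Subgroup.card_dvd_of_le hrange).trans h1)
    have h4 := Nat.factorization_le_iff_dvd Nat.card_pos.ne' hpp.ne_zero |>.2 h3 p
    rwa [hpp.factorization_self] at h4
  have h5 : (Nat.card f.ker).factorization p = 0 :=
    Nat.factorization_eq_zero_of_not_dvd fun hd =>
      CfsgLib.Cores.not_dvd_card_pPrimeCore (G := G) p (hd.trans hker)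
  omega

end Cfsg.Agent.SquarefreeClasses
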