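import Cfsg.Agent.Lib.FGS.CoprimeLargest

/-!
The structure of a group whose two largest class sizes are coprime.
-/

set_option autoImplicit false
set_option linter.unusedSectionVars false
set_option linter.style.haveILetI false

namespace CfsgLib.FGS.TwoLargest

open Subgroup
open CfsgLib.FGS.EqualClasses

variable {G : Type*} [Group G] [Finite G]

/-- `N` divides the class size of `h` if, for the primes of `N`, elements commuting with `h` are central. -/
theorem dvd_cls_of_central {h w : G} {N : ℕ} (hw : cls w = N)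
    (hc : ∀ q : ℕ, q.Prime → q ∣ N → ∀ a : G, Commute a h → (∃ k, orderOf a = q ^ k) → a ∈ center G) :
    N ∣ cls h := by
  refine (Nat.factorization_le_iff_dvd (hw ▸ cls_ne_zero w) (cls_ne_zero h)).1 fun q => ?_
  rcases Nat.eq_zero_or_pos (N.factorization q) with h0 | hpos
  · omega
  have hq : q.Prime := Nat.prime_of_mem_primeFactors (Finsupp.mem_support_iff.2 hpos.ne')
  haveI : Fact q.Prime := ⟨hq⟩
  obtain ⟨Q⟩ : Nonempty (Sylow q (centralizer ({h} : Set G))) := inferInstance
  have hle : (Q : Subgroup (centralizer ({h} : Set G))).map (centralizer ({h} : Set G)).subtype ≤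
      centralizer ({w} : Set G) := by
    rintro _ ⟨a, ha, rfl⟩
    obtain ⟨k, hk⟩ := IsPGroup.iff_orderOf.1 Q.2 ⟨a, ha⟩
    refine commute_iff.2 (mem_center_iff.1 (hc q hq (Nat.dvd_of_factorization_pos hpos.ne')
      (a : G) (commute_iff.1 a.2) ⟨k, ?_⟩) w).symm
    rw [Subgroup.orderOf_mk] at hk
    rw [Subgroup.orderOf_coe, hk]
  have h1 : q ^ (Nat.card (centralizer ({h} : Set G))).factorization q ∣
      Nat.card (centralizer ({w} : Set G)) := by
    have h2 := card_dvd_of_le hle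
    rwa [card_map_of_injective (subtype_injective _), Q.card_eq_multiplicity] at h2
  rw [hq.pow_dvd_iff_le_factorization Nat.card_pos.ne'] at h1
  have e1 := congrArg (fun t => t.factorization q) (centralizer ({h} : Set G)).card_mul_index
  have e2 := congrArg (fun t => t.factorization q) (centralizer ({w} : Set G)).card_mul_index
  simp only [Nat.factorization_mul Nat.card_pos.ne' index_ne_zero_of_finite, Finsupp.add_apply] at e1 e2
  rw [← hw]
  show (centralizer ({w} : Set G)).index.factorization q ≤ (centralizer ({h} : Set G)).index.factorization q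
  omega

/-- A centraliser of index prime to `p` contains a Sylow `p`-subgroup of the whole group. -/
theorem exists_sylow_le {p : ℕ} [Fact p.Prime] {w : G} (hp : ¬ p ∣ cls w) :
    ∃ S : Sylow p G, (S : Subgroup G) ≤ centralizer ({w} : Set G) := by
  obtain ⟨P⟩ : Nonempty (Sylow p (centralizer ({w} : Set G))) := inferInstance
  refine ⟨(P.2.map (centralizer ({w} : Set G)).subtype).toSylow ?_, map_subtype_le _⟩
  rw [index_map_subtype]
  exact fun hd => ((Fact.out : p.Prime).dvd_mul.1 hd).elim P.not_dvd_index hp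

theorem exists_conj_mem {p : ℕ} [Fact p.Prime] {w v : G} (hp : ¬ p ∣ cls w) (hv : ∃ k, orderOf v = p ^ k) :
    ∃ g : G, g * v * g⁻¹ ∈ centralizer ({w} : Set G) := by
  obtain ⟨k, hk⟩ := hv
  obtain ⟨S, hS⟩ := (IsPGroup.of_card (n := k) (by rw [Nat.card_zpowers, hk]) :
    IsPGroup p (zpowers v)).exists_le_sylow
  obtain ⟨T, hT⟩ := exists_sylow_le hp
  obtain ⟨g, hg⟩ := MulAction.exists_smul_eq G S T
  refine ⟨g, hT ?_⟩
  rw [← hg]
  exact ⟨v, hS (mem_zpowers v), rfl⟩

variable {m n : ℕ} {x y : G} (D : Hyp G m n x y)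
include D

theorem Hyp.m_pos : 0 < m := by have := D.n_lt; omega

theorem Hyp.eq_m_of_dvd {h : G} (hd : m ∣ cls h) : cls h = m :=
  le_antisymm (D.top h) (Nat.le_of_dvd (Nat.pos_of_ne_zero (cls_ne_zero h)) hd)

omit D in
theorem orderOf_conj (g v : G) : orderOf (g * v * g⁻¹) = orderOf v :=
  MulEquiv.orderOf_eq (MulAut.conj g) v

theorem Hyp.not_dvd_n {p : ℕ} (hp : p.Prime) (hpm : p ∣ m) : ¬ p ∣ n := fun h =>
  hp.ne_one (Nat.eq_one_of_dvd_coprimes D.cop hpm h)

theorem Hyp.not_dvd_m {q : ℕ} (hq : q.Prime) (hqn : q ∣ n) : ¬ q ∣ m := fun h =>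
  hq.ne_one (Nat.eq_one_of_dvd_coprimes D.cop h hqn)

theorem Hyp.coprime_pow {q : ℕ} (hq : q.Prime) (hqm : ¬ q ∣ m) {h : G} (hh : ∃ k, orderOf h = q ^ k) :
    (orderOf h).Coprime m := by
  obtain ⟨k, hk⟩ := hh
  rw [hk]
  exact (hq.coprime_iff_not_dvd.2 hqm).pow_left k

/-- A `p`-element, `p ∣ m`, whose class size is prime to `n` is central. -/
theorem Hyp.central_of_class {p : ℕ} [hp : Fact p.Prime] (hpm : p ∣ m) {v : G}
    (hv : ∃ k, orderOf v = p ^ k) (hc : (cls v).Coprime n) : v ∈ center G := by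
  obtain ⟨g, hg⟩ := exists_conj_mem (w := x) (by rw [D.clsx]; exact D.not_dvd_n hp.out hpm) hv
  by_contra hvZ
  set u := g * v * g⁻¹ with hu
  have huZ : u ∉ center G := conj_not_central hvZ
  have hcu : cls u = cls v := (cls_eq_of_isConj (isConj_iff.2 ⟨g, rfl⟩)).symm
  obtain ⟨k, hk⟩ := hv
  have hou : orderOf u = p ^ k := (orderOf_conj g v).trans hk
  have hxu : Commute u x := commute_iff.1 hg
  have hne : cls u ≠ m := by
    intro hm
    obtain ⟨q, hq, hqn⟩ := Nat.exists_prime_and_dvd D.n_gt.ne'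
    haveI : Fact q.Prime := ⟨hq⟩
    obtain ⟨S, hS⟩ := exists_sylow_le (p := q) (w := u) (by rw [hm]; exact D.not_dvd_m hq hqn)
    have hSZ : (S : Subgroup G) ≤ centralizer ({x} : Set G) := by
      intro h hh
      obtain ⟨j, hj⟩ := IsPGroup.iff_orderOf.1 S.2 ⟨h, hh⟩
      rw [Subgroup.orderOf_mk] at hj
      have huh : Commute u h := (commute_iff.1 (hS hh)).symm
      have hcop : (orderOf u).Coprime (orderOf h) := by
        rw [hou, hj]
        exact Nat.Coprime.pow k j ((Nat.coprime_primes hp.out hq).2 fun e => D.not_dvd_m hq hqn (e ▸ hpm))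
      have hle := centralizer_mul_le huh hcop
      have he := centralizer_eq_of_cls hle ((D.eq_m_of_dvd (hm ▸ cls_dvd hle)).trans hm.symm)
      have hle2 : centralizer ({u * h} : Set G) ≤ centralizer ({h} : Set G) := by
        rw [huh.eq]; exact centralizer_mul_le huh.symm hcop.symm
      have hxh : Commute x h := commute_iff.1 ((he.symm.le.trans hle2) (commute_iff.2 hxu.symm))
      exact commute_iff.2 hxh.symm
    exact S.not_dvd_index (hqn.trans (D.clsx ▸ index_dvd_of_le hSZ))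
  have hle : cls u ≤ n := D.le_n hne
  have hcop : (cls u).Coprime (cls x) := by rw [hcu, D.clsx]; exact hc
  refine huZ (central_of_coprime hcop ?_ ?_)
  · rw [D.clsx]
    refine le_antisymm (D.le_n fun hm => ?_) (D.clsx ▸ cls_le_mul_right hcop)
    have hd : m ∣ cls u * n := hm ▸ D.clsx ▸ cls_mul_dvd hcop
    have := Nat.le_of_dvd (Nat.pos_of_ne_zero (cls_ne_zero u)) (D.cop.dvd_of_dvd_mul_right hd)
    have := D.n_lt
    omega
  · rw [hou, D.clsx]
    exact (hp.out.coprime_iff_not_dvd.2 (D.not_dvd_n hp.out hpm)).pow_left k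

/-- A `p`-element, `p ∣ m`, commuting with a noncentral element of order prime to `m` is central. -/
theorem Hyp.central_of_commute_noncentral {k : G} (hk : (orderOf k).Coprime m) (hkZ : k ∉ center G)
    {p : ℕ} [hp : Fact p.Prime] (hpm : p ∣ m) {v : G} (hv : ∃ j, orderOf v = p ^ j) (hkv : Commute k v) :
    v ∈ center G := by
  have hN : norm' k x (orderOf k) ∈ center G := by
    have hK := norm_mem (x := x) (k := k) self_mem_Kx (orderOf k)
    have hd := D.key hk hkZ (IsConj.refl x) (D.commute_norm self_mem_Kx) (D.coprime_Kx hK hk)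
      fun c _ hc => hc
    refine mem_of_parts _ _ fun q hq hqd a ha haq => ?_
    haveI : Fact q.Prime := ⟨hq⟩
    exact D.central_of_class (D.primesx q hq (hqd.trans (orderOf_dvd_of_pow_eq_one (D.Kx_pow hK)))) haq
      (D.cop.coprime_dvd_left ((cls_dvd (centralizer_le_of_mem_zpowers ha)).trans hd))
  obtain ⟨j, hj⟩ := hv
  refine D.central_of_class hpm ⟨j, hj⟩ (D.cop.coprime_dvd_left
    (D.key hk hkZ (IsConj.refl x) hkv ?_ fun c _ _ => mem_center_iff.1 hN c))
  rw [hj]
  exact (hp.out.coprime_iff_not_dvd.2 fun h => hp.out.ne_one (Nat.eq_one_of_dvd_coprimes hk h hpm)).symm.pow_right j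

/-- Noncentral `p`-elements, `p ∣ m`, have class size `n`. -/
theorem Hyp.cls_pi {p : ℕ} [hp : Fact p.Prime] (hpm : p ∣ m) {v : G} (hv : ∃ j, orderOf v = p ^ j)
    (hvZ : v ∉ center G) : cls v = n := by
  have hd : n ∣ cls v := dvd_cls_of_central D.clsx fun q hq hqn a ha haq => by
    by_contra haZ
    exact hvZ (D.central_of_commute_noncentral (D.coprime_pow hq (D.not_dvd_m hq hqn) haq) haZ hpm hv ha)
  exact le_antisymm (D.le_n fun e => D.not_dvd (e ▸ hd)) (Nat.le_of_dvd (Nat.pos_of_ne_zero (cls_ne_zero v)) hd)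

theorem Hyp.pi_coprime {p : ℕ} [Fact p.Prime] (hpm : p ∣ m) {v : G} (hv : ∃ j, orderOf v = p ^ j) :
    (cls v).Coprime m := by
  by_cases hvZ : v ∈ center G
  · rw [cls_eq_one.2 hvZ]; exact Nat.coprime_one_left m
  · rw [D.cls_pi hpm hv hvZ]; exact D.cop.symm

/-- A `p`-element, `p ∣ m`, lies in every Sylow `p`-subgroup. -/
theorem Hyp.mem_sylow {p : ℕ} [hp : Fact p.Prime] (hpm : p ∣ m) {v : G} (hv : ∃ j, orderOf v = p ^ j)
    (S : Sylow p G) : v ∈ (S : Subgroup G) := by
  have hcop : (cls v).Coprime (cls y) := D.clsy.symm ▸ D.pi_coprime hpm hv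
  obtain ⟨T, -, -, hTC, hT⟩ := exists_translation hcop
    (le_antisymm ((D.top _).trans D.clsy.ge) (cls_le_mul_right hcop))
  set N := closure {u : G | IsConj v u} with hN
  have hvc : ∀ u, IsConj v u → Commute v u := fun u hu => by
    obtain ⟨g, rfl⟩ := isConj_iff.1 hu
    rw [show g * v * g⁻¹ = v * (v⁻¹ * (g * v * g⁻¹)) by group]
    exact (Commute.refl v).mul_right (commute_iff.1 (hTC (hT g))).symm
  have hcc : ∀ u w, IsConj v u → IsConj v w → Commute u w := fun u w hu hw => by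
    obtain ⟨g, hg⟩ := isConj_iff.1 hu
    obtain ⟨c, hc, e⟩ : ∃ c, IsConj v c ∧ w = g * c * g⁻¹ :=
      ⟨g⁻¹ * w * g, hw.trans (isConj_iff.2 ⟨g⁻¹, by group⟩), by group⟩
    rw [← hg, e]
    exact (hvc c hc).map (MulAut.conj g).toMonoidHom
  have hcomm : ∀ a ∈ N, ∀ b ∈ N, Commute a b := by
    have h1 : ∀ u, IsConj v u → N ≤ centralizer ({u} : Set G) := fun u hu =>
      (closure_le _).2 fun w hw => commute_iff.2 (hcc w u hw hu)
    intro a ha b hb
    have h2 : N ≤ centralizer ({a} : Set G) := (closure_le _).2 fun w hw =>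
      commute_iff.2 (commute_iff.1 (h1 w hw ha)).symm
    exact (commute_iff.1 (h2 hb)).symm
  obtain ⟨j, hj⟩ := hv
  have hNp : IsPGroup p N := by
    rintro ⟨a, ha⟩
    refine ⟨j, Subtype.ext ?_⟩
    show a ^ p ^ j = 1
    rw [← hj]
    induction ha using closure_induction with
    | mem u hu =>
      obtain ⟨g, rfl⟩ := isConj_iff.1 hu
      rw [conj_pow, pow_orderOf_eq_one, mul_one, mul_inv_cancel]
    | one => exact one_pow _
    | mul a b ha hb e1 e2 => rw [(hcomm a ha b hb).mul_pow, e1, e2, one_mul]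
    | inv a _ e1 => rw [inv_pow, e1, inv_one]
  haveI : N.Normal := ⟨fun a ha g => by
    have h : N ≤ N.comap (MulAut.conj g).toMonoidHom :=
      (closure_le _).2 fun u hu => subset_closure (hu.trans (isConj_iff.2 ⟨g, rfl⟩))
    exact h ha⟩
  have hle : N ≤ (S : Subgroup G) := by
    rw [← S.is_maximal' (hNp.to_sup_of_normal_left S.2) le_sup_right]
    exact le_sup_left
  exact hle (subset_closure (IsConj.refl v))

theorem Hyp.pi_commute {p q : ℕ} [hp : Fact p.Prime] [hq : Fact q.Prime] (hpm : p ∣ m) (hqm : q ∣ m)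
    {v w : G} (hv : ∃ j, orderOf v = p ^ j) (hw : ∃ j, orderOf w = q ^ j) : Commute v w := by
  obtain ⟨S, hS⟩ := exists_sylow_le (p := p) (w := w) fun hd =>
    hp.out.ne_one (Nat.eq_one_of_dvd_coprimes (D.pi_coprime hqm hw) hd hpm)
  exact commute_iff.1 (hS (D.mem_sylow hpm hv S))

/-- Each prime power part of an element of `C(x)` is either central or of order prime to the others. -/
theorem Hyp.part_cases {t a : G} (ht : Commute x t) (ha : a ∈ zpowers t) {q : ℕ} (hq : q.Prime)
    (haq : ∃ k, orderOf a = q ^ k) : a ∈ center G ∨ q ∣ m := by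
  by_cases hqm : q ∣ m
  · exact Or.inr hqm
  · exact Or.inl (D.central_of_commute (D.coprime_pow hq hqm haq)
      (commute_iff.1 (centralizer_le_of_mem_zpowers ha (commute_iff.2 ht))))

theorem Hyp.commutative_x : ∀ s ∈ centralizer ({x} : Set G), ∀ t ∈ centralizer ({x} : Set G), Commute s t := by
  intro s hs t ht
  refine commute_iff.1 (mem_of_parts (centralizer ({t} : Set G)) s fun p hp hpd a ha hap => ?_)
  refine commute_iff.2 (Commute.symm (commute_iff.1 ?_))
  refine mem_of_parts (centralizer ({a} : Set G)) t fun q hq hqd b hb hbq => commute_iff.2 ?_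
  rcases D.part_cases (commute_iff.1 hs).symm ha hp hap with haZ | hpm
  · exact mem_center_iff.1 haZ b
  rcases D.part_cases (commute_iff.1 ht).symm hb hq hbq with hbZ | hqm
  · exact (mem_center_iff.1 hbZ a).symm
  haveI : Fact p.Prime := ⟨hp⟩
  haveI : Fact q.Prime := ⟨hq⟩
  exact D.pi_commute hqm hpm hbq hap

theorem Hyp.pi_mem_x {p : ℕ} [Fact p.Prime] (hpm : p ∣ m) {v : G} (hv : ∃ j, orderOf v = p ^ j) :
    Commute v x := by
  refine Commute.symm (commute_iff.1 (mem_of_parts (centralizer ({v} : Set G)) x fun q hq hqd a ha haq => ?_))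
  haveI : Fact q.Prime := ⟨hq⟩
  exact commute_iff.2 (D.pi_commute (D.primesx q hq hqd) hpm haq hv)

theorem Hyp.normal_x : (centralizer ({x} : Set G)).Normal := by
  refine ⟨fun t ht g => ?_⟩
  refine mem_of_parts ((centralizer ({x} : Set G)).comap (MulAut.conj g).toMonoidHom) t
    fun q hq _ a ha haq => ?_
  show g * a * g⁻¹ ∈ centralizer ({x} : Set G)
  rcases D.part_cases (commute_iff.1 ht).symm ha hq haq with haZ | hqm
  · rw [mem_center_iff.1 haZ g, mul_inv_cancel_right]
    exact commute_iff.2 (mem_center_iff.1 haZ x).symm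
  · haveI : Fact q.Prime := ⟨hq⟩
    obtain ⟨k, hk⟩ := haq
    exact commute_iff.2 (D.pi_mem_x hqm ⟨k, (orderOf_conj g a).trans hk⟩)

theorem Hyp.exists_part : ∃ (q : ℕ) (a : G), q.Prime ∧ ¬ q ∣ m ∧ (∃ k, orderOf a = q ^ k) ∧
    a ∉ center G ∧ a ∈ zpowers y := by
  by_contra hcon
  push Not at hcon
  have hy : y ∈ center G := mem_of_parts _ _ fun q hq _ a ha haq => by
    by_cases hqm : q ∣ m
    · haveI : Fact q.Prime := ⟨hq⟩
      exact D.central_of_class hqm haq
        (D.cop.coprime_dvd_left (D.clsy ▸ cls_dvd (centralizer_le_of_mem_zpowers ha)))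
    · by_contra haZ
      obtain ⟨k, hk⟩ := haq
      exact hcon q a hq hqm ⟨k, hk⟩ haZ ha
  have h1 := cls_eq_one.2 hy
  rw [D.clsy] at h1
  have := D.n_gt
  have := D.n_lt
  omega

theorem Hyp.inf_le_center : ∀ t, Commute t x → Commute t y → t ∈ center G := by
  intro t htx hty
  obtain ⟨q₀, a₀, hq₀, hq₀m, ha₀q, ha₀Z, ha₀y⟩ := D.exists_part
  refine mem_of_parts _ _ fun q hq _ a ha haq => ?_
  rcases D.part_cases htx.symm ha hq haq with haZ | hqm
  · exact haZ
  · haveI : Fact q.Prime := ⟨hq⟩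
    refine D.central_of_commute_noncentral (D.coprime_pow hq₀ hq₀m ha₀q) ha₀Z hqm haq ?_
    have h1 : t ∈ centralizer ({a₀} : Set G) := centralizer_le_of_mem_zpowers ha₀y (commute_iff.2 hty)
    obtain ⟨i, rfl⟩ := ha
    exact ((commute_iff.1 h1).zpow_left i).symm

/-- Noncentral elements of prime power order for primes not dividing `m` have class size `m`. -/
theorem Hyp.cls_pi' {h : G} (hh : (orderOf h).Coprime m) (hZ : h ∉ center G) : cls h = m :=
  D.eq_m_of_dvd (dvd_cls_of_central D.clsy fun q hq hqm a ha haq => by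
    haveI : Fact q.Prime := ⟨hq⟩
    exact D.central_of_commute_noncentral hh hZ hqm haq ha.symm)

/-- An element of `C(x)` normalising modulo the centre an element of order prime to `m` centralises it. -/
theorem Hyp.commute_of_central_commutator {e h : G} (he : e ∈ centralizer ({x} : Set G))
    (hh : (orderOf h).Coprime m) (hz : e * h * e⁻¹ * h⁻¹ ∈ center G) : Commute e h := by
  set C := centralizer ({x} : Set G)
  have hCn := D.normal_x
  let ψ : C →* G := MonoidHom.mk' (fun t => (t : G) * h * (t : G)⁻¹ * h⁻¹) (fun a b => by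
    have h1 := D.commutative_x _ (mul_mem b.2 (hCn.conj_mem _ (inv_mem b.2) h)) _ (inv_mem a.2)
    calc ((a * b : C) : G) * h * ((a * b : C) : G)⁻¹ * h⁻¹
        = (a : G) * ((b : G) * (h * (b : G)⁻¹ * h⁻¹)) * (h * (a : G)⁻¹ * h⁻¹) := by push_cast; group
      _ = _ := by
        have h2 := D.commutative_x _ a.2 _ (mul_mem b.2 (hCn.conj_mem _ (inv_mem b.2) h))
        have h3 := D.commutative_x _ (mul_mem b.2 (hCn.conj_mem _ (inv_mem b.2) h)) _
          (hCn.conj_mem _ (inv_mem a.2) h)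
        rw [mul_assoc, h3.eq]
        group)
  have hψ : ∀ t : C, ψ t ∈ C := fun t => by
    show (t : G) * h * (t : G)⁻¹ * h⁻¹ ∈ C
    rw [mul_assoc, mul_assoc, ← mul_assoc h]
    exact mul_mem t.2 (hCn.conj_mem _ (inv_mem t.2) h)
  let S : Subgroup C :=
    { carrier := {t | ∃ j, ψ t ^ m ^ j = 1}
      one_mem' := ⟨0, by rw [map_one, one_pow]⟩
      mul_mem' := by
        rintro a b ⟨i, hi⟩ ⟨j, hj⟩
        refine ⟨i + j, ?_⟩
        rw [map_mul, (D.commutative_x _ (hψ a) _ (hψ b)).mul_pow, pow_add, pow_mul, hi, one_pow, one_mul,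
          mul_comm, pow_mul, hj, one_pow]
      inv_mem' := by
        rintro a ⟨i, hi⟩
        exact ⟨i, by rw [map_inv, inv_pow, hi, inv_one]⟩ }
  have hS : (⟨e, he⟩ : C) ∈ S := by
    refine mem_of_parts S _ fun q hq _ a ha haq => ?_
    obtain ⟨k, hk⟩ := haq
    have ha' : (a : G) ∈ zpowers e := by
      obtain ⟨i, rfl⟩ := ha
      exact ⟨i, rfl⟩
    rcases D.part_cases (commute_iff.1 he).symm ha' hq ⟨k, by rw [Subgroup.orderOf_coe, hk]⟩ with haZ | hqm
    · refine ⟨0, ?_⟩
      show ((a : G) * h * (a : G)⁻¹ * h⁻¹) ^ m ^ 0 = 1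
      rw [← mem_center_iff.1 haZ h, mul_inv_cancel_right, mul_inv_cancel, one_pow]
    · refine ⟨k, ?_⟩
      rw [← map_pow, orderOf_dvd_iff_pow_eq_one.1 (hk ▸ pow_dvd_pow_of_dvd hqm k), map_one]
  obtain ⟨j, hj⟩ := hS
  have h2 : (e * h * e⁻¹ * h⁻¹) ^ orderOf h = 1 := by
    have h3 : (e * h * e⁻¹ * h⁻¹ * h) ^ orderOf h = 1 := by
      rw [inv_mul_cancel_right, conj_pow, pow_orderOf_eq_one, mul_one, mul_inv_cancel]
    rwa [(show Commute (e * h * e⁻¹ * h⁻¹) h from (mem_center_iff.1 hz h).symm).mul_pow,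
      pow_orderOf_eq_one, mul_one] at h3
  have h4 : orderOf (e * h * e⁻¹ * h⁻¹) = 1 := Nat.eq_one_of_dvd_coprimes (hh.pow_right j)
    (orderOf_dvd_of_pow_eq_one h2) (orderOf_dvd_of_pow_eq_one hj)
  rw [orderOf_eq_one_iff, mul_inv_eq_one, mul_inv_eq_iff_eq_mul] at h4
  exact h4

theorem Hyp.normal_conj {c h : G} (hc : c ∈ centralizer ({x} : Set G)) :
    h * c * h⁻¹ ∈ centralizer ({x} : Set G) := (D.normal_x).conj_mem c hc h

theorem Hyp.centralizer_y_le {t : G} (ht : t ∈ centralizer ({y} : Set G)) :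
    centralizer ({y} : Set G) ≤ centralizer ({t} : Set G) := by
  intro c hc
  refine commute_iff.2 (Commute.symm (commute_iff.1
    (mem_of_parts (centralizer ({c} : Set G)) t fun q hq _ a ha haq => commute_iff.2 ?_)))
  by_cases haZ : a ∈ center G
  · exact (mem_center_iff.1 haZ c).symm
  have hay : Commute a y := by
    obtain ⟨i, rfl⟩ := ha
    exact (commute_iff.1 ht).zpow_left i
  have hqm : ¬ q ∣ m := by
    intro hqm
    haveI : Fact q.Prime := ⟨hq⟩
    obtain ⟨q₀, a₀, hq₀, hq₀m, ha₀q, ha₀Z, ha₀y⟩ := D.exists_part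
    exact haZ (D.central_of_commute_noncentral (D.coprime_pow hq₀ hq₀m ha₀q) ha₀Z hqm haq
      (commute_iff.1 (centralizer_le_of_mem_zpowers ha₀y (commute_iff.2 hay))).symm)
  have hcop := D.coprime_pow hq hqm haq
  obtain ⟨d, hd, e, he, hce⟩ := CfsgLib.Solvable.mul_of_coprime_index (H := centralizer ({a} : Set G))
    (K := centralizer ({x} : Set G))
    (show (cls a).Coprime (cls x) by rw [D.cls_pi' hcop haZ, D.clsx]; exact D.cop) c
  have h1 : c * a * c⁻¹ * a⁻¹ ∈ centralizer ({y} : Set G) :=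
    mul_mem (mul_mem (mul_mem hc (commute_iff.2 hay)) (inv_mem hc)) (inv_mem (commute_iff.2 hay))
  have h2 : c * a * c⁻¹ * a⁻¹ = d * (e * a * e⁻¹ * a⁻¹) * d⁻¹ := by
    have hda : Commute d a := commute_iff.1 hd
    rw [hce]
    calc d * e * a * (d * e)⁻¹ * a⁻¹ = d * (e * a * e⁻¹) * (d⁻¹ * a⁻¹) := by group
      _ = d * (e * a * e⁻¹) * (a⁻¹ * d⁻¹) := by rw [(hda.inv_inv).eq]
      _ = _ := by group
  have h3 : e * a * e⁻¹ * a⁻¹ ∈ centralizer ({x} : Set G) := by
    rw [mul_assoc, mul_assoc, ← mul_assoc a]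
    exact mul_mem he (D.normal_conj (inv_mem he))
  have h4 : d * (e * a * e⁻¹ * a⁻¹) * d⁻¹ ∈ center G := by
    refine D.inf_le_center _ (commute_iff.1 (D.normal_conj h3)) ?_
    rw [← h2]
    exact commute_iff.1 h1
  have h5 : e * a * e⁻¹ * a⁻¹ ∈ center G := by
    have h6 := (inferInstance : (center G).Normal).conj_mem _ h4 d⁻¹
    simpa [mul_assoc] using h6
  rw [hce]
  exact ((commute_iff.1 hd).mul_left (D.commute_of_central_commutator he hcop h5)).symm

theorem Hyp.commutative_y : ∀ s ∈ centralizer ({y} : Set G), ∀ t ∈ centralizer ({y} : Set G), Commute s t :=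
  fun _ hs _ ht => commute_iff.1 (D.centralizer_y_le ht hs)

theorem Hyp.centralizer_eq_y {t : G} (ht : t ∈ centralizer ({y} : Set G)) (htZ : t ∉ center G) :
    centralizer ({t} : Set G) = centralizer ({y} : Set G) := by
  refine (centralizer_eq_of_cls (D.centralizer_y_le ht) ?_).symm
  rw [D.clsy]
  refine (le_antisymm (D.top t) ?_).symm
  by_contra hlt
  refine htZ (mem_of_parts _ _ fun q hq _ a ha haq => ?_)
  by_contra haZ
  obtain ⟨q₀, a₀, hq₀, hq₀m, ha₀q, ha₀Z, ha₀y⟩ := D.exists_part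
  have hay : Commute a y := by
    obtain ⟨i, rfl⟩ := ha
    exact (commute_iff.1 ht).zpow_left i
  by_cases hqm : q ∣ m
  · haveI : Fact q.Prime := ⟨hq⟩
    exact haZ (D.central_of_commute_noncentral (D.coprime_pow hq₀ hq₀m ha₀q) ha₀Z hqm haq
      (commute_iff.1 (centralizer_le_of_mem_zpowers ha₀y (commute_iff.2 hay))).symm)
  · refine hlt ?_
    rw [← D.cls_pi' (D.coprime_pow hq hqm haq) haZ]
    exact Nat.le_of_dvd (Nat.pos_of_ne_zero (cls_ne_zero t)) (cls_dvd (centralizer_le_of_mem_zpowers ha))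

theorem Hyp.mem_y_of_normalizes {g t : G} (ht : t ∈ centralizer ({y} : Set G)) (htZ : t ∉ center G)
    (hg : g⁻¹ * t * g ∈ centralizer ({y} : Set G)) : g ∈ centralizer ({y} : Set G) := by
  obtain ⟨c, hc, e, he, hge⟩ := CfsgLib.Solvable.mul_of_coprime_index (H := centralizer ({y} : Set G))
    (K := centralizer ({x} : Set G)) (show (cls y).Coprime (cls x) by rw [D.clsy, D.clsx]; exact D.cop) g
  have h1 : g⁻¹ * t * g = e⁻¹ * t * e := by
    have hct : Commute c t := D.commutative_y c hc t ht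
    rw [hge]
    calc (c * e)⁻¹ * t * (c * e) = e⁻¹ * (c⁻¹ * t * c) * e := by group
      _ = _ := by rw [(hct.inv_left).eq]; group
  obtain ⟨q₀, a₀, hq₀, hq₀m, ha₀q, ha₀Z, ha₀y⟩ := D.exists_part
  -- `e⁻¹` conjugates the centraliser of `y` to itself
  have hmem : e⁻¹ * t * e ∈ centralizer ({y} : Set G) := h1 ▸ hg
  have hnc : e⁻¹ * t * e ∉ center G := by
    have := conj_not_central (g := e⁻¹) htZ
    rwa [inv_inv] at this
  have e2 := (D.centralizer_eq_y hmem hnc)
  have e3 := D.centralizer_eq_y ht htZ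
  have ha₀C : a₀ ∈ centralizer ({y} : Set G) := by
    obtain ⟨i, rfl⟩ := ha₀y
    exact commute_iff.2 ((Commute.refl y).zpow_left i)
  have ha' : e * a₀ * e⁻¹ ∈ centralizer ({y} : Set G) := by
    rw [← e3]
    have h2 : Commute a₀ (e⁻¹ * t * e) := commute_iff.1 (e2.symm.le ha₀C)
    have h3 := h2.map (MulAut.conj e).toMonoidHom
    refine commute_iff.2 ?_
    have h4 : MulAut.conj e (e⁻¹ * t * e) = t := by simp [mul_assoc]
    rw [show (MulAut.conj e).toMonoidHom (e⁻¹ * t * e) = t from h4] at h3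
    exact h3
  have h5 : e * a₀ * e⁻¹ * a₀⁻¹ ∈ center G := by
    refine D.inf_le_center _ (commute_iff.1 ?_) (commute_iff.1 (mul_mem ha' (inv_mem ha₀C)))
    rw [mul_assoc, mul_assoc, ← mul_assoc a₀]
    exact mul_mem he (D.normal_conj (inv_mem he))
  have h6 := D.commute_of_central_commutator he (D.coprime_pow hq₀ hq₀m ha₀q) h5
  rw [hge]
  refine mul_mem hc ?_
  rw [← D.centralizer_eq_y ha₀C ha₀Z]
  exact commute_iff.2 h6

theorem Hyp.exists_conj_mem_y {t : G} (htx : ¬ Commute t x) :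
    t ∉ center G ∧ ∃ g : G, g * t * g⁻¹ ∈ centralizer ({y} : Set G) := by
  refine ⟨fun h => htx (mem_center_iff.1 h x).symm, ?_⟩
  by_contra hcon
  refine htx (commute_iff.1 (mem_of_parts (centralizer ({x} : Set G)) t fun q hq _ a ha haq => ?_))
  by_cases hqm : q ∣ m
  · haveI : Fact q.Prime := ⟨hq⟩
    exact commute_iff.2 (D.pi_mem_x hqm haq)
  by_cases haZ : a ∈ center G
  · exact commute_iff.2 (mem_center_iff.1 haZ x).symm
  exfalso
  haveI : Fact q.Prime := ⟨hq⟩
  obtain ⟨g, hg⟩ := exists_conj_mem (w := y) (D.clsy.symm ▸ hqm) haq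
  refine hcon ⟨g, ?_⟩
  rw [← D.centralizer_eq_y hg (conj_not_central haZ)]
  have h1 : t ∈ centralizer ({a} : Set G) := centralizer_le_of_mem_zpowers ha (commute_iff.2 (Commute.refl t))
  exact commute_iff.2 ((commute_iff.1 h1).map (MulAut.conj g).toMonoidHom)

end CfsgLib.FGS.TwoLargest
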