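import Cfsg.Agent.Lib.Solvable.FrobeniusTheorem
import Cfsg.Agent.Lib.Solvable.Basic
import Cfsg.Prelude.Def_OddOrderLocal

/-!
# TI subgroups which are Hall subgroups of their normalisers

Wielandt's extension of Frobenius' theorem: if such a subgroup has a normal complement in its
normaliser, it has one in the whole group.
-/

set_option autoImplicit false

open scoped Pointwise ComplexConjugate

namespace CfsgLib.FGS

open CfsgLib.Char CfsgLib.CharNormal

/-- Inner products are preserved by composition with a surjective homomorphism. -/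
theorem classInner_comp_surjective {M H : Type*} [Group M] [Fintype M] [Group H] [Fintype H]
    (f : M →* H) (hf : Function.Surjective f) (φ ψ : H → ℂ) :
    Cfsg.classInner (fun x => φ (f x)) (fun x => ψ (f x)) = Cfsg.classInner φ ψ := by
  classical
  have hfib : ∀ h : H, Nat.card {x : M // f x = h} = Nat.card f.ker := by
    intro h
    obtain ⟨x₀, rfl⟩ := hf h
    refine Nat.card_congr
      { toFun := fun x => ⟨x₀⁻¹ * x.1, by simp [MonoidHom.mem_ker, x.2]⟩
        invFun := fun k => ⟨x₀ * k.1, by simp [MonoidHom.mem_ker.1 k.2]⟩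
        left_inv := fun x => by simp
        right_inv := fun k => by simp }
  have hker : (Nat.card f.ker : ℂ) ≠ 0 := by exact_mod_cast Nat.card_pos.ne'
  have hM : Nat.card M = Nat.card f.ker * Nat.card H := by
    rw [← f.ker.card_mul_index, Subgroup.index_ker, MonoidHom.range_eq_top.2 hf, Subgroup.card_top]
  have hsum : ∑ x : M, φ (f x) * conj (ψ (f x)) = (Nat.card f.ker : ℂ) * ∑ h : H, φ h * conj (ψ h) := by
    rw [Finset.mul_sum, ← Fintype.sum_fiberwise f]
    refine Finset.sum_congr rfl fun h _ => ?_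
    rw [← hfib h, Nat.card_eq_fintype_card]
    simp [fun x : {x // f x = h} => x.2, Finset.card_univ]
  simp only [classInner_def, hsum, hM, Nat.cast_mul]
  field_simp

variable {G : Type*} [Group G] [Finite G]

/-- A TI Hall subgroup of its normaliser with a normal complement there has a normal complement. -/
theorem exists_normal_complement_of_TI_hall (H : Subgroup G) (hTI : Cfsg.IsTISubset (H : Set G))
    (hcop : (Nat.card H).Coprime (H.subgroupOf (Subgroup.normalizer (H : Set G))).index)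
    (hK : ∃ K : Subgroup (Subgroup.normalizer (H : Set G)), K.Normal ∧
      K.IsComplement' (H.subgroupOf (Subgroup.normalizer (H : Set G)))) :
    ∃ N : Subgroup G, N.Normal ∧ N.IsComplement' H := by
  classical
  letI := Fintype.ofFinite G
  set M := Subgroup.normalizer (H : Set G) with hMdef
  obtain ⟨K, hKn, hKc⟩ := hK
  haveI := hKn
  set H' := H.subgroupOf M with hH'
  haveI hH'n : H'.Normal := Subgroup.normal_in_normalizer
  have hHM : H ≤ M := Subgroup.le_normalizer
  letI := Fintype.ofFinite M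
  letI := Fintype.ofFinite H
  have hKidx : H'.index = Nat.card K := hKc.index_eq_card
  have hcard' : Nat.card H' = Nat.card H := Nat.card_congr (Subgroup.subgroupOfEquivOfLe hHM).toEquiv
  have hcommKH : ∀ k ∈ K, ∀ h ∈ H', k * h = h * k := fun k hk h hh =>
    (Subgroup.commute_of_normal_of_disjoint K H' hKn hH'n hKc.disjoint k h hk hh).eq
  -- the projection to `H`
  have hdec : ∀ x : M, ∃ k ∈ K, ∃ h : H, x = k * ⟨(h : G), hHM h.2⟩ := by
    intro x
    obtain ⟨⟨k, h⟩, hx⟩ := hKc.2 x
    exact ⟨k, k.2, ⟨_, Subgroup.mem_subgroupOf.1 h.2⟩, hx.symm⟩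
  choose kc hkc hc hxc using hdec
  have hmemH' : ∀ h : H, (⟨(h : G), hHM h.2⟩ : M) ∈ H' := fun h => Subgroup.mem_subgroupOf.2 h.2
  have huniq : ∀ (k : M) (h : H), k ∈ K → hc (k * ⟨(h : G), hHM h.2⟩) = h := by
    intro k h hk
    have e := hxc (k * ⟨(h : G), hHM h.2⟩)
    have h1 : (⟨⟨kc _, hkc _⟩, ⟨_, hmemH' (hc (k * ⟨(h : G), hHM h.2⟩))⟩⟩ : K × H') =
        ⟨⟨k, hk⟩, ⟨_, hmemH' h⟩⟩ := hKc.1 e.symm
    have h2 := congrArg (fun z : K × H' => ((z.2 : M) : G)) h1
    exact Subtype.ext h2
  let π : M →* H := MonoidHom.mk' hc fun x y => by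
    have e : x * y = (kc x * kc y) * ⟨((hc x * hc y : H) : G), hHM (hc x * hc y).2⟩ := by
      calc x * y = kc x * ⟨(hc x : G), hHM (hc x).2⟩ * (kc y * ⟨(hc y : G), hHM (hc y).2⟩) := by
            rw [← hxc x, ← hxc y]
        _ = kc x * (⟨(hc x : G), hHM (hc x).2⟩ * kc y) * ⟨(hc y : G), hHM (hc y).2⟩ := by group
        _ = _ := by
          rw [← hcommKH _ (hkc y) _ (hmemH' _)]
          simp only [mul_assoc]
          rfl
    rw [e, huniq _ _ (mul_mem (hkc x) (hkc y))]
  have hπH : ∀ h : H, π ⟨(h : G), hHM h.2⟩ = h := fun h => by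
    have := huniq 1 h (one_mem K)
    rwa [one_mul] at this
  have hπsurj : Function.Surjective π := fun h => ⟨_, hπH h⟩
  set T : Set G := {g | ∃ hg : g ∈ M, π ⟨g, hg⟩ ≠ 1} with hT
  have hpow : ∀ x : M, ((x : G)) ^ Nat.card K = ((hc x ^ Nat.card K : H) : G) := by
    intro x
    have hcom : Commute (kc x) (⟨(hc x : G), hHM (hc x).2⟩ : M) := hcommKH _ (hkc x) _ (hmemH' _)
    have h1 : x ^ Nat.card K = (⟨(hc x : G), hHM (hc x).2⟩ : M) ^ Nat.card K := by
      conv_lhs => rw [hxc x]
      rw [hcom.mul_pow]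
      have h2 : kc x ^ Nat.card K = 1 :=
        congrArg Subtype.val (pow_card_eq_one' (G := K) (x := ⟨kc x, hkc x⟩))
      rw [h2, one_mul]
    have h3 := congrArg Subtype.val h1
    simpa using h3
  have hcopK : (Nat.card H).Coprime (Nat.card K) := hKidx ▸ hcop
  have hinj : ∀ h : H, h ^ Nat.card K = 1 → h = 1 := fun h hh =>
    (powCoprime hcopK).injective (by simpa [powCoprime] using hh)
  have hTI' : ∀ g : G, g ∉ M → ∀ t ∈ T, g * t * g⁻¹ ∈ T → t = 1 := by
    rintro g hg t ⟨htM, ht⟩ ⟨huM, hu⟩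
    exfalso
    have h1 := hpow ⟨t, htM⟩
    have h2 := hpow ⟨g * t * g⁻¹, huM⟩
    simp only at h1 h2
    rw [conj_pow, h1] at h2
    refine ht (hinj _ (Subtype.ext ?_))
    refine hTI g hg _ (hc ⟨t, htM⟩ ^ Nat.card K).2 ?_
    show g * ((hc ⟨t, htM⟩ ^ Nat.card K : H) : G) * g⁻¹ ∈ H
    rw [h2]
    exact SetLike.coe_mem _
  have hdeg : ∀ χ : Cfsg.IrrCharacter H, ∃ d : ℕ, 0 < d ∧ (χ : H → ℂ) 1 = d := fun χ =>
    exists_degree_pos χ.2
  choose d hd0 hd1 using hdeg
  let ψ : Cfsg.IrrCharacter H → M → ℂ := fun χ =>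
    (fun x => (χ : H → ℂ) (π x)) - (d χ : ℂ) • (fun _ => 1)
  let φ : Cfsg.IrrCharacter H → G → ℂ := fun χ =>
    Cfsg.indFun M (ψ χ) + (d χ : ℂ) • (irrOne : Cfsg.IrrCharacter G).1
  have hψ1 : ∀ χ, ψ χ 1 = 0 := fun χ => by simp [ψ, hd1]
  have hψT : ∀ χ, ∀ x : M, (x : G) ∉ T → ψ χ x = 0 := by
    intro χ x hx
    have h1 : π x = 1 := by
      by_contra h
      exact hx ⟨x.2, h⟩
    simp [ψ, h1, hd1]
  have hirrπ : ∀ χ : Cfsg.IrrCharacter H, Cfsg.IsCharacter M (fun x => (χ : H → ℂ) (π x)) :=
    fun χ => isCharacter_comp (isCharacter_of_isIrr χ.2) π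
  have hψcl : ∀ χ, Cfsg.IsClassFunction M (ψ χ) := fun χ =>
    isClassFunction_sub (isClassFunction_of_isCharacter (hirrπ χ))
      (isClassFunction_smul (isClassFunction_of_isCharacter isCharacter_one) _)
  have hφH : ∀ χ, ∀ h : H, h ≠ 1 → φ χ (h : G) = (χ : H → ℂ) h := by
    intro χ h hh
    have hmem : (((⟨(h : G), hHM h.2⟩ : M) : M) : G) ∈ T := ⟨hHM h.2, by rw [hπH]; exact hh⟩
    have := indFun_eq_of_TI M T hTI' (hψcl χ) (hψT χ) hmem (fun e => hh (Subtype.ext (congrArg (fun z : M => (z : G)) e)))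
    simp only [φ, Pi.add_apply, Pi.smul_apply, this]
    simp [ψ, hπH, irrOne_apply]
  have hφ1 : ∀ χ, φ χ 1 = (d χ : ℂ) := fun χ => by
    simp [φ, CfsgLib.Char.indFun_one, hψ1, irrOne_apply]
  have hφX : ∀ χ, ∀ x : G, (∀ g : G, g⁻¹ * x * g ∉ T) → φ χ x = φ χ 1 := by
    intro χ x hx
    rw [hφ1]
    simp [φ, indFun_eq_zero_of_forall (H := M) (θ := ψ χ) (g := x)
      (fun g hg => hψT χ _ (hx g)), irrOne_apply]
  have hirr : ∀ χ : Cfsg.IrrCharacter H, χ ≠ irrOne → Cfsg.IsIrrCharacter G (φ χ) := by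
    intro χ hχ
    have hgen : Cfsg.IsGeneralizedCharacter G (φ χ) :=
      isGen_add (isGen_indFun M (isGen_sub (isGen_of_char (hirrπ χ))
        (isGen_intCast_smul isGen_one (d χ : ℤ))))
        (isGen_intCast_smul (isGen_of_irr irrOne.2) (d χ : ℤ))
    have hne : (χ : H → ℂ) ≠ (irrOne : Cfsg.IrrCharacter H).1 := fun h => hχ (Subtype.ext h)
    have hone : (irrOne : Cfsg.IrrCharacter H).1 = fun _ => 1 := funext irrOne_apply
    have e1 : Cfsg.classInner (ψ χ) (ψ χ) = 1 + (d χ : ℂ) * d χ := by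
      have hc2 : ψ χ = fun x => ((χ : H → ℂ) - (d χ : ℂ) • (irrOne : Cfsg.IrrCharacter H).1) (π x) := by
        funext x; simp [ψ, irrOne_apply]
      rw [hc2, classInner_comp_surjective π hπsurj]
      simp [classInner_sub_left, classInner_sub_right, classInner_smul_left,
        classInner_smul_right, classInner_irr_self χ.2,
        classInner_irr_self (irrOne : Cfsg.IrrCharacter H).2,
        classInner_irr_ne χ.2 irrOne.2 hne, classInner_irr_ne irrOne.2 χ.2 hne.symm]
    have e2 : Cfsg.classInner (Cfsg.indFun M (ψ χ)) (irrOne : Cfsg.IrrCharacter G).1 =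
        -(d χ : ℂ) := by
      rw [frobenius_reciprocity M _ (isClassFunction_of_isIrr irrOne.2)]
      have hc2 : ψ χ = fun x => ((χ : H → ℂ) - (d χ : ℂ) • (irrOne : Cfsg.IrrCharacter H).1) (π x) := by
        funext x; simp [ψ, irrOne_apply]
      have hc3 : (fun x : M => (irrOne : Cfsg.IrrCharacter G).1 (x : G)) =
          fun x => (irrOne : Cfsg.IrrCharacter H).1 (π x) := by
        funext x; simp [irrOne_apply]
      rw [hc3, hc2, classInner_comp_surjective π hπsurj]
      simp [classInner_sub_left, classInner_smul_left,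
        classInner_irr_self (irrOne : Cfsg.IrrCharacter H).2,
        classInner_irr_ne χ.2 irrOne.2 hne]
    have e3 : Cfsg.classInner (irrOne : Cfsg.IrrCharacter G).1 (Cfsg.indFun M (ψ χ)) =
        -(d χ : ℂ) := by
      rw [← classInner_conj_symm, e2]; simp
    refine gen_norm_one_pos hgen ?_ ?_
    · simp only [φ, classInner_add_left, classInner_add_right, classInner_smul_left,
        classInner_smul_right, classInner_indFun_of_TI M T hTI' (hψcl χ) (hψT χ) (hψT χ)
          (hψ1 χ), e1, e2, e3, classInner_irr_self (irrOne : Cfsg.IrrCharacter G).2, map_natCast]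
      ring
    · rw [hφ1]
      simpa using hd0 χ
  set N : Subgroup G := ⨅ χ : {χ : Cfsg.IrrCharacter H // χ ≠ irrOne},
    charKer (isCharacter_of_isIrr (hirr χ.1 χ.2)) with hN
  have hNn : N.Normal := Subgroup.normal_iInf_normal fun χ => charKer_normal _
  haveI := hNn
  set X : Set G := {x | ∀ g : G, g⁻¹ * x * g ∉ T} with hX
  have hXN : X ⊆ N := fun x hx => Subgroup.mem_iInf.2 fun χ => hφX χ.1 x hx
  have hd : Disjoint N H := by
    rw [disjoint_iff, Subgroup.eq_bot_iff_forall]
    intro x hx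
    by_contra hx1
    have : IsConj (⟨x, hx.2⟩ : H) 1 := by
      rw [isConj_iff_forall_irr]
      intro χ
      rcases eq_or_ne χ irrOne with rfl | hχ
      · rfl
      · have h : φ χ x = φ χ 1 := Subgroup.mem_iInf.1 hx.1 ⟨χ, hχ⟩
        rw [hφH χ ⟨x, hx.2⟩ (fun h => hx1 (congrArg Subtype.val h)), hφ1] at h
        rw [h, hd1]
    exact hx1 (congrArg Subtype.val (isConj_one_right.1 this.symm))
  have hle : Nat.card N * Nat.card H ≤ Nat.card G := by
    rw [← CfsgLib.Solvable.card_sup_of_disjoint (K := N) (A := H)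
      (Subgroup.normalizer_eq_top N ▸ le_top) hd.eq_bot]
    exact Subgroup.card_le_card_group _
  -- the elements outside all conjugates of `T` are at least `[G : H]` in number
  have hTcard : Nat.card T + Nat.card K ≤ Nat.card M := by
    let f : T ⊕ K → M := Sum.elim (fun t => ⟨t, t.2.fst⟩) (fun k => k)
    have hf : Function.Injective f := by
      rintro (t | k) (t' | k') h
      · exact congrArg Sum.inl (Subtype.ext (congrArg (fun z : M => (z : G)) h))
      · exfalso
        refine t.2.snd ?_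
        have h' : (⟨(t : G), t.2.fst⟩ : M) = k' := h
        rw [h']
        have := huniq k' 1 k'.2
        rw [show (⟨((1 : H) : G), hHM (1 : H).2⟩ : M) = 1 from rfl, mul_one] at this
        exact this
      · exfalso
        refine t'.2.snd ?_
        have h' : (k : M) = ⟨(t' : G), t'.2.fst⟩ := h
        rw [← h']
        have := huniq k 1 k.2
        rw [show (⟨((1 : H) : G), hHM (1 : H).2⟩ : M) = 1 from rfl, mul_one] at this
        exact this
      · exact congrArg Sum.inr (Subtype.ext h)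
    have := Nat.card_le_card_of_injective f hf
    rwa [Nat.card_sum] at this
  have hXcard : Nat.card G ≤ Nat.card X + M.index * Nat.card T := by
    let f : X ⊕ ((G ⧸ M) × T) → G := Sum.elim (fun x => x) (fun z => z.1.out * z.2 * z.1.out⁻¹)
    have hf : Function.Surjective f := by
      intro x
      by_cases hx : x ∈ X
      · exact ⟨Sum.inl ⟨x, hx⟩, rfl⟩
      simp only [hX, Set.mem_setOf_eq, not_forall, not_not] at hx
      obtain ⟨g, hgM, hg⟩ := hx
      obtain ⟨u, hu⟩ := QuotientGroup.mk_out_eq_mul M g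
      have hmem : (u : G)⁻¹ * (g⁻¹ * x * g) * u ∈ T := by
        refine ⟨mul_mem (mul_mem (inv_mem u.2) hgM) u.2, fun e => hg ?_⟩
        have e' : π (u⁻¹ * ⟨g⁻¹ * x * g, hgM⟩ * u) = 1 := e
        rw [map_mul, map_mul, map_inv] at e'
        rwa [← inv_inv (π u), inv_inv (π u)⁻¹, conj_eq_one_iff] at e'
      refine ⟨Sum.inr ((g : G ⧸ M), ⟨_, hmem⟩), ?_⟩
      show Quotient.out ((g : G ⧸ M)) * _ * (Quotient.out ((g : G ⧸ M)))⁻¹ = x
      rw [hu]
      group
    have := Nat.card_le_card_of_surjective f hf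
    rwa [Nat.card_sum, Nat.card_prod, ← Subgroup.index_eq_card] at this
  have hMcard : Nat.card M = Nat.card K * Nat.card H := by rw [← hKc.card_mul_card, hcard']
  have hXN' : Nat.card X ≤ Nat.card N :=
    Nat.card_le_card_of_injective (Set.inclusion hXN) (Set.inclusion_injective hXN)
  have hge : Nat.card K * M.index ≤ Nat.card X := by
    have h1 : M.index * Nat.card T + Nat.card K * M.index ≤ Nat.card G := by
      rw [← M.card_mul_index]
      calc M.index * Nat.card T + Nat.card K * M.index = (Nat.card T + Nat.card K) * M.index := by ring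
        _ ≤ _ := Nat.mul_le_mul_right _ hTcard
    omega
  have hGcard : Nat.card G ≤ Nat.card N * Nat.card H := by
    calc Nat.card G = (Nat.card K * M.index) * Nat.card H := by
          rw [← M.card_mul_index, hMcard]; ring
      _ ≤ _ := Nat.mul_le_mul_right _ (hge.trans hXN')
  exact ⟨N, hNn, Subgroup.isComplement'_of_card_mul_and_disjoint (le_antisymm hle hGcard) hd⟩

end CfsgLib.FGS
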