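import Mathlib
import Cfsg.Agent.Lib.Transfer.Frobenius

/-!
# Counting the elements whose class size is prime to `p`
-/

namespace CfsgLib.FGS.CoverCount

open Subgroup

variable {G : Type*} [Group G] [Finite G]

/-- The elements whose class size is prime to `p`. -/
def free (G : Type*) [Group G] (p : ℕ) : Set G :=
  {x | ¬ p ∣ (centralizer ({x} : Set G)).index}

theorem one_mem_free {p : ℕ} (hp : p ≠ 1) : (1 : G) ∈ free G p := by
  have : centralizer ({1} : Set G) = ⊤ := by
    ext u; simp [mem_centralizer_singleton_iff]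
  show ¬ p ∣ _
  rw [this, index_top, Nat.dvd_one]
  exact hp

theorem exists_mem_centralizer_sylow {p : ℕ} [Fact p.Prime] {x : G} (hx : x ∈ free G p) :
    ∃ Q : Sylow p G, x ∈ centralizer ((Q : Subgroup G) : Set G) := by
  set C := centralizer ({x} : Set G)
  obtain ⟨R⟩ : Nonempty (Sylow p C) := inferInstance
  obtain ⟨Q, hQ⟩ := (R.isPGroup'.map C.subtype).exists_le_sylow
  refine ⟨Q, mem_centralizer_iff.2 fun y hy => ?_⟩
  have hcard : Nat.card (Q : Subgroup G) ≤ Nat.card ((R : Subgroup C).map C.subtype) := by
    rw [card_map_of_injective C.subtype_injective, Sylow.card_eq_multiplicity,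
      Sylow.card_eq_multiplicity, ← C.card_mul_index, Nat.factorization_mul Nat.card_pos.ne'
        index_ne_zero_of_finite, Finsupp.add_apply, Nat.factorization_eq_zero_of_not_dvd hx,
      add_zero]
  rw [SetLike.mem_coe, ← Subgroup.eq_of_le_of_card_ge hQ hcard] at hy
  obtain ⟨y', -, rfl⟩ := hy
  exact mem_centralizer_singleton_iff.1 y'.2

theorem card_centralizer_sylow {p : ℕ} [Fact p.Prime] (P Q : Sylow p G) :
    Nat.card (centralizer ((Q : Subgroup G) : Set G)) =
      Nat.card (centralizer ((P : Subgroup G) : Set G)) := by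
  obtain ⟨g, rfl⟩ := MulAction.exists_smul_eq G P Q
  have h : centralizer (((g • P : Sylow p G) : Subgroup G) : Set G) =
      (centralizer ((P : Subgroup G) : Set G)).map (MulAut.conj g).toMonoidHom := by
    ext y
    simp only [mem_centralizer_iff, SetLike.mem_coe, Sylow.coe_subgroup_smul]
    constructor
    · intro h
      refine ⟨g⁻¹ * y * g, fun u hu => ?_, by simp; group⟩
      have := h (g * u * g⁻¹) (Subgroup.smul_mem_pointwise_smul u (MulAut.conj g) _ hu)
      calc u * (g⁻¹ * y * g) = g⁻¹ * (g * u * g⁻¹ * y) * g := by group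
        _ = g⁻¹ * (y * (g * u * g⁻¹)) * g := by rw [this]
        _ = g⁻¹ * y * g * u := by group
    · rintro ⟨z, hz, rfl⟩ v hv
      rw [Subgroup.mem_pointwise_smul_iff_inv_smul_mem] at hv
      have := mem_centralizer_iff.1 hz (g⁻¹ * v * g) (by
        have : g⁻¹ * v * g ∈ (P : Subgroup G) := by simpa [MulAut.smul_def] using hv
        exact this)
      show v * (g * z * g⁻¹) = g * z * g⁻¹ * v
      calc v * (g * z * g⁻¹) = g * (g⁻¹ * v * g * z) * g⁻¹ := by group
        _ = g * (z * (g⁻¹ * v * g)) * g⁻¹ := by rw [this]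
        _ = g * z * g⁻¹ * v := by group
  rw [h, card_map_of_injective (MulAut.conj g).injective]

theorem ncard_free_le (p : ℕ) [hp : Fact p.Prime] (P : Sylow p G) :
    (free G p).ncard + Nat.card (Sylow p G) ≤
      Nat.card (Sylow p G) * Nat.card (centralizer ((P : Subgroup G) : Set G)) + 1 := by
  classical
  have := Fintype.ofFinite G
  have := Fintype.ofFinite (Sylow p G)
  set c := Nat.card (centralizer ((P : Subgroup G) : Set G)) with hc
  let F : Sylow p G → Finset G := fun Q =>
    ((centralizer ((Q : Subgroup G) : Set G) : Subgroup G) : Set G).toFinset.erase 1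
  have hF : ∀ Q, (F Q).card = c - 1 := fun Q => by
    rw [Finset.card_erase_of_mem (by simp [one_mem]), ← Set.ncard_eq_toFinset_card',
      ← Nat.card_coe_set_eq]
    exact congrArg (· - 1) (card_centralizer_sylow P Q)
  have hsub : free G p ⊆ ↑(insert (1 : G) (Finset.univ.biUnion F)) := by
    intro x hx
    obtain ⟨Q, hQ⟩ := exists_mem_centralizer_sylow hx
    rcases eq_or_ne x 1 with h | h
    · simp [h]
    · simp only [Finset.coe_insert, Set.mem_insert_iff, SetLike.mem_coe, Finset.mem_biUnion]
      exact Or.inr ⟨Q, Finset.mem_univ _, Finset.mem_erase.2 ⟨h, Set.mem_toFinset.2 hQ⟩⟩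
  have hle := Set.ncard_le_ncard hsub
  rw [Set.ncard_coe_finset] at hle
  have h2 := Finset.card_insert_le (1 : G) (Finset.univ.biUnion F)
  have h3 := (Finset.card_biUnion_le (s := (Finset.univ : Finset (Sylow p G))) (t := F))
  simp only [hF, Finset.sum_const, smul_eq_mul, Finset.card_univ, ← Nat.card_eq_fintype_card] at h3
  have hc1 : 1 ≤ c := Nat.card_pos
  have : Nat.card (Sylow p G) * (c - 1) + Nat.card (Sylow p G) = Nat.card (Sylow p G) * c := by
    conv_rhs => rw [← Nat.sub_add_cancel hc1, Nat.mul_add, Nat.mul_one]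
  omega

/-- Without a normal `p`-complement at most half of the elements have class size prime to `p`. -/
theorem two_mul_free_le (p : ℕ) [hp : Fact p.Prime]
    (h : ¬ Cfsg.HasNormalPComplement p G) : 2 * (free G p).ncard ≤ Nat.card G := by
  obtain ⟨P⟩ : Nonempty (Sylow p G) := inferInstance
  set n := Nat.card (Sylow p G) with hn
  set c := Nat.card (centralizer ((P : Subgroup G) : Set G)) with hc
  have hle := ncard_free_le p P
  rw [← hn, ← hc] at hle
  set N := normalizer ((P : Subgroup G) : Set G) with hN
  have hlt : centralizer ((P : Subgroup G) : Set G) < N :=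
    lt_of_le_of_ne (centralizer_le_normalizer _) fun he =>
      h (CfsgLib.Transfer.hasNormalPComplement_of_normalizer_le_centralizer P he.ge)
  have hd : c ∣ Nat.card N := card_dvd_of_le hlt.le
  obtain ⟨a, ha⟩ := hd
  have ha2 : 2 ≤ a := by
    by_contra hlt2
    have h1 : Nat.card N ≤ c := by
      rw [ha]; exact (Nat.mul_le_mul_left c (by omega : a ≤ 1)).trans (Nat.mul_one c).le
    exact hlt.ne (Subgroup.eq_of_le_of_card_ge hlt.le h1)
  have hG : n * (c * a) = Nat.card G := by
    rw [← ha, hn, P.card_eq_index_normalizer, mul_comm]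
    exact card_mul_index _
  have hn1 : 1 ≤ n := Nat.card_pos
  have : n * (c * 2) ≤ Nat.card G := hG ▸ Nat.mul_le_mul_left _ (Nat.mul_le_mul_left _ ha2)
  rw [← mul_assoc] at this
  omega

/-- A prime dividing a class size leaves some element outside the free set. -/
theorem free_lt {p : ℕ} (h : ∃ x : G, p ∣ (centralizer ({x} : Set G)).index) :
    (free G p).ncard < Nat.card G := by
  obtain ⟨x, hx⟩ := h
  rw [← Set.ncard_univ]
  exact Set.ncard_lt_ncard ⟨Set.subset_univ _, fun h => h (Set.mem_univ x) hx⟩

end CfsgLib.FGS.CoverCount
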