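import Mathlib
import Cfsg.Agent.Lib.FGS.CoverCount
import Cfsg.Agent.Lib.FGS.Basics

/-!
# Groups whose non-central classes all have the same size
-/

namespace CfsgLib.FGS.EqualClasses

open Subgroup
open scoped commutatorElement

variable {G : Type*} [Group G] [Finite G] {n : ℕ}

/-- All non-central classes have size `n`. -/
def Equal (G : Type*) [Group G] (n : ℕ) : Prop :=
  ∀ x : G, x ∉ center G → (centralizer ({x} : Set G)).index = n

theorem noncentral_index {x : G} : x ∈ center G ↔ (centralizer ({x} : Set G)).index = 1 := by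
  rw [index_eq_one, eq_top_iff, mem_center_iff]
  exact ⟨fun h g _ => mem_centralizer_singleton_iff.2 (h g),
    fun h g => mem_centralizer_singleton_iff.1 (h (mem_top g))⟩

theorem eq_of_le (h : Equal G n) {x y : G} (hx : x ∉ center G) (hy : y ∉ center G)
    (hle : centralizer ({x} : Set G) ≤ centralizer ({y} : Set G)) :
    centralizer ({x} : Set G) = centralizer ({y} : Set G) := by
  refine Subgroup.eq_of_le_of_card_ge hle (le_of_eq ?_)
  have h1 := (centralizer ({x} : Set G)).card_mul_index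
  have h2 := (centralizer ({y} : Set G)).card_mul_index
  rw [h x hx] at h1
  rw [h y hy, ← h1] at h2
  exact Nat.eq_of_mul_eq_mul_right
    (Nat.pos_of_ne_zero (h x hx ▸ index_ne_zero_of_finite)) h2

theorem centralizer_le_pow (x : G) (k : ℕ) :
    centralizer ({x} : Set G) ≤ centralizer ({x ^ k} : Set G) := fun g hg =>
  mem_centralizer_singleton_iff.2
    ((show Commute g x from mem_centralizer_singleton_iff.1 hg).pow_right k).eq

theorem centralizer_pow_eq (h : Equal G n) {x : G} {k : ℕ} (hk : x ^ k ∉ center G) :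
    centralizer ({x ^ k} : Set G) = centralizer ({x} : Set G) :=
  (eq_of_le h (fun hx => hk (pow_mem hx k)) hk (centralizer_le_pow x k)).symm

/-- A Sylow subgroup for a prime not dividing `n` is central. -/
theorem sylow_central (h : Equal G n) {r : ℕ} [Fact r.Prime] (R : Sylow r G) (hr : ¬ r ∣ n) :
    (R : Subgroup G) ≤ center G := by
  have hfree : CfsgLib.FGS.CoverCount.free G r = Set.univ := by
    refine Set.eq_univ_of_forall fun x => ?_
    show ¬ r ∣ _
    by_cases hx : x ∈ center G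
    · rw [noncentral_index.1 hx, Nat.dvd_one]
      exact (Fact.out : r.Prime).ne_one
    · rwa [h x hx]
  have h1 := CfsgLib.FGS.CoverCount.ncard_free_le r R
  rw [hfree, Set.ncard_univ] at h1
  set C := centralizer ((R : Subgroup G) : Set G) with hC
  have h2 : Nat.card (Sylow r G) * Nat.card C ≤ Nat.card G := by
    rw [R.card_eq_index_normalizer]
    refine le_trans (Nat.mul_le_mul_left _ (card_le_of_le (centralizer_le_normalizer _))) ?_
    exact (Subgroup.index_mul_card _).le
  have hn1 : 0 < Nat.card (Sylow r G) := Nat.card_pos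
  have hn : Nat.card (Sylow r G) = 1 := by omega
  rw [hn, one_mul] at h1
  have hCtop : C = ⊤ := eq_top_of_le_card C (by omega)
  intro y hy
  rw [mem_center_iff]
  intro g
  exact (mem_centralizer_iff.1 ((hCtop ▸ mem_top g : g ∈ C)) y hy).symm

/-- Elements of prime-power order outside the centre. -/
theorem exists_noncentral (h : Equal G n) (hex : ∃ x : G, x ∉ center G) {r : ℕ} [Fact r.Prime]
    (hr : r ∣ n) (R : Sylow r G) : ∃ x ∈ (R : Subgroup G), x ∉ center G := by
  by_contra hcon
  push Not at hcon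
  obtain ⟨x, hx⟩ := hex
  have hle : (R : Subgroup G) ≤ centralizer ({x} : Set G) := fun y hy =>
    mem_centralizer_singleton_iff.2 (mem_center_iff.1 (hcon y hy) x).symm
  exact R.not_dvd_index ((hr.trans (h x hx).symm.dvd).trans (index_dvd_of_le hle))

/-- A suitable element in the second centre of a Sylow subgroup. -/
theorem exists_second_centre {r : ℕ} [hr : Fact r.Prime] {P : Subgroup G} (hP : IsPGroup r P)
    (hne : ∃ x ∈ P, x ∉ center G) :
    ∃ x ∈ P, x ∉ center G ∧ x ^ r ∈ center G ∧ ∀ g ∈ P, ⁅g, x⁆ ∈ center G := by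
  set K : Subgroup P := (center G).subgroupOf P
  haveI : K.Normal := inferInstance
  have hQ : IsPGroup r (P ⧸ K) := hP.to_quotient K
  haveI : Nontrivial (P ⧸ K) := by
    obtain ⟨x, hx, hxc⟩ := hne
    exact ⟨⟨QuotientGroup.mk ⟨x, hx⟩, 1, fun h => hxc ((QuotientGroup.eq_one_iff (N := K) (⟨x, hx⟩ : P)).1 h)⟩⟩
  haveI : Nontrivial (center (P ⧸ K)) := hQ.center_nontrivial
  obtain ⟨j, hj0, hj⟩ := (hQ.to_subgroup (center (P ⧸ K))).nontrivial_iff_card.1 inferInstance
  obtain ⟨⟨q, hqc⟩, hq⟩ := exists_prime_orderOf_dvd_card' (G := center (P ⧸ K)) r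
    (hj ▸ dvd_pow_self r hj0.ne')
  rw [← Subgroup.orderOf_coe] at hq
  obtain ⟨⟨x, hx⟩, rfl⟩ := QuotientGroup.mk_surjective q
  change orderOf (QuotientGroup.mk (⟨x, hx⟩ : P) : P ⧸ K) = r at hq
  refine ⟨x, hx, fun hxc => ?_, ?_, fun g hg => ?_⟩
  · have : (QuotientGroup.mk (⟨x, hx⟩ : P) : P ⧸ K) = 1 := (QuotientGroup.eq_one_iff _).2 hxc
    rw [this, orderOf_one] at hq
    exact hr.out.one_lt.ne hq
  · have h1 : (QuotientGroup.mk ((⟨x, hx⟩ : P) ^ r) : P ⧸ K) = 1 := by
      rw [QuotientGroup.mk_pow, ← hq, pow_orderOf_eq_one]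
    exact (QuotientGroup.eq_one_iff (N := K) ((⟨x, hx⟩ : P) ^ r)).1 h1
  · have h1 : (QuotientGroup.mk ⁅(⟨g, hg⟩ : P), (⟨x, hx⟩ : P)⁆ : P ⧸ K) = 1 := by
      rw [← QuotientGroup.mk'_apply, map_commutatorElement, commutatorElement_eq_one_iff_mul_comm]
      exact mem_center_iff.1 hqc _
    exact (QuotientGroup.eq_one_iff (N := K) ⁅(⟨g, hg⟩ : P), (⟨x, hx⟩ : P)⁆).1 h1

theorem card_centralizer_eq (h : Equal G n) {x y : G} (hx : x ∉ center G) (hy : y ∉ center G) :
    Nat.card (centralizer ({x} : Set G)) = Nat.card (centralizer ({y} : Set G)) := by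
  have h1 := (centralizer ({x} : Set G)).card_mul_index
  have h2 := (centralizer ({y} : Set G)).card_mul_index
  rw [h x hx] at h1
  rw [h y hy, ← h1] at h2
  exact (Nat.eq_of_mul_eq_mul_right (Nat.pos_of_ne_zero (h x hx ▸ index_ne_zero_of_finite)) h2).symm

theorem coprime_commute_eq (h : Equal G n) {w y : G} (hw : w ∉ center G)
    (hy : y ∈ centralizer ({w} : Set G)) (hcop : (orderOf w).Coprime (orderOf y))
    (hyZ : y ∉ center G) : centralizer ({y} : Set G) = centralizer ({w} : Set G) := by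
  have hc : Commute w y := (mem_centralizer_singleton_iff.1 hy).symm
  have key : ∀ a b : G, Commute a b → (orderOf a).Coprime (orderOf b) → a ∉ center G →
      centralizer ({a * b} : Set G) = centralizer ({a} : Set G) := by
    intro a b hab hco ha
    have e : (a * b) ^ orderOf b = a ^ orderOf b := by
      rw [hab.mul_pow, pow_orderOf_eq_one, mul_one]
    obtain ⟨m, hm⟩ := exists_pow_eq_self_of_coprime hco.symm
    have ha' : a ^ orderOf b ∉ center G := fun hz => ha (hm ▸ pow_mem hz m)
    have h1 := centralizer_pow_eq h ha'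
    rw [← centralizer_pow_eq h (x := a * b) (k := orderOf b) (e ▸ ha'), e, h1]
  rw [← key y w hc.symm hcop.symm hyZ, ← key w y hc hcop hw, hc.eq]

/-- An element with prime-power order and trivial centre image of a second prime. -/
theorem exists_other (h : Equal G n) {t : ℕ} [Fact t.Prime] (ht : t ∣ n) {w : G} (hw : w ∉ center G) :
    ∃ y ∈ centralizer ({w} : Set G), (∃ k, orderOf y = t ^ k) ∧ y ∉ center G := by
  by_contra hcon
  push Not at hcon
  obtain ⟨T₀⟩ : Nonempty (Sylow t (centralizer ({w} : Set G))) := inferInstance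
  set T : Subgroup G := (T₀ : Subgroup (centralizer ({w} : Set G))).map (Subgroup.subtype _)
  have hTp : IsPGroup t T := T₀.isPGroup'.map _
  have hTZ : T ≤ center G := fun y hy => by
    obtain ⟨k, hk⟩ := hTp ⟨y, hy⟩
    obtain ⟨i, -, hi⟩ := (Nat.dvd_prime_pow (Fact.out : t.Prime)).1
      (orderOf_dvd_of_pow_eq_one (congrArg Subtype.val hk : y ^ t ^ k = 1))
    exact hcon y (map_subtype_le _ hy) ⟨i, hi⟩
  haveI : T.Normal := ⟨fun m hm g => by rwa [mem_center_iff.1 (hTZ hm) g, mul_inv_cancel_right]⟩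
  obtain ⟨R⟩ : Nonempty (Sylow t G) := inferInstance
  obtain ⟨v, hvR, hv⟩ := exists_noncentral h ⟨w, hw⟩ ht R
  set K : Subgroup G := T ⊔ zpowers v
  have hK : IsPGroup t K := hTp.to_sup_of_normal_left (R.isPGroup'.to_le (zpowers_le.2 hvR))
  have hKC : K ≤ centralizer ({v} : Set G) := sup_le
    (fun y hy => mem_centralizer_singleton_iff.2 (mem_center_iff.1 (hTZ hy) v).symm)
    (zpowers_le.2 (mem_centralizer_singleton_iff.2 rfl))
  obtain ⟨j, hj⟩ := IsPGroup.iff_card.1 hK
  have hd : t ^ j ∣ Nat.card (centralizer ({w} : Set G)) := by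
    rw [card_centralizer_eq h hw hv, ← hj]
    exact card_dvd_of_le hKC
  have hTK : T = K := Subgroup.eq_of_le_of_card_ge le_sup_left (by
    rw [hj, card_map_of_injective (Subgroup.subtype_injective _), Sylow.card_eq_multiplicity]
    exact Nat.pow_le_pow_right (Fact.out : t.Prime).pos
      (((Fact.out : t.Prime).pow_dvd_iff_le_factorization Nat.card_pos.ne').1 hd))
  exact hv (hTZ (hTK ▸ mem_sup_right (mem_zpowers v)))

/-- With two primes in `n`, centralisers of non-central primary elements are abelian. -/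
theorem abelian_centralizer (h : Equal G n) {s t : ℕ} [Fact s.Prime] [Fact t.Prime] (hst : s ≠ t)
    (ht : t ∣ n) {w : G} (hw : w ∉ center G) (hws : ∃ k, orderOf w = s ^ k) :
    ∀ a ∈ centralizer ({w} : Set G), ∀ b ∈ centralizer ({w} : Set G), a * b = b * a := by
  obtain ⟨y, hy, ⟨k, hk⟩, hyZ⟩ := exists_other h ht hw
  obtain ⟨j, hj⟩ := hws
  have hcop : (orderOf w).Coprime (orderOf y) := by
    rw [hj, hk]
    exact Nat.coprime_pow_primes _ _ Fact.out Fact.out hst
  have hyw := coprime_commute_eq h hw hy hcop hyZ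
  intro a ha b hb
  have hsub : ∀ c ∈ centralizer ({w} : Set G), ∀ v : G, v ∉ center G →
      centralizer ({v} : Set G) = centralizer ({w} : Set G) → (orderOf v).Coprime (orderOf c) →
      centralizer ({w} : Set G) ≤ centralizer ({c} : Set G) := by
    intro c hc v hv hvw hco
    by_cases hcZ : c ∈ center G
    · exact fun g _ => mem_centralizer_singleton_iff.2 (mem_center_iff.1 hcZ g)
    · rw [← hvw] at hc ⊢
      exact (coprime_commute_eq h hv hc hco hcZ).ge
  obtain ⟨i, i', ⟨l, hl⟩, hi', hai, -⟩ := CfsgLib.FGS.exists_p_parts s a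
  have h1 := hsub _ (pow_mem ha i') w hw rfl (by
    rw [hj]; exact Nat.Coprime.pow_left _ hi'.symm)
  have h2 := hsub _ (pow_mem ha i) y hyZ hyw (by
    rw [hk, hl]
    exact Nat.coprime_pow_primes _ _ Fact.out Fact.out hst.symm)
  have c1 : Commute b (a ^ i) := mem_centralizer_singleton_iff.1 (h2 hb)
  have c2 : Commute b (a ^ i') := mem_centralizer_singleton_iff.1 (h1 hb)
  have := c1.mul_right c2
  rw [hai] at this
  exact this.eq.symm

/-- Non-central elements of an abelian centraliser share it. -/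
theorem component_eq (h : Equal G n) {w a : G} (hw : w ∉ center G)
    (hab : ∀ a ∈ centralizer ({w} : Set G), ∀ b ∈ centralizer ({w} : Set G), a * b = b * a)
    (ha : a ∈ centralizer ({w} : Set G)) (haZ : a ∉ center G) :
    centralizer ({a} : Set G) = centralizer ({w} : Set G) :=
  (eq_of_le h hw haZ fun b hb => mem_centralizer_singleton_iff.2 (hab b hb a ha)).symm

theorem centralizer_conj (g x : G) :
    centralizer ({g * x * g⁻¹} : Set G) =
      (centralizer ({x} : Set G)).map (MulAut.conj g).toMonoidHom := by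
  ext y
  rw [mem_map_equiv, MulAut.conj_symm_apply, mem_centralizer_singleton_iff,
    mem_centralizer_singleton_iff]
  constructor
  · intro h
    calc g⁻¹ * y * g * x = g⁻¹ * (y * (g * x * g⁻¹)) * g := by group
      _ = x * (g⁻¹ * y * g) := by rw [h]; group
  · intro h
    calc y * (g * x * g⁻¹) = g * (g⁻¹ * y * g * x) * g⁻¹ := by group
      _ = g * x * g⁻¹ * y := by rw [h]; group

theorem conj_not_central {g x : G} (hx : x ∉ center G) : g * x * g⁻¹ ∉ center G := fun h => by
  have e : x = g⁻¹ * (g * x * g⁻¹) * g := by group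
  have : g⁻¹ * (g * x * g⁻¹) * g = g * x * g⁻¹ := by
    rw [mem_center_iff.1 h g⁻¹, inv_mul_cancel_right]
  exact hx (e.trans this ▸ h)

/-- The component attached to a Sylow subgroup. -/
theorem exists_component (h : Equal G n) {r t : ℕ} [Fact r.Prime] [Fact t.Prime] (hrt : r ≠ t)
    (hr : r ∣ n) (ht : t ∣ n) (hex : ∃ x : G, x ∉ center G) (R : Sylow r G) :
    ∃ x ∈ (R : Subgroup G), x ∉ center G ∧
      (∀ a ∈ centralizer ({x} : Set G), ∀ b ∈ centralizer ({x} : Set G), a * b = b * a) ∧
      (R : Subgroup G) ≤ normalizer ((centralizer ({x} : Set G) : Subgroup G) : Set G) ∧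
      (centralizer ({x} : Set G)).relIndex (R : Subgroup G) = r ∧
      ∃ g ∈ (R : Subgroup G), g ∉ centralizer ({x} : Set G) ∧ g ^ r ∈ centralizer ({x} : Set G) := by
  obtain ⟨x, hxR, hxZ, hxr, hxc⟩ := exists_second_centre R.isPGroup' (exists_noncentral h hex hr R)
  have hxs : ∃ k, orderOf x = r ^ k := by
    obtain ⟨k, hk⟩ := R.isPGroup' ⟨x, hxR⟩
    obtain ⟨i, -, hi⟩ := (Nat.dvd_prime_pow (Fact.out : r.Prime)).1
      (orderOf_dvd_of_pow_eq_one (congrArg Subtype.val hk : x ^ r ^ k = 1))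
    exact ⟨i, hi⟩
  set C := centralizer ({x} : Set G) with hC
  have hab := abelian_centralizer h hrt ht hxZ hxs
  have hnorm : (R : Subgroup G) ≤ normalizer (C : Set G) := by
    intro g hg
    have h1 : centralizer ({g * x * g⁻¹} : Set G) = C := by
      have e : g * x * g⁻¹ = ⁅g, x⁆ * x := by rw [commutatorElement_def]; group
      rw [e, hC]
      ext y
      rw [mem_centralizer_singleton_iff, mem_centralizer_singleton_iff]
      have hz := mem_center_iff.1 (hxc g hg) y
      constructor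
      · intro hy
        refine mul_left_cancel (a := ⁅g, x⁆) ?_
        calc ⁅g, x⁆ * (y * x) = y * (⁅g, x⁆ * x) := by rw [← mul_assoc, ← hz, mul_assoc]
          _ = ⁅g, x⁆ * x * y := hy
          _ = ⁅g, x⁆ * (x * y) := mul_assoc _ _ _
      · intro hy
        rw [← mul_assoc, hz, mul_assoc, hy, ← mul_assoc]
    have h2 : ∀ y, y ∈ C ↔ g * y * g⁻¹ ∈ C := fun y => by
      conv_rhs => rw [← h1, centralizer_conj, mem_map_equiv, MulAut.conj_symm_apply]
      rw [show g⁻¹ * (g * y * g⁻¹) * g = y by group]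
    exact mem_normalizer_iff.2 h2
  have hpow : ∀ g ∈ (R : Subgroup G), g ^ r ∈ C := by
    intro g hg
    have hz := hxc g hg
    have e : ∀ k : ℕ, g ^ k * x * (g ^ k)⁻¹ = ⁅g, x⁆ ^ k * x := by
      intro k
      induction k with
      | zero => simp
      | succ k ih =>
        calc g ^ (k + 1) * x * (g ^ (k + 1))⁻¹ = g * (g ^ k * x * (g ^ k)⁻¹) * g⁻¹ := by
              rw [pow_succ']; group
          _ = g * (⁅g, x⁆ ^ k * x) * g⁻¹ := by rw [ih]
          _ = g * ⁅g, x⁆ ^ k * g⁻¹ * (g * x * g⁻¹) := by group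
          _ = ⁅g, x⁆ ^ (k + 1) * x := by
            rw [mem_center_iff.1 (pow_mem hz k) g, mul_inv_cancel_right, pow_succ,
              show g * x * g⁻¹ = ⁅g, x⁆ * x by rw [commutatorElement_def]; group, mul_assoc]
    have h1 : ⁅g, x⁆ ^ r = 1 := by
      have h2 : ∀ k : ℕ, g * x ^ k * g⁻¹ = ⁅g, x⁆ ^ k * x ^ k := by
        intro k
        rw [← conj_pow, show g * x * g⁻¹ = ⁅g, x⁆ * x by rw [commutatorElement_def]; group,
          (show Commute ⁅g, x⁆ x from (mem_center_iff.1 hz x).symm).mul_pow]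
      have h3 := h2 r
      rw [mem_center_iff.1 hxr g, mul_inv_cancel_right] at h3
      exact right_eq_mul.1 h3
    rw [hC, mem_centralizer_singleton_iff]
    have := e r
    rw [h1, one_mul, mul_inv_eq_iff_eq_mul] at this
    exact this
  have hnle : ¬ (R : Subgroup G) ≤ C := fun hle =>
    R.not_dvd_index ((hr.trans (h x hxZ).symm.dvd).trans (index_dvd_of_le hle))
  obtain ⟨g, hgR, hgC⟩ := SetLike.not_le_iff_exists.1 hnle
  refine ⟨x, hxR, hxZ, hab, hnorm, ?_, g, hgR, hgC, hpow g hgR⟩
  letI : CommGroup C := { (inferInstance : Group C) with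
    mul_comm := fun a b => Subtype.ext (hab a a.2 b b.2) }
  let act : ↥(R : Subgroup G) → C →* C := fun a =>
    { toFun := fun v => ⟨(a : G) * (v : G) * (a : G)⁻¹, (mem_normalizer_iff.1 (hnorm a.2) v).1 v.2⟩
      map_one' := Subtype.ext (by simp)
      map_mul' := fun u v => Subtype.ext (by push_cast; group) }
  have hact : ∀ a v, ((act a v : C) : G) = (a : G) * (v : G) * (a : G)⁻¹ := fun a v => rfl
  have hmul : ∀ a b v, act (a * b) v = act a (act b v) := fun a b v =>
    Subtype.ext (by simp only [hact, Subgroup.coe_mul]; group)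
  have htriv : ∀ a : ↥(R : Subgroup G), (a : G) ∈ C → ∀ v, act a v = v := fun a ha v =>
    Subtype.ext (by rw [hact, hab a ha v v.2, mul_inv_cancel_right])
  set N : Subgroup ↥(R : Subgroup G) := C.subgroupOf (R : Subgroup G) with hNdef
  haveI hNn : N.Normal := ⟨fun c hc b => by
    rw [hNdef, mem_subgroupOf] at hc ⊢
    push_cast
    exact (mem_normalizer_iff.1 (hnorm b.2) c).1 hc⟩
  have hcommN : ∀ u w : ↥(R : Subgroup G), (w * u)⁻¹ * (u * w) ∈ N := by
    intro u w
    rw [hNdef, mem_subgroupOf, hC, mem_centralizer_singleton_iff]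
    push_cast
    have e : ∀ c d : G, c ∈ (R : Subgroup G) → d ∈ (R : Subgroup G) →
        c * d * x * (c * d)⁻¹ = ⁅c, x⁆ * ⁅d, x⁆ * x := by
      intro c d hc hd
      calc c * d * x * (c * d)⁻¹ = c * (⁅d, x⁆ * x) * c⁻¹ := by rw [commutatorElement_def]; group
        _ = c * ⁅d, x⁆ * c⁻¹ * (c * x * c⁻¹) := by group
        _ = ⁅d, x⁆ * (c * x * c⁻¹) := by rw [mem_center_iff.1 (hxc d hd) c, mul_inv_cancel_right]
        _ = ⁅d, x⁆ * (⁅c, x⁆ * x) := by rw [commutatorElement_def]; group
        _ = ⁅c, x⁆ * ⁅d, x⁆ * x := by rw [← mul_assoc, mem_center_iff.1 (hxc c hc) ⁅d, x⁆]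
    have h2 : (w : G) * u * x * ((w : G) * u)⁻¹ = (u : G) * w * x * ((u : G) * w)⁻¹ := by
      rw [e _ _ w.2 u.2, e _ _ u.2 w.2, mem_center_iff.1 (hxc u u.2) ⁅(w : G), x⁆]
    calc ((w : G) * u)⁻¹ * ((u : G) * w) * x
        = ((w : G) * u)⁻¹ * ((u : G) * w * x * ((u : G) * w)⁻¹) * ((u : G) * w) := by group
      _ = ((w : G) * u)⁻¹ * ((w : G) * u * x * ((w : G) * u)⁻¹) * ((u : G) * w) := by rw [h2]
      _ = x * (((w : G) * u)⁻¹ * ((u : G) * w)) := by group
  have hsw : ∀ u w v', act u (act w v') = act w (act u v') := by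
    intro u w v'
    rw [← hmul, ← hmul]
    conv_lhs => rw [show u * w = (w * u) * ((w * u)⁻¹ * (u * w)) by group, hmul,
      htriv _ (mem_subgroupOf.1 (hcommN u w))]
  have hfix : ∀ a : ↥(R : Subgroup G), (a : G) ∉ C → ∀ v : C,
      ((∏ i ∈ Finset.range r, act (a ^ i) v : C) : G) ∈ center G := by
    intro a ha v
    set W := ∏ i ∈ Finset.range r, act (a ^ i) v with hW
    have h1 : act a W = W := by
      have h2 : act a W = ∏ i ∈ Finset.range r, act (a ^ (i + 1)) v := by
        rw [hW, map_prod]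
        exact Finset.prod_congr rfl fun i _ => by rw [pow_succ', hmul]
      rw [h2]
      have h3 := Finset.prod_range_succ' (fun i => act (a ^ i) v) r
      rw [Finset.prod_range_succ, pow_zero, htriv 1 (one_mem C) v,
        htriv (a ^ r) (by simpa using hpow a a.2) v] at h3
      exact (mul_right_cancel h3).symm
    by_contra hWZ
    refine ha ?_
    rw [hC, ← component_eq h hxZ hab W.2 hWZ, mem_centralizer_singleton_iff]
    exact mul_inv_eq_iff_eq_mul.1 (congrArg Subtype.val h1)
  obtain ⟨y, hyC, ⟨k, hk⟩, hyZ⟩ := exists_other h ht hxZ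
  set g' : ↥(R : Subgroup G) := ⟨g, hgR⟩
  have hQr : ∀ q : ↥(R : Subgroup G) ⧸ N, q ^ r = 1 := fun q => by
    obtain ⟨b, rfl⟩ := QuotientGroup.mk_surjective q
    rw [← QuotientGroup.mk_pow, QuotientGroup.eq_one_iff, hNdef, mem_subgroupOf]
    push_cast
    exact hpow b b.2
  have hgo : orderOf (g' : ↥(R : Subgroup G) ⧸ N) = r := orderOf_eq_prime (hQr _) fun h1 =>
    hgC ((QuotientGroup.eq_one_iff g').1 h1)
  have hspan : ∀ q : ↥(R : Subgroup G) ⧸ N, q ∈ zpowers (g' : ↥(R : Subgroup G) ⧸ N) := by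
    intro q
    obtain ⟨b, rfl⟩ := QuotientGroup.mk_surjective q
    by_contra hbS
    have hbo : orderOf (b : ↥(R : Subgroup G) ⧸ N) = r := orderOf_eq_prime (hQr _) fun h1 =>
      hbS (h1 ▸ one_mem _)
    have hb : ∀ i, 0 < i → i < r → ((b ^ i : ↥(R : Subgroup G)) : G) ∉ C := by
      intro i hi0 hir hbi
      have h1 : (b : ↥(R : Subgroup G) ⧸ N) ^ i = 1 := by
        rw [← QuotientGroup.mk_pow, QuotientGroup.eq_one_iff, hNdef, mem_subgroupOf]
        exact hbi
      have h2 := orderOf_dvd_of_pow_eq_one h1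
      rw [hbo] at h2
      exact absurd (Nat.le_of_dvd hi0 h2) (not_le.2 hir)
    have hab' : ∀ j, ((g' * b ^ j : ↥(R : Subgroup G)) : G) ∉ C := by
      intro j hj
      have h1 : (g' : ↥(R : Subgroup G) ⧸ N) * (b : ↥(R : Subgroup G) ⧸ N) ^ j = 1 := by
        rw [← QuotientGroup.mk_pow, ← QuotientGroup.mk_mul, QuotientGroup.eq_one_iff, hNdef,
          mem_subgroupOf]
        exact hj
      by_cases hrj : r ∣ j
      · obtain ⟨c, rfl⟩ := hrj
        rw [pow_mul, hQr, one_pow, mul_one] at h1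
        exact hgC ((QuotientGroup.eq_one_iff g').1 h1)
      · obtain ⟨m, hm⟩ := exists_pow_eq_self_of_coprime (x := (b : ↥(R : Subgroup G) ⧸ N)) (n := j)
          (by rw [hbo]; exact ((Fact.out : r.Prime).coprime_iff_not_dvd.2 hrj).symm)
        refine hbS (hm ▸ pow_mem ?_ m)
        rw [← inv_eq_of_mul_eq_one_right h1]
        exact inv_mem (mem_zpowers _)
    set v : C := ⟨y, hyC⟩
    have hprodZ : ∀ (s : Finset ℕ) (f : ℕ → C), (∀ i ∈ s, (f i : G) ∈ center G) →
        ((∏ i ∈ s, f i : C) : G) ∈ center G := fun s f hf =>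
      Finset.prod_induction f (fun c => ((c : C) : G) ∈ center G) (fun _ _ h1 h2 => by
        push_cast; exact mul_mem h1 h2) (by push_cast; exact one_mem _) hf
    have hQ := hprodZ (Finset.range r) _ fun j _ => hfix (g' * b ^ j) (hab' j) v
    have hrr : Finset.range r = Finset.range (r - 1 + 1) :=
      congrArg Finset.range (by have := (Fact.out : r.Prime).one_lt; omega)
    rw [Finset.prod_comm] at hQ
    conv at hQ =>
      arg 2; arg 1
      rw [Finset.prod_congr hrr (fun _ _ => rfl), Finset.prod_range_succ']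
    rw [Finset.prod_congr rfl fun j _ => show act ((g' * b ^ j) ^ 0) v = v by
      rw [pow_zero]; exact htriv 1 (one_mem C) v, Finset.prod_const, Finset.card_range] at hQ
    have hrest : ∀ i ∈ Finset.range (r - 1),
        ((∏ j ∈ Finset.range r, act ((g' * b ^ j) ^ (i + 1)) v : C) : G) ∈ center G := by
      intro i hi
      rw [Finset.mem_range] at hi
      have hcongr : ∀ j, act ((g' * b ^ j) ^ (i + 1)) v =
          act (g' ^ (i + 1)) (act ((b ^ (i + 1)) ^ j) v) := by
        intro j
        have key : ∀ (m : ℕ) (v' : C),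
            act ((g' * b ^ j) ^ m) v' = act (g' ^ m) (act ((b ^ j) ^ m) v') := by
          intro m
          induction m with
          | zero =>
            intro v'
            simp only [pow_zero]
            rw [htriv 1 (one_mem C), htriv 1 (one_mem C)]
          | succ m ihm =>
            intro v'
            rw [pow_succ', hmul, hmul, ihm, hsw (b ^ j) (g' ^ m), ← hmul g', ← hmul (b ^ j),
              ← pow_succ', ← pow_succ']
        rw [key, ← pow_mul, ← pow_mul, mul_comm j (i + 1)]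
      rw [Finset.prod_congr rfl fun j _ => hcongr j, ← map_prod]
      have h1 := hfix (b ^ (i + 1)) (hb (i + 1) (by omega) (by omega)) v
      rw [show act (g' ^ (i + 1)) (∏ j ∈ Finset.range r, act ((b ^ (i + 1)) ^ j) v) =
          ∏ j ∈ Finset.range r, act ((b ^ (i + 1)) ^ j) v from Subtype.ext (by
        rw [hact, mem_center_iff.1 h1, mul_inv_cancel_right])]
      exact h1
    have hR := hprodZ _ _ hrest
    push_cast at hQ
    have hyr : y ^ r ∈ center G := by
      have := mul_mem (inv_mem hR) hQ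
      rwa [inv_mul_cancel_left] at this
    refine hyZ ?_
    obtain ⟨m, hm⟩ := exists_pow_eq_self_of_coprime (n := r) (x := y) (by
      rw [hk]
      exact Nat.Coprime.pow_right _ ((Nat.coprime_primes Fact.out Fact.out).2 hrt))
    exact hm ▸ pow_mem hyr m
  show Nat.card (↥(R : Subgroup G) ⧸ N) = r
  refine Eq.trans ?_ hgo
  rw [← Nat.card_zpowers, show zpowers (g' : ↥(R : Subgroup G) ⧸ N) = ⊤ from
    eq_top_iff.2 fun q _ => hspan q, Subgroup.card_top]

/-- The `q`-elements of an abelian subgroup. -/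
theorem exists_qPart {q : ℕ} [Fact q.Prime] (D : Subgroup G)
    (hab : ∀ a ∈ D, ∀ b ∈ D, a * b = b * a) :
    ∃ T : Subgroup G, T ≤ D ∧ IsPGroup q T ∧ Nat.card T = q ^ (Nat.card D).factorization q ∧
      ∀ c ∈ D, (∃ k, c ^ q ^ k = 1) → c ∈ T := by
  obtain ⟨S⟩ : Nonempty (Sylow q D) := inferInstance
  refine ⟨(S : Subgroup D).map D.subtype, map_subtype_le _, S.isPGroup'.map _, ?_, ?_⟩
  · rw [card_map_of_injective D.subtype_injective, Sylow.card_eq_multiplicity]
  rintro c hc ⟨k, hk⟩
  haveI hn : ((S : Subgroup D)).Normal := ⟨fun a ha b => by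
    rwa [show b * a * b⁻¹ = a from Subtype.ext (by
      push_cast; rw [hab b b.2 a a.2, mul_inv_cancel_right])]⟩
  have hP : IsPGroup q (zpowers (⟨c, hc⟩ : D)) := by
    obtain ⟨i, -, hi⟩ := (Nat.dvd_prime_pow (Fact.out : q.Prime)).1 (orderOf_dvd_of_pow_eq_one hk)
    exact CfsgLib.FGS.isPGroup_zpowers (k := i) (by rw [← Subgroup.orderOf_coe]; exact hi)
  have hle : zpowers (⟨c, hc⟩ : D) ≤ (S : Subgroup D) :=
    le_sup_right.trans (S.is_maximal' (S.isPGroup'.to_sup_of_normal_left hP) le_sup_left).le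
  exact ⟨⟨c, hc⟩, hle (mem_zpowers _), rfl⟩

theorem center_lt (h : Equal G n) {r : ℕ} [Fact r.Prime] (hr : r ∣ n) {w : G} (hw : w ∉ center G) :
    (Nat.card (center G)).factorization r + 1 ≤
      (Nat.card (centralizer ({w} : Set G))).factorization r := by
  set C := centralizer ({w} : Set G)
  obtain ⟨y, hy, ⟨k, hk⟩, hyZ⟩ := exists_other h hr hw
  have hZC : center G ≤ C := fun z hz =>
    mem_centralizer_singleton_iff.2 (mem_center_iff.1 hz w).symm
  have hd : r ∣ (center G).relIndex C := by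
    haveI : ((center G).subgroupOf C).Normal := inferInstance
    have h1 : orderOf (QuotientGroup.mk (⟨y, hy⟩ : C) : C ⧸ (center G).subgroupOf C) ∣ r ^ k := by
      refine orderOf_dvd_of_pow_eq_one ?_
      rw [← QuotientGroup.mk_pow, show (⟨y, hy⟩ : C) ^ r ^ k = 1 from
        Subtype.ext (by push_cast; rw [← hk, pow_orderOf_eq_one]), QuotientGroup.mk_one]
    obtain ⟨i, -, hi⟩ := (Nat.dvd_prime_pow (Fact.out : r.Prime)).1 h1
    rcases Nat.eq_zero_or_pos i with h0 | h0
    · rw [h0, pow_zero, orderOf_eq_one_iff, QuotientGroup.eq_one_iff, mem_subgroupOf] at hi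
      exact absurd hi hyZ
    · exact ((dvd_pow_self r h0.ne').trans hi.symm.dvd).trans (orderOf_dvd_natCard _)
  have h2 : Nat.card ((center G).subgroupOf C) * (center G).relIndex C = Nat.card C :=
    ((center G).subgroupOf C).card_mul_index
  rw [Nat.card_congr (subgroupOfEquivOfLe hZC).toEquiv] at h2
  have hne : (center G).relIndex C ≠ 0 := fun h0 => by
    rw [h0, mul_zero] at h2
    exact Nat.card_pos.ne h2
  rw [← h2, Nat.factorization_mul Nat.card_pos.ne' hne, Finsupp.add_apply]
  exact Nat.add_le_add_left ((Fact.out : r.Prime).factorization_pos_of_dvd hne hd) _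

theorem dvd_sub_one (h : Equal G n) (hex : ∃ x : G, x ∉ center G) {p q : ℕ} [Fact p.Prime]
    [Fact q.Prime] (hpq : p ≠ q) (hp : p ∣ n) (hq : q ∣ n)
    (hb : ∀ w : G, w ∉ center G → (Nat.card (centralizer ({w} : Set G))).factorization q =
      (Nat.card (center G)).factorization q + 1) : p ∣ q - 1 := by
  obtain ⟨P⟩ : Nonempty (Sylow p G) := inferInstance
  obtain ⟨x, -, hxZ, hab, hnorm, -, g, hgP, hgC, -⟩ := exists_component h hpq hp hq hex P
  set C := centralizer ({x} : Set G) with hC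
  obtain ⟨T, hTC, hTp, hTcard, hTmem⟩ := exists_qPart (q := q) C hab
  obtain ⟨U, hUZ, hUp, hUcard, hUmem⟩ := exists_qPart (q := q) (center G)
    (fun a _ b hb => mem_center_iff.1 hb a)
  have hTinv : ∀ a ∈ zpowers g, ∀ t ∈ T, a * t * a⁻¹ ∈ T := by
    intro a ha t ht
    have haP : a ∈ (P : Subgroup G) := zpowers_le.2 hgP ha
    refine hTmem _ ((mem_normalizer_iff.1 (hnorm haP) t).1 (hTC ht)) ?_
    obtain ⟨k, hk⟩ := hTp ⟨t, ht⟩
    replace hk : t ^ q ^ k = 1 := congrArg Subtype.val hk
    exact ⟨k, by rw [conj_pow, hk, mul_one, mul_inv_cancel]⟩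
  letI : MulAction (zpowers g) T :=
    { smul := fun a t => ⟨(a : G) * t * (a : G)⁻¹, hTinv a a.2 t t.2⟩
      one_smul := fun t => Subtype.ext (show (1 : G) * t * (1 : G)⁻¹ = t by group)
      mul_smul := fun a b t => Subtype.ext (show ((a : G) * b) * t * ((a : G) * b)⁻¹ =
        (a : G) * ((b : G) * t * (b : G)⁻¹) * (a : G)⁻¹ by group) }
  have hgp : IsPGroup p (zpowers g) := P.isPGroup'.to_le (zpowers_le.2 hgP)
  have key := hgp.card_modEq_card_fixedPoints T
  have hfix : Nat.card (MulAction.fixedPoints (zpowers g) T) = Nat.card U := by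
    refine Nat.card_congr
      { toFun := fun t => ⟨((t : T) : G), ?_⟩
        invFun := fun u => ⟨⟨(u : G), ?_⟩, ?_⟩
        left_inv := fun t => rfl
        right_inv := fun u => rfl }
    · obtain ⟨⟨t, ht⟩, hfx⟩ := t
      obtain ⟨k, hk⟩ := hTp ⟨t, ht⟩
      refine hUmem t ?_ ⟨k, congrArg Subtype.val hk⟩
      by_contra htZ
      refine hgC ?_
      rw [hC, ← component_eq h hxZ hab (hTC ht) htZ, mem_centralizer_singleton_iff]
      exact mul_inv_eq_iff_eq_mul.1 (congrArg Subtype.val (hfx ⟨g, mem_zpowers g⟩))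
    · obtain ⟨k, hk⟩ := hUp u
      exact hTmem _ (mem_centralizer_singleton_iff.2 (mem_center_iff.1 (hUZ u.2) x).symm)
        ⟨k, congrArg Subtype.val hk⟩
    · intro a
      exact Subtype.ext (show (a : G) * (u : G) * (a : G)⁻¹ = u by
        rw [mem_center_iff.1 (hUZ u.2) a, mul_inv_cancel_right])
  rw [hfix, hTcard, hUcard, hb x hxZ] at key
  set z := (Nat.card (center G)).factorization q
  have hdvd : p ∣ q ^ (z + 1) - q ^ z :=
    (Nat.modEq_iff_dvd' (Nat.pow_le_pow_right (Fact.out : q.Prime).pos (Nat.le_succ z))).1 key.symm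
  rw [pow_succ, show q ^ z * q - q ^ z = q ^ z * (q - 1) by rw [Nat.mul_sub, mul_one]] at hdvd
  exact (Nat.Coprime.dvd_of_dvd_mul_left
    (Nat.Coprime.pow_right _ ((Nat.coprime_primes Fact.out Fact.out).2 hpq)) hdvd)

theorem false_of_large (h : Equal G n) (hex : ∃ x : G, x ∉ center G) {t s : ℕ} [Fact t.Prime]
    [Fact s.Prime] (hts : t ≠ s) (ht : t ∣ n) (hs : s ∣ n) {w₀ : G} (hw₀ : w₀ ∉ center G)
    (hbig : (Nat.card (center G)).factorization t + 2 ≤
      (Nat.card (centralizer ({w₀} : Set G))).factorization t) : False := by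
  obtain ⟨R⟩ : Nonempty (Sylow t G) := inferInstance
  obtain ⟨x, -, hxZ, hab, hnorm, hidx, g, hgR, hgC, -⟩ := exists_component h hts ht hs hex R
  set C := centralizer ({x} : Set G) with hC
  -- every abelian component is conjugate to `C`
  have hconj : ∀ w : G, w ∉ center G →
      (∀ a ∈ centralizer ({w} : Set G), ∀ b ∈ centralizer ({w} : Set G), a * b = b * a) →
      ∃ k : G, centralizer ({k * w * k⁻¹} : Set G) = C := by
    intro w hw habw
    obtain ⟨T, hTD, hTp, hTcard, -⟩ := exists_qPart (q := t) _ habw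
    obtain ⟨S, hTS⟩ := hTp.exists_le_sylow
    obtain ⟨k, hk⟩ := MulAction.exists_smul_eq G S R
    refine ⟨k, ?_⟩
    set T' := T.map (MulAut.conj k).toMonoidHom
    have hT'R : T' ≤ (R : Subgroup G) := by
      rintro _ ⟨u, hu, rfl⟩
      rw [← hk, Sylow.coe_subgroup_smul]
      exact smul_mem_pointwise_smul u (MulAut.conj k) _ (hTS hu)
    have hT'D : T' ≤ centralizer ({k * w * k⁻¹} : Set G) := by
      rw [centralizer_conj]; exact map_mono hTD
    have hne : C.relIndex (R : Subgroup G) ≠ 0 := by rw [hidx]; exact (Fact.out : t.Prime).ne_zero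
    have h1 : C.relIndex T' ≤ t := (relIndex_le_of_le_right hT'R hne).trans_eq hidx
    have h2 : Nat.card (C ⊓ T' : Subgroup G) * C.relIndex T' = Nat.card T' := by
      rw [← Nat.card_congr (subgroupOfEquivOfLe (inf_le_right : C ⊓ T' ≤ T')).toEquiv,
        inf_subgroupOf_right]
      exact (C.subgroupOf T').card_mul_index
    rw [show Nat.card T' = t ^ (Nat.card (centralizer ({w} : Set G))).factorization t by
      rw [card_map_of_injective (MulAut.conj k).injective, hTcard],
      card_centralizer_eq h hw hw₀] at h2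
    by_contra hne'
    have hZ : C ⊓ T' ≤ center G := by
      intro a ha
      by_contra haZ
      obtain ⟨ha1, ha2⟩ := Subgroup.mem_inf.1 ha
      have e1 := component_eq h hxZ hab ha1 haZ
      have habk : ∀ a ∈ centralizer ({k * w * k⁻¹} : Set G),
          ∀ b ∈ centralizer ({k * w * k⁻¹} : Set G), a * b = b * a := by
        rw [centralizer_conj]
        rintro _ ⟨a, ha, rfl⟩ _ ⟨b, hb, rfl⟩
        rw [← map_mul, ← map_mul, habw a ha b hb]
      exact hne' ((component_eq h (conj_not_central hw) habk (hT'D ha2) haZ).symm.trans e1)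
    obtain ⟨j, hj⟩ := IsPGroup.iff_card.1
      ((hTp.map (MulAut.conj k).toMonoidHom).to_le (inf_le_right : C ⊓ T' ≤ T'))
    have h3 : j ≤ (Nat.card (center G)).factorization t :=
      ((Fact.out : t.Prime).pow_dvd_iff_le_factorization Nat.card_pos.ne').1
        (hj ▸ card_dvd_of_le hZ)
    rw [hj] at h2
    have h4 : t ^ ((Nat.card (centralizer ({w₀} : Set G))).factorization t) ≤ t ^ (j + 1) := by
      rw [← h2, pow_succ]
      exact Nat.mul_le_mul_left _ h1
    have := (Nat.pow_le_pow_iff_right (Fact.out : t.Prime).one_lt).1 h4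
    omega
  -- hence `C` is normal
  have hCn : C.Normal := by
    rw [← normalizer_eq_top_iff]
    by_contra hne
    obtain ⟨r, hr, hrd⟩ := Nat.exists_prime_and_dvd (mt index_eq_one.1 hne)
    haveI : Fact r.Prime := ⟨hr⟩
    obtain ⟨S⟩ : Nonempty (Sylow r G) := inferInstance
    by_cases hrn : r ∣ n
    · obtain ⟨u, o, hou, ho⟩ : ∃ (u : G) (o : ℕ), o ≠ r ∧ (o = t ∨ o = s) :=
        if hrt : r = t then ⟨1, s, fun h => hts (hrt ▸ h.symm), Or.inr rfl⟩
        else ⟨1, t, fun h => hrt h.symm, Or.inl rfl⟩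
      haveI : Fact o.Prime := ⟨by rcases ho with rfl | rfl <;> exact Fact.out⟩
      obtain ⟨y, -, hyZ, haby, hnormy, -, -⟩ := exists_component h hou.symm hrn
        (by rcases ho with rfl | rfl <;> assumption) hex S
      obtain ⟨k, hk⟩ := hconj y hyZ haby
      refine (k • S).not_dvd_index (hrd.trans (index_dvd_of_le ?_))
      intro v hv
      rw [Sylow.coe_subgroup_smul, CfsgLib.FGS.mem_conj_smul] at hv
      have h1 := mem_normalizer_iff.1 (hnormy hv)
      rw [mem_normalizer_iff]
      intro c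
      rw [← hk, centralizer_conj, mem_map_equiv, mem_map_equiv, MulAut.conj_symm_apply,
        MulAut.conj_symm_apply, h1]
      rw [show k⁻¹ * v * k * (k⁻¹ * c * k) * (k⁻¹ * v * k)⁻¹ = k⁻¹ * (v * c * v⁻¹) * k by group]
    · refine S.not_dvd_index (hrd.trans (index_dvd_of_le ((sylow_central h S hrn).trans ?_)))
      refine le_trans ?_ (le_normalizer (H := C))
      exact fun z hz => mem_centralizer_singleton_iff.2 (mem_center_iff.1 hz x).symm
  -- so `g` lies in `C`
  have hgZ : g ∉ center G := fun hz =>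
    hgC (mem_centralizer_singleton_iff.2 (mem_center_iff.1 hz x).symm)
  obtain ⟨k', hk'⟩ := R.isPGroup' ⟨g, hgR⟩
  obtain ⟨i, -, hi⟩ := (Nat.dvd_prime_pow (Fact.out : t.Prime)).1
    (orderOf_dvd_of_pow_eq_one (congrArg Subtype.val hk' : g ^ t ^ k' = 1))
  obtain ⟨k, hk⟩ := hconj g hgZ (abelian_centralizer h hts hs hgZ ⟨i, hi⟩)
  apply hgC
  rw [centralizer_conj] at hk
  have h1 : k * g * k⁻¹ ∈ C := hk ▸ mem_map_of_mem _ (mem_centralizer_singleton_iff.2 rfl)
  have h2 := hCn.conj_mem _ h1 k⁻¹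
  rwa [show k⁻¹ * (k * g * k⁻¹) * k⁻¹⁻¹ = g by group] at h2

/-- At most one prime divides `n`. -/
theorem prime_unique (h : Equal G n) (hex : ∃ x : G, x ∉ center G) {p q : ℕ} (hp : p.Prime)
    (hq : q.Prime) (hpn : p ∣ n) (hqn : q ∣ n) : p = q := by
  by_contra hpq
  haveI : Fact p.Prime := ⟨hp⟩
  haveI : Fact q.Prime := ⟨hq⟩
  have hb : ∀ r s : ℕ, [Fact r.Prime] → [Fact s.Prime] → r ≠ s → r ∣ n → s ∣ n → ∀ w : G,
      w ∉ center G → (Nat.card (centralizer ({w} : Set G))).factorization r =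
        (Nat.card (center G)).factorization r + 1 := by
    intro r s _ _ hrs hr hs w hw
    have h1 := center_lt h hr hw
    by_contra hne
    exact false_of_large h hex hrs hr hs hw (by omega)
  have h1 := dvd_sub_one h hex hpq hpn hqn (hb q p (Ne.symm hpq) hqn hpn)
  have h2 := dvd_sub_one h hex (Ne.symm hpq) hqn hpn (hb p q hpq hpn hqn)
  have := Nat.le_of_dvd (by have := hq.two_le; omega) h1
  have := Nat.le_of_dvd (by have := hp.two_le; omega) h2
  omega

end CfsgLib.FGS.EqualClasses
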