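import Cfsg.Agent.Lib.FGS.Basics
import Cfsg.Agent.Lib.FGS.Covering
import Mathlib.GroupTheory.SchurZassenhaus

/-!
# Sylow direct factors
-/

namespace CfsgLib.FGS

open Subgroup
open scoped Pointwise

variable {G : Type*} [Group G] [Finite G]

/-- If every `p'`-element centralises some Sylow `p`-subgroup, the Sylow subgroup is normal and
centralised by all `p'`-elements. -/
theorem normal_of_pPrime_centralizes_sylow {p : ℕ} [Fact p.Prime] (P : Sylow p G)
    (h : ∀ y : G, (orderOf y).Coprime p →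
      ∃ R : Sylow p G, ∀ s ∈ (R : Subgroup G), s * y = y * s) :
    (P : Subgroup G).Normal ∧
      ∀ y : G, (orderOf y).Coprime p → ∀ s ∈ (P : Subgroup G), s * y = y * s := by
  set C := centralizer ((P : Subgroup G) : Set G) with hC
  have htop : (P : Subgroup G) ⊔ C = ⊤ := by
    refine eq_top_of_forall_exists_conj fun g => ?_
    obtain ⟨a, b, ⟨k, hk⟩, hcop, hab, -⟩ := exists_p_parts p g
    obtain ⟨R, hR⟩ := h _ hcop
    set D := centralizer ({g ^ b} : Set G) with hD
    have hRD : (R : Subgroup G) ≤ D := fun s hs => mem_centralizer_singleton_iff.2 (hR s hs)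
    have hu : g ^ a ∈ D := mem_centralizer_singleton_iff.2 (by rw [← pow_add, ← pow_add, add_comm])
    have hpu : IsPGroup p (zpowers (⟨g ^ a, hu⟩ : D)) :=
      isPGroup_zpowers (k := k) (by rw [← hk]; exact (orderOf_coe _).symm)
    obtain ⟨T, hT⟩ := hpu.exists_le_sylow
    obtain ⟨d, hd⟩ := MulAction.exists_smul_eq D (R.subtype hRD) T
    obtain ⟨c, hc⟩ := MulAction.exists_smul_eq G P R
    have h1 : (d : G)⁻¹ * g ^ a * d ∈ (R : Subgroup G) := by
      have := hT (mem_zpowers _)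
      rw [← hd, Sylow.coe_subgroup_smul, mem_conj_smul, Sylow.coe_subtype, mem_subgroupOf] at this
      simpa using this
    have h2 : (d : G)⁻¹ * g ^ b * d = g ^ b := by
      rw [mul_assoc, ← mem_centralizer_singleton_iff.1 d.2, inv_mul_cancel_left]
    refine ⟨c⁻¹ * (d : G)⁻¹, ?_⟩
    have h3 : c⁻¹ * (d : G)⁻¹ * g * (c⁻¹ * (d : G)⁻¹)⁻¹ =
        (c⁻¹ * ((d : G)⁻¹ * g ^ a * d) * c) * (c⁻¹ * g ^ b * c) := by
      calc c⁻¹ * (d : G)⁻¹ * g * (c⁻¹ * (d : G)⁻¹)⁻¹
          = c⁻¹ * (d : G)⁻¹ * (g ^ a * g ^ b) * (c⁻¹ * (d : G)⁻¹)⁻¹ := by rw [hab]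
        _ = (c⁻¹ * ((d : G)⁻¹ * g ^ a * d) * c) * (c⁻¹ * ((d : G)⁻¹ * g ^ b * d) * c) := by group
        _ = _ := by rw [h2]
    rw [h3]
    refine mul_mem (mem_sup_left ?_) (mem_sup_right ?_)
    · rw [← hc, Sylow.coe_subgroup_smul, mem_conj_smul] at h1
      exact h1
    · rw [hC, mem_centralizer_iff]
      intro s hs
      have := hR (c * s * c⁻¹) (by
        rw [← hc, Sylow.coe_subgroup_smul, mem_conj_smul]
        simpa [mul_assoc] using SetLike.mem_coe.1 hs)
      calc s * (c⁻¹ * g ^ b * c) = c⁻¹ * ((c * s * c⁻¹) * g ^ b) * c := by group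
        _ = c⁻¹ * g ^ b * c * s := by rw [this]; group
  have hn : (P : Subgroup G).Normal := by
    rw [← normalizer_eq_top_iff, eq_top_iff, ← htop]
    exact sup_le le_normalizer (centralizer_le_normalizer _)
  refine ⟨hn, fun y hy s hs => ?_⟩
  obtain ⟨R, hR⟩ := h y hy
  have := P.unique_of_normal hn
  exact hR s (by rw [Subsingleton.elim R P]; exact hs)

/-- In that situation the Sylow subgroup has a normal complement, consisting of all the
`p'`-elements. -/
theorem exists_normal_complement_of_pPrime_centralizes_sylow {p : ℕ} [Fact p.Prime]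
    (P : Sylow p G) (h : ∀ y : G, (orderOf y).Coprime p →
      ∃ R : Sylow p G, ∀ s ∈ (R : Subgroup G), s * y = y * s) :
    ∃ W : Subgroup G, Nat.card W * Nat.card (P : Subgroup G) = Nat.card G ∧
      (∀ y : G, y ∈ W ↔ (orderOf y).Coprime p) ∧
      ∀ w ∈ W, ∀ s ∈ (P : Subgroup G), s * w = w * s := by
  obtain ⟨hn, hcomm⟩ := normal_of_pPrime_centralizes_sylow P h
  have := hn
  obtain ⟨W, hW⟩ := exists_left_complement'_of_coprime (N := (P : Subgroup G)) P.card_coprime_index
  have hcop : (Nat.card W).Coprime p :=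
    ((Fact.out : p.Prime).coprime_iff_not_dvd.2 (hW.index_eq_card ▸ P.not_dvd_index)).symm
  have hWp : ∀ w ∈ W, (orderOf w).Coprime p := fun w hw =>
    hcop.coprime_dvd_left (W.orderOf_dvd_natCard hw)
  refine ⟨W, hW.card_mul_card, fun y => ⟨hWp y, fun hy => ?_⟩,
    fun w hw s hs => hcomm w (hWp w hw) s hs⟩
  obtain ⟨⟨w, s⟩, rfl⟩ := hW.2 y
  dsimp only at hy ⊢
  have hc : Commute (w : G) (s : G) := (hcomm w (hWp w w.2) s s.2).symm
  have h1 : ((s : G)) ^ (orderOf ((w : G) * s) * Nat.card W) = 1 := by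
    have := pow_orderOf_eq_one ((w : G) * s)
    have h2 : ((w : G) * s) ^ (orderOf ((w : G) * s) * Nat.card W) = 1 := by
      rw [pow_mul, this, one_pow]
    rw [hc.mul_pow, pow_mul' (w : G), ← coe_pow W w (Nat.card W), pow_card_eq_one', coe_one,
      one_pow, one_mul] at h2
    exact h2
  have hs1 : orderOf (s : G) ∣ Nat.gcd (orderOf ((w : G) * s) * Nat.card W) (Nat.card P) :=
    Nat.dvd_gcd (orderOf_dvd_of_pow_eq_one h1) ((P : Subgroup G).orderOf_dvd_natCard s.2)
  have hPc : Nat.Coprime (orderOf ((w : G) * s) * Nat.card W) (Nat.card P) := by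
    obtain ⟨k, hk⟩ := P.isPGroup'.exists_card_eq
    rw [hk]
    exact Nat.Coprime.pow_right _ (hy.mul_left hcop)
  rw [hPc.gcd_eq_one, Nat.dvd_one, orderOf_eq_one_iff] at hs1
  simp [hs1]

end CfsgLib.FGS
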