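import Mathlib
import Cfsg.Prelude.Def_Solvable

/-!
Frobenius complements from fixed-point-free actions on finite abelian groups.
-/

open scoped Pointwise

namespace CfsgLib.FGS

variable {N : Type*} [Group N] {K : Type*} [Group K]

/-- The complement in a fixed-point-free semidirect product is a Frobenius complement. -/
theorem isFrobeniusComplement_inr [Nontrivial N] [Nontrivial K] (φ : K →* MulAut N)
    (hfpf : ∀ k : K, k ≠ 1 → ∀ n : N, φ k n = n → n = 1) :
    Cfsg.IsFrobeniusComplement (SemidirectProduct.inr : K →* N ⋊[φ] K).range := by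
  refine ⟨?_, ?_, ?_⟩
  · intro h
    obtain ⟨k, hk⟩ := exists_ne (1 : K)
    have hm : (SemidirectProduct.inr k : N ⋊[φ] K) ∈ (SemidirectProduct.inr : K →* N ⋊[φ] K).range := ⟨k, rfl⟩
    rw [h, Subgroup.mem_bot] at hm
    exact hk (by simpa using congrArg SemidirectProduct.right hm)
  · intro h
    obtain ⟨n, hn⟩ := exists_ne (1 : N)
    obtain ⟨k, hk⟩ : (SemidirectProduct.inl n : N ⋊[φ] K) ∈ (SemidirectProduct.inr : K →* N ⋊[φ] K).range :=
      h ▸ Subgroup.mem_top _
    exact hn (by simpa using (congrArg SemidirectProduct.left hk).symm)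
  · intro g hg
    rw [Subgroup.eq_bot_iff_forall]
    intro x hx
    obtain ⟨⟨k, rfl⟩, hx2⟩ := hx
    replace hx2 : (SemidirectProduct.inr k : N ⋊[φ] K) ∈
        MulAut.conj g • (SemidirectProduct.inr : K →* N ⋊[φ] K).range := hx2
    rw [Subgroup.mem_pointwise_smul_iff_inv_smul_mem] at hx2
    obtain ⟨l, hl⟩ := hx2
    rw [MulAut.smul_def, MulAut.conj_inv_apply] at hl
    have hl' : g * SemidirectProduct.inr l = SemidirectProduct.inr k * g := by
      rw [hl]; group
    have hr : g.right * l = k * g.right := by simpa using congrArg SemidirectProduct.right hl'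
    have hL : g.left = φ k g.left := by simpa using congrArg SemidirectProduct.left hl'
    by_contra hk
    have hk1 : k ≠ 1 := fun e => hk (by rw [e, map_one])
    have hg1 : g.left = 1 := hfpf k hk1 _ hL.symm
    exact hg ⟨g.right, SemidirectProduct.ext (by simp [hg1]) (by simp)⟩

theorem exists_small (X : Type*) [Group X] [Finite X] :
    ∃ (L : Type) (_ : Group L) (_ : Finite L), Nonempty (L ≃* X) := by
  let e := (Finite.equivFin X).symm
  let := e.group
  exact ⟨Fin (Nat.card X), e.group, inferInstance, ⟨e.mulEquiv⟩⟩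

/-- A finite group acting fixed-point-freely on a nontrivial finite abelian group is isomorphic to
a Frobenius complement of some finite group. -/
theorem exists_complement_of_fpf (H : Type*) [Group H] [Finite H] [Nontrivial H] (V : Type*)
    [AddCommGroup V] [Finite V] [Nontrivial V] (ρ : H → V → V)
    (hadd : ∀ h u v, ρ h (u + v) = ρ h u + ρ h v) (hone : ∀ v, ρ 1 v = v)
    (hmul : ∀ g h v, ρ (g * h) v = ρ g (ρ h v))
    (hfpf : ∀ h : H, h ≠ 1 → ∀ v, ρ h v = v → v = 0) :
    ∃ (L : Type) (_ : Group L) (_ : Finite L) (C : Subgroup L),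
      Cfsg.IsFrobeniusComplement C ∧ Nonempty (H ≃* C) := by
  let aut : H → MulAut (Multiplicative V) := fun h =>
    { toFun := fun v => Multiplicative.ofAdd (ρ h v.toAdd)
      invFun := fun v => Multiplicative.ofAdd (ρ h⁻¹ v.toAdd)
      left_inv := fun v => by simp [← hmul, hone]
      right_inv := fun v => by simp [← hmul, hone]
      map_mul' := fun u v => by simp [hadd] }
  let φ : H →* MulAut (Multiplicative V) :=
    { toFun := aut
      map_one' := MulEquiv.ext fun v => by simp [aut, hone]
      map_mul' := fun g h => MulEquiv.ext fun v => by simp [aut, hmul] }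
  let S := Multiplicative V ⋊[φ] H
  have : Finite S := Finite.of_equiv _ (SemidirectProduct.equivProd (φ := φ)).symm
  obtain ⟨L, hLg, hLf, ⟨E'⟩⟩ := exists_small S
  let E : S ≃* L := E'.symm
  have hC := isFrobeniusComplement_inr φ (fun k hk v hv => hfpf k hk v.toAdd
    (by simpa [φ, aut] using congrArg Multiplicative.toAdd hv))
  refine ⟨L, hLg, hLf,
    (SemidirectProduct.inr : H →* S).range.map E.toMonoidHom, ⟨?_, ?_, ?_⟩, ⟨?_⟩⟩
  · rw [Ne, Subgroup.map_eq_bot_iff_of_injective _ E.injective]
    exact hC.1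
  · intro h
    apply hC.2.1
    rw [← Subgroup.comap_map_eq_self_of_injective (f := E.toMonoidHom) E.injective (SemidirectProduct.inr : H →* S).range, h,
      Subgroup.comap_top]
  · intro g hg
    obtain ⟨s, rfl⟩ := E.surjective g
    have hs : s ∉ (SemidirectProduct.inr : H →* S).range := fun h => hg ⟨s, h, rfl⟩
    rw [Subgroup.eq_bot_iff_forall]
    rintro x ⟨⟨a, ha, rfl⟩, hx⟩
    replace hx : E a ∈ MulAut.conj (E s) • (SemidirectProduct.inr : H →* S).range.map E.toMonoidHom := hx
    rw [Subgroup.mem_pointwise_smul_iff_inv_smul_mem] at hx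
    obtain ⟨b, hb, hb'⟩ := hx
    rw [MulAut.smul_def, MulAut.conj_inv_apply, ← map_inv] at hb'
    change E b = _ * E a * E s at hb'
    rw [← map_mul, ← map_mul, E.injective.eq_iff] at hb'
    have : a ∈ MulAut.conj s • (SemidirectProduct.inr : H →* S).range := by
      rw [Subgroup.mem_pointwise_smul_iff_inv_smul_mem, MulAut.smul_def, MulAut.conj_inv_apply, ← hb']
      exact hb
    have h1 := Subgroup.eq_bot_iff_forall _ |>.1 (hC.2.2 s hs) a ⟨ha, this⟩
    simp [h1]
  · exact (MonoidHom.ofInjective SemidirectProduct.inr_injective).trans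
      (Subgroup.equivMapOfInjective _ _ E.injective)

/-- A nontrivial finite subgroup of the units of a division ring is a Frobenius complement. -/
theorem exists_complement_of_subgroup_units {D : Type*} [DivisionRing D] (H : Subgroup Dˣ) [Finite H]
    [Nontrivial H] :
    ∃ (L : Type) (_ : Group L) (_ : Finite L) (C : Subgroup L),
      Cfsg.IsFrobeniusComplement C ∧ Nonempty (H ≃* C) := by
  let R : Submodule ℤ D := Submodule.span ℤ (Set.range fun h : H => ((h : Dˣ) : D))
  have hfg : Module.Finite ℤ R := Module.Finite.span_of_finite ℤ (Set.finite_range _)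
  have h1R : (1 : D) ∈ R := Submodule.subset_span ⟨1, by simp⟩
  have hR : ∀ (h : H) (x : D), x ∈ R → ((h : Dˣ) : D) * x ∈ R := fun h x hx => by
    induction hx using Submodule.span_induction with
    | mem x hx =>
      obtain ⟨g, rfl⟩ := hx
      exact Submodule.subset_span ⟨h * g, by simp⟩
    | zero => simp
    | add a b _ _ ha hb => rw [mul_add]; exact R.add_mem ha hb
    | smul c a _ ha => rw [mul_smul_comm]; exact R.smul_mem c ha
  let m : H → R →ₗ[ℤ] R := fun h =>
    { toFun := fun x => ⟨((h : Dˣ) : D) * (x : D), hR h _ x.2⟩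
      map_add' := fun a b => Subtype.ext (mul_add _ _ _)
      map_smul' := fun c a => Subtype.ext (mul_smul_comm c (((h : Dˣ) : D)) (a : D)) }
  have hm1 : ∀ x, m 1 x = x := fun x => Subtype.ext (by simp [m])
  have hmm : ∀ g h x, m (g * h) x = m g (m h x) := fun g h x => Subtype.ext (by simp [m, mul_assoc])
  obtain ⟨c, hc⟩ := CharP.exists D
  rcases CharP.char_is_prime_or_zero D c with hp | h0
  · have : Finite R := by
      have hk : ∀ x : R, (c : ℤ) • x = 0 := fun x => Subtype.ext (by simp)
      refine Module.finite_of_fg_torsion (M := R) fun x => ?_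
      exact ⟨⟨(c : ℤ), mem_nonZeroDivisors_of_ne_zero (by exact_mod_cast hp.ne_zero)⟩, hk x⟩
    have : Nontrivial R := ⟨⟨⟨1, h1R⟩, 0, fun e => one_ne_zero (congrArg Subtype.val e)⟩⟩
    refine exists_complement_of_fpf H R (fun h x => m h x) (fun h u v => map_add _ u v) hm1 hmm
      fun h hh v hv => ?_
    by_contra hv0
    apply hh
    have e := congrArg Subtype.val hv
    simp only [m, LinearMap.coe_mk, AddHom.coe_mk] at e
    have := mul_right_cancel₀ (fun e0 => hv0 (Subtype.ext e0)) (e.trans (one_mul _).symm)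
    exact Subtype.ext (Units.ext this)
  · subst h0
    have : CharZero D := CharP.charP_to_charZero D
    obtain ⟨r, hr, hrp⟩ := Nat.exists_infinite_primes (Nat.card H + 1)
    have hfree : Module.Free ℤ R := inferInstance
    let Q : Submodule ℤ R := LinearMap.range ((r : ℤ) • (LinearMap.id : R →ₗ[ℤ] R))
    have hQ : ∀ x : R, x ∈ Q ↔ ∃ y : R, (r : ℤ) • y = x := fun x => by simp [Q]
    have : Nontrivial (R ⧸ Q) := by
      refine Submodule.Quotient.nontrivial_iff.2 fun e => ?_
      let b := Module.Free.chooseBasis ℤ R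
      have hne : Nonempty (Module.Free.ChooseBasisIndex ℤ R) := by
        by_contra hcon
        rw [not_nonempty_iff] at hcon
        have : Subsingleton R := b.repr.toEquiv.subsingleton
        exact one_ne_zero (congrArg Subtype.val (Subsingleton.elim (⟨1, h1R⟩ : R) 0))
      obtain ⟨i⟩ := hne
      obtain ⟨y, hy⟩ := (hQ (b i)).1 (e ▸ Submodule.mem_top)
      have h2 := congrArg (fun z => b.repr z i) hy
      simp at h2
      have h3 : (r : ℤ) ∣ 1 := ⟨_, h2.symm⟩
      exact hrp.ne_one (by exact_mod_cast Int.eq_one_of_dvd_one (by positivity) h3)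
    have : Finite (R ⧸ Q) := by
      refine Module.finite_of_fg_torsion (M := R ⧸ Q) fun x => ?_
      refine ⟨⟨(r : ℤ), mem_nonZeroDivisors_of_ne_zero (by exact_mod_cast hrp.ne_zero)⟩, ?_⟩
      obtain ⟨y, rfl⟩ := Submodule.Quotient.mk_surjective _ x
      exact (Submodule.Quotient.mk_eq_zero _).2 ((hQ _).2 ⟨y, rfl⟩)
    have hmQ : ∀ h, Q ≤ Q.comap (m h) := fun h x hx => by
      obtain ⟨y, rfl⟩ := (hQ x).1 hx
      exact (hQ _).2 ⟨m h y, (map_smul _ _ _).symm⟩
    let μ : H → (R ⧸ Q) →ₗ[ℤ] (R ⧸ Q) := fun h => Q.mapQ Q (m h) (hmQ h)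
    refine exists_complement_of_fpf H (R ⧸ Q) (fun h x => μ h x) (fun h u v => map_add _ u v)
      (fun v => ?_) (fun g h v => ?_) fun h hh v hv => ?_
    · obtain ⟨y, rfl⟩ := Submodule.Quotient.mk_surjective _ v
      simp [μ, hm1]
    · obtain ⟨y, rfl⟩ := Submodule.Quotient.mk_surjective _ v
      simp [μ, hmm]
    · obtain ⟨y, rfl⟩ := Submodule.Quotient.mk_surjective _ v
      let o := orderOf h
      have hfix : ∀ i : ℕ, (Submodule.Quotient.mk (m (h ^ i) y) : R ⧸ Q) = Submodule.Quotient.mk y := by
        intro i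
        induction i with
        | zero => simp [hm1]
        | succ i ih =>
          rw [pow_succ', hmm]
          calc (Submodule.Quotient.mk (m h (m (h ^ i) y)) : R ⧸ Q)
              = μ h (Submodule.Quotient.mk (m (h ^ i) y)) := by simp [μ]
            _ = _ := by rw [ih]; exact hv
      have hsum : ∑ i ∈ Finset.range o, m (h ^ i) y = 0 := by
        apply Subtype.ext
        have hne : ((h : Dˣ) : D) - 1 ≠ 0 := fun e => hh (Subtype.ext (Units.ext (sub_eq_zero.1 e)))
        have hp : ((h : Dˣ) : D) ^ o = 1 := by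
          rw [← Units.val_pow_eq_pow_val, ← SubgroupClass.coe_pow, pow_orderOf_eq_one]
          rfl
        have h0 : ∑ i ∈ Finset.range o, ((h : Dˣ) : D) ^ i = 0 :=
          (mul_eq_zero.1 ((geom_sum_mul _ _).trans (by rw [hp, sub_self]))).resolve_right hne
        simp only [Submodule.coe_sum, m, LinearMap.coe_mk, AddHom.coe_mk, SubgroupClass.coe_pow,
          Units.val_pow_eq_pow_val, Submodule.coe_zero]
        rw [← Finset.sum_mul, h0, zero_mul]
      have h4 : (o : ℤ) • (Submodule.Quotient.mk y : R ⧸ Q) = 0 := by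
        have := congrArg (Submodule.Quotient.mk (p := Q)) hsum
        rw [Submodule.Quotient.mk_zero, ← Submodule.mkQ_apply, map_sum] at this
        simp only [Submodule.mkQ_apply, hfix, Finset.sum_const, Finset.card_range] at this
        simpa using this
      have h5 : (r : ℤ) • (Submodule.Quotient.mk y : R ⧸ Q) = 0 := by
        rw [← Submodule.Quotient.mk_smul]
        exact (Submodule.Quotient.mk_eq_zero _).2 ((hQ _).2 ⟨y, rfl⟩)
      have hco : IsCoprime (o : ℤ) (r : ℤ) := by
        rw [Int.isCoprime_iff_nat_coprime]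
        simp only [Int.natAbs_natCast]
        refine (hrp.coprime_iff_not_dvd.2 fun hd => ?_).symm
        have h7 := Nat.le_of_dvd (orderOf_pos h) hd
        have h8 : o ≤ Nat.card H := Nat.le_of_dvd Nat.card_pos (orderOf_dvd_natCard h)
        omega
      obtain ⟨a, b, hab⟩ := hco
      calc (Submodule.Quotient.mk y : R ⧸ Q) = (1 : ℤ) • (Submodule.Quotient.mk y : R ⧸ Q) := (one_smul _ _).symm
        _ = 0 := by rw [← hab, add_smul, mul_smul, mul_smul, h4, h5, smul_zero, smul_zero, add_zero]

end CfsgLib.FGS
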