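import Mathlib

/-!
A finite group with a fixed-point-free linear action in one prime characteristic has one in every
prime characteristic not dividing its order.
-/

set_option autoImplicit false

namespace CfsgLib.FGS.CharChange

open MonoidAlgebra

universe u

variable (R : Type*) [CommRing R] (A : Type u) [Group A]

/-- The sum of the elements of the subgroup generated by `c`. -/
noncomputable def sC (c : A) : MonoidAlgebra R A := ∑ i ∈ Finset.range (orderOf c), single (c ^ i) 1

/-- The left ideal generated by the right translates of the sums over subgroups of prime order. -/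
noncomputable def idl : Ideal (MonoidAlgebra R A) :=
  Ideal.span {x | ∃ c b : A, (orderOf c).Prime ∧ x = sC R A c * single b 1}

variable {R A}

theorem sC_mem (c : A) (hc : (orderOf c).Prime) : sC R A c ∈ idl R A :=
  Ideal.subset_span ⟨c, 1, hc, by rw [← one_def, mul_one]⟩

theorem mul_mem_right {x : MonoidAlgebra R A} (hx : x ∈ idl R A) (y : MonoidAlgebra R A) :
    x * y ∈ idl R A := by
  induction hx using Submodule.span_induction with
  | mem x hx =>
    obtain ⟨c, b, hc, rfl⟩ := hx
    induction y using MonoidAlgebra.induction_linear with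
    | zero => rw [mul_zero]; exact Submodule.zero_mem _
    | add f g hf hg => rw [mul_add]; exact Submodule.add_mem _ hf hg
    | single g r =>
      rw [show single g r = algebraMap R (MonoidAlgebra R A) r * single g 1 by
        rw [← Algebra.smul_def, smul_single', mul_one], mul_assoc, ← mul_assoc (single b 1), ← Algebra.commutes,
        mul_assoc (algebraMap R (MonoidAlgebra R A) r), ← mul_assoc (sC R A c), ← Algebra.commutes, mul_assoc,
        single_mul_single, mul_one]
      exact Ideal.mul_mem_left _ _ (Ideal.subset_span ⟨c, b * g, hc, rfl⟩)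
  | zero => rw [zero_mul]; exact Submodule.zero_mem _
  | add a b _ _ ha hb => rw [add_mul]; exact Submodule.add_mem _ ha hb
  | smul a x _ hx => rw [smul_eq_mul, mul_assoc]; exact Ideal.mul_mem_left _ _ hx

theorem single_mul_sC (c : A) (hc : 0 < orderOf c) :
    single c (1 : R) * sC R A c = sC R A c := by
  obtain ⟨n, hn⟩ := Nat.exists_eq_add_one.2 hc
  have h1 : c ^ (n + 1) = 1 := hn ▸ pow_orderOf_eq_one c
  rw [sC, hn, Finset.mul_sum]
  conv_rhs => rw [Finset.sum_range_succ']
  rw [Finset.sum_range_succ]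
  congr 1
  · refine Finset.sum_congr rfl fun i _ => ?_
    rw [single_mul_single, mul_one, pow_succ']
  · rw [single_mul_single, mul_one, ← pow_succ', h1, pow_zero]

theorem pow_mul_sC (c : A) (hc : 0 < orderOf c) (i : ℕ) :
    single (c ^ i) (1 : R) * sC R A c = sC R A c := by
  induction i with
  | zero => rw [pow_zero, ← one_def, one_mul]
  | succ i ih => rw [pow_succ, ← mul_one (1 : R), ← single_mul_single, mul_assoc, single_mul_sC c hc, ih]

theorem sC_mul_sC (c : A) (hc : 0 < orderOf c) :
    sC R A c * sC R A c = (orderOf c : R) • sC R A c := by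
  conv_lhs => arg 1; rw [sC]
  rw [Finset.sum_mul, Finset.sum_congr rfl (fun i _ => pow_mul_sC c hc i), Finset.sum_const, Finset.card_range,
    Nat.cast_smul_eq_nsmul]

/-- A fixed-point-free module forces the ideal to be proper. -/
theorem one_notMem_of_fpf [Finite A] (V : Type*) [AddCommGroup V] [Nontrivial V] [Module R V]
    (ρ : A →* Module.End R V) (hfpf : ∀ a : A, a ≠ 1 → ∀ v, ρ a v = v → v = 0) :
    (1 : MonoidAlgebra R A) ∉ idl R A := by
  intro h
  let Φ := MonoidAlgebra.lift R (Module.End R V) A ρ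
  have hle : idl R A ≤ RingHom.ker Φ.toRingHom := by
    refine Ideal.span_le.2 ?_
    rintro x ⟨c, b, hc, rfl⟩
    rw [SetLike.mem_coe, RingHom.mem_ker]
    show Φ (sC R A c * single b 1) = 0
    suffices hs : Φ (sC R A c) = 0 by rw [map_mul, hs, zero_mul]
    refine LinearMap.ext fun v => ?_
    refine hfpf c (fun e => hc.ne_one (by rw [e, orderOf_one])) _ ?_
    have h1 := congrArg (fun z => Φ z v) (single_mul_sC (R := R) c hc.pos)
    simp only [map_mul] at h1
    rwa [show Φ (single c (1 : R)) = ρ c by simp [Φ], Module.End.mul_apply] at h1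
  have h1 : Φ 1 = 0 := hle h
  rw [map_one] at h1
  obtain ⟨v, hv⟩ := exists_ne (0 : V)
  exact hv (by simpa using LinearMap.congr_fun h1 v)

theorem finite_algebra [Finite R] [Finite A] : Finite (MonoidAlgebra R A) :=
  Finite.of_injective (fun x : MonoidAlgebra R A => (x.coeff : A → R)) fun x y h => by
    ext a; exact congrFun h a

theorem exists_idem_pow {M : Type*} [Monoid M] [Finite M] (x : M) : ∃ m, 0 < m ∧ x ^ m * x ^ m = x ^ m := by
  obtain ⟨i, j, hne, h⟩ := Finite.exists_ne_map_eq_of_infinite (fun n : ℕ => x ^ n)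
  wlog hij : i < j generalizing i j
  · exact this j i hne.symm h.symm (lt_of_le_of_ne (not_lt.1 hij) hne.symm)
  obtain ⟨d, rfl⟩ : ∃ d, j = i + d := ⟨j - i, by omega⟩
  have hper : ∀ n, i ≤ n → ∀ k, x ^ (n + k * d) = x ^ n := by
    intro n hn k
    induction k with
    | zero => simp
    | succ k ih =>
      obtain ⟨e, rfl⟩ := Nat.exists_eq_add_of_le hn
      rw [Nat.succ_mul, show i + e + (k * d + d) = (i + d) + (e + k * d) by ring, pow_add, show x ^ (i + d) = x ^ i from h.symm,
        ← pow_add, ← add_assoc, ih]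
  refine ⟨(i + 1) * d, Nat.mul_pos (by omega) (by omega), ?_⟩
  rw [← pow_add, hper _ ((Nat.le_mul_of_pos_right i (by omega)).trans (Nat.mul_le_mul_right d (by omega))) (i + 1)]

variable [Finite A]

theorem map_sC {S : Type*} [CommRing S] (f : R →+* S) (c : A) : mapRingHom A f (sC R A c) = sC S A c := by
  rw [sC, map_sum, sC]
  exact Finset.sum_congr rfl fun i _ => by simp

/-- No nonzero integer lies in the integral ideal, given a fixed-point-free module in characteristic `r`. -/
theorem int_notMem {r : ℕ} [hr : Fact r.Prime] (hrA : ¬ r ∣ Nat.card A)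
    (h1 : (1 : MonoidAlgebra (ZMod r) A) ∉ idl (ZMod r) A) {N : ℤ}
    (hN : N • (1 : MonoidAlgebra ℤ A) ∈ idl ℤ A) : N = 0 := by
  classical
  haveI : NeZero (Nat.card A : ZMod r) := ⟨fun h => hrA ((ZMod.natCast_eq_zero_iff _ _).1 h)⟩
  obtain ⟨J, hJ⟩ := MonoidAlgebra.Submodule.exists_isCompl (idl (ZMod r) A)
  obtain ⟨i₀, hi₀, ε, hε, hsum⟩ := Submodule.mem_sup.1
    (hJ.sup_eq_top.ge (Submodule.mem_top : (1 : MonoidAlgebra (ZMod r) A) ∈ ⊤))
  have hzero : ∀ z, z ∈ idl (ZMod r) A → z ∈ J → z = 0 := fun z hz hz' =>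
    (Submodule.mem_bot _).1 (hJ.inf_eq_bot.le ⟨hz, hz'⟩)
  have hεε : ε * ε = ε := by
    have h2 : ε * i₀ + ε * ε = ε := by rw [← mul_add, hsum, mul_one]
    have h3 : ε * i₀ = 0 := hzero _ (Ideal.mul_mem_left _ _ hi₀) (by
      rw [eq_sub_of_add_eq h2]; exact J.sub_mem hε (J.smul_mem ε hε))
    rwa [h3, zero_add] at h2
  have hεne : ε ≠ 0 := fun h => h1 (by rw [← hsum, h, add_zero]; exact hi₀)
  have hkill : ∀ c : A, (orderOf c).Prime → ∀ y, sC (ZMod r) A c * y * ε = 0 := fun c hc y =>
    hzero _ (mul_mem_right (mul_mem_right (sC_mem c hc) y) ε) (J.smul_mem _ hε)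
  set k := N.natAbs + 1
  haveI : NeZero (r ^ k) := ⟨pow_ne_zero _ hr.out.ne_zero⟩
  let cast : ZMod (r ^ k) →+* ZMod r := ZMod.castHom (dvd_pow_self r (by omega)) (ZMod r)
  let red := mapRingHom A cast
  have hker : ∀ y, red y = 0 → ∃ y', y = (r : ZMod (r ^ k)) • y' := by
    intro y hy
    have hc : ∀ a, ∃ t, y.coeff a = (r : ZMod (r ^ k)) * t := by
      intro a
      have h := congrArg (fun z => z.coeff a) hy
      simp only [red, coeff_mapRingHom] at h
      obtain ⟨n, hn⟩ := ZMod.natCast_zmod_surjective (y.coeff a)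
      rw [← hn] at h ⊢
      have h' : (n : ZMod r) = 0 := by simpa using h
      obtain ⟨t, rfl⟩ := (ZMod.natCast_eq_zero_iff _ _).1 h'
      exact ⟨t, by push_cast; rfl⟩
    choose t ht using hc
    refine ⟨MonoidAlgebra.ofCoeff (Finsupp.equivFunOnFinite.symm t), ?_⟩
    ext a
    rw [ht, coeff_smul_apply, smul_eq_mul]
    simp
  have hlift : ∃ u₀, red u₀ = ε := by
    have hs : Function.Surjective cast := ZMod.castHom_surjective _
    choose g hg using fun a => hs (ε.coeff a)
    refine ⟨MonoidAlgebra.ofCoeff (Finsupp.equivFunOnFinite.symm g), ?_⟩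
    ext a
    simp [red, hg]
  obtain ⟨u₀, hu₀⟩ := hlift
  haveI : Finite (MonoidAlgebra (ZMod (r ^ k)) A) := finite_algebra
  obtain ⟨m, hm, hidem⟩ := exists_idem_pow u₀
  set u := u₀ ^ m
  have hu : red u = ε := by
    rw [map_pow, hu₀]
    obtain ⟨j, rfl⟩ := Nat.exists_eq_add_one.2 hm
    clear hidem hm
    induction j with
    | zero => rw [zero_add, pow_one]
    | succ j ih => rw [pow_succ, ih, hεε]
  have hkillR : ∀ c : A, (orderOf c).Prime → ∀ y, sC (ZMod (r ^ k)) A c * y * u = 0 := by
    intro c hc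
    set s := sC (ZMod (r ^ k)) A c
    have hdiv : ∀ y, ∃ v, s * y * u = (r : ZMod (r ^ k)) • v := fun y => hker _ (by
      rw [map_mul, map_mul, hu, map_sC, hkill c hc])
    have hpu : IsUnit ((orderOf c : ℕ) : ZMod (r ^ k)) := by
      rw [ZMod.isUnit_iff_coprime]
      refine Nat.Coprime.pow_right k ((Nat.coprime_primes hc hr.out).2 fun e => hrA ?_)
      exact e ▸ orderOf_dvd_natCard c
    have hj : ∀ j : ℕ, ∀ y, ∃ v, s * y * u = ((r : ZMod (r ^ k)) ^ j) • v := by
      intro j
      induction j with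
      | zero => intro y; exact ⟨_, (one_smul _ _).symm.trans (by rw [pow_zero])⟩
      | succ j ih =>
        intro y
        obtain ⟨v, hv⟩ := ih y
        obtain ⟨v₂, hv₂⟩ := hdiv v
        obtain ⟨w, hw⟩ := hpu
        have e1 : (orderOf c : ZMod (r ^ k)) • (s * y * u) = s * (s * y * u) * u := by
          rw [← mul_assoc s (s * y), ← mul_assoc s s, sC_mul_sC c hc.pos, mul_assoc _ u u, hidem, smul_mul_assoc,
            smul_mul_assoc]
        rw [hv, mul_smul_comm, smul_mul_assoc, hv₂, smul_smul _ (r : ZMod (r ^ k)), ← pow_succ] at e1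
        refine ⟨(↑w⁻¹ : ZMod (r ^ k)) • v₂, ?_⟩
        rw [hv, smul_comm, ← e1, ← hw, smul_smul, Units.inv_mul, one_smul]
    intro y
    obtain ⟨v, hv⟩ := hj k y
    rw [hv, ← Nat.cast_pow, ZMod.natCast_self, zero_smul]
  let toK := mapRingHom A (Int.castRingHom (ZMod (r ^ k)))
  have hle : ∀ x ∈ idl ℤ A, toK x * u = 0 := by
    intro x hx
    induction hx using Submodule.span_induction with
    | mem x hx =>
      obtain ⟨c, b, hc, rfl⟩ := hx
      rw [map_mul, map_sC, hkillR c hc]
    | zero => rw [map_zero, zero_mul]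
    | add a b _ _ ha hb => rw [map_add, add_mul, ha, hb, add_zero]
    | smul a x _ hx => rw [smul_eq_mul, map_mul, mul_assoc, hx, mul_zero]
  have hNu := hle _ hN
  rw [map_zsmul, map_one, smul_mul_assoc, one_mul] at hNu
  obtain ⟨a, ha⟩ : ∃ a, ε.coeff a ≠ 0 := by
    by_contra! h
    exact hεne (by ext a; simpa using h a)
  have hua : cast (u.coeff a) = ε.coeff a := by rw [← hu]; simp [red]
  have hua' : IsUnit (u.coeff a) := by
    obtain ⟨n, hn⟩ := ZMod.natCast_zmod_surjective (u.coeff a)
    rw [← hn, map_natCast] at hua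
    rw [← hn, ZMod.isUnit_iff_coprime]
    refine Nat.Coprime.pow_right k ((hr.out.coprime_iff_not_dvd.2 fun hd => ha ?_).symm)
    rw [← hua]
    exact (ZMod.natCast_eq_zero_iff _ _).2 hd
  have hN0 : ((N : ℤ) : ZMod (r ^ k)) = 0 := by
    have h := congrArg (fun z => z.coeff a) hNu
    replace h : N • u.coeff a = 0 := h
    rw [zsmul_eq_mul] at h
    exact (hua'.mul_left_eq_zero).1 h
  rw [ZMod.intCast_zmod_eq_zero_iff_dvd] at hN0
  refine Int.natAbs_eq_zero.1 ?_
  by_contra hne
  have h5 := Nat.le_of_dvd (Nat.pos_of_ne_zero hne) (Int.natCast_dvd.1 hN0)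
  have h6 := Nat.lt_pow_self (n := k) hr.out.one_lt
  omega

/-- Change of characteristic. -/
theorem one_notMem_change {r r' : ℕ} [Fact r.Prime] [hr' : Fact r'.Prime] (hrA : ¬ r ∣ Nat.card A)
    (h1 : (1 : MonoidAlgebra (ZMod r) A) ∉ idl (ZMod r) A) :
    (1 : MonoidAlgebra (ZMod r') A) ∉ idl (ZMod r') A := by
  intro h
  let red := mapRingHom A (Int.castRingHom (ZMod r'))
  have hker : ∀ y, red y = 0 → ∃ y', y = (r' : ℤ) • y' := by
    intro y hy
    have hc : ∀ a, ∃ t, y.coeff a = (r' : ℤ) * t := fun a => by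
      have h := congrArg (fun z => z.coeff a) hy
      simp only [red, coeff_mapRingHom] at h
      exact (ZMod.intCast_zmod_eq_zero_iff_dvd _ _).1 (by simpa using h)
    choose t ht using hc
    refine ⟨MonoidAlgebra.ofCoeff (Finsupp.equivFunOnFinite.symm t), ?_⟩
    ext a
    rw [ht, coeff_smul_apply, smul_eq_mul]
    simp
  have hred : Function.Surjective red := by
    intro z
    refine ⟨MonoidAlgebra.ofCoeff (Finsupp.equivFunOnFinite.symm fun a => ((z.coeff a).val : ℤ)), ?_⟩
    ext a
    simp [red]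
  have himg : ∀ z, z ∈ idl (ZMod r') A → ∃ x ∈ idl ℤ A, red x = z := by
    intro z hz
    induction hz using Submodule.span_induction with
    | mem z hz =>
      obtain ⟨c, b, hc, rfl⟩ := hz
      exact ⟨sC ℤ A c * single b 1, mul_mem_right (sC_mem c hc) _, by
        rw [map_mul, map_sC]; congr 1; simp [red]⟩
    | zero => exact ⟨0, Submodule.zero_mem _, map_zero _⟩
    | add a b _ _ ha hb =>
      obtain ⟨x, hx, rfl⟩ := ha
      obtain ⟨y, hy, rfl⟩ := hb
      exact ⟨x + y, Submodule.add_mem _ hx hy, map_add _ _ _⟩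
    | smul a z _ hz =>
      obtain ⟨x, hx, rfl⟩ := hz
      obtain ⟨a', rfl⟩ := hred a
      exact ⟨a' * x, Ideal.mul_mem_left _ _ hx, map_mul _ _ _⟩
  obtain ⟨x, hx, hx1⟩ := himg 1 h
  obtain ⟨y, hy⟩ := hker (1 - x) (by rw [map_sub, map_one, hx1, sub_self])
  let I₀ : Submodule ℤ (MonoidAlgebra ℤ A) := (idl ℤ A).restrictScalars ℤ
  haveI : Module.Finite ℤ (MonoidAlgebra ℤ A) := Module.Finite.of_surjective
    ({ toFun := fun f => MonoidAlgebra.ofCoeff (Finsupp.equivFunOnFinite.symm f)
       map_add' := fun f g => by ext a; simp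
       map_smul' := fun n f => by ext a; rfl } : (A → ℤ) →ₗ[ℤ] MonoidAlgebra ℤ A)
    fun z => ⟨fun a => z.coeff a, by ext a; simp⟩
  obtain ⟨m, hm, hmz⟩ := Submodule.exists_sub_one_mem_and_smul_eq_zero_of_fg_of_le_smul
    (Ideal.span {(r' : ℤ)}) (⊤ : Submodule ℤ (MonoidAlgebra ℤ A ⧸ I₀)) Module.Finite.fg_top (by
      intro q _
      obtain ⟨z, rfl⟩ := Submodule.Quotient.mk_surjective I₀ q
      have h2 : (z - (r' : ℤ) • (z * y)) ∈ I₀ := by
        have : z - (r' : ℤ) • (z * y) = z * x := by
          rw [← mul_smul_comm, ← hy, mul_sub, mul_one, sub_sub_cancel]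
        rw [this]
        exact Ideal.mul_mem_left _ z hx
      rw [← Submodule.Quotient.mk_eq_zero, Submodule.Quotient.mk_sub, sub_eq_zero, Submodule.Quotient.mk_smul] at h2
      rw [h2]
      exact Submodule.smul_mem_smul (Ideal.subset_span rfl) Submodule.mem_top)
  have h3 := hmz (Submodule.Quotient.mk 1) Submodule.mem_top
  rw [← Submodule.Quotient.mk_smul, Submodule.Quotient.mk_eq_zero] at h3
  have hm0 := int_notMem (r := r) hrA h1 (show m • (1 : MonoidAlgebra ℤ A) ∈ idl ℤ A from h3)
  subst hm0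
  rw [Ideal.mem_span_singleton, zero_sub, dvd_neg] at hm
  exact hr'.out.ne_one (by exact_mod_cast Int.eq_one_of_dvd_one (by positivity) hm)

/-- A fixed-point-free module from a proper ideal. -/
theorem exists_fpf_module {r : ℕ} [hr : Fact r.Prime] (hrA : ¬ r ∣ Nat.card A)
    (h1 : (1 : MonoidAlgebra (ZMod r) A) ∉ idl (ZMod r) A) :
    ∃ (V : Type u) (_ : AddCommGroup V) (_ : Module (ZMod r) V) (_ : Finite V) (_ : Nontrivial V)
      (ρ : A →* Module.End (ZMod r) V), ∀ a : A, a ≠ 1 → ∀ v, ρ a v = v → v = 0 := by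
  haveI : Finite (MonoidAlgebra (ZMod r) A) := finite_algebra
  let L := MonoidAlgebra (ZMod r) A ⧸ idl (ZMod r) A
  haveI : Finite L := Finite.of_surjective _ (Submodule.Quotient.mk_surjective _)
  haveI : Nontrivial L := Submodule.Quotient.nontrivial_iff.2 fun e => h1 (e ▸ Submodule.mem_top)
  let ρ : A →* Module.End (ZMod r) L :=
    { toFun := fun a =>
        { toFun := fun q => single a (1 : ZMod r) • q
          map_add' := fun q q' => smul_add _ q q'
          map_smul' := fun t q => smul_comm (single a (1 : ZMod r)) t q }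
      map_one' := LinearMap.ext fun q => by
        show single (1 : A) (1 : ZMod r) • q = q
        rw [← one_def, one_smul]
      map_mul' := fun a b => LinearMap.ext fun q => by
        show single (a * b) (1 : ZMod r) • q = single a (1 : ZMod r) • single b (1 : ZMod r) • q
        rw [smul_smul, single_mul_single, mul_one] }
  refine ⟨L, inferInstance, inferInstance, inferInstance, inferInstance, ρ, fun a ha q hq => ?_⟩
  obtain ⟨p, hp, hpd⟩ := Nat.exists_prime_and_dvd (fun h => ha (orderOf_eq_one_iff.1 h))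
  set c := a ^ (orderOf a / p)
  have hco : orderOf c = p := orderOf_pow_orderOf_div (orderOf_pos a).ne' hpd
  have hfix : ∀ i : ℕ, ρ (a ^ i) q = q := by
    intro i
    induction i with
    | zero => rw [pow_zero, map_one, Module.End.one_apply]
    | succ i ih => rw [pow_succ, map_mul, Module.End.mul_apply, hq, ih]
  obtain ⟨w, rfl⟩ := Submodule.Quotient.mk_surjective _ q
  have hsum : sC (ZMod r) A c • (Submodule.Quotient.mk w : L) = (orderOf c : ZMod r) • (Submodule.Quotient.mk w : L) := by
    rw [sC, Finset.sum_smul, Finset.sum_congr rfl (fun i _ =>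
      show single (c ^ i) (1 : ZMod r) • (Submodule.Quotient.mk w : L) = Submodule.Quotient.mk w by
        rw [show c ^ i = a ^ (orderOf a / p * i) by rw [pow_mul]]; exact hfix _),
      Finset.sum_const, Finset.card_range, Nat.cast_smul_eq_nsmul]
  rw [← Submodule.Quotient.mk_smul, smul_eq_mul, (Submodule.Quotient.mk_eq_zero _).2
    (mul_mem_right (sC_mem c (hco ▸ hp)) w)] at hsum
  refine (smul_eq_zero.1 hsum.symm).resolve_left fun h => hrA ?_
  rw [hco] at h
  rw [← (Nat.prime_dvd_prime_iff_eq hr.out hp).1 ((ZMod.natCast_eq_zero_iff _ _).1 h)] at hco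
  exact hco ▸ orderOf_dvd_natCard c

end CfsgLib.FGS.CharChange
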