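import Cfsg.Agent.Lib.FGS.Class
import Mathlib.GroupTheory.SpecificGroups.Cyclic
import Mathlib.GroupTheory.OrderOfElement
import Mathlib.Data.Nat.Totient
import Mathlib.Data.Nat.ChineseRemainder
import Mathlib.Data.SetLike.Fintype
import Mathlib.Tactic.Linarith
import Mathlib.Tactic.Ring
import Mathlib.GroupTheory.Sylow

/-!
Frobenius's theorem: if `m` divides the order of a finite group, it divides the number of
solutions of `x ^ m = 1`.
-/

namespace CfsgLib.FGS

open Subgroup

/-- A conjugation invariant weight summed over a conjugation invariant set. -/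
theorem dvd_sum_of_classes {G : Type*} [Group G] [Fintype G] (P : G → Prop) [DecidablePred P]
    (hP : ∀ g x, P x → P (g * x * g⁻¹)) (f : G → ℕ) (hf : ∀ g x, f (g * x * g⁻¹) = f x) (s : ℕ)
    (hs : ∀ x, P x → s ∣ (centralizer ({x} : Set G)).index * f x) :
    s ∣ ∑ x ∈ Finset.univ.filter P, f x := by
  classical
  haveI : Finite (ConjClasses G) := Finite.of_surjective _ ConjClasses.mk_surjective
  haveI := Fintype.ofFinite (ConjClasses G)
  rw [← Finset.sum_fiberwise (Finset.univ.filter P) (fun x : G => ConjClasses.mk x) f]
  refine Finset.dvd_sum fun C _ => ?_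
  induction C using Quotient.inductionOn with
  | h x₀ =>
    change s ∣ ∑ x ∈ (Finset.univ.filter P).filter (fun x => ConjClasses.mk x = ConjClasses.mk x₀), f x
    by_cases hx : ∃ y, P y ∧ IsConj y x₀
    · obtain ⟨y, hy, hyx⟩ := hx
      obtain ⟨c, hc⟩ := isConj_iff.1 hyx
      have h0 : P x₀ := hc ▸ hP c y hy
      have hset : (Finset.univ.filter P).filter (fun x => ConjClasses.mk x = ConjClasses.mk x₀) =
          Finset.univ.filter (fun x => IsConj x₀ x) := by
        ext x
        simp only [Finset.mem_filter, Finset.mem_univ, true_and, ConjClasses.mk_eq_mk_iff_isConj]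
        refine ⟨fun h => h.2.symm, fun h => ⟨?_, h.symm⟩⟩
        obtain ⟨d, hd⟩ := isConj_iff.1 h
        exact hd ▸ hP d x₀ h0
      rw [hset, Finset.sum_congr rfl (g := fun _ => f x₀) (fun x hx => by
        obtain ⟨d, hd⟩ := isConj_iff.1 (Finset.mem_filter.1 hx).2
        rw [← hd, hf]), Finset.sum_const, smul_eq_mul]
      have := hs x₀ h0
      rw [index_centralizer_eq_ncard] at this
      rw [← Set.ncard_coe_finset]
      rw [Finset.coe_filter]
      simpa using this
    · rw [Finset.sum_eq_zero]
      · exact dvd_zero _
      · intro x hx'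
        simp only [Finset.mem_filter, ConjClasses.mk_eq_mk_iff_isConj] at hx'
        exact absurd ⟨x, hx'.1.2, hx'.2⟩ hx

theorem exists_idempotent_exponents {P s : ℕ} (h : P.Coprime s) :
    ∃ E F : ℕ, E ≡ 1 [MOD P] ∧ s ∣ E ∧ F ≡ 1 [MOD s] ∧ P ∣ F ∧ E + F ≡ 1 [MOD P * s] := by
  obtain ⟨E, hE1, hE2⟩ := Nat.chineseRemainder h 1 0
  obtain ⟨F, hF1, hF2⟩ := Nat.chineseRemainder h 0 1
  refine ⟨E, F, hE1, Nat.modEq_zero_iff_dvd.1 hE2, hF2, Nat.modEq_zero_iff_dvd.1 hF1, ?_⟩
  exact (Nat.modEq_and_modEq_iff_modEq_mul h).1
    ⟨by simpa using hE1.add hF1, by simpa using hE2.add hF2⟩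

theorem pow_eq_self_of_modEq {G : Type*} [Group G] {x : G} {n E : ℕ} (hx : x ^ n = 1)
    (hE : E ≡ 1 [MOD n]) : x ^ E = x := by
  conv_rhs => rw [← pow_one x]
  exact pow_eq_pow_iff_modEq.2 (hE.of_dvd (orderOf_dvd_of_pow_eq_one hx))

theorem pow_eq_one_of_dvd' {G : Type*} [Monoid G] {x : G} {n E : ℕ} (hx : x ^ n = 1)
    (hE : n ∣ E) : x ^ E = 1 := by
  obtain ⟨c, rfl⟩ := hE
  rw [pow_mul, hx, one_pow]

/-- The number of solutions of `x ^ m = 1` only depends on `gcd m #G`. -/
theorem card_pow_eq_one_gcd {G : Type*} [Group G] [Finite G] (m : ℕ) :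
    Nat.card {x : G // x ^ m = 1} = Nat.card {x : G // x ^ Nat.gcd m (Nat.card G) = 1} :=
  Nat.card_congr (Equiv.subtypeEquivRight fun x => by
    rw [pow_gcd_eq_one]
    exact ⟨fun h => ⟨h, pow_card_eq_one'⟩, fun h => h.1⟩)

universe u

/-- Frobenius's theorem. -/
theorem dvd_card_pow_eq_one : ∀ (N : ℕ) {G : Type u} [Group G] [Finite G], Nat.card G ≤ N →
    ∀ m : ℕ, m ∣ Nat.card G → m ∣ Nat.card {x : G // x ^ m = 1} := by
  intro N
  induction N with
  | zero => intro G _ _ h; exact absurd Nat.card_pos (not_lt.2 h)
  | succ N ihN =>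
    intro G _ _ hN m hm
    obtain ⟨d, hd⟩ := hm
    induction d using Nat.strong_induction_on generalizing m with
    | _ d ih =>
      classical
      by_cases hd1 : d = 1
      · subst hd1
        rw [mul_one] at hd
        subst hd
        rw [Nat.card_congr (Equiv.subtypeUnivEquiv fun x => pow_card_eq_one')]
      obtain ⟨p, hp, e, rfl⟩ := Nat.exists_prime_and_dvd hd1
      haveI := Fact.mk hp
      have hG0 : Nat.card G ≠ 0 := Nat.card_pos.ne'
      have hm0 : m ≠ 0 := by rintro rfl; rw [zero_mul] at hd; exact hG0 hd
      have he0 : e ≠ 0 := by rintro rfl; rw [mul_zero, mul_zero] at hd; exact hG0 hd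
      have hA := ih e (lt_mul_left (Nat.pos_of_ne_zero he0) hp.one_lt) (m * p) (by rw [hd, mul_assoc])
      obtain ⟨k, s, hps, hks⟩ := Nat.exists_eq_pow_mul_and_not_dvd hm0 p hp.ne_one
      have hcop : (p ^ (k + 1)).Coprime s := Nat.Coprime.pow_left _ (hp.coprime_iff_not_dvd.2 hps)
      have hmp : m * p = p ^ (k + 1) * s := by rw [hks, pow_succ]; ring
      haveI := Fintype.ofFinite G
      haveI := Fintype.ofFinite (Subgroup G)
      set B : Finset G := Finset.univ.filter (fun x => x ^ (m * p) = 1 ∧ x ^ m ≠ 1) with hB
      have hsplit : Nat.card {x : G // x ^ (m * p) = 1} =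
          Nat.card {x : G // x ^ m = 1} + B.card := by
        simp only [Nat.card_eq_fintype_card, Fintype.card_subtype]
        rw [← Finset.card_union_of_disjoint]
        · congr 1
          ext x
          simp only [hB, Finset.mem_union, Finset.mem_filter, Finset.mem_univ, true_and]
          constructor
          · intro h; by_cases hx : x ^ m = 1
            · exact Or.inl hx
            · exact Or.inr ⟨h, hx⟩
          · rintro (h | h)
            · rw [pow_mul, h, one_pow]
            · exact h.1
        · rw [Finset.disjoint_filter]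
          exact fun x _ h h' => h'.2 h
      -- the `p`-part
      have hBp : p ^ k ∣ B.card := by
        rw [Finset.card_eq_sum_ones, ← Finset.sum_fiberwise B (fun x : G => zpowers x) (fun _ => 1)]
        refine Finset.dvd_sum fun H _ => ?_
        by_cases hne : (B.filter fun x => zpowers x = H).Nonempty
        swap
        · rw [Finset.not_nonempty_iff_eq_empty.1 hne]; simp
        obtain ⟨x, hx⟩ := hne
        simp only [hB, Finset.mem_filter, Finset.mem_univ, true_and] at hx
        obtain ⟨⟨hx1, hx2⟩, rfl⟩ := hx
        have hfib : (B.filter fun y => zpowers y = zpowers x) =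
            (Finset.univ.filter fun y : G => zpowers y = zpowers x) := by
          ext y
          simp only [hB, Finset.mem_filter, Finset.mem_univ, true_and]
          refine ⟨fun h => h.2, fun h => ⟨?_, h⟩⟩
          have ho : orderOf y = orderOf x := by rw [← Nat.card_zpowers, h, Nat.card_zpowers]
          simp only [ne_eq, ← orderOf_dvd_iff_pow_eq_one, ho] at hx1 hx2 ⊢
          exact ⟨hx1, hx2⟩
        rw [hfib, ← Finset.card_eq_sum_ones]
        have hc : (Finset.univ.filter fun y : G => zpowers y = zpowers x).card =
            Nat.totient (orderOf x) := by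
          haveI := Fintype.ofFinite (zpowers x)
          rw [← IsCyclic.card_orderOf_eq_totient (α := zpowers x) (d := orderOf x)
            (by rw [← Nat.card_eq_fintype_card, Nat.card_zpowers])]
          refine Finset.card_bij (fun y hy => ⟨y, ?_⟩) ?_ ?_ ?_
          · rw [← (Finset.mem_filter.1 hy).2]; exact mem_zpowers y
          · intro y hy
            simp only [Finset.mem_filter, Finset.mem_univ, true_and] at hy ⊢
            rw [orderOf_mk, ← Nat.card_zpowers, hy, Nat.card_zpowers]
          · intro a _ b _ h
            exact congrArg Subtype.val h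
          · intro y hy
            refine ⟨y.1, ?_, rfl⟩
            simp only [Finset.mem_filter, Finset.mem_univ, true_and] at hy ⊢
            refine eq_of_le_of_card_ge (zpowers_le.2 y.2) ?_
            rw [Nat.card_zpowers, Nat.card_zpowers, Subgroup.orderOf_coe, hy]
        rw [hc]
        have hdiv : p ^ (k + 1) ∣ orderOf x := by
          have h1 := orderOf_dvd_of_pow_eq_one hx1
          rw [hmp] at h1
          obtain ⟨a, b, ha, hb, hab⟩ := exists_dvd_and_dvd_of_dvd_mul h1
          obtain ⟨i, hi, rfl⟩ := (Nat.dvd_prime_pow hp).1 ha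
          rcases Nat.lt_or_ge i (k + 1) with hlt | hge
          · exfalso
            refine hx2 (orderOf_dvd_iff_pow_eq_one.1 ?_)
            rw [hab, hks]
            exact Nat.mul_dvd_mul (pow_dvd_pow p (by omega)) hb
          · exact hab ▸ Dvd.dvd.mul_right (pow_dvd_pow p hge) b
        refine dvd_trans ?_ (Nat.totient_dvd_of_dvd hdiv)
        rw [Nat.totient_prime_pow_succ hp]
        exact Dvd.intro _ rfl
      -- the `p'`-part
      obtain ⟨E, F, hE1, hEs, hF1, hFp, hEF⟩ := exists_idempotent_exponents hcop
      have hBs : s ∣ B.card := by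
        have hcount : B.card = ∑ u ∈ Finset.univ.filter (fun u : G => orderOf u = p ^ (k + 1)),
            Nat.card {v : centralizer ({u} : Set G) // v ^ s = 1} := by
          simp only [Nat.card_eq_fintype_card]
          rw [Finset.card_eq_sum_ones, ← Finset.sum_fiberwise_of_maps_to (s := B)
            (t := Finset.univ.filter (fun u : G => orderOf u = p ^ (k + 1))) (g := fun x => x ^ E)]
          · refine Finset.sum_congr rfl fun u hu => ?_
            simp only [Finset.mem_filter, Finset.mem_univ, true_and] at hu
            rw [← Finset.card_eq_sum_ones, Fintype.card_subtype]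
            have hu1 : u ^ p ^ (k + 1) = 1 := hu ▸ pow_orderOf_eq_one u
            refine Finset.card_bij' (fun x hx => ⟨x ^ F, ?_⟩) (fun v _ => u * (v : G)) ?_ ?_ ?_ ?_
            · rw [mem_centralizer_singleton_iff, ← (Finset.mem_filter.1 hx).2, ← pow_add,
                ← pow_add, add_comm]
            · intro x hx
              simp only [hB, Finset.mem_filter, Finset.mem_univ, true_and] at hx ⊢
              ext
              push_cast
              rw [← pow_mul]
              exact pow_eq_one_of_dvd' hx.1.1 (hmp ▸ Nat.mul_dvd_mul hFp dvd_rfl)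
            · intro v hv
              simp only [Finset.mem_filter, Finset.mem_univ, true_and] at hv
              have hv' : (v : G) ^ s = 1 := by simpa using congrArg Subtype.val hv
              have hcomm : Commute u (v : G) := (mem_centralizer_singleton_iff.1 v.2).symm
              simp only [hB, Finset.mem_filter, Finset.mem_univ, true_and]
              refine ⟨⟨?_, ?_⟩, ?_⟩
              · rw [hmp, hcomm.mul_pow, pow_eq_one_of_dvd' hu1 (Dvd.intro _ rfl),
                  pow_eq_one_of_dvd' hv' (Dvd.intro_left _ rfl), one_mul]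
              · intro h
                rw [hks, hcomm.mul_pow, pow_eq_one_of_dvd' hv' (Dvd.intro_left _ rfl), mul_one,
                  ← orderOf_dvd_iff_pow_eq_one, hu] at h
                have := (Nat.Coprime.dvd_of_dvd_mul_right hcop h)
                have := (Nat.pow_dvd_pow_iff_le_right hp.one_lt).1 this
                omega
              · rw [hcomm.mul_pow, pow_eq_self_of_modEq hu1 hE1, pow_eq_one_of_dvd' hv' hEs, mul_one]
            · intro x hx
              simp only [hB, Finset.mem_filter, Finset.mem_univ, true_and] at hx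
              calc u * x ^ F = x ^ E * x ^ F := by rw [hx.2]
                _ = x := by rw [← pow_add]; exact pow_eq_self_of_modEq (hmp ▸ hx.1.1) hEF
            · intro v hv
              simp only [Finset.mem_filter, Finset.mem_univ, true_and] at hv
              have hv' : (v : G) ^ s = 1 := by simpa using congrArg Subtype.val hv
              have hcomm : Commute u (v : G) := (mem_centralizer_singleton_iff.1 v.2).symm
              refine Subtype.ext ?_
              show (u * (v : G)) ^ F = v
              rw [hcomm.mul_pow, pow_eq_one_of_dvd' hu1 hFp, pow_eq_self_of_modEq hv' hF1, one_mul]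
          · intro x hx
            simp only [hB, Finset.mem_filter, Finset.mem_univ, true_and] at hx ⊢
            obtain ⟨i, hi, hieq⟩ := (Nat.dvd_prime_pow hp).1
              (orderOf_dvd_of_pow_eq_one (x := x ^ E) (n := p ^ (k + 1)) (by
                rw [← pow_mul]
                refine pow_eq_one_of_dvd' hx.1 ?_
                rw [hmp, mul_comm E]
                exact Nat.mul_dvd_mul dvd_rfl hEs))
            rcases Nat.lt_or_ge i (k + 1) with hlt | hge
            · exfalso
              refine hx.2 ?_
              have h1 : x ^ (E * p ^ k) = 1 := by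
                rw [pow_mul]
                exact pow_eq_one_of_dvd' (hieq ▸ pow_orderOf_eq_one _) (pow_dvd_pow p (by omega))
              have h2 : x ^ (F * m) = 1 := by
                refine pow_eq_one_of_dvd' hx.1 ?_
                rw [mul_comm F]
                exact Nat.mul_dvd_mul dvd_rfl (dvd_trans (dvd_pow_self p k.succ_ne_zero) hFp)
              calc x ^ m = (x ^ (E + F)) ^ m := by rw [pow_eq_self_of_modEq (hmp ▸ hx.1) hEF]
                _ = 1 := by
                  rw [← pow_mul, add_mul, pow_add, h2, mul_one, hks, ← mul_assoc, pow_mul, h1,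
                    one_pow]
            · rw [hieq, le_antisymm hi hge]
        rw [hcount]
        refine dvd_sum_of_classes _ (fun g x hx => ?_) _ (fun g x => ?_) s (fun u hu => ?_)
        · rw [← MulAut.conj_apply, MulEquiv.orderOf_eq, hx]
        · refine Nat.card_congr (Equiv.subtypeEquiv
            { toFun := fun v => ⟨g⁻¹ * v * g, ?_⟩
              invFun := fun v => ⟨g * v * g⁻¹, ?_⟩
              left_inv := fun v => Subtype.ext (by group)
              right_inv := fun v => Subtype.ext (by group) } fun v => ?_)
          · have := mem_centralizer_singleton_iff.1 v.2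
            rw [mem_centralizer_singleton_iff]
            calc g⁻¹ * v * g * x = g⁻¹ * ((v : G) * (g * x * g⁻¹)) * g := by group
              _ = x * (g⁻¹ * v * g) := by rw [this]; group
          · have := mem_centralizer_singleton_iff.1 v.2
            rw [mem_centralizer_singleton_iff]
            calc g * (v : G) * g⁻¹ * (g * x * g⁻¹) = g * ((v : G) * x) * g⁻¹ := by group
              _ = g * x * g⁻¹ * (g * v * g⁻¹) := by rw [this]; group
          · simp only [Equiv.coe_fn_mk, Subtype.ext_iff, SubgroupClass.coe_pow, OneMemClass.coe_one]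
            have : (g⁻¹ * (v : G) * g) ^ s = g⁻¹ * (v : G) ^ s * g := by
              have := conj_pow (a := g⁻¹) (b := (v : G)) (i := s)
              rwa [inv_inv] at this
            rw [this]
            constructor
            · intro h; rw [h]; group
            · intro h
              calc (v : G) ^ s = g * (g⁻¹ * (v : G) ^ s * g) * g⁻¹ := by group
                _ = 1 := by rw [h]; group
        -- one element `u`
        set C := centralizer ({u} : Set G)
        have huC : u ∈ C := mem_centralizer_singleton_iff.2 rfl
        let Z : Subgroup C := zpowers (⟨u, huC⟩ : C)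
        have hZn : Z.Normal := by
          constructor
          rintro _ ⟨i, rfl⟩ g
          refine ⟨i, Subtype.ext ?_⟩
          push_cast
          rw [eq_mul_inv_iff_mul_eq]
          exact ((Commute.zpow_right (mem_centralizer_singleton_iff.1 g.2) i).eq).symm
        have hu1 : (⟨u, huC⟩ : C) ^ p ^ (k + 1) = 1 := Subtype.ext (by
          push_cast; exact hu ▸ pow_orderOf_eq_one u)
        have hZcard : Nat.card Z = p ^ (k + 1) := by rw [Nat.card_zpowers, orderOf_mk, hu]
        have hbij : Nat.card {v : C // v ^ s = 1} = Nat.card {w : C ⧸ Z // w ^ s = 1} := by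
          refine Nat.card_eq_of_bijective
            (fun v => ⟨(v.1 : C ⧸ Z), by rw [← QuotientGroup.mk_pow, v.2]; rfl⟩) ⟨?_, ?_⟩
          · intro v w h
            have h' : v.1⁻¹ * w.1 ∈ Z := QuotientGroup.eq.1 (congrArg Subtype.val h)
            obtain ⟨i, hi⟩ := h'
            have hzc : ∀ z : C, Commute z (⟨u, huC⟩ : C) :=
              fun z => Subtype.ext (mem_centralizer_singleton_iff.1 z.2)
            have hw : w.1 = v.1 * (⟨u, huC⟩ : C) ^ i := by rw [show _ ^ i = v.1⁻¹ * w.1 from hi]; group
            have hpow : ((⟨u, huC⟩ : C) ^ i) ^ s = 1 := by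
              have := w.2
              rwa [hw, ((hzc v.1).zpow_right i).mul_pow, v.2, one_mul] at this
            have hone : (⟨u, huC⟩ : C) ^ i = 1 := by
              rw [← orderOf_eq_one_iff]
              refine Nat.eq_one_of_dvd_coprimes hcop (orderOf_dvd_of_pow_eq_one ?_)
                (orderOf_dvd_of_pow_eq_one hpow)
              rw [← zpow_natCast, ← zpow_mul, mul_comm, zpow_mul, zpow_natCast, hu1, one_zpow]
            refine Subtype.ext ?_
            rw [hw, hone, mul_one]
          · rintro ⟨w, hw⟩
            induction w using QuotientGroup.induction_on with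
            | _ v =>
              have hv : v ^ s ∈ Z := by rw [← QuotientGroup.eq_one_iff, QuotientGroup.mk_pow]; exact hw
              refine ⟨⟨v ^ F, ?_⟩, Subtype.ext ?_⟩
              · obtain ⟨i, hi⟩ := hv
                rw [← pow_mul, mul_comm, pow_mul, ← hi]
                refine pow_eq_one_of_dvd' ?_ hFp
                rw [← zpow_natCast, ← zpow_mul, mul_comm, zpow_mul, zpow_natCast, hu1, one_zpow]
              · show ((v ^ F : C) : C ⧸ Z) = (v : C ⧸ Z)
                rw [QuotientGroup.mk_pow]
                exact pow_eq_self_of_modEq hw hF1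
        rw [hbij, card_pow_eq_one_gcd]
        have hcardC := Z.card_eq_card_quotient_mul_card_subgroup
        rw [hZcard] at hcardC
        have hlt : Nat.card (C ⧸ Z) ≤ N := by
          have h1 : Nat.card C ≤ Nat.card G := card_le_card_group C
          have h2 : 2 ≤ p ^ (k + 1) := hp.two_le.trans (Nat.le_self_pow (by omega) p)
          have h3 : 0 < Nat.card (C ⧸ Z) := Nat.card_pos
          nlinarith
        refine dvd_trans ?_ (Nat.mul_dvd_mul dvd_rfl
          (ihN hlt (Nat.gcd s (Nat.card (C ⧸ Z))) (Nat.gcd_dvd_right _ _)))
        rw [← Nat.gcd_mul_left]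
        refine Nat.dvd_gcd (Dvd.intro_left _ rfl) ?_
        have hsG : s ∣ Nat.card G := by rw [hd, hks]; exact ⟨p ^ k * (p * e), by ring⟩
        rw [← C.index_mul_card, hcardC, ← mul_assoc] at hsG
        exact (Nat.Coprime.dvd_of_dvd_mul_right hcop.symm hsG)
      have : m ∣ Nat.card {x : G // x ^ m = 1} + B.card := hsplit ▸ (dvd_trans (Dvd.intro p rfl) hA)
      refine (Nat.dvd_add_left ?_).1 this
      rw [hks]
      exact Nat.Coprime.mul_dvd_of_dvd_of_dvd
        (Nat.Coprime.pow_left _ (hp.coprime_iff_not_dvd.2 hps)) hBp hBs

/-- Frobenius's theorem, gcd form. -/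
theorem gcd_dvd_card_pow_eq_one {G : Type u} [Group G] [Finite G] (m : ℕ) :
    Nat.gcd m (Nat.card G) ∣ Nat.card {x : G // x ^ m = 1} := by
  rw [card_pow_eq_one_gcd]
  exact dvd_card_pow_eq_one _ le_rfl _ (Nat.gcd_dvd_right _ _)

end CfsgLib.FGS
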