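import Cfsg.Agent.Lib.PStab.Complement
import Cfsg.Agent.Lib.Solvable.CoprimeAction
import Cfsg.Agent.Lib.FGS.ThompsonKernel
import Cfsg.Agent.Lib.PGroup.CoprimeHall
import Cfsg.Agent.Lib.Transfer.CentralHall

/-!
A finite group with a coprime group of operators `A`, all of whose maximal `A`-invariant subgroups
are nilpotent: it is solvable of order divisible by at most two primes, with a normal Sylow subgroup.
Solvability of `A` or of `G` is taken as a hypothesis.
-/

set_option autoImplicit false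

open scoped Pointwise

namespace CfsgLib.FGS.NilpotentMaximal

open Subgroup

universe u v

variable {A : Type u} [Group A] {G : Type v} [Group G]

/-- `H` is invariant under the operators. -/
def Inv (φ : A →* MulAut G) (H : Subgroup G) : Prop := ∀ a, ∀ x ∈ H, φ a x ∈ H

/-- Every proper invariant subgroup is nilpotent. -/
def AllNilpotent (φ : A →* MulAut G) : Prop :=
  ∀ H : Subgroup G, H ≠ ⊤ → Inv φ H → Group.IsNilpotent H

theorem allNilpotent_of_maximal [Finite G] (φ : A →* MulAut G)
    (h : ∀ H : Subgroup G, H ≠ ⊤ → Inv φ H →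
      (∀ K : Subgroup G, H < K → Inv φ K → K = ⊤) → Group.IsNilpotent H) : AllNilpotent φ := by
  intro H hH hi
  obtain ⟨M, ⟨hHM, hMt, hMi⟩, hmax⟩ := Set.Finite.exists_maximal
    (s := {M : Subgroup G | H ≤ M ∧ M ≠ ⊤ ∧ Inv φ M}) (Set.toFinite _) ⟨H, le_rfl, hH, hi⟩
  haveI := h M hMt hMi fun K hMK hKi => by
    by_contra hK
    exact hMK.not_ge (hmax ⟨hHM.trans hMK.le, hK, hKi⟩ hMK.le)
  exact Group.nilpotent_of_mulEquiv (subgroupOfEquivOfLe hHM)

theorem inv_map {φ : A →* MulAut G} {H : Subgroup G} [Finite G] (hi : Inv φ H) (a : A) :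
    H.map (φ a).toMonoidHom = H := by
  refine Subgroup.eq_of_le_of_card_ge ?_ (by rw [card_map_of_injective (φ a).injective])
  rintro _ ⟨x, hx, rfl⟩
  exact hi a x hx

theorem inv_normalizer [Finite G] {φ : A →* MulAut G} {H : Subgroup G} (hi : Inv φ H) :
    Inv φ (normalizer (H : Set G)) := by
  intro a x hx
  refine CfsgLib.Solvable.mem_normalizer_of_conj_mem fun y hy => ?_
  rw [← inv_map hi a] at hy ⊢
  obtain ⟨z, hz, rfl⟩ := hy
  exact ⟨x * z * x⁻¹, (mem_normalizer_iff.1 hx z).1 hz, by simp⟩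

/-- The operators induced on a quotient by an invariant normal subgroup. -/
noncomputable def quotAction [Finite G] (φ : A →* MulAut G) (N : Subgroup G) [N.Normal] (hi : Inv φ N) :
    A →* MulAut (G ⧸ N) where
  toFun a := QuotientGroup.congr N N (φ a) (inv_map hi a)
  map_one' := by ext x; induction x using QuotientGroup.induction_on with | _ g => simp
  map_mul' a b := by
    ext x
    induction x using QuotientGroup.induction_on with
    | _ g => simp; rfl

theorem quotAction_mk [Finite G] (φ : A →* MulAut G) (N : Subgroup G) [N.Normal] (hi : Inv φ N) (a : A)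
    (g : G) : quotAction φ N hi a (QuotientGroup.mk' N g) = QuotientGroup.mk' N (φ a g) := rfl

theorem allNilpotent_quotient [Finite G] {φ : A →* MulAut G} (h : AllNilpotent φ) (N : Subgroup G)
    [N.Normal] (hi : Inv φ N) : AllNilpotent (quotAction φ N hi) := by
  intro H hH hHi
  haveI := h (H.comap (QuotientGroup.mk' N))
    (fun e => hH (comap_injective (QuotientGroup.mk'_surjective N) (by rw [e, comap_top])))
    (fun a x hx => by
      rw [mem_comap] at hx ⊢
      rw [← quotAction_mk φ N hi]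
      exact hHi a _ hx)
  exact Group.nilpotent_of_surjective _
    (MonoidHom.subgroupComap_surjective_of_surjective _ H (QuotientGroup.mk'_surjective N))

/-- An invariant Sylow subgroup. -/
theorem exists_invariant_sylow [Finite A] [Finite G] (φ : A →* MulAut G)
    (hcop : (Nat.card A).Coprime (Nat.card G)) (hs : Group.IsSolvable A ∨ Group.IsSolvable G) (p : ℕ)
    [Fact p.Prime] : ∃ P : Sylow p G, Inv φ (P : Subgroup G) := by
  haveI : Finite (G ⋊[φ] A) := Finite.of_equiv _ SemidirectProduct.equivProd.symm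
  set K := (SemidirectProduct.inl : G →* G ⋊[φ] A).range with hK
  let e : G ≃* K := MonoidHom.ofInjective SemidirectProduct.inl_injective
  let eA : A ≃* (SemidirectProduct.inr : A →* G ⋊[φ] A).range :=
    MonoidHom.ofInjective SemidirectProduct.inr_injective
  haveI : K.Normal := by rw [hK, SemidirectProduct.range_inl_eq_ker_rightHom]; infer_instance
  obtain ⟨P, hP⟩ := CfsgLib.Solvable.exists_invariant_sylow
    (A := (SemidirectProduct.inr : A →* G ⋊[φ] A).range) (K := K)
    (fun x _ => normalizer_eq_top_iff.2 ‹K.Normal› ▸ mem_top x)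
    (by rw [← Nat.card_congr eA.toEquiv, ← Nat.card_congr e.toEquiv]; exact hcop)
    (hs.imp (fun (h : Group.IsSolvable A) => Group.isSolvable_of_surjective (f := eA.toMonoidHom) eA.surjective)
      fun (h : Group.IsSolvable G) => Group.isSolvable_of_surjective (f := e.toMonoidHom) e.surjective) p
  refine ⟨P.comapOfInjective e.toMonoidHom e.injective (fun z _ => ⟨e.symm z, e.apply_symm_apply z⟩),
    fun a x hx => ?_⟩
  have hx : e x ∈ (P : Subgroup K) := hx
  show e (φ a x) ∈ (P : Subgroup K)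
  obtain ⟨z, hz, hze⟩ := (mem_normalizer_iff.1 (hP ⟨a, rfl⟩) ((e x : K) : G ⋊[φ] A)).1 ⟨e x, hx, rfl⟩
  have e1 : z = e (φ a x) := Subtype.ext
    (hze.trans (by rw [← map_inv]; exact (SemidirectProduct.inl_aut (φ := φ) a x).symm))
  rwa [← e1]

/-- An invariant `t`-complement in a solvable group. -/
theorem exists_invariant_hall_compl [Finite A] [Finite G] [hG : Group.IsSolvable G] (φ : A →* MulAut G)
    (hcop : (Nat.card A).Coprime (Nat.card G)) (t : ℕ) [ht : Fact t.Prime] :
    ∃ H : Subgroup G, (¬ t ∣ Nat.card H ∧ ∀ r : ℕ, r.Prime → r ∣ H.index → r = t) ∧ Inv φ H := by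
  haveI : Finite (G ⋊[φ] A) := Finite.of_equiv _ SemidirectProduct.equivProd.symm
  set L := (SemidirectProduct.inl : G →* G ⋊[φ] A).range with hL
  let e : G ≃* L := MonoidHom.ofInjective SemidirectProduct.inl_injective
  let eA : A ≃* (SemidirectProduct.inr : A →* G ⋊[φ] A).range :=
    MonoidHom.ofInjective SemidirectProduct.inr_injective
  haveI : L.Normal := by rw [hL, SemidirectProduct.range_inl_eq_ker_rightHom]; infer_instance
  obtain ⟨H, hH, hHA⟩ := CfsgLib.PGroup.exists_invariant_hall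
    (A := (SemidirectProduct.inr : A →* G ⋊[φ] A).range) {r | r ≠ t} (L := L)
    (fun x _ => normalizer_eq_top_iff.2 ‹L.Normal› ▸ mem_top x)
    (by rw [← Nat.card_congr eA.toEquiv, ← Nat.card_congr e.toEquiv]; exact hcop)
    (Group.isSolvable_of_surjective (f := e.toMonoidHom) e.surjective)
  have hmap : (H.comap SemidirectProduct.inl).map (SemidirectProduct.inl : G →* G ⋊[φ] A) = H :=
    map_comap_eq_self (hL ▸ hH.1)
  refine ⟨H.comap SemidirectProduct.inl, ⟨fun h => ?_, fun r hr h => ?_⟩, fun a x hx => ?_⟩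
  · rw [← card_map_of_injective (f := (SemidirectProduct.inl : G →* G ⋊[φ] A)) SemidirectProduct.inl_injective, hmap] at h
    exact hH.2.1 t ht.out h rfl
  · rw [index_comap, ← hL] at h
    by_contra hne
    exact hH.2.2 r hr hne h
  · rw [mem_comap, SemidirectProduct.inl_aut, map_inv]
    exact (mem_normalizer_iff.1 (hHA ⟨a, rfl⟩) _).1 hx

theorem inv_of_characteristic {φ : A →* MulAut G} {H : Subgroup G} [h : H.Characteristic] : Inv φ H :=
  fun a x hx => by
    have := (characteristic_iff_map_eq.1 h) (φ a)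
    exact this.le ⟨x, hx, rfl⟩

variable [Finite A]

private theorem solvable_aux : ∀ (n : ℕ) (G : Type v) [Group G] [Finite G] (φ : A →* MulAut G),
    Nat.card G = n → (Nat.card A).Coprime n → (Group.IsSolvable A ∨ Group.IsSolvable G) →
      AllNilpotent φ → Group.IsSolvable G := by
  intro n
  induction n using Nat.strong_induction_on with
  | _ n ih =>
  intro G _ _ φ hn hcop hs hall
  subst hn
  by_cases hN : ∃ N : Subgroup G, N.Normal ∧ N ≠ ⊥ ∧ N ≠ ⊤ ∧ Inv φ N
  · obtain ⟨N, hNn, hNb, hNt, hNi⟩ := hN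
    haveI := hall N hNt hNi
    haveI : Group.IsSolvable (G ⧸ N) :=
      ih _ (CfsgLib.Solvable.card_quotient_lt N hNb) (G ⧸ N) (quotAction φ N hNi) rfl
        (hcop.coprime_dvd_right (card_quotient_dvd_card N))
        (hs.imp id fun (h : Group.IsSolvable G) => Group.isSolvable_of_surjective (QuotientGroup.mk'_surjective N))
        (allNilpotent_quotient hall N hNi)
    exact Group.isSolvable_of_ker_le_range N.subtype (QuotientGroup.mk' N)
      (by rw [QuotientGroup.ker_mk', range_subtype])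
  push_neg at hN
  by_cases h2 : IsPGroup 2 G
  · haveI : Fact (Nat.Prime 2) := ⟨Nat.prime_two⟩
    haveI := h2.isNilpotent
    infer_instance
  obtain ⟨p, hp, hpG, hp2⟩ : ∃ p : ℕ, p.Prime ∧ p ∣ Nat.card G ∧ p ≠ 2 := by
    by_contra h
    push_neg at h
    exact h2 (IsPGroup.of_card (Nat.eq_prime_pow_of_unique_prime_dvd Nat.card_pos.ne'
      fun {d} hd hdd => h d hd hdd))
  haveI := Fact.mk hp
  obtain ⟨P, hPi⟩ := exists_invariant_sylow φ hcop hs p
  have hP1 : (P : Subgroup G) ≠ ⊥ := P.ne_bot_of_dvd_card hpG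
  set Z := CfsgLib.PStab.zjGen 0 (P : Subgroup G) with hZ
  have hZb : Z ≠ ⊥ := CfsgLib.PStab.zjGen_ne_bot (Or.inl rfl) P.2 hP1
  have hZi : Inv φ Z := fun a x hx => by
    have h1 := CfsgLib.PStab.zjGen_map (e := 0) (f := (φ a).toMonoidHom) (φ a).injective (P : Subgroup G)
    rw [inv_map hPi a] at h1
    exact h1.ge ⟨x, hx, rfl⟩
  by_cases hNZ : normalizer (Z : Set G) = ⊤
  · have hZt : Z = ⊤ := by
      by_contra h
      exact hN Z (normalizer_eq_top_iff.1 hNZ) hZb h hZi
    have hPt : (P : Subgroup G) = ⊤ := top_le_iff.1 (hZt.ge.trans (CfsgLib.PStab.zjGen_le _ _))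
    haveI : Group.IsNilpotent (P : Subgroup G) := P.2.isNilpotent
    rw [hPt] at *
    haveI := Group.nilpotent_of_surjective (⊤ : Subgroup G).subtype (fun x => ⟨⟨x, trivial⟩, rfl⟩)
    infer_instance
  haveI := hall _ hNZ (inv_normalizer hZi)
  obtain ⟨Q, K, hKn, hK⟩ := CfsgLib.PStab.hasNormalPComplement_of_normalizer_zjGen hp2 (e := 0) (Or.inl rfl) P
    (D := (P : Subgroup G)) ⟨le_rfl, fun _ _ _ h => h⟩
    (CfsgLib.FGS.hasNormalPComplement_of_isNilpotent (p := p) _)
  have hcopK : (Nat.card K).Coprime K.index := by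
    rw [hK.symm.index_eq_card, ← hK.index_eq_card]
    exact Q.card_coprime_index.symm
  haveI := CfsgLib.Transfer.characteristic_of_coprime_index (N := K) hcopK
  have hKt : K ≠ ⊤ := fun e => (Q.ne_bot_of_dvd_card hpG) (eq_bot_of_card_eq _ (by
    rw [← hK.symm.index_eq_card, e, index_top]))
  have hKb : K = ⊥ := by
    by_contra hb
    exact hN K hKn hb hKt inv_of_characteristic
  have hQt : (Q : Subgroup G) = ⊤ := index_eq_one.1 (by rw [hK.index_eq_card, hKb, card_bot])
  haveI : Group.IsNilpotent (Q : Subgroup G) := Q.2.isNilpotent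
  haveI : Group.IsNilpotent G := by
    rw [hQt] at *
    exact Group.nilpotent_of_surjective (⊤ : Subgroup G).subtype (fun x => ⟨⟨x, trivial⟩, rfl⟩)
  infer_instance

theorem isSolvable [Finite G] (φ : A →* MulAut G) (hcop : (Nat.card A).Coprime (Nat.card G))
    (hs : Group.IsSolvable A ∨ Group.IsSolvable G) (hall : AllNilpotent φ) : Group.IsSolvable G :=
  solvable_aux _ G φ rfl hcop hs hall

/-- Structure: two primes and a normal Sylow subgroup. -/
theorem structure_of_not_nilpotent [Finite G] (φ : A →* MulAut G)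
    (hcop : (Nat.card A).Coprime (Nat.card G)) [hsol : Group.IsSolvable G] (hall : AllNilpotent φ)
    (hG : ¬ Group.IsNilpotent G) :
    (∃ p q a b : ℕ, p.Prime ∧ q.Prime ∧ p ≠ q ∧ Nat.card G = p ^ a * q ^ b) ∧
      ∃ (p : ℕ) (P : Sylow p G), p.Prime ∧ p ∣ Nat.card G ∧ (P : Subgroup G).Normal ∧ Inv φ (P : Subgroup G) := by
  have htwo : ∃ p q : ℕ, p.Prime ∧ q.Prime ∧ p ≠ q ∧ p ∣ Nat.card G ∧ q ∣ Nat.card G ∧
      ∀ r : ℕ, r.Prime → r ∣ Nat.card G → r = p ∨ r = q := by
    obtain ⟨p, hp, hpG⟩ : ∃ p : ℕ, p.Prime ∧ p ∣ Nat.card G :=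
      ⟨_, Nat.minFac_prime (fun e => hG (by
        haveI := (Nat.card_eq_one_iff_unique.1 e).1
        exact Group.isNilpotent_of_subsingleton)), Nat.minFac_dvd _⟩
    obtain ⟨q, hq, hqG, hpq⟩ : ∃ q : ℕ, q.Prime ∧ q ∣ Nat.card G ∧ q ≠ p := by
      by_contra h
      push_neg at h
      haveI := Fact.mk hp
      exact hG (IsPGroup.of_card (p := p) (Nat.eq_prime_pow_of_unique_prime_dvd Nat.card_pos.ne'
        fun {d} hd hdd => h d hd hdd)).isNilpotent
    refine ⟨p, q, hp, hq, hpq.symm, hpG, hqG, fun r hr hrG => ?_⟩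
    by_contra hc
    push_neg at hc
    -- three primes: every Sylow subgroup is normal
    refine hG ((Group.isNilpotent_of_finite_tfae (G := G)).out 3 0 rfl rfl |>.1 fun s hs S => ?_)
    haveI := hs
    have key : ∀ t : ℕ, t.Prime → t ∣ Nat.card G → t ≠ s →
        ∃ g : G, ∀ r : ℕ, r.Prime → r ∣ (normalizer ((MulAut.conj g • S : Sylow s G) : Set G)).index → r = t := by
      intro t ht htG hts
      haveI := Fact.mk ht
      obtain ⟨T, hT⟩ := exists_invariant_sylow φ hcop (Or.inr hsol) t
      obtain ⟨H, hH, hHi⟩ := exists_invariant_hall_compl φ hcop t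
      have hHt : H ≠ ⊤ := fun e => by
        have := hH.1
        rw [e, card_top] at this
        exact this htG
      haveI := hall H hHt hHi
      obtain ⟨R, hR⟩ : ∃ R : Sylow s G, (R : Subgroup G) ≤ H ∧ H ≤ normalizer ((R : Subgroup G) : Set G) := by
        obtain ⟨R₀⟩ : Nonempty (Sylow s H) := inferInstance
        haveI : (R₀ : Subgroup H).Normal :=
          (Group.isNilpotent_of_finite_tfae (G := H)).out 0 3 rfl rfl |>.1 inferInstance s inferInstance R₀
        obtain ⟨R, hR⟩ := (R₀.2.map H.subtype).exists_le_sylow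
        have hcard : Nat.card (R : Subgroup G) = Nat.card ((R₀ : Subgroup H).map H.subtype) := by
          rw [card_map_of_injective H.subtype_injective, Sylow.card_eq_multiplicity,
            Sylow.card_eq_multiplicity, ← H.card_mul_index,
            Nat.factorization_mul Nat.card_pos.ne' index_ne_zero_of_finite, Finsupp.coe_add, Pi.add_apply,
            Nat.factorization_eq_zero_of_not_dvd (fun h => hts.symm (hH.2 s Fact.out h)), add_zero]
        have he := Subgroup.eq_of_le_of_card_ge hR hcard.le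
        refine ⟨R, he ▸ map_subtype_le _, fun x hx => CfsgLib.Solvable.mem_normalizer_of_conj_mem fun y hy => ?_⟩
        rw [← he] at hy ⊢
        obtain ⟨z, hz, rfl⟩ := hy
        exact ⟨⟨x, hx⟩ * z * ⟨x, hx⟩⁻¹, ‹(R₀ : Subgroup H).Normal›.conj_mem z hz _, rfl⟩
      obtain ⟨g, hg⟩ := MulAction.exists_smul_eq G S R
      refine ⟨g, fun r hr hrd => hH.2 r hr (hrd.trans ?_)⟩
      rw [show (MulAut.conj g • S : Sylow s G) = R from hg]
      exact index_dvd_of_le hR.2
    have hidx : ∀ g : G, (normalizer ((MulAut.conj g • S : Sylow s G) : Set G)).index =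
        (normalizer ((S : Subgroup G) : Set G)).index := fun g => by
      exact (Sylow.card_eq_index_normalizer _).symm.trans (Sylow.card_eq_index_normalizer S)
    obtain ⟨t₁, t₂, ht₁, ht₂, h1G, h2G, h12, h1s, h2s⟩ : ∃ t₁ t₂ : ℕ, t₁.Prime ∧ t₂.Prime ∧
        t₁ ∣ Nat.card G ∧ t₂ ∣ Nat.card G ∧ t₁ ≠ t₂ ∧ t₁ ≠ s ∧ t₂ ≠ s := by
      by_cases e1 : p = s
      · exact ⟨q, r, hq, hr, hqG, hrG, hc.2.symm, e1 ▸ hpq, e1 ▸ hc.1⟩
      by_cases e2 : q = s
      · exact ⟨p, r, hp, hr, hpG, hrG, hc.1.symm, e1, e2 ▸ hc.2⟩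
      exact ⟨p, q, hp, hq, hpG, hqG, hpq.symm, e1, e2⟩
    obtain ⟨g₁, k₁⟩ := key t₁ ht₁ h1G h1s
    obtain ⟨g₂, k₂⟩ := key t₂ ht₂ h2G h2s
    rw [hidx] at k₁ k₂
    refine normalizer_eq_top_iff.1 (index_eq_one.1 ?_)
    by_contra hne
    have h3 := Nat.minFac_prime hne
    exact h12 ((k₁ _ h3 (Nat.minFac_dvd _)).symm.trans (k₂ _ h3 (Nat.minFac_dvd _)))
  obtain ⟨p, q, hp, hq, hpq, hpG, hqG, hall2⟩ := htwo
  refine ⟨⟨p, q, (Nat.card G).factorization p, (Nat.card G).factorization q, hp, hq, hpq, ?_⟩, ?_⟩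
  · refine Nat.eq_of_factorization_eq Nat.card_pos.ne'
      (Nat.mul_ne_zero (pow_ne_zero _ hp.ne_zero) (pow_ne_zero _ hq.ne_zero)) fun r => ?_
    rw [Nat.factorization_mul (pow_ne_zero _ hp.ne_zero) (pow_ne_zero _ hq.ne_zero),
      hp.factorization_pow, hq.factorization_pow, Finsupp.coe_add, Pi.add_apply]
    by_cases hr : r.Prime ∧ r ∣ Nat.card G
    · rcases hall2 r hr.1 hr.2 with rfl | rfl <;> simp [hpq, Ne.symm hpq]
    · rw [not_and] at hr
      have h0 : (Nat.card G).factorization r = 0 := by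
        by_cases hr' : r.Prime
        · exact Nat.factorization_eq_zero_of_not_dvd (hr hr')
        · exact Nat.factorization_eq_zero_of_not_prime _ hr'
      have e1 : p ≠ r := fun e => hr (e ▸ hp) (e ▸ hpG)
      have e2 : q ≠ r := fun e => hr (e ▸ hq) (e ▸ hqG)
      simp [h0, e1, e2]
  · -- a prime of `|G : G'|` gives a proper normal subgroup containing the other Sylow subgroup
    haveI : Nontrivial G := Finite.one_lt_card_iff_nontrivial.1 (lt_of_lt_of_le hp.one_lt
      (Nat.le_of_dvd Nat.card_pos hpG))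
    have hD : commutator G ≠ ⊤ := ((Group.IsSolvable.commutator_lt_top_of_nontrivial G)).ne
    obtain ⟨s, hs, hsd⟩ : ∃ s : ℕ, s.Prime ∧ s ∣ (commutator G).index :=
      ⟨_, Nat.minFac_prime (fun e => hD (index_eq_one.1 e)), Nat.minFac_dvd _⟩
    obtain ⟨t, ht, hts, htG⟩ : ∃ t : ℕ, t.Prime ∧ t ≠ s ∧ t ∣ Nat.card G := by
      rcases hall2 s hs (hsd.trans (index_dvd_card _)) with rfl | rfl
      · exact ⟨q, hq, hpq.symm, hqG⟩
      · exact ⟨p, hp, hpq, hpG⟩
    haveI := Fact.mk ht
    obtain ⟨P⟩ : Nonempty (Sylow t G) := inferInstance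
    set K := (P : Subgroup G) ⊔ commutator G with hK
    haveI hKn : K.Normal := Subgroup.Normal.of_commutator_le G le_sup_right
    have hKt : K ≠ ⊤ := fun e => by
      have h1 : (commutator G).index ∣ Nat.card (P : Subgroup G) := by
        rw [← relIndex_top_right, ← e, hK, sup_comm, relIndex_sup_left]
        exact relIndex_dvd_card _ _
      obtain ⟨j, hj⟩ := P.2.exists_card_eq
      rw [hj] at h1
      exact hts ((Nat.prime_dvd_prime_iff_eq hs ht).1 (hs.dvd_of_dvd_pow (hsd.trans h1))).symm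
    have hKi : Inv φ K := by
      intro a x hx
      have hle : K ≤ K.comap (φ a).toMonoidHom := by
        refine sup_le (fun y hy => ?_) (fun y hy => ?_)
        · obtain ⟨g, hg⟩ := MulAction.exists_smul_eq G P (P.mapSurjective (f := (φ a).toMonoidHom) (φ a).surjective)
          have h1 : φ a y ∈ (P.mapSurjective (f := (φ a).toMonoidHom) (φ a).surjective : Sylow t G) :=
            ⟨y, hy, rfl⟩
          rw [← hg, ← SetLike.mem_coe, Sylow.coe_smul] at h1
          obtain ⟨z, hz, hzy⟩ := h1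
          show φ a y ∈ K
          rw [← hzy]
          exact hKn.conj_mem z (mem_sup_left hz) g
        · exact mem_sup_right (inv_of_characteristic (φ := φ) a y hy)
      exact hle hx
    haveI := hall K hKt hKi
    haveI hPn : (P : Subgroup G).Normal := by
      have h1 : ((P.subtype le_sup_left : Sylow t K) : Subgroup K).Normal :=
        (Group.isNilpotent_of_finite_tfae (G := K)).out 0 3 rfl rfl |>.1 inferInstance t inferInstance _
      haveI := Sylow.characteristic_of_normal _ h1
      have h2 := ConjAct.normal_of_characteristic_of_normal (H := K)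
        (K := ((P.subtype le_sup_left : Sylow t K) : Subgroup K))
      rwa [Sylow.coe_subtype, subgroupOf_map_subtype, inf_eq_left.2 (le_sup_left : (P : Subgroup G) ≤ K)] at h2
    haveI := P.characteristic_of_normal hPn
    exact ⟨t, P, ht, htG, hPn, inv_of_characteristic⟩

/-- The action form: solvability of odd order groups (in both universes) is a hypothesis. -/
theorem of_odd_solvable {A G : Type*} [Group A] [Group G] [Finite A] [Finite G] [MulDistribMulAction A G]
    (hftA : Odd (Nat.card A) → Group.IsSolvable A) (hftG : Odd (Nat.card G) → Group.IsSolvable G)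
    (hcop : (Nat.card A).Coprime (Nat.card G))
    (hmax : ∀ H : Subgroup G, H ≠ ⊤ → (∀ a : A, ∀ x ∈ H, a • x ∈ H) →
      (∀ K : Subgroup G, H < K → (∀ a : A, ∀ x ∈ K, a • x ∈ K) → K = ⊤) → Group.IsNilpotent H)
    (hG : ¬ Group.IsNilpotent G) :
    Group.IsSolvable G ∧
      (∃ p q a b : ℕ, p.Prime ∧ q.Prime ∧ p ≠ q ∧ Nat.card G = p ^ a * q ^ b) ∧
      ∃ (p : ℕ) (P : Sylow p G), p.Prime ∧ p ∣ Nat.card G ∧ (P : Subgroup G).Normal ∧
        (∀ a : A, ∀ x ∈ (P : Subgroup G), a • x ∈ (P : Subgroup G)) := by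
  have hs : Group.IsSolvable A ∨ Group.IsSolvable G := by
    rcases Nat.even_or_odd (Nat.card A) with h | h
    · refine Or.inr (hftG (Nat.not_even_iff_odd.1 fun hg => ?_))
      exact Nat.not_coprime_of_dvd_of_dvd (by norm_num : 1 < 2) h.two_dvd hg.two_dvd hcop
    · exact Or.inl (hftA h)
  have hall := allNilpotent_of_maximal (MulDistribMulAction.toMulAut A G) hmax
  haveI hsol := isSolvable _ hcop hs hall
  exact ⟨hsol, structure_of_not_nilpotent _ hcop hall hG⟩

end CfsgLib.FGS.NilpotentMaximal
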