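import Cfsg.Agent.Lib.Cores.Basic
import Cfsg.Agent.Lib.Cores.Coprime
import Cfsg.Agent.Lib.CharNormal.InvariantCount
import Mathlib.GroupTheory.PGroup

/-!
Solvable groups in which every element is real and all involutions are conjugate.
-/

set_option autoImplicit false
set_option linter.unusedSectionVars false
set_option linter.style.haveILetI false

namespace CfsgLib.FGS.Ambivalent

open Subgroup Cfsg

universe u

variable {G : Type u} [Group G] [Finite G]

/-- Centralisers in an abelian normal subgroup of a group transitive on `V^#` are trivial. -/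
theorem semiregular_of_transitive {V : Type u} [Group V] [Finite V] (hV : ∀ v : V, v * v = 1)
    {L : Type u} [Group L] [Finite L] [MulDistribMulAction L V] [FaithfulSMul L V]
    (htr : ∀ v w : V, v ≠ 1 → w ≠ 1 → ∃ l : L, l • v = w) (M : Subgroup L) [M.Normal]
    (hM : ∀ a ∈ M, ∀ b ∈ M, a * b = b * a) :
    ∀ x ∈ M, ∀ v : V, v ≠ 1 → x • v = v → x = 1 := by
  classical
  set S : V → Subgroup L := fun v => M ⊓ MulAction.stabilizer L v
  have hcard : ∀ v w : V, v ≠ 1 → w ≠ 1 → Nat.card (S v) = Nat.card (S w) := by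
    intro v w hv hw
    obtain ⟨l, rfl⟩ := htr v w hv hw
    have hmap : (S v).map (MulAut.conj l).toMonoidHom = S (l • v) := by
      ext a
      rw [mem_map_equiv, MulAut.conj_symm_apply]
      simp only [S, mem_inf, MulAction.mem_stabilizer_iff]
      refine and_congr ⟨fun h => ?_, fun h => ?_⟩ ⟨fun h => ?_, fun h => ?_⟩
      · simpa [mul_assoc] using (inferInstance : M.Normal).conj_mem _ h l
      · simpa [mul_assoc] using (inferInstance : M.Normal).conj_mem _ h l⁻¹
      · rw [mul_smul, mul_smul] at h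
        exact inv_smul_eq_iff.1 h
      · rw [mul_smul, mul_smul, h, inv_smul_smul]
    rw [← hmap, card_map_of_injective (MulAut.conj l).injective]
  have heq : ∀ v w : V, v ≠ 1 → w ≠ 1 → S v = S w := by
    intro v w hv hw
    by_cases hvw : v * w = 1
    · rw [mul_left_cancel (hvw.trans (hV v).symm)]
    by_cases hall : ∀ g ∈ S (v * w), g • v = v
    · have h1 : S (v * w) ≤ S v := fun g hg => ⟨hg.1, hall g hg⟩
      have h2 : S (v * w) ≤ S w := fun g hg => ⟨hg.1, by
        have h := (MulAction.mem_stabilizer_iff.1 hg.2)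
        rw [smul_mul', hall g hg] at h
        exact mul_left_cancel h⟩
      rw [← eq_of_le_of_card_ge h1 (hcard _ _ hv hvw).le, ← eq_of_le_of_card_ge h2 (hcard _ _ hw hvw).le]
    push Not at hall
    obtain ⟨g, hg, hgv⟩ := hall
    set d := v⁻¹ * g • v
    have hd : d ≠ 1 := fun e => hgv (inv_mul_eq_one.1 e).symm
    have hd2 : d = w * (g • w)⁻¹ := by
      have h := (MulAction.mem_stabilizer_iff.1 hg.2)
      rw [smul_mul'] at h
      show v⁻¹ * g • v = w * (g • w)⁻¹
      rw [eq_mul_inv_iff_mul_eq, mul_assoc, h, inv_mul_cancel_left]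
    have hfix : ∀ u : V, ∀ k ∈ S u, k • (g • u) = g • u := fun u k hk => by
      rw [← mul_smul, hM k hk.1 g hg.1, mul_smul, MulAction.mem_stabilizer_iff.1 hk.2]
    have h1 : S v ≤ S d := fun k hk => ⟨hk.1, by
      show k • (v⁻¹ * g • v) = v⁻¹ * g • v
      rw [smul_mul', smul_inv', MulAction.mem_stabilizer_iff.1 hk.2, hfix v k hk]⟩
    have h2 : S w ≤ S d := fun k hk => ⟨hk.1, by
      show k • d = d
      rw [hd2, smul_mul', smul_inv', MulAction.mem_stabilizer_iff.1 hk.2, hfix w k hk]⟩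
    rw [eq_of_le_of_card_ge h1 (hcard _ _ hd hv).le, eq_of_le_of_card_ge h2 (hcard _ _ hd hw).le]
  intro x hx v hv hxv
  refine eq_of_smul_eq_smul fun w : V => ?_
  by_cases hw : w = 1
  · rw [hw, smul_one, smul_one]
  · have h : x ∈ S w := heq v w hv hw ▸ (⟨hx, hxv⟩ : x ∈ S v)
    rw [one_smul]
    exact h.2

theorem conj_mul_mem (V : Subgroup G) [hVn : V.Normal] (y : G) (hy : y ∈ V) (x : G) :
    x * y * x⁻¹ * y⁻¹ ∈ V := mul_mem (hVn.conj_mem y hy x) (inv_mem hy)

/-- With trivial odd core there is only one involution. -/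
theorem involution_unique [Group.IsSolvable G] (hamb : ∀ x : G, IsConj x x⁻¹)
    (hone : ∀ s t : G, orderOf s = 2 → orderOf t = 2 → IsConj s t) (hO : oddCore G = ⊥) :
    ∀ s t : G, orderOf s = 2 → orderOf t = 2 → s = t := by
  classical
  intro s t hs ht
  haveI : Fact (Nat.Prime 2) := ⟨Nat.prime_two⟩
  haveI : Nontrivial G := ⟨s, 1, fun e => by rw [e, orderOf_one] at hs; omega⟩
  -- the involutions form, with the identity, a normal subgroup
  obtain ⟨p, T, hp, hTn, hT1, hTp⟩ := CfsgLib.CharNormal.exists_normal_pGroup (S := G) inferInstance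
  haveI := hTn
  haveI : Fact p.Prime := ⟨hp⟩
  haveI : Nontrivial T := T.nontrivial_iff_ne_bot.2 hT1
  have hp2 : p = 2 := by
    by_contra hne
    refine hT1 (le_bot_iff.1 (hO ▸ CfsgLib.Cores.le_oddCore_of_odd ?_))
    obtain ⟨k, hk⟩ := IsPGroup.iff_card.1 hTp
    rw [hk]
    exact (hp.odd_of_ne_two hne).pow
  subst hp2
  let V : Subgroup G :=
    { carrier := {x | x ∈ (center T).map T.subtype ∧ x * x = 1}
      one_mem' := ⟨one_mem _, one_mul 1⟩
      mul_mem' := by
        rintro a b ⟨ha, ha2⟩ ⟨hb, hb2⟩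
        refine ⟨mul_mem ha hb, ?_⟩
        obtain ⟨a', ha', rfl⟩ := ha
        obtain ⟨b', -, rfl⟩ := hb
        have hc : Commute (T.subtype b') (T.subtype a') :=
          (show Commute b' a' from mem_center_iff.1 ha' b').map T.subtype
        calc T.subtype a' * T.subtype b' * (T.subtype a' * T.subtype b')
            = T.subtype a' * (T.subtype b' * T.subtype a') * T.subtype b' := by group
          _ = T.subtype a' * T.subtype a' * (T.subtype b' * T.subtype b') := by rw [hc.eq]; group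
          _ = 1 := by rw [ha2, hb2, one_mul]
      inv_mem' := by
        rintro a ⟨ha, ha2⟩
        exact ⟨inv_mem ha, by rw [← mul_inv_rev, ha2, inv_one]⟩ }
  haveI hVn : V.Normal := ⟨fun x hx g => by
    refine ⟨?_, by rw [show g * x * g⁻¹ * (g * x * g⁻¹) = g * (x * x) * g⁻¹ by group, hx.2, mul_one, mul_inv_cancel]⟩
    exact (inferInstance : ((center T).map T.subtype).Normal).conj_mem x hx.1 g⟩
  have hinv : ∀ x : G, orderOf x = 2 → x ∈ V := by
    intro x hx
    haveI : Nontrivial (center T) := hTp.center_nontrivial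
    obtain ⟨z, hz⟩ := exists_prime_orderOf_dvd_card' (G := center T) 2 (by
      obtain ⟨k, hk⟩ := IsPGroup.iff_card.1 (hTp.to_subgroup (center T))
      have h1 := Finite.one_lt_card (α := center T)
      rcases k with _ | k
      · rw [hk, pow_zero] at h1; omega
      · rw [hk]; exact dvd_pow_self 2 (Nat.succ_ne_zero k))
    have hzo : orderOf ((z : T) : G) = 2 := by rw [Subgroup.orderOf_coe, Subgroup.orderOf_coe, hz]
    have hzV : ((z : T) : G) ∈ V := ⟨⟨z, z.2, rfl⟩, by
      rw [← sq, orderOf_dvd_iff_pow_eq_one.1 hzo.dvd]⟩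
    obtain ⟨g, hg⟩ := isConj_iff.1 (hone _ x hzo hx)
    exact hg ▸ hVn.conj_mem _ hzV g
  by_contra hst
  have hord : ∀ v : G, v ∈ V → v ≠ 1 → orderOf v = 2 := fun v hv h1 =>
    orderOf_eq_prime (by rw [sq]; exact hv.2) h1
  -- the induced group
  set ρ : G →* MulAut V := MulAut.conjNormal
  have hρ : ∀ (g : G) (v : V), ((ρ g) v : G) = g * v * g⁻¹ := fun g v => MulAut.conjNormal_apply g v
  set L := ρ.range with hL
  have hVsq : ∀ v : V, v * v = 1 := fun v => Subtype.ext v.2.2
  have htr : ∀ v w : V, v ≠ 1 → w ≠ 1 → ∃ l : L, l • v = w := fun v w hv hw => by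
    obtain ⟨g, hg⟩ := isConj_iff.1 (hone (v : G) w (hord _ v.2 fun e => hv (Subtype.ext e))
      (hord _ w.2 fun e => hw (Subtype.ext e)))
    exact ⟨⟨ρ g, g, rfl⟩, Subtype.ext ((hρ g v).trans hg)⟩
  haveI : Nontrivial L := by
    by_contra h
    rw [not_nontrivial_iff_subsingleton] at h
    obtain ⟨l, hl⟩ := htr ⟨s, hinv s hs⟩ ⟨t, hinv t ht⟩ (fun e => by
      rw [show s = 1 from congrArg Subtype.val e, orderOf_one] at hs; omega) (fun e => by
      rw [show t = 1 from congrArg Subtype.val e, orderOf_one] at ht; omega)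
    rw [Subsingleton.elim l 1, one_smul] at hl
    exact hst (congrArg Subtype.val hl)
  haveI : Group.IsSolvable L := Group.isSolvable_of_surjective (f := ρ.rangeRestrict) ρ.rangeRestrict_surjective
  obtain ⟨r, U, hr, hUn, hU1, hUr⟩ := CfsgLib.CharNormal.exists_normal_pGroup (S := L) inferInstance
  haveI := hUn
  haveI : Fact r.Prime := ⟨hr⟩
  haveI : Nontrivial U := U.nontrivial_iff_ne_bot.2 hU1
  have hr2 : r ≠ 2 := by
    intro e
    subst e
    have hdvd : 2 ∣ Nat.card V := by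
      have h := V.orderOf_dvd_natCard (hinv s hs)
      rwa [hs] at h
    obtain ⟨v, hv, hv1⟩ := hUr.exists_fixed_point_of_prime_dvd_card_of_fixed_point V hdvd
      (a := 1) (fun g => smul_one g)
    refine hU1 ((eq_bot_iff_forall _).2 fun l hl => eq_of_smul_eq_smul fun w : V => ?_)
    rw [one_smul]
    by_cases hw : w = 1
    · rw [hw, smul_one]
    obtain ⟨g, rfl⟩ := htr v w (fun e => hv1 e.symm) hw
    have hm : g⁻¹ * l * g ∈ U := by simpa [mul_assoc] using hUn.conj_mem l hl g⁻¹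
    have hf : (g⁻¹ * l * g) • v = v := hv ⟨_, hm⟩
    rw [mul_smul, mul_smul, inv_smul_eq_iff] at hf
    exact hf
  set M := (center U).map U.subtype
  haveI : M.Normal := inferInstance
  haveI : Nontrivial (center U) := hUr.center_nontrivial
  have hMc : ∀ a ∈ M, ∀ b ∈ M, a * b = b * a := by
    rintro _ ⟨a, ha, rfl⟩ _ ⟨b, -, rfl⟩
    exact congrArg U.subtype (mem_center_iff.1 ha b).symm
  obtain ⟨z, hz⟩ := exists_prime_orderOf_dvd_card' (G := center U) r (by
    obtain ⟨k, hk⟩ := IsPGroup.iff_card.1 (hUr.to_subgroup (center U))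
    have h1 := Finite.one_lt_card (α := center U)
    rcases k with _ | k
    · rw [hk, pow_zero] at h1; omega
    · rw [hk]; exact dvd_pow_self r (Nat.succ_ne_zero k))
  have hfpf := semiregular_of_transitive hVsq htr M hMc
  have hzM : ((z : U) : L) ∈ M := ⟨z, z.2, rfl⟩
  have hzo : orderOf ((z : U) : L) = r := by rw [Subgroup.orderOf_coe, Subgroup.orderOf_coe, hz]
  obtain ⟨g, hg⟩ := ((z : U) : L).2
  obtain ⟨x, b, hxb, hx, hb, ⟨k, hk⟩, hbr⟩ := CfsgLib.Cores.exists_pow_mul_pow r g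
  have hρb : ρ b = 1 := by
    obtain ⟨i, rfl⟩ := hb
    rw [← orderOf_eq_one_iff]
    refine Nat.eq_one_of_dvd_coprimes hbr (orderOf_map_dvd _ _) ?_
    rw [map_zpow, hg, ← hzo, ← Subgroup.orderOf_coe ((z : U) : L)]
    exact orderOf_dvd_of_mem_zpowers ⟨i, rfl⟩
  have hρx : ρ x = (((z : U) : L) : MulAut V) := by
    rw [← hg, hxb, map_mul, hρb, mul_one]
  have hxfix : ∀ v : G, v ∈ V → orderOf v = 2 → ¬ Commute x v := by
    intro v hv hv2 hc
    have h := hfpf _ hzM ⟨v, hv⟩ (fun e => by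
      rw [show v = 1 from congrArg Subtype.val e, orderOf_one] at hv2; omega) (Subtype.ext ?_)
    · rw [h, orderOf_one] at hzo
      exact hr.ne_one hzo.symm
    · show (((((z : U) : L) : MulAut V) ⟨v, hv⟩ : V) : G) = v
      rw [← hρx, hρ, hc.eq, mul_inv_cancel_right]
  -- invert `x` by a 2-element
  obtain ⟨c, hc⟩ := isConj_iff.1 (hamb x)
  obtain ⟨y, w, hyw, hy, hw, ⟨l, hl⟩, hw2⟩ := CfsgLib.Cores.exists_pow_mul_pow 2 c
  have hwx : Commute w x := by
    have h2 : Commute (c ^ 2) x := by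
      show c ^ 2 * x = x * c ^ 2
      refine mul_inv_eq_iff_eq_mul.1 ?_
      calc c ^ 2 * x * (c ^ 2)⁻¹ = c * (c * x * c⁻¹) * c⁻¹ := by rw [sq]; group
        _ = c * x⁻¹ * c⁻¹ := by rw [hc]
        _ = (c * x * c⁻¹)⁻¹ := by group
        _ = x := by rw [hc, inv_inv]
    obtain ⟨j, hj⟩ := exists_pow_eq_self_of_coprime (x := w) (n := 2) hw2.symm
    rw [← hj]
    obtain ⟨i, rfl⟩ := hw
    rw [show ((c ^ i) ^ 2) ^ j = ((c ^ 2) ^ i) ^ j from by
      rw [← zpow_natCast (c ^ i), ← zpow_mul, mul_comm, zpow_mul, zpow_natCast]]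
    exact (h2.zpow_left i).pow_left j
  have hyx : y * x * y⁻¹ = x⁻¹ := by
    rw [← hc, hyw]
    calc y * x * y⁻¹ = y * (w * x * w⁻¹) * y⁻¹ := by rw [hwx.eq, mul_inv_cancel_right]
      _ = _ := by group
  have hox : (orderOf x).Coprime 2 := by
    rw [hk]; exact ((Nat.coprime_primes hr Nat.prime_two).2 hr2).pow_left k
  have hxsq : x * x ≠ 1 := fun e => by
    have h := orderOf_dvd_of_pow_eq_one (x := x) (n := 2) (by rw [sq]; exact e)
    have h1 := Nat.eq_one_of_dvd_coprimes hox dvd_rfl h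
    rw [orderOf_eq_one_iff] at h1
    exact hxfix s (hinv s hs) hs (h1 ▸ Commute.one_left s)
  rcases l with _ | _ | l
  · rw [pow_zero, orderOf_eq_one_iff] at hl
    rw [hl, one_mul, inv_one, mul_one] at hyx
    exact hxsq (mul_eq_one_iff_eq_inv.2 hyx)
  · have hyV : y ∈ V := hinv y (by simpa using hl)
    have h1 : x * y * x⁻¹ * y⁻¹ ∈ V := conj_mul_mem V y hyV x
    have h2 : x * y * x⁻¹ * y⁻¹ = x * x := by
      calc x * y * x⁻¹ * y⁻¹ = x * (y * x * y⁻¹)⁻¹ := by group
        _ = _ := by rw [hyx, inv_inv]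
    rw [h2] at h1
    have h3 : orderOf (x * x) = 1 := Nat.eq_one_of_dvd_coprimes hox
      ((by rw [← sq]; exact orderOf_pow_dvd 2 : orderOf (x * x) ∣ orderOf x))
      (orderOf_dvd_of_pow_eq_one (by rw [sq]; exact h1.2))
    exact hxsq (orderOf_eq_one_iff.1 h3)
  · have hu : orderOf (y ^ 2 ^ (l + 1)) = 2 := by
      rw [orderOf_pow' y (pow_ne_zero _ two_ne_zero), hl, Nat.gcd_eq_right (pow_dvd_pow 2 (by omega)),
        Nat.pow_div (by omega) two_pos, show l + 1 + 1 - (l + 1) = 1 by omega, pow_one]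
    refine hxfix _ (hinv _ hu) hu ?_
    have h2 : Commute (y ^ 2) x := by
      refine mul_inv_eq_iff_eq_mul.1 ?_
      calc y ^ 2 * x * (y ^ 2)⁻¹ = y * (y * x * y⁻¹) * y⁻¹ := by rw [sq]; group
        _ = y * x⁻¹ * y⁻¹ := by rw [hyx]
        _ = (y * x * y⁻¹)⁻¹ := by group
        _ = x := by rw [hyx, inv_inv]
    rw [pow_succ', pow_mul]
    exact (h2.pow_left _).symm

end CfsgLib.FGS.Ambivalent
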