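import Cfsg.Agent.Lib.FGS.PrimePowerOrbits
import Cfsg.Agent.Lib.Char.PrimePowerClass
import Cfsg.Agent.Lib.Local.CharP

/-!
# Groups whose `q`-elements have classes of prime power size

Structure of a finite group in which every element of `q`-power order has a conjugacy class of prime
power size: `q`-length one, the nonabelian and abelian Sylow cases, one prime for all classes.
-/

set_option autoImplicit false
set_option linter.style.haveILetI false

open Subgroup Cfsg

namespace Cfsg.Agent.BaerQ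

universe u

variable {G : Type u} [Group G] [Finite G]

/-- The hypothesis. -/
def IsBaer (q : ℕ) (G : Type u) [Group G] : Prop :=
  ∀ x : G, (∃ k : ℕ, orderOf x = q ^ k) → ∃ (r : ℕ) (a : ℕ), r.Prime ∧
    (centralizer ({x} : Set G)).index = r ^ a

theorem index_conj (g x : G) :
    (centralizer ({g * x * g⁻¹} : Set G)).index = (centralizer ({x} : Set G)).index := by
  have h : centralizer ({g * x * g⁻¹} : Set G) =
      (centralizer ({x} : Set G)).map (MulAut.conj g).toMonoidHom := by
    ext y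
    constructor
    · intro hy
      rw [mem_centralizer_singleton_iff] at hy
      refine ⟨g⁻¹ * y * g, mem_centralizer_singleton_iff.2 ?_, ?_⟩
      · calc g⁻¹ * y * g * x = g⁻¹ * (y * (g * x * g⁻¹)) * g := by group
          _ = g⁻¹ * ((g * x * g⁻¹) * y) * g := by rw [hy]
          _ = _ := by group
      · show g * (g⁻¹ * y * g) * g⁻¹ = y
        group
    · rintro ⟨z, hz, rfl⟩
      rw [mem_centralizer_singleton_iff]
      show g * z * g⁻¹ * (g * x * g⁻¹) = g * x * g⁻¹ * (g * z * g⁻¹)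
      calc g * z * g⁻¹ * (g * x * g⁻¹) = g * (z * x) * g⁻¹ := by group
        _ = g * (x * z) * g⁻¹ := by rw [mem_centralizer_singleton_iff.1 hz]
        _ = _ := by group
  rw [h, index_map_of_bijective (f := (MulAut.conj g).toMonoidHom) (MulAut.conj g).bijective]

theorem orderOf_of_mem {q : ℕ} [Fact q.Prime] (Q : Sylow q G) {x : G} (hx : x ∈ (Q : Subgroup G)) :
    ∃ k : ℕ, orderOf x = q ^ k := by
  obtain ⟨k, hk⟩ := IsPGroup.iff_orderOf.1 Q.isPGroup' ⟨x, hx⟩
  exact ⟨k, by rwa [orderOf_mk] at hk⟩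

theorem exists_conj_mem {q : ℕ} [Fact q.Prime] (Q : Sylow q G) {x : G} {k : ℕ}
    (hx : orderOf x = q ^ k) : ∃ g : G, g * x * g⁻¹ ∈ (Q : Subgroup G) := by
  obtain ⟨R, hR⟩ := (IsPGroup.of_card (G := zpowers x) (p := q) (n := k)
    (by rw [Nat.card_zpowers, hx])).exists_le_sylow
  obtain ⟨g, hg⟩ := MulAction.exists_smul_eq G R Q
  refine ⟨g, ?_⟩
  rw [← hg, Sylow.coe_subgroup_smul, mem_smul_pointwise_iff_exists]
  exact ⟨x, hR (mem_zpowers x), rfl⟩

/-- A class size prime to `r` means that the centraliser contains a Sylow `r`-subgroup. -/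
theorem exists_sylow_le {r : ℕ} [hr : Fact r.Prime] (C : Subgroup G) (hC : ¬ r ∣ C.index) :
    ∃ T : Sylow r G, (T : Subgroup G) ≤ C := by
  obtain ⟨S⟩ : Nonempty (Sylow r C) := inferInstance
  obtain ⟨T, hT⟩ := (S.2.map C.subtype).exists_le_sylow
  refine ⟨T, (eq_of_le_of_card_ge hT ?_).ge.trans (map_subtype_le _)⟩
  rw [card_map_of_injective (subtype_injective _), Sylow.card_eq_multiplicity,
    Sylow.card_eq_multiplicity, ← C.card_mul_index,
    Nat.factorization_mul Nat.card_pos.ne' index_ne_zero_of_finite, Finsupp.coe_add, Pi.add_apply,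
    Nat.factorization_eq_zero_of_not_dvd hC, add_zero]

theorem not_dvd_pow {r q : ℕ} (hr : r.Prime) (hq : q.Prime) (hrq : q ≠ r) (a : ℕ) : ¬ q ∣ r ^ a :=
  fun h => hrq ((Nat.prime_dvd_prime_iff_eq hq hr).1 (hq.dvd_of_dvd_pow h))

variable {q : ℕ} [hq : Fact q.Prime]

/-- With trivial `q'`-core the `q`-core contains the image of each `q`-element. -/
theorem mk_mem_pCore (hB : IsBaer q G) {x : G} (hx : ∃ k : ℕ, orderOf x = q ^ k) :
    QuotientGroup.mk' (pPrimeCore q G) x ∈ pCore q (G ⧸ pPrimeCore q G) := by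
  set π := QuotientGroup.mk' (pPrimeCore q G) with hπ
  obtain ⟨k, hk⟩ := hx
  obtain ⟨r, a, hr, ha⟩ := hB x ⟨k, hk⟩
  have hcle : (centralizer ({x} : Set G)).map π ≤ centralizer ({π x} : Set (G ⧸ pPrimeCore q G)) := by
    rintro _ ⟨g, hg, rfl⟩
    rw [mem_centralizer_singleton_iff, ← map_mul, ← map_mul, mem_centralizer_singleton_iff.1 hg]
  have hdvd : (centralizer ({π x} : Set (G ⧸ pPrimeCore q G))).index ∣ r ^ a :=
    ha ▸ (index_dvd_of_le hcle).trans (index_map_dvd _ (QuotientGroup.mk'_surjective _))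
  obtain ⟨j, -, hj⟩ := (Nat.dvd_prime_pow hq.out).1 (hk ▸ orderOf_map_dvd π x)
  by_cases hrq : r = q
  · subst hrq
    obtain ⟨b, -, hb⟩ := (Nat.dvd_prime_pow hr).1 hdvd
    exact CfsgLib.PrimePowerClass.mem_pCore (π x) hj hb
  obtain ⟨R, hRn, hRs, hR⟩ := CfsgLib.PrimePowerClass.exists_radical G
  haveI := hRn
  set R' := R.map π with hR'
  haveI : R'.Normal := hRn.map π (QuotientGroup.mk'_surjective _)
  haveI := hRs
  haveI : Group.IsSolvable R' :=
    Group.isSolvable_of_surjective (f := π.subgroupMap R) (π.subgroupMap_surjective R)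
  have hxR : π x ∈ R' := ⟨x, CfsgLib.PrimePowerClass.mem_radical hr x ⟨a, ha⟩ R hRs hR, rfl⟩
  obtain ⟨T, hT⟩ := exists_sylow_le (r := q) (centralizer ({π x} : Set (G ⧸ pPrimeCore q G)))
    fun h => not_dvd_pow hr hq.out (Ne.symm hrq) a (h.trans hdvd)
  have hO : (pCore q R').map R'.subtype ≤ pCore q (G ⧸ pPrimeCore q G) :=
    CfsgLib.Cores.map_subtype_pCore_le_of_normal q R'
  have hcore : pPrimeCore q R' = ⊥ :=
    CfsgLib.Local.pPrimeCore_eq_bot_of_isSubnormal (Subgroup.Normal.isSubnormal inferInstance)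
      (CfsgLib.Cores.pPrimeCore_quotient_self q)
  have hcen : (⟨π x, hxR⟩ : R') ∈ centralizer (pCore q R' : Set R') := by
    refine mem_centralizer_iff.2 fun o ho => Subtype.ext ?_
    exact mem_centralizer_singleton_iff.1
      (hT ((CfsgLib.Cores.pCore_le_sylow T) (hO ⟨o, ho, rfl⟩)))
  exact hO ⟨_, CfsgLib.Solvable.centralizer_pCore_le q hcore hcen, rfl⟩

/-- The Sylow subgroup of `G/O_{q'}(G)` is normal. -/
theorem map_sylow_eq_pCore (hB : IsBaer q G) (Q : Sylow q G) :
    (Q : Subgroup G).map (QuotientGroup.mk' (pPrimeCore q G)) = pCore q (G ⧸ pPrimeCore q G) :=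
  ((Q.mapSurjective (QuotientGroup.mk'_surjective _)).3 (CfsgLib.Cores.isPGroup_pCore q)
    (by rintro _ ⟨x, hx, rfl⟩; exact mk_mem_pCore hB (orderOf_of_mem Q hx))).symm

theorem qLength_one (hB : IsBaer q G) (Q : Sylow q G) :
    ∃ K L : Subgroup G, K.Normal ∧ L.Normal ∧ K ≤ L ∧ (Nat.card K).Coprime q ∧
      (∃ m : ℕ, K.relIndex L = q ^ m) ∧ L.index.Coprime q := by
  set π := QuotientGroup.mk' (pPrimeCore q G) with hπ
  refine ⟨pPrimeCore q G, (pCore q (G ⧸ pPrimeCore q G)).comap π, inferInstance, inferInstance, ?_,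
    CfsgLib.Cores.coprime_card_pPrimeCore q, ?_, ?_⟩
  · exact (QuotientGroup.ker_mk' _).ge.trans (MonoidHom.ker_le_comap _ _)
  · obtain ⟨m, hm⟩ := CfsgLib.Cores.card_pCore_eq_pow (G := G ⧸ pPrimeCore q G) q
    refine ⟨m, ?_⟩
    conv_lhs => arg 1; rw [← QuotientGroup.ker_mk' (pPrimeCore q G), ← hπ]
    rw [relIndex_ker, map_comap_eq_self_of_surjective (QuotientGroup.mk'_surjective _), hm]
  · rw [CfsgLib.Cores.coprime_iff_not_dvd hq.out]
    intro h
    refine Q.not_dvd_index (h.trans (index_dvd_of_le fun x hx => ?_))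
    exact mk_mem_pCore hB (orderOf_of_mem Q hx)

theorem injOn_sylow (Q : Sylow q G) {x y : G} (hx : x ∈ (Q : Subgroup G)) (hy : y ∈ (Q : Subgroup G))
    (h : (QuotientGroup.mk' (pPrimeCore q G)) x = QuotientGroup.mk' (pPrimeCore q G) y) : x = y := by
  have h1 : x⁻¹ * y ∈ pPrimeCore q G := QuotientGroup.eq.1 h
  obtain ⟨k, hk⟩ := orderOf_of_mem Q (mul_mem (inv_mem hx) hy)
  have h2 : orderOf (x⁻¹ * y) ∣ Nat.card (pPrimeCore q G) := orderOf_dvd_natCard _ h1
  exact inv_mul_eq_one.1 (orderOf_eq_one_iff.1 (Nat.eq_one_of_dvd_coprimes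
    ((CfsgLib.Cores.coprime_card_pPrimeCore q).pow_right k) h2 hk.dvd))

/-! ### The nonabelian case -/

theorem index_eq_pow_of_not_center (hB : IsBaer q G) (Q : Sylow q G) {x y : G}
    (hx : x ∈ (Q : Subgroup G)) (hy : y ∈ (Q : Subgroup G)) (hxy : x * y ≠ y * x) :
    ∃ a : ℕ, (centralizer ({x} : Set G)).index = q ^ a := by
  obtain ⟨r, a, hr, ha⟩ := hB x (orderOf_of_mem Q hx)
  by_contra hno
  push Not at hno
  have hrq : q ≠ r := fun e => hno a (e ▸ ha)
  set π := QuotientGroup.mk' (pPrimeCore q G) with hπ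
  obtain ⟨T, hT⟩ := exists_sylow_le (r := q) (centralizer ({x} : Set G))
    (ha ▸ not_dvd_pow hr hq.out hrq a)
  have h1 : π y ∈ (T : Subgroup G).map π := by
    rw [map_sylow_eq_pCore hB T, ← map_sylow_eq_pCore hB Q]
    exact ⟨y, hy, rfl⟩
  obtain ⟨t, ht, hte⟩ := h1
  refine hxy (injOn_sylow Q (mul_mem hx hy) (mul_mem hy hx) ?_)
  rw [map_mul, map_mul, ← hte, ← map_mul, ← map_mul, mem_centralizer_singleton_iff.1 (hT ht)]

theorem nonabelian (hB : IsBaer q G) (Q : Sylow q G)
    (hne : ¬ ∀ a ∈ (Q : Subgroup G), ∀ b ∈ (Q : Subgroup G), a * b = b * a) :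
    (Q : Subgroup G).Normal ∧ ∀ r : ℕ, r.Prime → r ≠ q → ∀ R : Sylow r G,
      (R : Subgroup G) ≤ centralizer ((Q : Subgroup G) : Set G) := by
  have hpre : ∀ x ∈ (Q : Subgroup G), x ∈ pCore q G := by
    intro x hx
    push Not at hne
    obtain ⟨a, ha, b, hb, hab⟩ := hne
    have key : ∀ z ∈ (Q : Subgroup G), (∃ w ∈ (Q : Subgroup G), z * w ≠ w * z) → z ∈ pCore q G := by
      rintro z hz ⟨w, hw, hzw⟩
      obtain ⟨j, hj⟩ := orderOf_of_mem Q hz
      obtain ⟨c, hc⟩ := index_eq_pow_of_not_center hB Q hz hw hzw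
      exact CfsgLib.PrimePowerClass.mem_pCore z hj hc
    by_cases hc : ∃ w ∈ (Q : Subgroup G), x * w ≠ w * x
    · exact key x hx hc
    push Not at hc
    have h1 := key a ha ⟨b, hb, hab⟩
    have h2 : a * x ∈ pCore q G := key _ (mul_mem ha hx) ⟨b, hb, fun e => hab (mul_right_cancel
      (b := x) (by rw [mul_assoc, ← hc b hb, ← mul_assoc, e, mul_assoc]))⟩
    have := mul_mem (inv_mem h1) h2
    rwa [inv_mul_cancel_left] at this
  have hQeq : (Q : Subgroup G) = pCore q G :=
    le_antisymm hpre (CfsgLib.Cores.pCore_le_sylow Q)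
  have hn : (Q : Subgroup G).Normal := hQeq ▸ inferInstance
  refine ⟨hn, fun r hr hrq R => ?_⟩
  haveI := Fact.mk hr
  haveI := hn
  -- the fixed points of `R` on `Q`
  set D : Subgroup G := (Q : Subgroup G) ⊓ centralizer (R : Set G) with hD
  set Z : Subgroup G := (Q : Subgroup G) ⊓ centralizer ((Q : Subgroup G) : Set G) with hZ
  have hconj : ∀ z ∈ (Q : Subgroup G), z ∈ Z ∨ ∃ s ∈ (Q : Subgroup G), s⁻¹ * z * s ∈ D := by
    intro z hz
    by_cases hzc : ∀ w ∈ (Q : Subgroup G), w * z = z * w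
    · exact Or.inl (mem_inf.2 ⟨hz, mem_centralizer_iff.2 hzc⟩)
    push Not at hzc
    obtain ⟨w, hw, hzw⟩ := hzc
    refine Or.inr ?_
    obtain ⟨c, hc⟩ := index_eq_pow_of_not_center hB Q hz hw (Ne.symm hzw)
    obtain ⟨T, hT⟩ := exists_sylow_le (r := r) (centralizer ({z} : Set G))
      (hc ▸ not_dvd_pow hq.out hr hrq c)
    obtain ⟨g, hg⟩ := MulAction.exists_smul_eq G R T
    obtain ⟨e, he, s, hs, rfl⟩ := CfsgLib.Solvable.mul_of_coprime_index
      (H := centralizer ({z} : Set G)) (K := (Q : Subgroup G)) (by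
        rw [hc]; exact Nat.Coprime.pow_left _ (hq.out.coprime_iff_not_dvd.2 Q.not_dvd_index)) g
    refine ⟨s, hs, mem_inf.2 ⟨mul_mem (mul_mem (inv_mem hs) hz) hs,
      mem_centralizer_iff.2 fun u hu => ?_⟩⟩
    have h1 : (e * s) * u * (e * s)⁻¹ ∈ centralizer ({z} : Set G) := hT (by
      rw [← hg, Sylow.coe_subgroup_smul, mem_smul_pointwise_iff_exists]
      exact ⟨u, hu, rfl⟩)
    have h2 : s * u * s⁻¹ ∈ centralizer ({z} : Set G) := by
      have := mul_mem (mul_mem (inv_mem he) h1) he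
      rwa [show e⁻¹ * (e * s * u * (e * s)⁻¹) * e = s * u * s⁻¹ by group] at this
    have h3 := mem_centralizer_singleton_iff.1 h2
    calc u * (s⁻¹ * z * s) = s⁻¹ * (s * u * s⁻¹ * z) * s := by group
      _ = s⁻¹ * (z * (s * u * s⁻¹)) * s := by rw [h3]
      _ = _ := by group
  -- `D ⊔ Z` is the whole of `Q`
  have hDZ : (Q : Subgroup G) ≤ D ⊔ Z := by
    intro z hz
    by_contra hnot
    have hle : D ⊔ Z ≤ (Q : Subgroup G) := sup_le inf_le_left inf_le_left
    have hne : (D ⊔ Z).subgroupOf (Q : Subgroup G) ≠ ⊤ := fun e =>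
      hnot (subgroupOf_eq_top.1 e hz)
    obtain ⟨M, hM, hDM⟩ := (eq_top_or_exists_le_coatom _).resolve_left hne
    haveI : Group.IsNilpotent (Q : Subgroup G) := Q.isPGroup'.isNilpotent
    have hMn : M.Normal := Group.normalizerCondition_of_isNilpotent.normal_of_coatom M hM
    refine hM.1 (top_le_iff.1 fun w _ => ?_)
    rcases hconj w w.2 with h | ⟨s, hs, h⟩
    · exact hDM ((le_sup_right : Z ≤ D ⊔ Z) h)
    · have h1 : (⟨s, hs⟩⁻¹ * w * ⟨s, hs⟩ : (Q : Subgroup G)) ∈ M :=
        hDM ((le_sup_left : D ≤ D ⊔ Z) h)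
      have := hMn.conj_mem _ h1 ⟨s, hs⟩
      rwa [show (⟨s, hs⟩ : (Q : Subgroup G)) * (⟨s, hs⟩⁻¹ * w * ⟨s, hs⟩) * ⟨s, hs⟩⁻¹ = w by group]
        at this
  have hZc : ∀ w ∈ Z, ∀ v ∈ (Q : Subgroup G), v * w = w * v := fun w hw v hv =>
    mem_centralizer_iff.1 (mem_inf.1 hw).2 v hv
  have hDn : ∀ s ∈ (Q : Subgroup G), ∀ d ∈ D, s * d * s⁻¹ ∈ D := by
    have hle : D ⊔ Z ≤ normalizer (D : Set G) :=
      sup_le le_normalizer fun w hw => by
        rw [mem_normalizer_iff]
        intro v
        constructor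
        · intro hv
          rwa [← hZc w hw v (mem_inf.1 hv).1, mul_inv_cancel_right]
        · intro hv
          have hvQ : v ∈ (Q : Subgroup G) := by
            have := mul_mem (mul_mem (inv_mem (mem_inf.1 hw).1) (mem_inf.1 hv).1) (mem_inf.1 hw).1
            rwa [show w⁻¹ * (w * v * w⁻¹) * w = v by group] at this
          rwa [← hZc w hw v hvQ, mul_inv_cancel_right] at hv
    intro s hs d hd
    exact (mem_normalizer_iff.1 (hle (hDZ hs)) d).1 hd
  have hall : ∀ z ∈ (Q : Subgroup G), z ∈ D := by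
    have key : ∀ z ∈ (Q : Subgroup G), z ∉ Z → z ∈ D := by
      intro z hz hzZ
      obtain ⟨s, hs, h⟩ := (hconj z hz).resolve_left hzZ
      have := hDn s hs _ h
      rwa [show s * (s⁻¹ * z * s) * s⁻¹ = z by group] at this
    intro z hz
    by_cases hzZ : z ∈ Z
    · push Not at hne
      obtain ⟨a, ha, b, hb, hab⟩ := hne
      have haZ : a ∉ Z := fun h => hab (hZc a h b hb).symm
      have h2 : a * z ∉ Z := fun h => haZ (by
        have := mul_mem h (inv_mem hzZ); rwa [mul_inv_cancel_right] at this)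
      have := mul_mem (inv_mem (key a ha haZ)) (key _ (mul_mem ha hz) h2)
      rwa [inv_mul_cancel_left] at this
    · exact key z hz hzZ
  intro u hu
  exact mem_centralizer_iff.2 fun x hx => (mem_centralizer_iff.1 (mem_inf.1 (hall x hx)).2 u hu).symm

/-- A normal Sylow subgroup centralised by the other Sylow subgroups is a direct factor. -/
theorem direct_factor (Q : Sylow q G) [hn : (Q : Subgroup G).Normal]
    (hR : ∀ r : ℕ, r.Prime → r ≠ q → ∀ R : Sylow r G,
      (R : Subgroup G) ≤ centralizer ((Q : Subgroup G) : Set G)) :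
    (∀ x ∈ (Q : Subgroup G), ∃ a : ℕ, (centralizer ({x} : Set G)).index = q ^ a) ∧
      ∃ N : Subgroup G, N.Normal ∧ N.IsComplement' (Q : Subgroup G) := by
  set C := centralizer ((Q : Subgroup G) : Set G) with hC
  obtain ⟨m, hm⟩ : ∃ m, C.index = q ^ m := by
    refine ⟨_, Nat.eq_prime_pow_of_unique_prime_dvd index_ne_zero_of_finite fun {r} hr hd => ?_⟩
    by_contra hrq
    haveI := Fact.mk hr
    obtain ⟨R⟩ : Nonempty (Sylow r G) := inferInstance
    exact R.not_dvd_index (hd.trans (index_dvd_of_le (hR r hr hrq R)))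
  refine ⟨fun x hx => ?_, ?_⟩
  · obtain ⟨a, -, ha⟩ := (Nat.dvd_prime_pow hq.out).1 (hm ▸ index_dvd_of_le
      (show C ≤ centralizer ({x} : Set G) from fun u hu =>
        mem_centralizer_singleton_iff.2 (mem_centralizer_iff.1 hu x hx).symm))
    exact ⟨a, ha⟩
  obtain ⟨e, he⟩ := IsPGroup.iff_card.1 Q.isPGroup'
  have hqi : q.Coprime (Q : Subgroup G).index := hq.out.coprime_iff_not_dvd.2 Q.not_dvd_index
  obtain ⟨H, hH⟩ := exists_right_complement'_of_coprime (N := (Q : Subgroup G))
    (by rw [he]; exact hqi.pow_left e)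
  haveI : C.Normal := inferInstance
  have hHC : H ≤ C := fun h hh => by
    refine (QuotientGroup.eq_one_iff h).1 (orderOf_eq_one_iff.1 ?_)
    refine Nat.eq_one_of_dvd_coprimes (hqi.pow_left m) (hm ▸ index_eq_card C ▸ orderOf_dvd_natCard _) ?_
    rw [hH.symm.index_eq_card]
    exact (orderOf_map_dvd (QuotientGroup.mk' C) h).trans (orderOf_dvd_natCard H hh)
  refine ⟨H, ⟨fun h hh g => ?_⟩, hH.symm⟩
  obtain ⟨⟨⟨h', hh'⟩, ⟨x, hx⟩⟩, rfl⟩ := hH.symm.2 g
  show h' * x * h * (h' * x)⁻¹ ∈ H
  rw [show h' * x * h * (h' * x)⁻¹ = h' * (x * h) * x⁻¹ * h'⁻¹ by group,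
    mem_centralizer_iff.1 (hHC hh) x hx, ← mul_assoc h', mul_inv_cancel_right]
  exact mul_mem (mul_mem hh' hh) (inv_mem hh')

/-! ### Two primes -/

theorem index_le_of_injOn {x : G} {S : Set G} (hS : ∀ u, IsConj x u → u ∈ S) :
    (centralizer ({x} : Set G)).index ≤ S.ncard := by
  rw [index_eq_card, ← Nat.card_coe_set_eq]
  refine Nat.card_le_card_of_injective
    (Quotient.lift (fun g : G => (⟨g * x * g⁻¹, hS _ (isConj_iff.2 ⟨g, rfl⟩)⟩ : S)) fun a b hab => ?_)
    fun A B => ?_
  · have h := mem_centralizer_singleton_iff.1 (QuotientGroup.leftRel_apply.1 hab)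
    exact Subtype.ext (calc
      a * x * a⁻¹ = a * (x * (a⁻¹ * b)) * b⁻¹ := by group
      _ = a * ((a⁻¹ * b) * x) * b⁻¹ := by rw [h]
      _ = b * x * b⁻¹ := by group)
  · refine Quotient.inductionOn₂ A B fun a b hab => Quotient.sound (QuotientGroup.leftRel_apply.2 ?_)
    rw [mem_centralizer_singleton_iff]
    have h : a * x * a⁻¹ = b * x * b⁻¹ := congrArg Subtype.val hab
    calc a⁻¹ * b * x = a⁻¹ * (b * x * b⁻¹) * b := by group
      _ = a⁻¹ * (a * x * a⁻¹) * b := by rw [h]
      _ = x * (a⁻¹ * b) := by group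

theorem ncard_conjugates (x : G) :
    (conjugatesOf x).ncard = (centralizer ({x} : Set G)).index := by
  refine le_antisymm ?_ (index_le_of_injOn fun u hu => hu)
  rw [index_eq_card, ← Nat.card_coe_set_eq]
  refine Nat.card_le_card_of_surjective
    (Quotient.lift (fun g : G => (⟨g * x * g⁻¹, isConj_iff.2 ⟨g, rfl⟩⟩ : conjugatesOf x))
      fun a b hab => ?_) ?_
  · have h := mem_centralizer_singleton_iff.1 (QuotientGroup.leftRel_apply.1 hab)
    exact Subtype.ext (calc
      a * x * a⁻¹ = a * (x * (a⁻¹ * b)) * b⁻¹ := by group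
      _ = a * ((a⁻¹ * b) * x) * b⁻¹ := by rw [h]
      _ = b * x * b⁻¹ := by group)
  · rintro ⟨u, hu⟩
    obtain ⟨g, rfl⟩ := isConj_iff.1 hu
    exact ⟨Quotient.mk _ g, rfl⟩

/-- The coprime product argument. -/
theorem central_of_product {r s a b e : ℕ} (hr : r.Prime) (hs : s.Prime) (hrs : r ≠ s) (hsq : q ≠ s)
    (hrq : q ≠ r) {x y : G} {k : ℕ} (hy : orderOf y = q ^ k) (hxy : x * y = y * x)
    (hx : (centralizer ({x} : Set G)).index = r ^ a) (hy' : (centralizer ({y} : Set G)).index = s ^ b)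
    (he : (centralizer ({x * y} : Set G)).index = e) (hle : e ∣ r ^ a) : b = 0 := by
  haveI := Fact.mk hr
  set S := conjugatesOf (x * y) with hS
  -- every product of conjugates is a conjugate of the product
  have hprod : ∀ g h : G, IsConj (x * y) ((g * x * g⁻¹) * (h * y * h⁻¹)) := by
    intro g h
    obtain ⟨c, hc, d, hd, hcd⟩ := CfsgLib.Solvable.mul_of_coprime_index
      (H := centralizer ({y} : Set G)) (K := centralizer ({x} : Set G)) (by
        rw [hx, hy']
        exact Nat.Coprime.pow _ _ ((Nat.coprime_primes hs hr).2 (Ne.symm hrs))) (h⁻¹ * g)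
    refine isConj_iff.2 ⟨h * c, ?_⟩
    have h1 := mem_centralizer_singleton_iff.1 hc
    have h2 := mem_centralizer_singleton_iff.1 hd
    have e1 : h * c = g * d⁻¹ := by
      rw [eq_mul_inv_iff_mul_eq, mul_assoc, ← hcd, mul_inv_cancel_left]
    have e2 : (h * c) * y * (h * c)⁻¹ = h * y * h⁻¹ := by
      rw [show h * c * y * (h * c)⁻¹ = h * (c * y) * c⁻¹ * h⁻¹ by group, h1]; group
    have e3 : (h * c) * x * (h * c)⁻¹ = g * x * g⁻¹ := by
      rw [e1, show g * d⁻¹ * x * (g * d⁻¹)⁻¹ = g * (d⁻¹ * (x * d)) * g⁻¹ by group, ← h2]; group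
    rw [← e2, ← e3]
    group
  -- translation by one conjugate of `y` is onto
  have hSy : ∀ h : G, (fun u => u * (h * y * h⁻¹)) '' conjugatesOf x = S := by
    intro h
    refine Set.eq_of_subset_of_ncard_le ?_ ?_
    · rintro _ ⟨u, hu, rfl⟩
      obtain ⟨g, rfl⟩ := isConj_iff.1 hu
      exact hprod g h
    · rw [Set.ncard_image_of_injective _ (mul_left_injective _), hS, ncard_conjugates,
        ncard_conjugates, he, hx]
      exact Nat.le_of_dvd (pow_pos hr.pos a) hle
  have hSeq : ∀ h : G, ∀ v ∈ S, v * ((h * y * h⁻¹)⁻¹ * y) ∈ S := by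
    intro h v hv
    rw [← hSy h] at hv
    obtain ⟨u, hu, rfl⟩ := hv
    rw [← hSy 1]
    exact ⟨u, hu, by group⟩
  -- the group generated by the differences
  set W := Subgroup.normalClosure (Set.range fun h : G => (h * y * h⁻¹)⁻¹ * y) with hW
  have hgenS : ∀ h g : G, ∀ v ∈ S, v * (g * ((h * y * h⁻¹)⁻¹ * y) * g⁻¹) ∈ S := by
    intro h g v hv
    have h1 : g⁻¹ * v * g ∈ S := by
      obtain ⟨c, rfl⟩ := isConj_iff.1 hv
      exact isConj_iff.2 ⟨g⁻¹ * c, by group⟩
    obtain ⟨c, hc⟩ := isConj_iff.1 (hSeq h _ h1)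
    refine isConj_iff.2 ⟨g * c, ?_⟩
    rw [show g * c * (x * y) * (g * c)⁻¹ = g * (c * (x * y) * c⁻¹) * g⁻¹ by group, hc]
    group
  have hWS : ∀ w ∈ W, (∀ v ∈ S, v * w ∈ S) := by
    intro w hw
    rw [hW, Subgroup.normalClosure] at hw
    induction hw using Subgroup.closure_induction with
    | mem z hz =>
      obtain ⟨_, ⟨h, rfl⟩, hc⟩ := Group.mem_conjugatesOfSet_iff.1 hz
      obtain ⟨g, rfl⟩ := isConj_iff.1 hc
      exact hgenS h g
    | one => intro v hv; rwa [mul_one]
    | mul z z' _ _ h1 h2 => intro v hv; rw [← mul_assoc]; exact h2 _ (h1 v hv)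
    | inv z _ h1 =>
      intro v hv
      have hsurj : (fun v => v * z) '' S = S := Set.eq_of_subset_of_ncard_le
        (by rintro _ ⟨u, hu, rfl⟩; exact h1 u hu)
        (le_of_eq (Set.ncard_image_of_injective _ (mul_left_injective z)).symm)
      rw [← hsurj] at hv
      obtain ⟨u, hu, rfl⟩ := hv
      rwa [mul_inv_cancel_right]
  letI : MulAction W S :=
    { smul := fun w v => ⟨(v : G) * (w : G)⁻¹, hWS _ (inv_mem w.2) _ v.2⟩
      one_smul := fun v => Subtype.ext (by
        show (v : G) * ((1 : W) : G)⁻¹ = v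
        rw [Subgroup.coe_one, inv_one, mul_one])
      mul_smul := fun w w' v => Subtype.ext (by
        show (v : G) * ((w * w' : W) : G)⁻¹ = (v : G) * (w' : G)⁻¹ * (w : G)⁻¹
        rw [Subgroup.coe_mul, mul_inv_rev, mul_assoc]) }
  have hfree : ∀ v : S, MulAction.stabilizer W v = ⊥ := fun v => (eq_bot_iff_forall _).2 fun w hw => by
    have h1 : (v : G) * (w : G)⁻¹ = v := congrArg Subtype.val hw
    exact Subtype.ext (inv_eq_one.1 (mul_eq_left.1 h1))
  have hcard : Nat.card W ∣ S.ncard := by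
    haveI := Fintype.ofFinite (MulAction.orbitRel.Quotient W S)
    rw [← Nat.card_coe_set_eq, Nat.card_congr (MulAction.selfEquivSigmaOrbits W S), Nat.card_sigma]
    refine Finset.dvd_sum fun o _ => ?_
    rw [Nat.card_congr (MulAction.orbitEquivQuotientStabilizer W _), ← index_eq_card, hfree,
      index_bot]
  obtain ⟨c, -, hc⟩ := (Nat.dvd_prime_pow hr).1
    (hcard.trans (by rw [hS, ncard_conjugates, he]; exact hle))
  haveI hWn : W.Normal := normalClosure_normal
  -- `W` centralises `y`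
  obtain ⟨T, hT⟩ := exists_sylow_le (r := r) (centralizer ({y} : Set G))
    (hy' ▸ not_dvd_pow hs hr hrs b)
  have hWy : W ≤ centralizer ({y} : Set G) :=
    ((IsPGroup.of_card hc).le_sylow_of_normal T).trans hT
  have hcen : ∀ h : G, h * y = y * h := by
    intro h
    set w := (h * y * h⁻¹)⁻¹ * y with hw
    have hwW : w ∈ W := subset_normalClosure ⟨h, rfl⟩
    have hcomm : w * y = y * w := mem_centralizer_singleton_iff.1 (hWy hwW)
    have hyh : h * y * h⁻¹ = y * w⁻¹ := by rw [hw]; group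
    have hpow : (h * y * h⁻¹) ^ (q ^ k) = 1 := by
      rw [conj_pow, orderOf_dvd_iff_pow_eq_one.1 hy.dvd, mul_one, mul_inv_cancel]
    rw [hyh, (show Commute y w⁻¹ from (show Commute y w from hcomm.symm).inv_right).mul_pow,
      orderOf_dvd_iff_pow_eq_one.1 hy.dvd, one_mul, inv_pow, inv_eq_one] at hpow
    have h1 : orderOf w ∣ r ^ c := hc ▸ orderOf_dvd_natCard W hwW
    have h2 := Nat.eq_one_of_dvd_coprimes (((Nat.coprime_primes hr hq.out).2 (Ne.symm hrq)).pow c k)
      h1 (orderOf_dvd_of_pow_eq_one hpow)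
    rw [orderOf_eq_one_iff.1 h2, inv_one, mul_one] at hyh
    exact mul_inv_eq_iff_eq_mul.1 hyh
  have : (centralizer ({y} : Set G)).index = 1 := index_eq_one.2 (eq_top_iff.2 fun h _ =>
    mem_centralizer_singleton_iff.2 (hcen h))
  rw [hy'] at this
  rcases Nat.pow_eq_one.1 this with h | h
  · exact absurd h hs.one_lt.ne'
  · exact h

/-- In the abelian case one prime serves for all classes. -/
theorem exists_prime_abelian (hB : IsBaer q G) (Q : Sylow q G)
    (hab : ∀ a ∈ (Q : Subgroup G), ∀ b ∈ (Q : Subgroup G), a * b = b * a)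
    (hne : ∃ x ∈ (Q : Subgroup G), x ∉ center G) :
    ∃ p : ℕ, p.Prime ∧ p ≠ q ∧ ∀ x ∈ (Q : Subgroup G), ∃ a : ℕ,
      (centralizer ({x} : Set G)).index = p ^ a := by
  have hnq : ∀ x ∈ (Q : Subgroup G), ∀ r a : ℕ, (centralizer ({x} : Set G)).index = r ^ a →
      0 < a → q ≠ r := by
    intro x hx r a ha ha0 e
    subst e
    refine Q.not_dvd_index ((dvd_pow_self q ha0.ne').trans (ha ▸ index_dvd_of_le fun u hu => ?_))
    exact mem_centralizer_singleton_iff.2 (hab u hu x hx)
  obtain ⟨x, hx, hxc⟩ := hne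
  obtain ⟨r, a, hr, ha⟩ := hB x (orderOf_of_mem Q hx)
  have ha0 : 0 < a := by
    by_contra h0
    rw [show a = 0 by omega, pow_zero, index_eq_one] at ha
    exact hxc (mem_center_iff.2 fun g => mem_centralizer_singleton_iff.1 (ha ▸ mem_top g))
  have hrq := hnq x hx r a ha ha0
  refine ⟨r, hr, Ne.symm hrq, fun y hy => ?_⟩
  obtain ⟨s, b, hs, hb⟩ := hB y (orderOf_of_mem Q hy)
  by_cases hb0 : b = 0
  · exact ⟨0, by rw [hb, hb0, pow_zero, pow_zero]⟩
  by_cases hsr : s = r
  · exact ⟨b, hsr ▸ hb⟩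
  exfalso
  have hsq := hnq y hy s b hb (Nat.pos_of_ne_zero hb0)
  have hxy := hab x hx y hy
  obtain ⟨t, c, ht, hc⟩ := hB (x * y) (orderOf_of_mem Q (mul_mem hx hy))
  have hdvd : t ^ c ∣ r ^ a * s ^ b := by
    have h1 : centralizer ({x} : Set G) ⊓ centralizer ({y} : Set G) ≤
        centralizer ({x * y} : Set G) := fun u hu => by
      rw [mem_centralizer_singleton_iff, ← mul_assoc,
        mem_centralizer_singleton_iff.1 (mem_inf.1 hu).1, mul_assoc,
        mem_centralizer_singleton_iff.1 (mem_inf.1 hu).2, mul_assoc]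
    rw [← hc, ← ha, ← hb,
      ← (CfsgLib.Solvable.index_inf_of_coprime (H := centralizer ({x} : Set G))
        (K := centralizer ({y} : Set G)) (by
          rw [ha, hb]; exact ((Nat.coprime_primes hr hs).2 (Ne.symm hsr)).pow _ _)).2]
    exact index_dvd_of_le h1
  by_cases hts : t = s
  · subst hts
    obtain ⟨k, hk⟩ := orderOf_of_mem Q hx
    have hle : t ^ c ∣ t ^ b :=
      ((((Nat.coprime_primes hs hr).2 hsr).pow c a)).dvd_of_dvd_mul_left hdvd
    rw [hxy] at hc
    exact ha0.ne' (central_of_product (q := q) hs hr hsr hrq hsq hk hxy.symm hb ha hc hle)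
  · obtain ⟨k, hk⟩ := orderOf_of_mem Q hy
    have hle : t ^ c ∣ r ^ a :=
      ((((Nat.coprime_primes ht hs).2 hts).pow c b)).dvd_of_dvd_mul_right hdvd
    exact hb0 (central_of_product (q := q) hr hs (Ne.symm hsr) hsq hrq hk hxy ha hb hc hle)

theorem normal_sup_of_abelian (Q : Sylow q G) {p : ℕ} (hp : p.Prime) (hpq : p ≠ q)
    (hcl : ∀ x ∈ (Q : Subgroup G), ∃ a : ℕ, (centralizer ({x} : Set G)).index = p ^ a) :
    (pCore p G ⊔ (Q : Subgroup G)).Normal := by
  haveI := Fact.mk hp
  set π := QuotientGroup.mk' (pCore p G) with hπ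
  have hbot : pCore p (G ⧸ pCore p G) = ⊥ := CfsgLib.Cores.pCore_quotient_self p
  have key : ∀ x ∈ (Q : Subgroup G), ∀ g : G, g * x * g⁻¹ ∈ pCore p G ⊔ (Q : Subgroup G) := by
    intro x hx g
    obtain ⟨a, ha⟩ := hcl x hx
    obtain ⟨a', -, ha'⟩ := (Nat.dvd_prime_pow hp).1 (ha ▸
      (index_dvd_of_le (show (centralizer ({x} : Set G)).map π ≤ centralizer ({π x} : Set _) by
        rintro _ ⟨u, hu, rfl⟩
        rw [mem_centralizer_singleton_iff, ← map_mul, ← map_mul,
          mem_centralizer_singleton_iff.1 hu])).trans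
        (index_map_dvd _ (QuotientGroup.mk'_surjective _)))
    have hcomm := CfsgLib.PrimePowerClass.commute_conj_of_pCore_eq_bot (π x) ⟨a', ha'⟩ hbot
    set N := normalClosure ({π x} : Set (G ⧸ pCore p G)) with hN
    haveI : N.Normal := normalClosure_normal
    have hNab : IsMulCommutative N := by
      refine isMulCommutative_closure ?_
      intro u hu v hv
      obtain ⟨_, rfl, hcu⟩ := Group.mem_conjugatesOfSet_iff.1 hu
      obtain ⟨_, rfl, hcv⟩ := Group.mem_conjugatesOfSet_iff.1 hv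
      obtain ⟨g₁, rfl⟩ := isConj_iff.1 hcu
      obtain ⟨g₂, rfl⟩ := isConj_iff.1 hcv
      exact hcomm g₁ g₂
    obtain ⟨k, hk⟩ := orderOf_of_mem Q hx
    have hNp : IsPGroup q N := by
      intro w
      refine ⟨k, Subtype.ext ?_⟩
      rw [SubmonoidClass.coe_pow, OneMemClass.coe_one]
      obtain ⟨w, hw⟩ := w
      show w ^ q ^ k = 1
      induction hw using Subgroup.closure_induction with
      | mem z hz =>
        obtain ⟨_, rfl, hcz⟩ := Group.mem_conjugatesOfSet_iff.1 hz
        obtain ⟨g₁, rfl⟩ := isConj_iff.1 hcz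
        rw [conj_pow, ← map_pow, orderOf_dvd_iff_pow_eq_one.1 hk.dvd, map_one, mul_one,
          mul_inv_cancel]
      | one => rw [one_pow]
      | mul z z' hz hz' h1 h2 =>
        rw [(show Commute z z' from congrArg Subtype.val
          (hNab.is_comm.comm (⟨z, hz⟩ : N) ⟨z', hz'⟩)).mul_pow, h1, h2, one_mul]
      | inv z _ h1 => rw [inv_pow, h1, inv_one]
    have h1 : π (g * x * g⁻¹) ∈ (Q.mapSurjective (QuotientGroup.mk'_surjective (pCore p G)) :
        Subgroup (G ⧸ pCore p G)) := by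
      refine hNp.le_sylow_of_normal _ ?_
      rw [map_mul, map_mul, map_inv]
      exact (inferInstance : N.Normal).conj_mem _ (subset_normalClosure (Set.mem_singleton _)) _
    obtain ⟨z, hz, hze⟩ := h1
    have h2 : (g * x * g⁻¹) * z⁻¹ ∈ pCore p G := by
      rw [← QuotientGroup.eq_one_iff]
      show π (g * x * g⁻¹ * z⁻¹) = 1
      rw [map_mul, map_inv, ← hze, mul_inv_cancel]
    have h3 := mul_mem ((le_sup_left : pCore p G ≤ pCore p G ⊔ (Q : Subgroup G)) h2)
      ((le_sup_right : (Q : Subgroup G) ≤ pCore p G ⊔ (Q : Subgroup G)) hz)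
    rwa [inv_mul_cancel_right] at h3
  refine ⟨fun n hn g => ?_⟩
  rw [sup_eq_closure] at hn
  induction hn using Subgroup.closure_induction with
  | mem z hz =>
    rcases hz with hz | hz
    · exact le_sup_left (a := pCore p G)
        ((inferInstance : (pCore p G).Normal).conj_mem z hz g)
    · exact key z hz g
  | one => rw [mul_one, mul_inv_cancel]; exact one_mem _
  | mul z z' _ _ h1 h2 => rw [← conj_mul]; exact mul_mem h1 h2
  | inv z _ h1 => rw [← conj_inv]; exact inv_mem h1

/-! ### Solvability of the quotient -/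

/-- Solvability when the `q'`-core is trivial and the abelian Sylow subgroup is normal. -/
theorem isSolvable_of_abelian {p : ℕ} [hp : Fact p.Prime] (hcore : pPrimeCore q G = ⊥)
    (O : Sylow q G) [hOn : (O : Subgroup G).Normal]
    (hab : ∀ a ∈ (O : Subgroup G), ∀ b ∈ (O : Subgroup G), a * b = b * a)
    (hcl : ∀ x ∈ (O : Subgroup G), ∃ a : ℕ, (centralizer ({x} : Set G)).index = p ^ a) :
    Group.IsSolvable G := by
  classical
  -- the centraliser of `O` is `O`
  have hCO : centralizer ((O : Subgroup G) : Set G) ≤ (O : Subgroup G) := by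
    set C := centralizer ((O : Subgroup G) : Set G)
    have hOC : (O : Subgroup G) ≤ C := fun a ha => mem_centralizer_iff.2 fun b hb => hab b hb a ha
    haveI hCn : C.Normal := inferInstance
    set O' := (O : Subgroup G).subgroupOf C with hO'
    obtain ⟨e, he⟩ := IsPGroup.iff_card.1 O.isPGroup'
    have hcard : Nat.card O' = q ^ e := by
      rw [Nat.card_congr (subgroupOfEquivOfLe hOC).toEquiv, he]
    haveI : O'.Normal := inferInstance
    have hi : ¬ q ∣ O'.index := fun h =>
      O.not_dvd_index (h.trans (relIndex_dvd_index_of_normal _ C))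
    obtain ⟨K, hK⟩ := exists_right_complement'_of_coprime (N := O')
      (by rw [hcard]; exact Nat.Coprime.pow_left _ (hq.out.coprime_iff_not_dvd.2 hi))
    -- an element of order prime to `q` lies in the complement
    have hKcard : Nat.card K = O'.index := by
      rw [hK.symm.index_eq_card]
    set M : Subgroup G := closure {g : G | g ∈ C ∧ ¬ q ∣ orderOf g} with hM
    have hMK : ∀ g : G, ∀ hg : g ∈ C, ¬ q ∣ orderOf g → (⟨g, hg⟩ : C) ∈ K := by
      intro g hg hgo
      obtain ⟨⟨⟨o, ho⟩, ⟨c, hc⟩⟩, hoc⟩ := hK.2 ⟨g, hg⟩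
      simp only at hoc
      have hcomm : Commute o c := Subtype.ext (mem_centralizer_iff.1 c.2 (o : G) ho)
      have h1 : orderOf o ∣ orderOf (o * c) := by
        refine (hcomm.orderOf_mul_eq_mul_orderOf_of_coprime ?_).symm ▸ dvd_mul_right _ _
        refine Nat.Coprime.coprime_dvd_left (orderOf_dvd_natCard O' ho) ?_
        refine Nat.Coprime.coprime_dvd_right (orderOf_dvd_natCard K hc) ?_
        rw [hcard, hKcard]
        exact Nat.Coprime.pow_left _ (hq.out.coprime_iff_not_dvd.2 hi)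
      rw [hoc] at h1
      replace h1 : orderOf o ∣ orderOf g := h1.trans (orderOf_coe (⟨g, hg⟩ : C)).symm.dvd
      have h2 : orderOf o = 1 := Nat.eq_one_of_dvd_coprimes
        (((Nat.Prime.coprime_iff_not_dvd hq.out).2 hgo).pow_left e)
        (hcard ▸ orderOf_dvd_natCard O' ho) h1
      rw [orderOf_eq_one_iff.1 h2, one_mul] at hoc
      exact hoc ▸ hc
    have hMle : M ≤ K.map C.subtype := by
      rw [hM, closure_le]
      rintro g ⟨hg, hgo⟩
      exact ⟨⟨g, hg⟩, hMK g hg hgo, rfl⟩
    haveI : M.Normal := ⟨fun n hn g => by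
      induction hn using Subgroup.closure_induction with
      | mem z hz =>
        refine subset_closure ⟨hCn.conj_mem z hz.1 g, ?_⟩
        rw [show orderOf (g * z * g⁻¹) = orderOf z from
          orderOf_injective (MulAut.conj g).toMonoidHom (MulAut.conj g).injective z]
        exact hz.2
      | one => rw [mul_one, mul_inv_cancel]; exact one_mem _
      | mul z z' _ _ h1 h2 => rw [← conj_mul]; exact mul_mem h1 h2
      | inv z _ h1 => rw [← conj_inv]; exact inv_mem h1⟩
    have hMbot : M = ⊥ := by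
      rw [← le_bot_iff, ← hcore]
      refine CfsgLib.Cores.le_pPrimeCore_of_not_dvd fun h => hi ?_
      rw [← hKcard, Nat.card_congr (K.equivMapOfInjective C.subtype C.subtype_injective).toEquiv]
      exact h.trans (card_dvd_of_le hMle)
    intro g hg
    obtain ⟨⟨⟨o, ho⟩, ⟨c, hc⟩⟩, hoc⟩ := hK.2 ⟨g, hg⟩
    simp only at hoc
    have hc1 : (c : G) ∈ M := by
      refine subset_closure ⟨c.2, fun h => hi ?_⟩
      rw [← hKcard]
      exact (h.trans (orderOf_coe c).dvd).trans (orderOf_dvd_natCard K hc)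
    rw [hMbot, mem_bot] at hc1
    have : g = o := by
      have := congrArg Subtype.val hoc
      rw [Subgroup.coe_mul, hc1, mul_one] at this
      exact this.symm
    rw [this]
    exact ho
  -- the socle of `O`
  let V : Subgroup G :=
    { carrier := {v | v ∈ (O : Subgroup G) ∧ v ^ q = 1}
      one_mem' := ⟨one_mem _, one_pow _⟩
      mul_mem' := fun {a b} ha hb => ⟨mul_mem ha.1 hb.1, by
        rw [(show Commute a b from hab a ha.1 b hb.1).mul_pow, ha.2, hb.2, one_mul]⟩
      inv_mem' := fun {a} ha => ⟨inv_mem ha.1, by rw [inv_pow, ha.2, inv_one]⟩ }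
  have hVconj : ∀ (g : G) (v : V), g * v * g⁻¹ ∈ V := fun g v =>
    ⟨hOn.conj_mem v v.2.1 g, by rw [conj_pow, v.2.2, mul_one, mul_inv_cancel]⟩
  letI : CommGroup V :=
    { (inferInstance : Group V) with
      mul_comm := fun a b => Subtype.ext (hab a a.2.1 b b.2.1) }
  haveI : Module (ZMod q) (Additive V) := AddCommGroup.zmodModule fun v => by
    apply Additive.toMul.injective
    exact Subtype.ext v.toMul.2.2
  let f : G →* AddMonoid.End (Additive V) :=
    { toFun := fun g =>
        { toFun := fun v => Additive.ofMul ⟨g * v.toMul * g⁻¹, hVconj g v.toMul⟩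
          map_zero' := Additive.toMul.injective (Subtype.ext (show g * 1 * g⁻¹ = 1 by group))
          map_add' := fun a b => Additive.toMul.injective (Subtype.ext
            (show g * ((a.toMul : G) * b.toMul) * g⁻¹ = g * a.toMul * g⁻¹ * (g * b.toMul * g⁻¹) by
              group)) }
      map_one' := AddMonoidHom.ext fun v => Additive.toMul.injective (Subtype.ext
        (show 1 * (v.toMul : G) * 1⁻¹ = v.toMul by group))
      map_mul' := fun a b => AddMonoidHom.ext fun v => Additive.toMul.injective (Subtype.ext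
        (show a * b * (v.toMul : G) * (a * b)⁻¹ = a * (b * v.toMul * b⁻¹) * a⁻¹ by group)) }
  have hker : ∀ g, g ∈ f.ker ↔ ∀ v ∈ V, g * v = v * g := by
    intro g
    constructor
    · intro hg v hv
      have h1 : g * v * g⁻¹ = v := congrArg
        (fun φ : AddMonoid.End (Additive V) => ((φ (Additive.ofMul ⟨v, hv⟩)).toMul : G))
        (MonoidHom.mem_ker.1 hg)
      exact mul_inv_eq_iff_eq_mul.1 h1
    · intro hg
      refine MonoidHom.mem_ker.2 (AddMonoidHom.ext fun v => Additive.toMul.injective (Subtype.ext ?_))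
      show g * (v.toMul : G) * g⁻¹ = v.toMul
      rw [hg _ v.toMul.2, mul_inv_cancel_right]
  -- the kernel is a `q`-group
  have hkerle : f.ker ≤ (O : Subgroup G) := by
    have hcent : ∀ g ∈ f.ker, ¬ q ∣ orderOf g → g ∈ centralizer ((O : Subgroup G) : Set G) := by
      intro g hg hgo
      refine mem_centralizer_iff.2 fun o ho => ?_
      obtain ⟨m, hm⟩ := orderOf_of_mem O ho
      have hm' : o ^ q ^ m = 1 := orderOf_dvd_iff_pow_eq_one.1 hm.dvd
      clear hm
      induction m generalizing o with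
      | zero =>
        rw [pow_zero, pow_one] at hm'
        rw [hm', one_mul, mul_one]
      | succ m ih =>
        have h1 := ih (o ^ q) (pow_mem ho q) (by rwa [← pow_mul, ← pow_succ'])
        set u := g * o * g⁻¹ * o⁻¹ with hu
        have hgoO := hOn.conj_mem o ho g
        have huV : u ∈ V := ⟨mul_mem hgoO (inv_mem ho), by
          rw [(show Commute (g * o * g⁻¹) o⁻¹ from hab _ hgoO _ (inv_mem ho)).mul_pow, conj_pow,
            ← h1, mul_inv_cancel_right, inv_pow, mul_inv_cancel]⟩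
        have hug := (hker g).1 hg u huV
        have hit : ∀ n : ℕ, g ^ n * o * (g ^ n)⁻¹ = u ^ n * o := by
          intro n
          induction n with
          | zero => simp
          | succ n ihn =>
            have hc : g * u ^ n * g⁻¹ = u ^ n := by
              rw [(show Commute g u from hug).pow_right n, mul_inv_cancel_right]
            calc g ^ (n + 1) * o * (g ^ (n + 1))⁻¹ = g * (g ^ n * o * (g ^ n)⁻¹) * g⁻¹ := by
                  rw [pow_succ']; group
              _ = g * u ^ n * g⁻¹ * (g * o * g⁻¹) := by rw [ihn]; group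
              _ = u ^ n * (u * o) := by rw [hc, show u * o = g * o * g⁻¹ by rw [hu]; group]
              _ = _ := by rw [pow_succ, mul_assoc (u ^ n) u o]
        have h2 := hit (orderOf g)
        rw [pow_orderOf_eq_one, one_mul, inv_one, mul_one, right_eq_mul] at h2
        have h3 : u = 1 := orderOf_eq_one_iff.1 (Nat.eq_one_of_dvd_coprimes
          ((Nat.Prime.coprime_iff_not_dvd hq.out).2 hgo)
          (orderOf_dvd_of_pow_eq_one huV.2) (orderOf_dvd_of_pow_eq_one h2))
        rw [hu, mul_inv_eq_one, mul_inv_eq_iff_eq_mul] at h3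
        exact h3.symm
    intro g hg
    set e := (orderOf g).factorization q with he
    have hpw : g ^ q ^ e = 1 := by
      have ho : ¬ q ∣ orderOf (g ^ q ^ e) := by
        rw [orderOf_pow_of_dvd (pow_ne_zero _ hq.out.ne_zero) (Nat.ordProj_dvd _ _)]
        exact Nat.not_dvd_ordCompl hq.out (orderOf_pos g).ne'
      obtain ⟨j, hj⟩ := orderOf_of_mem O (hCO (hcent _ (pow_mem hg _) ho))
      rcases Nat.eq_zero_or_pos j with rfl | hj0
      · rw [pow_zero] at hj; exact orderOf_eq_one_iff.1 hj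
      · exact absurd (hj ▸ dvd_pow_self q hj0.ne') ho
    obtain ⟨j, -, hj⟩ := (Nat.dvd_prime_pow hq.out).1 (orderOf_dvd_of_pow_eq_one hpw)
    have hsup : zpowers g ⊔ (O : Subgroup G) = (O : Subgroup G) :=
      O.3 ((IsPGroup.of_card (G := zpowers g) (p := q) (n := j)
        (by rw [Nat.card_zpowers, hj])).to_sup_of_normal_right O.isPGroup') le_sup_right
    exact hsup.le (mem_sup_left (mem_zpowers g))
  haveI : Group.IsSolvable f.ker := by
    haveI : Group.IsNilpotent (O : Subgroup G) := O.isPGroup'.isNilpotent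
    exact Group.isSolvable_of_isSolvable_injective (f := inclusion hkerle) (inclusion_injective _)
  letI : DistribMulAction (G ⧸ f.ker) (Additive V) :=
    DistribMulAction.compHom (Additive V) (QuotientGroup.lift f.ker f le_rfl)
  have hOker : (O : Subgroup G) ≤ f.ker := fun o ho => (hker o).2 fun v hv => hab o ho v hv.1
  have hhyp : PrimePowerOrbits.Hyp q p (G ⧸ f.ker) (Additive V) := by
    refine ⟨fun hd => O.not_dvd_index (hd.trans ?_), fun x => ?_, fun v => ?_⟩
    · rw [← index_eq_card]; exact index_dvd_of_le hOker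
    · obtain ⟨g, rfl⟩ := QuotientGroup.mk_surjective x
      intro hx
      exact (QuotientGroup.eq_one_iff g).2 (MonoidHom.mem_ker.2 (AddMonoidHom.ext fun v => hx v))
    · obtain ⟨a, ha⟩ := hcl (v.toMul : G) v.toMul.2.1
      refine ⟨a, ?_⟩
      have hcom : (MulAction.stabilizer (G ⧸ f.ker) v).comap (QuotientGroup.mk' f.ker) =
          centralizer ({(v.toMul : G)} : Set G) := by
        ext g
        rw [mem_centralizer_singleton_iff, mem_comap, MulAction.mem_stabilizer_iff,
          ← mul_inv_eq_iff_eq_mul]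
        exact ⟨fun h => congrArg (fun z : Additive V => (z.toMul : G)) h,
          fun h => Additive.toMul.injective (Subtype.ext h)⟩
      rw [← index_comap_of_surjective _ (QuotientGroup.mk'_surjective f.ker), hcom, ha]
  haveI := PrimePowerOrbits.isSolvable hhyp
  exact (Group.isSolvable_iff_subgroup_quotient f.ker).2 ⟨inferInstance, inferInstance⟩

end Cfsg.Agent.BaerQ
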