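import Mathlib

/-!
# The power graph determines the prime graph

For elements `x`, `y` that are not adjacent in the power graph, a common neighbour `z` lies above
both exactly when twice the size of its twin class exceeds the sum of the sizes of the twin
classes of `x` and `y`.  Hence the power graph determines the relation "lies in a common cyclic
subgroup", and with it the orders of the maximal cyclic subgroups.
-/

set_option autoImplicit false

namespace CfsgLib.FGS.PowerGraph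

open Subgroup

variable {G H : Type*} [Group G] [Group H]

/-- Adjacency in the power graph, reflexive. -/
def PAdj (x y : G) : Prop := x ∈ zpowers y ∨ y ∈ zpowers x

/-- Adjacency to every element. -/
def PDom (x : G) : Prop := ∀ y : G, PAdj x y

/-- Size of the closed twin class. -/
noncomputable def twinCard (x : G) : ℕ := Nat.card {w : G // ∀ u, PAdj w u ↔ PAdj x u}

/-- Membership in a common cyclic subgroup. -/
def CoCyc (x y : G) : Prop := ∃ z : G, x ∈ zpowers z ∧ y ∈ zpowers z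

lemma padj_refl (x : G) : PAdj x x := Or.inl (mem_zpowers x)

lemma padj_symm {x y : G} (h : PAdj x y) : PAdj y x := Or.symm h

lemma mem_trans {x y z : G} (h : x ∈ zpowers y) (h' : y ∈ zpowers z) : x ∈ zpowers z :=
  zpowers_le.mpr h' h

section finite

variable [Finite G]

lemma mem_iff_dvd {x y z : G} (hx : x ∈ zpowers z) (hy : y ∈ zpowers z) :
    x ∈ zpowers y ↔ orderOf x ∣ orderOf y := by
  refine ⟨fun h => orderOf_dvd_of_mem_zpowers h, fun h => ?_⟩
  obtain ⟨a, rfl⟩ := (mem_powers_iff_mem_zpowers).mpr hx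
  obtain ⟨b, rfl⟩ := (mem_powers_iff_mem_zpowers).mpr hy
  have ha : z ^ a ∈ zpowers (z ^ Nat.gcd (orderOf z) a) := by
    obtain ⟨c, hc⟩ := Nat.gcd_dvd_right (orderOf z) a
    refine ⟨c, ?_⟩
    show (z ^ Nat.gcd (orderOf z) a) ^ (c : ℤ) = z ^ a
    rw [zpow_natCast, ← pow_mul, ← hc]
  have hb : z ^ Nat.gcd (orderOf z) b ∈ zpowers (z ^ b) := by
    refine ⟨Nat.gcdB (orderOf z) b, ?_⟩
    show (z ^ b) ^ Nat.gcdB (orderOf z) b = _
    rw [← zpow_natCast z (Nat.gcd (orderOf z) b), Nat.gcd_eq_gcd_ab, zpow_add, zpow_mul, zpow_mul,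
      zpow_natCast, pow_orderOf_eq_one, one_zpow, one_mul, zpow_natCast]
  have hn := orderOf_pos z
  rw [orderOf_pow, orderOf_pow] at h
  have hg : Nat.gcd (orderOf z) b ∣ Nat.gcd (orderOf z) a :=
    by
      have h2 := Nat.div_dvd_div_left (Nat.div_dvd_of_dvd (Nat.gcd_dvd_left (orderOf z) b)) h
      rwa [Nat.div_div_self (Nat.gcd_dvd_left _ _) hn.ne',
        Nat.div_div_self (Nat.gcd_dvd_left _ _) hn.ne'] at h2
  obtain ⟨c, hc⟩ := hg
  refine mem_trans ha (mem_trans ?_ hb)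
  refine ⟨c, ?_⟩
  show (z ^ Nat.gcd (orderOf z) b) ^ (c : ℤ) = z ^ Nat.gcd (orderOf z) a
  rw [zpow_natCast, ← pow_mul, ← hc]

lemma eq_of_mem {x y : G} (h : x ∈ zpowers y) (h' : orderOf x = orderOf y) :
    y ∈ zpowers x := by
  rw [mem_iff_dvd (mem_zpowers y) h, h']

lemma padj_iff_dvd {x y z : G} (hx : x ∈ zpowers z) (hy : y ∈ zpowers z) :
    PAdj x y ↔ orderOf x ∣ orderOf y ∨ orderOf y ∣ orderOf x := by
  rw [PAdj, mem_iff_dvd hx hy, mem_iff_dvd hy hx]

lemma exists_of_dvd {z : G} {d : ℕ} (h : d ∣ orderOf z) :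
    ∃ u ∈ zpowers z, orderOf u = d :=
  ⟨z ^ (orderOf z / d), npow_mem_zpowers z _, orderOf_pow_orderOf_div (orderOf_pos z).ne' h⟩

lemma padj_of_primePow {x y z : G} (hx : x ∈ zpowers z) (hy : y ∈ zpowers z)
    (hz : ∃ p k : ℕ, p.Prime ∧ orderOf z = p ^ k) : PAdj x y := by
  obtain ⟨p, k, hp, hk⟩ := hz
  obtain ⟨i, -, hi⟩ := (Nat.dvd_prime_pow hp).mp (hk ▸ orderOf_dvd_of_mem_zpowers hx)
  obtain ⟨j, -, hj⟩ := (Nat.dvd_prime_pow hp).mp (hk ▸ orderOf_dvd_of_mem_zpowers hy)
  rw [padj_iff_dvd hx hy, hi, hj]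
  exact (le_total i j).imp (pow_dvd_pow p) (pow_dvd_pow p)

omit [Finite G] in
lemma primePow_of_mem {x z : G} (hx : x ∈ zpowers z)
    (hz : ∃ p k : ℕ, p.Prime ∧ orderOf z = p ^ k) : ∃ p k : ℕ, p.Prime ∧ orderOf x = p ^ k := by
  obtain ⟨p, k, hp, hk⟩ := hz
  obtain ⟨i, -, hi⟩ := (Nat.dvd_prime_pow hp).mp (hk ▸ orderOf_dvd_of_mem_zpowers hx)
  exact ⟨p, i, hp, hi⟩

/-- In a cyclic subgroup of non prime power order, comparable divisors `1 < A < B` are separated. -/
lemma exists_separating {n A B : ℕ} (hn : ¬ ∃ p k : ℕ, p.Prime ∧ n = p ^ k) (hn0 : n ≠ 0)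
    (hA : A ≠ 1) (hAB : A ∣ B) (hBn : B ∣ n) (hne : A ≠ B) :
    ∃ d, d ∣ n ∧ ¬ ((d ∣ A ∨ A ∣ d) ↔ (d ∣ B ∨ B ∣ d)) := by
  have hn1 : n ≠ 1 := fun h => hn ⟨2, 0, Nat.prime_two, by simp [h]⟩
  have hB0 : B ≠ 0 := fun h => hn0 (by simpa [h] using hBn)
  have hA0 : A ≠ 0 := fun h => hB0 (by simpa [h] using hAB)
  by_cases hB : ∃ p k : ℕ, p.Prime ∧ B = p ^ k
  · obtain ⟨p, k, hp, rfl⟩ := hB
    obtain ⟨i, hik, rfl⟩ := (Nat.dvd_prime_pow hp).mp hAB
    have hik' : i < k := lt_of_le_of_ne hik (fun h => hne (by rw [h]))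
    -- a second prime divisor of `n`
    obtain ⟨q, hq, hqn, hqp⟩ : ∃ q, q.Prime ∧ q ∣ n ∧ q ≠ p := by
      by_contra hno
      push Not at hno
      exact hn ⟨p, n.primeFactorsList.length, hp,
        Nat.eq_prime_pow_of_unique_prime_dvd hn0 fun {d} hd hdn => hno d hd hdn⟩
    have hco : Nat.Coprime (p ^ i) q := ((Nat.coprime_primes hp hq).mpr (Ne.symm hqp)).pow_left i
    refine ⟨p ^ i * q, hco.mul_dvd_of_dvd_of_dvd ((pow_dvd_pow p hik).trans hBn) hqn, fun h => ?_⟩
    rcases h.mp (Or.inr (dvd_mul_right _ _)) with h1 | h1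
    · have := hq.dvd_of_dvd_pow ((dvd_mul_left q _).trans h1)
      exact hqp ((Nat.prime_dvd_prime_iff_eq hq hp).mp this)
    · have h2 : p ^ k ∣ p ^ i :=
        (((Nat.coprime_primes hp hq).mpr (Ne.symm hqp)).pow_left k).dvd_of_dvd_mul_right h1
      exact absurd (Nat.le_of_dvd (pow_pos hp.pos _) h2)
        (not_le.mpr (Nat.pow_lt_pow_right hp.one_lt hik'))
  · -- a prime power dividing `B`, not dividing `A`
    obtain ⟨q, j, hq, hqB, hqA⟩ : ∃ q j, q.Prime ∧ q ^ j ∣ B ∧ ¬ q ^ j ∣ A := by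
      by_contra hno
      push Not at hno
      exact hne (Nat.dvd_antisymm hAB ((Nat.dvd_iff_prime_pow_dvd_dvd _ _).mpr fun p k hp => hno p k hp))
    by_cases hAq : A ∣ q ^ j
    · obtain ⟨i, -, rfl⟩ := (Nat.dvd_prime_pow hq).mp hAq
      obtain ⟨p, hp, hpB, hpq⟩ : ∃ p, p.Prime ∧ p ∣ B ∧ p ≠ q := by
        by_contra hno
        push Not at hno
        exact hB ⟨q, B.primeFactorsList.length, hq,
          Nat.eq_prime_pow_of_unique_prime_dvd hB0 fun {d} hd hdn => hno d hd hdn⟩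
      refine ⟨p, hpB.trans hBn, fun h => ?_⟩
      rcases h.mpr (Or.inl hpB) with h1 | h1
      · exact hpq ((Nat.prime_dvd_prime_iff_eq hp hq).mp (hp.dvd_of_dvd_pow h1))
      · rcases hp.eq_one_or_self_of_dvd _ h1 with h2 | h2
        · exact hA h2
        · have hi : i = 1 := (Nat.Prime.pow_eq_iff hp).mp h2 |>.2
          rw [hi, pow_one] at h2
          exact hpq h2.symm
    · exact ⟨q ^ j, hqB.trans hBn, fun h => (h.mpr (Or.inl hqB)).elim hqA hAq⟩

lemma card_gen (x : G) :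
    Nat.card {w : G // w ∈ zpowers x ∧ x ∈ zpowers w} = Nat.totient (orderOf x) := by
  classical
  have := Fintype.ofFinite G
  rw [Nat.card_congr (show {w : G // w ∈ zpowers x ∧ x ∈ zpowers w} ≃
      {w : zpowers x // orderOf w = orderOf x} from
    { toFun := fun w => ⟨⟨w.1, w.2.1⟩, by
        rw [← Subgroup.orderOf_coe]
        exact Nat.dvd_antisymm (orderOf_dvd_of_mem_zpowers w.2.1)
          (orderOf_dvd_of_mem_zpowers w.2.2)⟩
      invFun := fun w => ⟨w.1.1, w.1.2, eq_of_mem w.1.2 (by rw [Subgroup.orderOf_coe]; exact w.2)⟩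
      left_inv := fun w => rfl
      right_inv := fun w => rfl }), Nat.card_eq_fintype_card, Fintype.card_subtype]
  exact IsCyclic.card_orderOf_eq_totient (Fintype.card_zpowers (x := x) ▸ dvd_rfl)

omit [Finite G] in
lemma gen_twin {x w : G} (h : w ∈ zpowers x) (h' : x ∈ zpowers w) (u : G) :
    PAdj w u ↔ PAdj x u := by
  have he : zpowers w = zpowers x := le_antisymm (zpowers_le.mpr h) (zpowers_le.mpr h')
  constructor
  · rintro (h1 | h1)
    · exact Or.inl (mem_trans h' h1)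
    · exact Or.inr (he ▸ h1)
  · rintro (h1 | h1)
    · exact Or.inl (mem_trans h h1)
    · exact Or.inr (he ▸ h1)

lemma totient_le_twinCard (x : G) : Nat.totient (orderOf x) ≤ twinCard x := by
  rw [← card_gen]
  exact Nat.card_le_card_of_injective
    (fun w : {w : G // w ∈ zpowers x ∧ x ∈ zpowers w} =>
      (⟨w.1, gen_twin w.2.1 w.2.2⟩ : {w : G // ∀ u, PAdj w u ↔ PAdj x u}))
    fun a b h => Subtype.ext (congrArg Subtype.val h :)

/-- Inside a cyclic subgroup of non prime power order the twin classes are the generator sets. -/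
lemma twinCard_eq {x z : G} (hx : x ∈ zpowers z) (hx1 : x ≠ 1)
    (hD : ∀ d : G, PDom d → d = 1) (hz : ¬ ∃ p k : ℕ, p.Prime ∧ orderOf z = p ^ k) :
    twinCard x = Nat.totient (orderOf x) := by
  rw [← card_gen]
  refine Nat.card_congr (Equiv.subtypeEquivRight fun w => ⟨fun hw => ?_, fun hw => gen_twin hw.1 hw.2⟩)
  have hw1 : w ≠ 1 := fun h => hx1 (hD x fun u => (hw u).mp (h ▸ Or.inl (one_mem _)))
  -- a cyclic group of non prime power order containing both
  obtain ⟨m, hxm, hwm, hm⟩ :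
      ∃ m, x ∈ zpowers m ∧ w ∈ zpowers m ∧ ¬ ∃ p k : ℕ, p.Prime ∧ orderOf m = p ^ k := by
    rcases (hw z).mpr (Or.inl hx) with h | h
    · exact ⟨z, hx, h, hz⟩
    · exact ⟨w, mem_trans hx h, mem_zpowers w, fun hp => hz (primePow_of_mem h hp)⟩
  have hd : ∀ d, d ∣ orderOf m →
      ((orderOf x ∣ d ∨ d ∣ orderOf x) ↔ (orderOf w ∣ d ∨ d ∣ orderOf w)) := fun d hd => by
    obtain ⟨u, hu, rfl⟩ := exists_of_dvd hd
    rw [← padj_iff_dvd hxm hu, ← padj_iff_dvd hwm hu]
    exact (hw u).symm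
  have key : ∀ {A B : ℕ}, A ≠ 1 → A ∣ B → B ∣ orderOf m →
      (∀ d, d ∣ orderOf m → ((d ∣ A ∨ A ∣ d) ↔ (d ∣ B ∨ B ∣ d))) → A = B := fun hA hAB hB h => by
    by_contra hne
    obtain ⟨d, hd, hd'⟩ := exists_separating hm (orderOf_pos m).ne' hA hAB hB hne
    exact hd' (h d hd)
  have hox : orderOf x ≠ 1 := mt orderOf_eq_one_iff.mp hx1
  have how : orderOf w ≠ 1 := mt orderOf_eq_one_iff.mp hw1
  rcases (hw x).mpr (padj_refl x) with h | h
  · have he : orderOf w = orderOf x := key how (orderOf_dvd_of_mem_zpowers h)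
      (orderOf_dvd_of_mem_zpowers hxm) fun d hdd => by have := hd d hdd; tauto
    exact ⟨h, eq_of_mem h he⟩
  · have he : orderOf x = orderOf w := key hox (orderOf_dvd_of_mem_zpowers h)
      (orderOf_dvd_of_mem_zpowers hwm) fun d hdd => by have := hd d hdd; tauto
    exact ⟨eq_of_mem h he, h⟩

/-- The twin class of an element is at most as large as that of an element above it. -/
lemma twinCard_mono {z x : G} (hzx : z ∈ zpowers x) (hz1 : z ≠ 1)
    (hD : ∀ d : G, PDom d → d = 1) : twinCard z ≤ twinCard x := by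
  classical
  by_cases hm : ∃ m, z ∈ zpowers m ∧ ¬ ∃ p k : ℕ, p.Prime ∧ orderOf m = p ^ k
  · obtain ⟨m, hzm, hm⟩ := hm
    rw [twinCard_eq hzm hz1 hD hm]
    exact (Nat.le_of_dvd (Nat.totient_pos.mpr (orderOf_pos x))
      (Nat.totient_dvd_of_dvd (orderOf_dvd_of_mem_zpowers hzx))).trans (totient_le_twinCard x)
  push Not at hm
  by_cases hw : ∃ w, (∀ u, PAdj w u ↔ PAdj z u) ∧ x ∈ zpowers w
  · -- `x` is a twin of `z`
    obtain ⟨w, hw, hxw⟩ := hw
    have hxz : ∀ u, PAdj x u ↔ PAdj z u := fun u => by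
      constructor
      · rintro (h | h)
        · exact Or.inl (mem_trans hzx h)
        · exact padj_symm (padj_of_primePow h hzx (hm x hzx))
      · intro h
        rcases (hw u).mpr h with h1 | h1
        · exact Or.inl (mem_trans hxw h1)
        · exact padj_of_primePow hxw h1 (hm w (mem_trans hzx hxw))
    refine le_of_eq (Nat.card_congr (Equiv.subtypeEquivRight fun w => ?_))
    exact forall_congr' fun u => by rw [hxz u]
  push Not at hw
  -- every twin of `z` is a non-generator in `zpowers x`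
  obtain ⟨p, k, hp, hk⟩ := hm x hzx
  have hmem : ∀ w, (∀ u, PAdj w u ↔ PAdj z u) →
      w ∈ zpowers x ∧ ¬ (w ∈ zpowers x ∧ x ∈ zpowers w) := fun w h =>
    ⟨((h x).mpr (Or.inl hzx)).resolve_right (hw w h), fun hh => hw w h hh.2⟩
  have h1 : twinCard z + Nat.totient (orderOf x) ≤ orderOf x := by
    have hinj := Nat.card_le_card_of_injective
      (fun s : {w : G // ∀ u, PAdj w u ↔ PAdj z u} ⊕ {w : G // w ∈ zpowers x ∧ x ∈ zpowers w} =>
        (Sum.elim (fun w => ⟨w.1, (hmem w.1 w.2).1⟩) (fun w => ⟨w.1, w.2.1⟩) s : zpowers x))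
      (by
        rintro (⟨a, ha⟩ | ⟨a, ha⟩) (⟨b, hb⟩ | ⟨b, hb⟩) h <;>
          simp only [Sum.elim_inl, Sum.elim_inr, Subtype.mk.injEq] at h <;> subst h
        · rfl
        · exact absurd hb (hmem a ha).2
        · exact absurd ha (hmem a hb).2
        · rfl)
    rwa [Nat.card_sum, Nat.card_zpowers, card_gen, ← twinCard] at hinj
  have h2 : orderOf x ≤ 2 * Nat.totient (orderOf x) := by
    rcases Nat.eq_zero_or_pos k with rfl | hk0
    · simp [hk]
    · obtain ⟨j, rfl⟩ := Nat.exists_eq_add_of_lt hk0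
      rw [hk, zero_add, Nat.totient_prime_pow_succ hp, pow_succ]
      have := hp.two_le
      calc p ^ j * p ≤ p ^ j * (2 * (p - 1)) := Nat.mul_le_mul le_rfl (by omega)
        _ = 2 * (p ^ j * (p - 1)) := by ring
  have h3 := totient_le_twinCard x
  omega

lemma eq_or_two_mul {A C : ℕ} (hC : C ≠ 0) (h : A ∣ C)
    (hφ : Nat.totient A = Nat.totient C) : C = A ∨ C = 2 * A := by
  obtain ⟨k, rfl⟩ := h
  have hk : k ≠ 0 := fun h => hC (by simp [h])
  have hA : A ≠ 0 := fun h => hC (by simp [h])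
  have h1 := Nat.totient_super_multiplicative A k
  have h2 : Nat.totient k ≤ 1 := by
    have hp := Nat.totient_pos.mpr (Nat.pos_of_ne_zero hA)
    by_contra hlt
    push Not at hlt
    have : Nat.totient A * 2 ≤ Nat.totient A * Nat.totient k := Nat.mul_le_mul le_rfl hlt
    omega
  rcases Nat.totient_eq_one_iff.mp (le_antisymm h2 (Nat.totient_pos.mpr (Nat.pos_of_ne_zero hk)))
    with rfl | rfl
  · exact Or.inl (mul_one A)
  · exact Or.inr (mul_comm A 2)

/-- A common cyclic subgroup of non-adjacent elements is visible in the power graph. -/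
theorem coCyc_iff (hD : ∀ d : G, PDom d → d = 1) (x y : G) :
    CoCyc x y ↔ PAdj x y ∨
      ∃ z, ¬ PDom z ∧ PAdj z x ∧ PAdj z y ∧ twinCard x + twinCard y < 2 * twinCard z := by
  constructor
  · rintro ⟨z, hxz, hyz⟩
    by_cases hadj : PAdj x y
    · exact Or.inl hadj
    refine Or.inr ⟨z, ?_, Or.inr hxz, Or.inr hyz, ?_⟩
    · intro hd
      obtain rfl := hD z hd
      exact hadj (Or.inl (by rw [zpowers_one_eq_bot, mem_bot] at hxz; rw [hxz]; exact one_mem _))
    have hz : ¬ ∃ p k : ℕ, p.Prime ∧ orderOf z = p ^ k :=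
      fun h => hadj (padj_of_primePow hxz hyz h)
    have hx1 : x ≠ 1 := fun h => hadj (Or.inl (h ▸ one_mem _))
    have hy1 : y ≠ 1 := fun h => hadj (Or.inr (h ▸ one_mem _))
    have hz1 : z ≠ 1 := fun h => hz ⟨2, 0, Nat.prime_two, by simp [h]⟩
    rw [twinCard_eq hxz hx1 hD hz, twinCard_eq hyz hy1 hD hz,
      twinCard_eq (mem_zpowers z) hz1 hD hz]
    have hn0 := (orderOf_pos z).ne'
    have hA := orderOf_dvd_of_mem_zpowers hxz
    have hB := orderOf_dvd_of_mem_zpowers hyz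
    have hpos := Nat.totient_pos.mpr (orderOf_pos z)
    have ha := Nat.le_of_dvd hpos (Nat.totient_dvd_of_dvd hA)
    have hb := Nat.le_of_dvd hpos (Nat.totient_dvd_of_dvd hB)
    by_contra hlt
    rw [padj_iff_dvd hxz hyz] at hadj
    rcases eq_or_two_mul hn0 hA (by omega) with h1 | h1 <;>
      rcases eq_or_two_mul hn0 hB (by omega) with h2 | h2
    · exact hadj (Or.inl (by rw [← h1, h2]))
    · exact hadj (Or.inr (by rw [← h1]; exact hB))
    · exact hadj (Or.inl (by rw [← h2]; exact hA))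
    · exact hadj (Or.inl (by rw [Nat.eq_of_mul_eq_mul_left two_pos (h1.symm.trans h2)]))
  · rintro (h | ⟨z, hz, hzx, hzy, hlt⟩)
    · rcases h with h | h
      · exact ⟨y, h, mem_zpowers y⟩
      · exact ⟨x, mem_zpowers x, h⟩
    have hz1 : z ≠ 1 := fun h => hz fun u => Or.inl (h ▸ one_mem _)
    rcases hzx with hzx | hzx <;> rcases hzy with hzy | hzy
    · have h1 := twinCard_mono hzx hz1 hD
      have h2 := twinCard_mono hzy hz1 hD
      omega
    · exact ⟨x, mem_zpowers x, mem_trans hzy hzx⟩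
    · exact ⟨y, mem_trans hzx hzy, mem_zpowers y⟩
    · exact ⟨z, hzx, hzy⟩

/-- An order `m` divides the order of some element iff it divides the size of some neighbourhood
that is a clique in the common-cyclic-subgroup graph. -/
theorem exists_orderOf_eq_iff {m : ℕ} :
    (∃ g : G, orderOf g = m) ↔
      ∃ x : G, (∀ u v : G, CoCyc x u → CoCyc x v → CoCyc u v) ∧
        m ∣ Nat.card {w : G // CoCyc x w} := by
  classical
  have hmax : ∀ x : G, ∃ a, x ∈ zpowers a ∧ ∀ z, a ∈ zpowers z → z ∈ zpowers a := by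
    intro x
    obtain ⟨a, ha, hamax⟩ := Set.exists_max_image {z : G | x ∈ zpowers z} orderOf (Set.toFinite _)
      ⟨x, mem_zpowers x⟩
    exact ⟨a, ha, fun z hz => eq_of_mem hz (le_antisymm
      (Nat.le_of_dvd (orderOf_pos z) (orderOf_dvd_of_mem_zpowers hz))
      (hamax z (mem_trans ha hz)))⟩
  constructor
  · rintro ⟨g, rfl⟩
    obtain ⟨a, ha, hamax⟩ := hmax g
    have hN : ∀ w, CoCyc a w ↔ w ∈ zpowers a :=
      fun w => ⟨fun ⟨z, h1, h2⟩ => mem_trans h2 (hamax z h1), fun h => ⟨a, mem_zpowers a, h⟩⟩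
    refine ⟨a, fun u v hu hv => ⟨a, (hN u).mp hu, (hN v).mp hv⟩, ?_⟩
    rw [Nat.card_congr (Equiv.subtypeEquivRight hN)]
    exact (orderOf_dvd_of_mem_zpowers ha).trans (Nat.card_zpowers a).symm.dvd
  · rintro ⟨x, hcl, hm⟩
    obtain ⟨a, ha, hamax⟩ := hmax x
    have hN : ∀ w, CoCyc x w ↔ w ∈ zpowers a := by
      refine fun w => ⟨fun hw => ?_, fun h => ⟨a, ha, h⟩⟩
      obtain ⟨z, h1, h2⟩ := hcl a w ⟨a, ha, mem_zpowers a⟩ hw
      exact mem_trans h2 (hamax z h1)
    rw [Nat.card_congr (Equiv.subtypeEquivRight hN), Nat.card_zpowers] at hm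
    obtain ⟨u, -, hu⟩ := exists_of_dvd hm
    exact ⟨u, hu⟩

/-- A non-identity dominating vertex forces prime power order or cyclicity. -/
theorem exists_orderOf_eq_iff_dvd {d : G} (hd : PDom d) (hd1 : d ≠ 1) {p q : ℕ} (hp : p.Prime)
    (hq : q.Prime) (hpq : p ≠ q) :
    (∃ g : G, orderOf g = p * q) ↔ p * q ∣ Nat.card G := by
  refine ⟨fun ⟨g, hg⟩ => hg ▸ orderOf_dvd_natCard g, fun h => ?_⟩
  by_cases hpp : ∃ r k : ℕ, r.Prime ∧ orderOf d = r ^ k
  · exfalso
    obtain ⟨r, k, hr, hk⟩ := hpp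
    have hk0 : k ≠ 0 := fun h => hd1 (orderOf_eq_one_iff.mp (by simpa [h] using hk))
    have key : ∀ s : ℕ, s.Prime → s ∣ Nat.card G → s = r := by
      intro s hs hsG
      have := Fact.mk hs
      obtain ⟨y, hy⟩ := exists_prime_orderOf_dvd_card' s hsG
      rcases hd y with h1 | h1
      · have h2 := orderOf_dvd_of_mem_zpowers h1
        rw [hy, hk] at h2
        have h3 : r ∣ s := (dvd_pow_self r hk0).trans h2
        exact ((Nat.prime_dvd_prime_iff_eq hr hs).mp h3).symm
      · have h2 := orderOf_dvd_of_mem_zpowers h1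
        rw [hy, hk] at h2
        exact (Nat.prime_dvd_prime_iff_eq hs hr).mp (hs.dvd_of_dvd_pow h2)
    exact hpq ((key p hp ((dvd_mul_right p q).trans h)).trans
      (key q hq ((dvd_mul_left q p).trans h)).symm)
  · -- every Sylow subgroup lies in `zpowers d`
    have hdvd : Nat.card G ∣ orderOf d := by
      refine (Nat.dvd_iff_prime_pow_dvd_dvd _ _).mpr fun r k hr hrk => ?_
      have := Fact.mk hr
      obtain ⟨P, hP⟩ := Sylow.exists_subgroup_card_pow_prime r hrk
      have hle : P ≤ zpowers d := fun y hy => by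
        rcases hd y with h1 | h1
        · obtain ⟨j, -, hj⟩ := (Nat.dvd_prime_pow hr).mp
            (hP ▸ P.orderOf_dvd_natCard hy)
          exact absurd (primePow_of_mem h1 ⟨r, j, hr, hj⟩) hpp
        · exact h1
      rw [← hP, ← Nat.card_zpowers]
      exact Subgroup.card_dvd_of_le hle
    obtain ⟨u, -, hu⟩ := exists_of_dvd (h.trans hdvd)
    exact ⟨u, hu⟩

end finite

/-- The power graph determines the prime graph. -/
theorem exists_orderOf_eq_mul_iff [Finite G] [Finite H] (e : G ≃ H)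
    (he : ∀ x y : G, PAdj x y ↔ PAdj (e x) (e y)) {p q : ℕ} (hp : p.Prime) (hq : q.Prime)
    (hpq : p ≠ q) :
    (∃ g : G, orderOf g = p * q) ↔ (∃ h : H, orderOf h = p * q) := by
  have hdom : ∀ x, PDom x ↔ PDom (e x) := fun x => by
    refine ⟨fun h y => ?_, fun h y => (he x y).mpr (h (e y))⟩
    simpa using (he x (e.symm y)).mp (h _)
  by_cases hD : ∀ d : G, PDom d → d = 1
  · have hD' : ∀ d : H, PDom d → d = 1 := by
      intro d hd
      have h1 : PDom (e.symm d) := (hdom _).mpr (by simpa using hd)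
      have h2 : PDom (e.symm (1 : H)) := (hdom _).mpr (by
        rw [Equiv.apply_symm_apply]
        exact fun y => Or.inl (one_mem _))
      simpa using congrArg e ((hD _ h1).trans (hD _ h2).symm)
    have htc : ∀ x, twinCard x = twinCard (e x) := fun x =>
      Nat.card_congr (e.subtypeEquiv fun w => by
        rw [← e.forall_congr_right (q := fun u => PAdj (e w) u ↔ PAdj (e x) u)]
        simp only [← he])
    have hco : ∀ x y, CoCyc x y ↔ CoCyc (e x) (e y) := fun x y => by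
      rw [coCyc_iff hD, coCyc_iff hD', ← he,
        ← e.exists_congr_right (q := fun z => ¬ PDom z ∧ PAdj z (e x) ∧ PAdj z (e y) ∧
          twinCard (e x) + twinCard (e y) < 2 * twinCard z)]
      simp only [← he, ← hdom, ← htc]
    rw [exists_orderOf_eq_iff, exists_orderOf_eq_iff, ← e.exists_congr_right]
    refine exists_congr fun x => ?_
    rw [Nat.card_congr (e.subtypeEquiv fun w => hco x w)]
    refine and_congr_left' ⟨fun h u v hu hv => ?_, fun h u v hu hv => ?_⟩
    · obtain ⟨u, rfl⟩ := e.surjective u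
      obtain ⟨v, rfl⟩ := e.surjective v
      exact (hco u v).mp (h u v ((hco x u).mpr hu) ((hco x v).mpr hv))
    · exact (hco u v).mpr (h _ _ ((hco x u).mp hu) ((hco x v).mp hv))
  · push Not at hD
    obtain ⟨d, hd, hd1⟩ := hD
    have h1 : PDom (e 1) := (hdom 1).mp fun y => Or.inl (one_mem _)
    have hne : e d ≠ e 1 := fun h => hd1 (e.injective h)
    obtain ⟨d', hd', hd1'⟩ : ∃ d' : H, PDom d' ∧ d' ≠ 1 := by
      by_cases h : e d = 1
      · exact ⟨e 1, h1, h ▸ hne.symm⟩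
      · exact ⟨e d, (hdom d).mp hd, h⟩
    rw [exists_orderOf_eq_iff_dvd hd hd1 hp hq hpq, exists_orderOf_eq_iff_dvd hd' hd1' hp hq hpq,
      Nat.card_congr e]

end CfsgLib.FGS.PowerGraph
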