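import Mathlib
import Cfsg.Agent.S4142
import Cfsg.Agent.Lib.Char.PResidualSum
import Cfsg.Agent.Lib.Char.Vanishing
import Cfsg.Agent.Lib.Char.Induced
import Cfsg.Agent.Lib.OddChar.PowCongr
import Cfsg.Agent.Lib.Solvable.FrobeniusComplement
import Cfsg.Agent.Lib.PGroup.Basic
import Cfsg.Agent.Lib.FGS.PowerGraph
import Cfsg.Agent.Lib.FGS.ThompsonKernel

/-!
# Camina pairs

`camina_trichotomy`: a Camina pair `(G, N)` is a Frobenius group with kernel `N`, or `N` or `G/N`
has prime power order.  The key step: if `p ∣ |G : N|` then `O^p(N)` has order prime to `p`,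
because a character of degree prime to `p` nontrivial on it would vanish at a `p`-element.
-/

set_option autoImplicit false

namespace CfsgLib.FGS.Camina

open CfsgLib.Char CfsgLib.CharNormal Subgroup

variable {G : Type*} [Group G] [Finite G] {N : Subgroup G} [N.Normal]

/-- The Camina condition. -/
def IsPair (N : Subgroup G) : Prop := ∀ g : G, g ∉ N → ∀ n ∈ N, ∃ x : G, x * g * x⁻¹ = g * n

omit [Finite G] in
theorem isPair_quotient (h : IsPair N) (R : Subgroup G) [R.Normal] (hR : R ≤ N) :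
    IsPair (N.map (QuotientGroup.mk' R)) := by
  intro g hg n hn
  obtain ⟨a, rfl⟩ := QuotientGroup.mk'_surjective R g
  obtain ⟨b, hb, rfl⟩ := hn
  obtain ⟨x, hx⟩ := h a (fun ha => hg (mem_map_of_mem _ ha)) b hb
  exact ⟨QuotientGroup.mk' R x, by rw [← map_inv, ← map_mul, ← map_mul, hx, map_mul]⟩

/-- A constituent of a character is trivial where the character is. -/
theorem apply_eq_of_constituent {H : Type*} [Group H] [Fintype H] {φ : H → ℂ}
    {ψ : Cfsg.IrrCharacter H} (m : Cfsg.IrrCharacter H → ℕ)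
    (hm : φ = ∑ χ, (m χ : ℂ) • (χ : H → ℂ)) (hm0 : m ψ ≠ 0) {y : H} (hy : φ y = φ 1) :
    (ψ : H → ℂ) y = (ψ : H → ℂ) 1 := by
  have hle : ∀ χ : Cfsg.IrrCharacter H, ((χ : H → ℂ) y).re ≤ ((χ : H → ℂ) 1).re := fun χ =>
    (Complex.re_le_norm _).trans (norm_char_le (isCharacter_of_isIrr χ.2) y)
  have h1 := congrArg Complex.re hy
  rw [hm] at h1
  simp only [Finset.sum_apply, Pi.smul_apply, smul_eq_mul, Complex.re_sum, Complex.natCast_re,
    Complex.natCast_im, Complex.mul_re, zero_mul, sub_zero] at h1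
  have h2 := (Finset.sum_eq_sum_iff_of_le fun χ _ =>
    mul_le_mul_of_nonneg_left (hle χ) (Nat.cast_nonneg (m χ))).mp h1 ψ (Finset.mem_univ _)
  have hre := mul_left_cancel₀ (Nat.cast_ne_zero.mpr hm0) h2
  obtain ⟨d, hd⟩ := exists_degree (isCharacter_of_isIrr ψ.2)
  have hn := norm_char_le (isCharacter_of_isIrr ψ.2) y
  rw [hd, Complex.natCast_re] at hre hn
  have hsq := Complex.normSq_apply ((ψ : H → ℂ) y)
  rw [← Complex.sq_norm, hre] at hsq
  have hpow : ‖(ψ : H → ℂ) y‖ ^ 2 ≤ (d : ℝ) ^ 2 := pow_le_pow_left₀ (norm_nonneg _) hn 2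
  have him : ((ψ : H → ℂ) y).im = 0 := by nlinarith [sq_nonneg ((ψ : H → ℂ) y).im]
  rw [hd]
  exact Complex.ext (by rw [hre, Complex.natCast_re]) (by rw [him, Complex.natCast_im])

/-- A constant irreducible character has degree one. -/
theorem degree_one_of_const {H : Type*} [Group H] [Fintype H] {θ : H → ℂ}
    (hθ : Cfsg.IsIrrCharacter H θ) (h : ∀ x, θ x = θ 1) : θ 1 = 1 := by
  obtain ⟨d, hd0, hd⟩ := exists_degree_pos hθ
  have h1 := classInner_irr_self hθ
  rw [classInner_def, show θ = fun _ => (d : ℂ) from funext fun x => (h x).trans hd] at h1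
  simp only [Complex.conj_natCast, Finset.sum_const, Finset.card_univ, nsmul_eq_mul,
    Nat.card_eq_fintype_card] at h1
  field_simp at h1
  have h2 : d = 1 := by
    have h3 : d ^ 2 = 1 := by exact_mod_cast h1
    simpa using h3
  rw [hd, h2, Nat.cast_one]

/-- The characters not trivial on `N` vanish off `N`. -/
theorem char_eq_zero (h : IsPair N) {χ : G → ℂ} (hχ : Cfsg.IsIrrCharacter G χ)
    (hker : ∃ n ∈ N, χ n ≠ χ 1) {g : G} (hg : g ∉ N) : χ g = 0 := by
  classical
  let P : Cfsg.IrrCharacter G → Prop := fun ψ => ∀ n ∈ N, (ψ : G → ℂ) n = (ψ : G → ℂ) 1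
  have hsplit := Finset.sum_filter_add_sum_filter_not Finset.univ P
    (fun ψ => Complex.normSq ((ψ : G → ℂ) g))
  have hPsum : ∑ ψ ∈ Finset.univ.filter P, Complex.normSq ((ψ : G → ℂ) g) =
      Nat.card (centralizer ({(g : G ⧸ N)} : Set (G ⧸ N))) := by
    rw [Finset.sum_subtype (Finset.univ.filter P) (p := P) (by simp),
      ← sum_normSq_eq_card_centralizer (g : G ⧸ N)]
    exact (Fintype.sum_equiv (inflEquiv N) _ _ fun ψ => by rw [inflEquiv_apply]).symm
  rw [hPsum, sum_normSq_eq_card_centralizer, (Cfsg.Agent.S4142.result N).mp h g hg,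
    add_eq_left] at hsplit
  refine Complex.normSq_eq_zero.mp
    ((Finset.sum_eq_zero_iff_of_nonneg fun ψ _ => Complex.normSq_nonneg _).mp hsplit
      ⟨χ, hχ⟩ (Finset.mem_filter.mpr ⟨Finset.mem_univ _, fun hP => ?_⟩))
  obtain ⟨n, hn, hne⟩ := hker
  exact hne (hP n hn)

/-- A character vanishing at a `p`-element has degree divisible by `p`. -/
theorem dvd_degree_of_eq_zero {p : ℕ} [hp : Fact p.Prime] {χ : G → ℂ}
    (hχ : Cfsg.IsCharacter G χ) {g : G} (hg : ∃ k, orderOf g = p ^ k) (h0 : χ g = 0) :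
    p ∣ Cfsg.charDegree χ := by
  obtain ⟨k, hk⟩ := hg
  have key : ∀ i, CongrP p (χ (g ^ p ^ i)) 0 := by
    intro i
    induction i with
    | zero => rw [pow_zero, pow_one, h0]; exact CongrP.refl _
    | succ i ih =>
      have h1 := OddChar.PowCongr.congr_character_pow (p := p) hχ (g ^ p ^ i)
      rw [← pow_mul, ← pow_succ] at h1
      refine h1.symm.trans ?_
      have h2 := ih.mul_right ((char_isIntegral hχ (g ^ p ^ i)).pow (p - 1))
      rw [zero_mul, ← pow_succ', Nat.sub_add_cancel hp.out.pos] at h2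
      exact h2
  have h1 := key k
  rw [← hk, pow_orderOf_eq_one, charDegree_cast hχ] at h1
  have h2 : (p : ℤ) ∣ (Cfsg.charDegree χ : ℤ) - 0 :=
    CongrP.int_dvd (by push_cast; exact h1)
  rw [sub_zero] at h2
  exact_mod_cast h2

/-- For `p` dividing the index, `O^p(N)` has order prime to `p`. -/
theorem not_dvd_card_pResidual (h : IsPair N) {p : ℕ} [hp : Fact p.Prime] (hpi : p ∣ N.index) :
    ¬ p ∣ Nat.card (Cfsg.pResidual p N) := by
  classical
  have := Fintype.ofFinite G
  set K : Subgroup G := (Cfsg.pResidual p N).map N.subtype with hK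
  have hKchar : (Cfsg.pResidual p N).Characteristic := Transfer.pResidual_characteristic
  have hKn : K.Normal := by rw [hK]; infer_instance
  have hKN : K ≤ N := map_subtype_le _
  let P : Sylow p G := default
  set X : Subgroup G := K ⊔ (P : Subgroup G) with hX
  obtain ⟨a, ha⟩ := P.isPGroup'.exists_card_eq
  have hPN : ¬ (P : Subgroup G) ≤ N := fun hle =>
    P.not_dvd_index (hpi.trans (index_dvd_of_le hle))
  obtain ⟨g, hgP, hgN⟩ := SetLike.not_le_iff_exists.mp hPN
  have hgX : g ∈ X := le_sup_right (a := K) hgP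
  set K' := K.subgroupOf X with hK'
  obtain ⟨k, -, hk⟩ : ∃ k ≤ a, K'.index = p ^ k := by
    refine (Nat.dvd_prime_pow hp.out).mp ?_
    show K.relIndex X ∣ _
    rw [hX, sup_comm, relIndex_sup_right, ← ha]
    exact relIndex_dvd_card K _
  -- linear characters of `K'` have order prime to `p`
  let e : Cfsg.pResidual p N →* K' :=
    ((N.subtype.comp (Cfsg.pResidual p N).subtype).codRestrict X fun x =>
      le_sup_left (b := (P : Subgroup G)) (mem_map_of_mem _ x.2)).codRestrict K' fun x =>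
      mem_subgroupOf.mpr (mem_map_of_mem _ x.2)
  have he : Function.Surjective e := fun y => by
    obtain ⟨z, hz, hzy⟩ := mem_subgroupOf.mp y.2
    exact ⟨⟨z, hz⟩, Subtype.ext (Subtype.ext hzy)⟩
  have hlin : ∀ f : K' →* ℂˣ, ¬ p ∣ orderOf f := fun f hf => by
    refine not_dvd_orderOf_pResidual (G := N) (p := p) (f.comp e) (hf.trans (dvd_of_eq ?_))
    exact (orderOf_injective (MonoidHom.compHom' e) (fun f₁ f₂ h12 => MonoidHom.ext fun y => by
      obtain ⟨z, rfl⟩ := he y
      exact DFunLike.congr_fun h12 z) f).symm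
  -- a prime character of `X` is trivial
  have htriv : ∀ ψ : Cfsg.IrrCharacter X, IsPrimeChar p (ψ : X → ℂ) → ∀ x, (ψ : X → ℂ) x = 1 := by
    intro ψ hψ
    have hd0 := charDegree_cast (isCharacter_of_isIrr ψ.2)
    have hK1 : ∀ x ∈ K', (ψ : X → ℂ) x = (ψ : X → ℂ) 1 := by
      by_contra hne
      push Not at hne
      obtain ⟨y, hy, hy1⟩ := hne
      -- a constituent of the induced character of degree prime to `p`
      have hXi : ¬ p ∣ X.index := fun hd => P.not_dvd_index (hd.trans (index_dvd_of_le le_sup_right))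
      set f := Cfsg.indFun X (ψ : X → ℂ) with hf
      have hfc : Cfsg.IsCharacter G f := isCharacter_indFun X (isCharacter_of_isIrr ψ.2)
      obtain ⟨m, hm, hmc⟩ := char_decomp hfc
      obtain ⟨χ, hχm, hχd⟩ : ∃ χ : Cfsg.IrrCharacter G,
          m χ ≠ 0 ∧ ¬ p ∣ Cfsg.charDegree (χ : G → ℂ) := by
        by_contra hno
        push Not at hno
        have h1 : X.index * Cfsg.charDegree (ψ : X → ℂ) =
            ∑ χ : Cfsg.IrrCharacter G, m χ * Cfsg.charDegree (χ : G → ℂ) := by
          have h2 := congrFun hm 1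
          rw [hf, indFun_one, hd0, Finset.sum_apply] at h2
          simp only [Pi.smul_apply, smul_eq_mul] at h2
          rw [Finset.sum_congr rfl fun (χ : Cfsg.IrrCharacter G) _ =>
            show (m χ : ℂ) * (χ : G → ℂ) 1 = ((m χ * Cfsg.charDegree (χ : G → ℂ) : ℕ) : ℂ) by
              rw [charDegree_cast (isCharacter_of_isIrr χ.2), Nat.cast_mul],
            ← Nat.cast_sum, ← Nat.cast_mul] at h2
          exact_mod_cast h2
        have h3 : p ∣ X.index * Cfsg.charDegree (ψ : X → ℂ) := by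
          rw [h1]
          refine Finset.dvd_sum fun χ _ => ?_
          by_cases h0 : m χ = 0
          · simp [h0]
          · exact (hno χ h0).mul_left _
        exact (hp.out.dvd_mul.mp h3).elim hXi hψ.1
      have hgo : ∃ j, orderOf g = p ^ j := by
        obtain ⟨j, hj⟩ := IsPGroup.iff_orderOf.mp P.isPGroup' ⟨g, hgP⟩
        exact ⟨j, by rw [← hj, orderOf_mk]⟩
      by_cases hχK : ∃ n ∈ N, (χ : G → ℂ) n ≠ (χ : G → ℂ) 1
      · exact hχd (dvd_degree_of_eq_zero (isCharacter_of_isIrr χ.2) hgo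
          (char_eq_zero h χ.2 hχK hgN))
      push Not at hχK
      -- then `ψ` is trivial on `K'`
      have := Fintype.ofFinite K'
      have hin : Cfsg.classInner (ψ : X → ℂ) (fun x : X => (χ : G → ℂ) x) ≠ 0 := by
        rw [← frobenius_reciprocity X _ (isClassFunction_of_isIrr χ.2), ← hf, hmc]
        exact_mod_cast hχm
      set θ : K' → ℂ := fun n => (ψ : X → ℂ) n with hθ
      have hθirr : Cfsg.IsIrrCharacter K' θ := res_of_prime hk hlin ψ.2 hψ.1
      have hinv : ∀ x : X, conjFun K' x θ = θ :=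
        fun x => conjFun_res K' (isClassFunction_of_isIrr ψ.2) x
      -- `ψ` is a constituent of a character with `K'` in its kernel
      obtain ⟨m', hm', hmc'⟩ := char_decomp (isCharacter_res X (isCharacter_of_isIrr χ.2))
      have hm0 : m' ψ ≠ 0 := fun h0 => by
        have h1 := hmc' ψ
        rw [h0, Nat.cast_zero, ← classInner_conj_symm, map_eq_zero] at h1
        exact hin h1
      refine hy1 (apply_eq_of_constituent (ψ := ψ) m' hm' hm0 ?_)
      exact hχK _ (hKN (mem_subgroupOf.mp hy))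
    -- so it is linear, and trivial
    have hθirr : Cfsg.IsIrrCharacter K' (fun n : K' => (ψ : X → ℂ) n) := res_of_prime hk hlin ψ.2 hψ.1
    have := Fintype.ofFinite K'
    have h1 : (ψ : X → ℂ) 1 = 1 := by
      have h2 := degree_one_of_const hθirr fun n => hK1 (n : X) n.2
      exact h2
    obtain ⟨f, hf⟩ := exists_linHom (isCharacter_of_isIrr ψ.2) h1
    have hfo : f ^ K'.index = 1 := pow_index_eq_one_of_trivial K' fun n => Units.ext (by
      rw [Units.val_one, ← h1, ← hK1 n n.2]
      exact congrFun hf n)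
    have hfp : ¬ p ∣ orderOf f := by
      rw [← orderOf_linFun, ← detChar_linFun, hf]; exact hψ.2
    have hf1 : f = 1 := by
      refine (orderOf_eq_one_iff (G := X →* ℂˣ)).mp ?_
      rw [hk] at hfo
      obtain ⟨i, -, hi⟩ := (Nat.dvd_prime_pow hp.out).mp
        (orderOf_dvd_of_pow_eq_one (x := f) (n := p ^ k) (MonoidHom.ext fun x => by
          have h3 := DFunLike.congr_fun hfo x
          simpa using h3))
      rcases Nat.eq_zero_or_pos i with rfl | hi0
      · simpa using hi
      · exact absurd (hi ▸ dvd_pow_self p hi0.ne') hfp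
    intro x
    rw [← hf, hf1]
    rfl
  intro hd
  have := Fintype.ofFinite X
  have hsum := card_pResidual_modEq (G := X) (p := p) hk hlin
  have hone : IsPrimeChar p (fun _ : X => (1 : ℂ)) := by
    have e1 : (fun _ : X => (1 : ℂ)) = linFun (1 : X →* ℂˣ) := funext fun x => rfl
    refine ⟨?_, ?_⟩
    · show ¬ p ∣ ⌊(1 : ℂ).re⌋₊
      rw [Complex.one_re, Nat.floor_one]
      exact hp.out.not_dvd_one
    · show ¬ p ∣ orderOf (Cfsg.detChar _)
      rw [e1, detChar_linFun, orderOf_linFun, orderOf_one]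
      exact hp.out.not_dvd_one
  rw [Finset.sum_eq_single (⟨_, isIrrCharacter_one⟩ : Cfsg.IrrCharacter X)] at hsum
  · have hcard : Nat.card K' = Nat.card (Cfsg.pResidual p N) := by
      rw [hK', Nat.card_congr (subgroupOfEquivOfLe (le_sup_left (b := (P : Subgroup G)))).toEquiv, hK,
        card_map_of_injective N.subtype_injective]
    rw [hcard, (ZMod.natCast_eq_zero_iff _ _).mpr hd] at hsum
    simp only [Cfsg.charDegree, Complex.one_re, Nat.floor_one, Nat.cast_one, one_pow] at hsum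
    exact zero_ne_one hsum
  · intro ψ hψ hne
    exact absurd (Subtype.ext (funext (htriv ψ (Finset.mem_filter.mp hψ).2))) hne
  · intro hno
    refine absurd (Finset.mem_filter.mpr ⟨Finset.mem_univ _, ?_⟩) hno
    exact hone

/-- The centraliser in `N` of a `p`-element outside `N` is a `p`-group. -/
theorem orderOf_fixed (h : IsPair N) {p : ℕ} [hp : Fact p.Prime] {g n : G}
    (hg : ∃ k, orderOf g = p ^ k) (hgN : g ∉ N) (hn : n ∈ N) (hc : Commute g n) :
    ∀ q : ℕ, q.Prime → q ∣ orderOf n → q = p := by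
  intro q hq hqn
  by_contra hne
  obtain ⟨k, hk⟩ := hg
  obtain ⟨x, hx⟩ := h g hgN _ (N.pow_mem hn (orderOf n / q))
  have ho : orderOf (n ^ (orderOf n / q)) = q :=
    orderOf_pow_orderOf_div (orderOf_pos n).ne' hqn
  have h1 : orderOf (g * n ^ (orderOf n / q)) = orderOf g := by rw [← hx]; exact orderOf_injective (MulAut.conj x).toMonoidHom (MulAut.conj x).injective g
  rw [(hc.pow_right _).orderOf_mul_eq_mul_orderOf_of_coprime (by
      rw [hk, ho]
      exact ((Nat.coprime_primes hp.out hq).mpr (Ne.symm hne)).pow_left k), ho] at h1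
  have := Nat.eq_of_mul_eq_mul_left (orderOf_pos g) (h1.trans (mul_one _).symm)
  exact hq.ne_one this

/-- In the quotient the `p`-elements commuting with a `p`-element of maximal order lie in the
subgroup it generates. -/
theorem mem_zpowers_of_commute {p : ℕ} [hp : Fact p.Prime] (h : IsPair N) (K : Subgroup G)
    [K.Normal] (hKN : K ≤ N) (hK1 : K ≠ ⊥) (hKp : ¬ p ∣ Nat.card K)
    (hcent : ∀ n ∈ N, (∃ k, orderOf n = p ^ k) → ∀ y ∈ K, n * y = y * n) {g : G}
    (hg : ∃ k, orderOf g = p ^ k)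
    (hmax : ∀ w : G, ((∃ k, orderOf w = p ^ k) ∧ w ∉ N) →
      orderOf (w : G ⧸ N) ≤ orderOf (g : G ⧸ N))
    {x : G ⧸ N} (hx : ∃ k, orderOf x = p ^ k) (hxg : x * (g : G ⧸ N) = (g : G ⧸ N) * x) :
    x ∈ zpowers (g : G ⧸ N) := by
  classical
  -- an abelian `p`-subgroup of the quotient and a `p`-subgroup of `G` covering it
  set B : Subgroup (G ⧸ N) := closure {x, (g : G ⧸ N)} with hB
  have hcommB : ∀ a ∈ B, ∀ b ∈ B, a * b = b * a := by
    have : IsMulCommutative B := isMulCommutative_closure (by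
      rintro a (rfl | rfl) b (rfl | rfl)
      exacts [rfl, hxg, hxg.symm, rfl])
    exact fun a ha b hb => congrArg Subtype.val (mul_comm' (⟨a, ha⟩ : B) ⟨b, hb⟩)
  have hBp : IsPGroup p B := by
    obtain ⟨i, hi⟩ := hx
    obtain ⟨j, hj⟩ := hg
    have hle : B ≤ zpowers x ⊔ zpowers (g : G ⧸ N) := (closure_le _).mpr (by
      rintro a (ha | ha)
      exacts [mem_sup_left (mem_zpowers_iff.mpr ⟨1, (zpow_one x).trans ha.symm⟩),
        mem_sup_right (mem_zpowers_iff.mpr ⟨1, (zpow_one _).trans ha.symm⟩)])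
    obtain ⟨l, -, hl⟩ := (Nat.dvd_prime_pow hp.out).mp
      (hj ▸ orderOf_map_dvd (QuotientGroup.mk' N) g)
    refine IsPGroup.to_le (IsPGroup.to_sup_of_normal_right'
      (IsPGroup.of_card (n := i) (by rw [Nat.card_zpowers, hi]))
      (IsPGroup.of_card (n := l) (by rw [Nat.card_zpowers]; exact hl)) ?_) hle
    rw [zpowers_le]
    refine centralizer_le_normalizer _ (mem_centralizer_iff.mpr fun a ha => by
      obtain ⟨k, rfl⟩ := mem_zpowers_iff.mp ha
      exact ((show Commute x (g : G ⧸ N) from hxg).zpow_right k).eq.symm)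
  let π : B.comap (QuotientGroup.mk' N) →* B := (QuotientGroup.mk' N).subgroupComap B
  have hπ : Function.Surjective π :=
    (QuotientGroup.mk' N).subgroupComap_surjective_of_surjective B (QuotientGroup.mk'_surjective N)
  have hgB : g ∈ B.comap (QuotientGroup.mk' N) := subset_closure (Or.inr rfl)
  obtain ⟨j, hj⟩ := hg
  obtain ⟨U0, hU0⟩ := (IsPGroup.of_card (n := j) (G := zpowers (⟨g, hgB⟩ : B.comap (QuotientGroup.mk' N)))
    (by rw [Nat.card_zpowers, ← orderOf_coe, hj])).exists_le_sylow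
  have hmap : (U0 : Subgroup _).map π = ⊤ := by
    rw [← index_eq_one]
    obtain ⟨a, ha⟩ := hBp.exists_card_eq
    obtain ⟨i, -, hi⟩ := (Nat.dvd_prime_pow hp.out).mp
      (ha ▸ index_dvd_card ((U0 : Subgroup _).map π))
    rcases Nat.eq_zero_or_pos i with rfl | hi0
    · simpa using hi
    · exact absurd ((hi ▸ dvd_pow_self p hi0.ne').trans (index_map_dvd _ hπ)) U0.not_dvd_index
  obtain ⟨t, ht, htx⟩ : ∃ t ∈ (U0 : Subgroup _), π t = ⟨x, subset_closure (Or.inl rfl)⟩ := by
    have := hmap.symm ▸ mem_top (⟨x, subset_closure (Or.inl rfl)⟩ : B)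
    exact this
  have htx' : ((t : G) : G ⧸ N) = x := congrArg Subtype.val htx
  set U := (U0 : Subgroup (B.comap (QuotientGroup.mk' N))).map
    (B.comap (QuotientGroup.mk' N)).subtype with hU
  have hUp : IsPGroup p U := U0.isPGroup'.map _
  have htU : (t : G) ∈ U := mem_map_of_mem _ ht
  have hgU : g ∈ U := ⟨⟨g, hgB⟩, hU0 (mem_zpowers _), rfl⟩
  have hUo : ∀ u ∈ U, ∃ k, orderOf u = p ^ k := fun u hu => by
    obtain ⟨k, hk⟩ := IsPGroup.iff_orderOf.mp hUp ⟨u, hu⟩
    exact ⟨k, by rw [← hk, orderOf_mk]⟩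
  have hUB : ∀ u ∈ U, ((u : G) : G ⧸ N) ∈ B := by
    rintro _ ⟨u, -, rfl⟩
    exact u.2
  -- an abelian subgroup of `K` normalised by it
  have hcopK : (Nat.card U).Coprime (Nat.card K) := by
    obtain ⟨a, ha⟩ := hUp.exists_card_eq
    rw [ha]
    exact ((Nat.Prime.coprime_iff_not_dvd hp.out).mpr hKp).pow_left a
  obtain ⟨r, hr, hrK⟩ := Nat.exists_prime_and_dvd fun e => hK1 (card_eq_one.mp e)
  have := Fact.mk hr
  have hUsol : Group.IsSolvable U := by
    have := hUp.isNilpotent
    infer_instance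
  obtain ⟨R, hR⟩ := Solvable.exists_invariant_sylow U K
    (fun u _ => by rw [Subgroup.normalizer_eq_top]; exact mem_top u) hcopK (Or.inl hUsol) r
  set R' := (R : Subgroup K).map K.subtype with hR'
  have hR'p : IsPGroup r R' := R.isPGroup'.map _
  have : Nontrivial R' := by
    rw [nontrivial_iff_ne_bot, hR', Ne, map_eq_bot_iff_of_injective _ K.subtype_injective]
    exact R.ne_bot_of_dvd_card hrK
  have := hR'p.center_nontrivial
  set V := R' ⊓ centralizer (R' : Set G) with hV
  have hVK : V ≤ K := inf_le_left.trans (map_subtype_le _)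
  have hUV : U ≤ normalizer (V : Set G) :=
    (le_inf hR (hR.trans (Solvable.normalizer_le_normalizer_centralizer R'))).trans
      inf_normalizer_le_normalizer_inf
  have hV1 : V ≠ ⊥ := by
    obtain ⟨z, hz⟩ := exists_ne (1 : center R')
    intro e
    have hmem : ((z : R') : G) ∈ V :=
      ⟨(z : R').2, fun x hx => congrArg Subtype.val (mem_center_iff.1 z.2 ⟨x, hx⟩)⟩
    rw [e, mem_bot] at hmem
    exact hz (Subtype.ext (Subtype.ext hmem))
  letI : CommGroup V := { (inferInstance : Group V) with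
    mul_comm := fun a b => Subtype.ext (b.2.2 _ a.2.1) }
  have : Nontrivial V := (nontrivial_iff_ne_bot V).2 hV1
  let φ : U →* MulAut V := V.normalizerMonoidHom.comp (inclusion hUV)
  have hφ : ∀ (u : U) (v : V), φ u v = v → v ≠ 1 → (u : G) ∈ N := by
    intro u v huv hv1
    by_contra huN
    have hc : Commute (u : G) (v : G) :=
      mul_inv_eq_iff_eq_mul.1 (congrArg Subtype.val huv)
    refine hv1 (Subtype.ext (orderOf_eq_one_iff.mp ?_))
    by_contra ho
    obtain ⟨q, hq, hqv⟩ := Nat.exists_prime_and_dvd ho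
    obtain rfl := orderOf_fixed h (hUo u u.2) huN (hKN (hVK v.2)) hc q hq hqv
    exact hKp (hqv.trans (orderOf_dvd_natCard K (hVK v.2)))
  have hker : ∀ u : U, φ u = 1 ↔ ((u : G) : G ⧸ N) = 1 := by
    intro u
    rw [QuotientGroup.eq_one_iff]
    constructor
    · intro hu
      obtain ⟨v, hv⟩ := exists_ne (1 : V)
      exact hφ u v (by rw [hu]; rfl) hv
    · intro hu
      refine MulEquiv.ext fun v => Subtype.ext ?_
      show (u : G) * (v : G) * (u : G)⁻¹ = v
      rw [hcent u hu (hUo u u.2) v (hVK v.2), mul_inv_cancel_right]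
  have hord : ∀ u : U, orderOf (φ u) = orderOf (((u : G) : G ⧸ N)) := fun u =>
    orderOf_eq_orderOf_iff.mpr fun n => by
      rw [← map_pow, hker, SubgroupClass.coe_pow, QuotientGroup.mk_pow]
  -- the image in the automorphism group is cyclic
  have hA : IsCyclic φ.range := by
    refine Solvable.isCyclic_of_fpf_comm φ.range.subtype ?_ ?_
    · rintro ⟨_, u, rfl⟩ hne v hv
      by_contra hv1
      exact hne (Subtype.ext ((hker u).mpr ((QuotientGroup.eq_one_iff _).mpr (hφ u v hv hv1))))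
    · rintro ⟨_, u, rfl⟩ ⟨_, w, rfl⟩
      refine Subtype.ext ?_
      show φ u * φ w = φ w * φ u
      rw [← commutatorElement_eq_one_iff_mul_comm, ← map_commutatorElement, hker]
      have h1 := hcommB _ (hUB u u.2) _ (hUB w w.2)
      rw [← commutatorElement_eq_one_iff_mul_comm] at h1
      rw [← h1]
      rfl
  obtain ⟨c, hc⟩ := IsCyclic.exists_generator (α := φ.range)
  have h1 : (⟨φ ⟨t, htU⟩, _, rfl⟩ : φ.range) ∈ zpowers (⟨φ ⟨g, hgU⟩, _, rfl⟩ : φ.range) := by
    rw [PowerGraph.mem_iff_dvd (hc _) (hc _), ← orderOf_coe, ← orderOf_coe, hord, hord]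
    show orderOf (((t : G)) : G ⧸ N) ∣ orderOf ((g : G) : G ⧸ N)
    obtain ⟨i, hi⟩ := hUo _ htU
    obtain ⟨a, -, ha⟩ := (Nat.dvd_prime_pow hp.out).mp
      (hi ▸ orderOf_map_dvd (QuotientGroup.mk' N) (t : G))
    obtain ⟨b, -, hb⟩ := (Nat.dvd_prime_pow hp.out).mp
      (hj ▸ orderOf_map_dvd (QuotientGroup.mk' N) g)
    rw [QuotientGroup.mk'_apply] at ha hb
    rw [ha, hb]
    refine pow_dvd_pow p ?_
    by_cases htN : (t : G) ∈ N
    · rw [(QuotientGroup.eq_one_iff _).mpr htN, orderOf_one, eq_comm, Nat.pow_eq_one] at ha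
      have := hp.out.one_lt
      omega
    · have := hmax _ ⟨hUo _ htU, htN⟩
      rw [ha, hb] at this
      exact (Nat.pow_le_pow_iff_right hp.out.one_lt).mp this
  obtain ⟨k, hk⟩ := mem_zpowers_iff.mp h1
  have h2 : φ (⟨g, hgU⟩ ^ k) = φ ⟨t, htU⟩ := by
    rw [map_zpow]; exact congrArg Subtype.val hk
  have h3 := (hker _).mp (show φ ((⟨g, hgU⟩ ^ k)⁻¹ * ⟨t, htU⟩) = 1 by
    rw [map_mul, map_inv, h2, inv_mul_cancel])
  refine mem_zpowers_iff.mpr ⟨k, ?_⟩
  rw [← htx']
  simp only [Subgroup.coe_mul, Subgroup.coe_inv, SubgroupClass.coe_zpow, QuotientGroup.mk_mul,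
    QuotientGroup.mk_inv, QuotientGroup.mk_zpow, inv_mul_eq_one] at h3
  exact h3

/-- `p` cannot divide both the index and the order of `N` when a nontrivial normal `p'`-subgroup
in `N` is centralised by the `p`-elements of `N`. -/
theorem no_centralized_pPrime (h : IsPair N) {p : ℕ} [hp : Fact p.Prime] (hpi : p ∣ N.index)
    (hpN : p ∣ Nat.card N) (K : Subgroup G) [K.Normal] (hKN : K ≤ N) (hK1 : K ≠ ⊥)
    (hKp : ¬ p ∣ Nat.card K)
    (hcent : ∀ n ∈ N, (∃ k, orderOf n = p ^ k) → ∀ y ∈ K, n * y = y * n) : False := by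
  classical
  -- a `p`-element outside `N` whose image has maximal order
  obtain ⟨g, ⟨hgp, hgN⟩, hmax⟩ := Set.exists_max_image
    {g : G | (∃ k, orderOf g = p ^ k) ∧ g ∉ N} (fun g => orderOf (g : G ⧸ N)) (Set.toFinite _) (by
      let P : Sylow p G := default
      have hPN : ¬ (P : Subgroup G) ≤ N := fun hle =>
        P.not_dvd_index (hpi.trans (index_dvd_of_le hle))
      obtain ⟨g, hgP, hgN⟩ := SetLike.not_le_iff_exists.mp hPN
      obtain ⟨j, hj⟩ := IsPGroup.iff_orderOf.mp P.isPGroup' ⟨g, hgP⟩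
      exact ⟨g, ⟨j, by rw [← hj, orderOf_mk]⟩, hgN⟩)
  obtain ⟨kg, hkg⟩ := hgp
  set C := centralizer ({(g : G ⧸ N)} : Set (G ⧸ N)) with hC
  let T : Sylow p C := default
  -- a normalised `p`-subgroup of `N`
  obtain ⟨P, hP⟩ : ∃ P : Sylow p G, zpowers g ≤ P :=
    (IsPGroup.of_card (n := kg) (by rw [Nat.card_zpowers, hkg])).exists_le_sylow
  set P0 := (P : Subgroup G) ⊓ N with hP0
  have hP0ne : P0 ≠ ⊥ := by
    intro e
    obtain ⟨n, hn⟩ := exists_prime_orderOf_dvd_card' (G := N) p hpN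
    obtain ⟨P', hP'⟩ := (IsPGroup.of_card (n := 1) (G := zpowers (n : G))
      (by rw [Nat.card_zpowers, Subgroup.orderOf_coe, hn, pow_one])).exists_le_sylow
    obtain ⟨x, hx⟩ := MulAction.exists_smul_eq G P' P
    have hmem : x * n * x⁻¹ ∈ (P : Subgroup G) := by
      rw [← hx, Sylow.coe_subgroup_smul]
      exact smul_mem_pointwise_smul _ _ _ (hP' (mem_zpowers _))
    have : x * n * x⁻¹ ∈ P0 := ⟨hmem, Normal.conj_mem inferInstance _ n.2 x⟩
    rw [e, mem_bot, conj_eq_one_iff] at this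
    rw [OneMemClass.coe_eq_one] at this
    rw [this, orderOf_one] at hn
    exact hp.out.ne_one hn.symm
  obtain ⟨z, hz1, hz, hgz⟩ : ∃ z, z ≠ 1 ∧ z ∈ P0 ∧ Commute g z := by
    have hne : P0.subgroupOf P ≠ ⊥ := by
      rw [Ne, subgroupOf_eq_bot, disjoint_of_le_iff_left_eq_bot inf_le_left]
      exact hP0ne
    have : (P0.subgroupOf P).Normal := by
      rw [hP0, inf_subgroupOf_left]
      infer_instance
    have hne2 := CfsgLib.PGroup.inf_center_ne_bot P.isPGroup' _ hne
    obtain ⟨⟨z, hzP⟩, ⟨hz0, hzc⟩, hz1⟩ := (bot_or_exists_ne_one _).resolve_left hne2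
    refine ⟨z, fun e => hz1 (Subtype.ext e), hz0, ?_⟩
    exact congrArg Subtype.val (mem_center_iff.mp hzc ⟨g, hP (mem_zpowers g)⟩)
  -- the `p`-subgroup generated by `g` and `z`
  set U := zpowers g ⊔ zpowers z with hU
  have hUP : U ≤ P := sup_le hP (zpowers_le.mpr hz.1)
  have hUC : U ≤ centralizer {g} := sup_le (zpowers_le.mpr (mem_centralizer_singleton_iff.mpr rfl))
    (zpowers_le.mpr (mem_centralizer_singleton_iff.mpr hgz.eq.symm))
  obtain ⟨u, hu⟩ := (P.isPGroup'.to_le hUP).exists_card_eq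
  -- in the quotient the centraliser of `g` has small `p`-part
  set og := orderOf (g : G ⧸ N) with hog
  have hTle : Nat.card T ∣ og := by
    have hsub : (T : Subgroup C).map C.subtype ≤ zpowers (g : G ⧸ N) := by
      rintro _ ⟨t, ht, rfl⟩
      exact mem_zpowers_of_commute h K hKN hK1 hKp hcent ⟨kg, hkg⟩ hmax
        (T.isPGroup'.map C.subtype |> fun hh => by
          obtain ⟨j, hj⟩ := IsPGroup.iff_orderOf.mp hh ⟨_, mem_map_of_mem _ ht⟩
          exact ⟨j, by rw [← hj, orderOf_mk]⟩)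
        (mem_centralizer_singleton_iff.mp t.2)
    rw [hog, ← Nat.card_zpowers, ← card_map_of_injective C.subtype_injective (K := (T : Subgroup C))]
    exact card_dvd_of_le hsub
  have h1 : p ^ u ∣ Nat.card C := by
    rw [hC, ← (Cfsg.Agent.S4142.result N).mp h g hgN, ← hu]
    exact card_dvd_of_le hUC
  have h2 : p ^ u ∣ og := by
    refine dvd_trans ?_ hTle
    rw [Sylow.card_eq_multiplicity]
    exact pow_dvd_pow p ((hp.out.pow_dvd_iff_le_factorization Nat.card_pos.ne').mp h1)
  -- but `U` meets `N` nontrivially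
  have h3 : og < Nat.card U := by
    let π := ((QuotientGroup.mk' N).comp U.subtype)
    have hker : π.ker ≠ ⊥ := fun e => by
      have : (⟨z, le_sup_right (a := zpowers g) (mem_zpowers z)⟩ : U) ∈ π.ker :=
        (QuotientGroup.eq_one_iff z).mpr hz.2
      rw [e, mem_bot] at this
      exact hz1 (congrArg Subtype.val this)
    have hrange : og ≤ Nat.card π.range := by
      rw [hog, ← Nat.card_zpowers]
      refine card_le_of_le (zpowers_le.mpr ⟨⟨g, le_sup_left (b := zpowers z) (mem_zpowers g)⟩, rfl⟩)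
    have hlt : 1 < Nat.card π.ker := one_lt_card_iff_ne_bot _ |>.mpr hker
    have heq : Nat.card π.range * Nat.card π.ker = Nat.card U := by
      rw [← index_ker, index_mul_card]
    have hpos : 0 < og := orderOf_pos _
    calc og < og * Nat.card π.ker := (Nat.lt_mul_iff_one_lt_right hpos).mpr hlt
      _ ≤ _ := heq ▸ Nat.mul_le_mul hrange le_rfl
  rw [hu] at h3
  exact absurd (Nat.le_of_dvd (orderOf_pos _) h2) (not_le.mpr h3)

omit [N.Normal] in
/-- A `p`-element modulo a normal subgroup lifts to a `p`-element of its coset. -/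
theorem exists_lift_pElement {p : ℕ} [hp : Fact p.Prime] (R : Subgroup G) [R.Normal] (n : G)
    (hn : ∃ k, orderOf (n : G ⧸ R) = p ^ k) :
    ∃ m : ℕ, (∃ k, orderOf (n ^ m) = p ^ k) ∧ ((n ^ m : G) : G ⧸ R) = (n : G ⧸ R) := by
  obtain ⟨k, hk⟩ := hn
  set o := orderOf n
  set c := o / p ^ o.factorization p with hc
  have hco : Nat.Coprime c (p ^ k) :=
    ((Nat.coprime_ordCompl hp.out (orderOf_pos n).ne').pow_left k).symm
  obtain ⟨s, -, hs⟩ := Nat.exists_mul_mod_eq_of_coprime 1 hco (pow_ne_zero k hp.out.ne_zero)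
  refine ⟨c * s, ?_, ?_⟩
  · have h1 : (n ^ (c * s)) ^ p ^ o.factorization p = 1 := by
      rw [← pow_mul, mul_right_comm, hc, Nat.div_mul_cancel (Nat.ordProj_dvd _ _), pow_mul,
        pow_orderOf_eq_one, one_pow]
    obtain ⟨i, -, hi⟩ := (Nat.dvd_prime_pow hp.out).mp (orderOf_dvd_of_pow_eq_one h1)
    exact ⟨i, hi⟩
  · rw [QuotientGroup.mk_pow, ← pow_mod_orderOf, hk, hs, ← hk, pow_mod_orderOf, pow_one]

/-- Camina: a Camina pair is Frobenius, or one of `N`, `G/N` has prime power order. -/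
theorem camina_trichotomy (h : IsPair N) (hN1 : N ≠ ⊥) (hN2 : N ≠ ⊤) :
    (∀ x ∈ N, x ≠ 1 → centralizer ({x} : Set G) ≤ N) ∨ IsPrimePow (Nat.card N) ∨
      IsPrimePow N.index := by
  classical
  by_cases hcop : ∃ p : ℕ, p.Prime ∧ p ∣ N.index ∧ p ∣ Nat.card N
  swap
  · refine Or.inl fun x hx hx1 w hw => ?_
    by_contra hwN
    obtain ⟨p, hp, hpw⟩ := Nat.exists_prime_and_dvd
      (fun e => hwN ((QuotientGroup.eq_one_iff w).mp (orderOf_eq_one_iff.mp e)) :
        orderOf (w : G ⧸ N) ≠ 1)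
    have := Fact.mk hp
    set c := orderOf w / p ^ (orderOf w).factorization p with hc
    have hu : ∃ k, orderOf (w ^ c) = p ^ k := by
      obtain ⟨i, -, hi⟩ := (Nat.dvd_prime_pow hp).mp (orderOf_dvd_of_pow_eq_one
        (show (w ^ c) ^ p ^ (orderOf w).factorization p = 1 by
          rw [← pow_mul, hc, Nat.div_mul_cancel (Nat.ordProj_dvd _ _), pow_orderOf_eq_one]))
      exact ⟨i, hi⟩
    have huN : w ^ c ∉ N := fun hmem => by
      rw [← QuotientGroup.eq_one_iff, QuotientGroup.mk_pow] at hmem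
      exact Nat.not_dvd_ordCompl hp (orderOf_pos w).ne'
        (hpw.trans (orderOf_dvd_of_pow_eq_one hmem))
    obtain ⟨q, hq, hqx⟩ := Nat.exists_prime_and_dvd (fun e => hx1 (orderOf_eq_one_iff.mp e))
    have hcomm : Commute w x := mem_centralizer_singleton_iff.mp hw
    obtain rfl := orderOf_fixed h hu huN hx (hcomm.pow_left c) q hq hqx
    exact hcop ⟨q, hq, hpw.trans (orderOf_dvd_natCard _) |>.trans (index_eq_card N).symm.dvd,
      hqx.trans (orderOf_dvd_natCard N hx)⟩
  obtain ⟨p, hp, hpi, hpN⟩ := hcop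
  refine Or.inr ?_
  by_contra hno
  push Not at hno
  have := Fact.mk hp
  set K := (Cfsg.pResidual p N).map N.subtype with hKdef
  have : (Cfsg.pResidual p N).Characteristic := Transfer.pResidual_characteristic
  have hKn : K.Normal := by rw [hKdef]; infer_instance
  have hKN : K ≤ N := map_subtype_le _
  have hKc : Nat.card K = Nat.card (Cfsg.pResidual p N) :=
    card_map_of_injective N.subtype_injective
  have hKp : ¬ p ∣ Nat.card K := hKc ▸ not_dvd_card_pResidual h hpi
  obtain ⟨k, hk⟩ := Transfer.index_pResidual (G := N) (p := p)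
  have hcardN : Nat.card N = Nat.card K * p ^ k := by rw [hKc, ← hk, card_mul_index]
  have hK1 : K ≠ ⊥ := by
    intro e
    refine hno.1 ⟨p, k, hp.prime, Nat.pos_of_ne_zero ?_, ?_⟩
    · rintro rfl
      rw [e, card_bot] at hcardN
      exact hN1 (card_eq_one.mp (by simpa using hcardN))
    · rw [hcardN, e, card_bot, one_mul]
  -- a second prime of the index
  obtain ⟨q, hq, hqi, hqp⟩ : ∃ q, q.Prime ∧ q ∣ N.index ∧ q ≠ p := by
    by_contra hno'
    push Not at hno'
    have hidx : N.index ≠ 1 := fun e => hN2 (index_eq_one.mp e)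
    have he := Nat.eq_prime_pow_of_unique_prime_dvd index_ne_zero_of_finite
      fun {d} hd hdn => hno' d hd hdn
    refine hno.2 ⟨p, _, hp.prime, Nat.pos_of_ne_zero fun e => hidx ?_, he.symm⟩
    rw [he, e, pow_zero]
  have := Fact.mk hq
  by_cases hqN : q ∣ Nat.card N
  · set L := (Cfsg.pResidual q N).map N.subtype with hLdef
    have : (Cfsg.pResidual q N).Characteristic := Transfer.pResidual_characteristic
    have hLn : L.Normal := by rw [hLdef]; infer_instance
    have hLq : ¬ q ∣ Nat.card L := by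
      rw [hLdef, card_map_of_injective N.subtype_injective]
      exact not_dvd_card_pResidual h hqi
    set R := K ⊓ L with hR
    have hRN : R ≤ N := inf_le_left.trans hKN
    set f := QuotientGroup.mk' R
    have hfs : Function.Surjective f := QuotientGroup.mk'_surjective R
    have : (N.map f).Normal := Normal.map inferInstance f hfs
    have : (K.map f).Normal := hKn.map f hfs
    have hfk : f.ker ≤ N := by rwa [QuotientGroup.ker_mk']
    refine no_centralized_pPrime (isPair_quotient h R hRN) (p := p) ?_ ?_ (K.map f)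
      (map_mono hKN) ?_ (fun hd => hKp (hd.trans (card_map_dvd K f))) ?_
    · rwa [index_map_eq _ hfs hfk]
    · by_contra hd
      obtain ⟨n, hn⟩ := exists_prime_orderOf_dvd_card' (G := N) p hpN
      have h1 : orderOf (f (n : G)) ∣ p := hn ▸ Subgroup.orderOf_coe n ▸ orderOf_map_dvd f (n : G)
      rcases hp.eq_one_or_self_of_dvd _ h1 with h2 | h2
      · have h3 : (n : G) ∈ R := (QuotientGroup.eq_one_iff _).mp (orderOf_eq_one_iff.mp h2)
        have h4 := orderOf_dvd_natCard K h3.1
        rw [Subgroup.orderOf_coe, hn] at h4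
        exact hKp h4
      · exact hd (h2 ▸ orderOf_dvd_natCard _ (mem_map_of_mem f n.2))
    · intro e
      rw [Subgroup.map_eq_bot_iff, QuotientGroup.ker_mk'] at e
      have h1 : ¬ q ∣ Nat.card K := fun hd => hLq (hd.trans (card_dvd_of_le (e.trans inf_le_right)))
      rw [hcardN] at hqN
      rcases hq.dvd_mul.mp hqN with h2 | h2
      · exact h1 h2
      · exact hqp ((Nat.prime_dvd_prime_iff_eq hq hp).mp (hq.dvd_of_dvd_pow h2))
    · rintro _ ⟨n, hn, rfl⟩ hno' _ ⟨y, hy, rfl⟩
      obtain ⟨m, hm, hmn⟩ := exists_lift_pElement R n hno'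
      rw [show f n = f (n ^ m) from hmn.symm, ← map_mul, ← map_mul]
      refine (QuotientGroup.eq).mpr (mem_inf.mpr ⟨?_, ?_⟩)
      · rw [show (n ^ m * y)⁻¹ * (y * n ^ m) = y⁻¹ * ((n ^ m)⁻¹ * y * ((n ^ m)⁻¹)⁻¹) by group]
        exact mul_mem (inv_mem hy) (hKn.conj_mem y hy _)
      · have hmL : n ^ m ∈ L := by
          refine ⟨⟨n ^ m, pow_mem hn m⟩, Transfer.mem_pResidual_of_coprime ?_, rfl⟩
          obtain ⟨i, hi⟩ := hm
          rw [← Subgroup.orderOf_coe, hi]
          exact ((Nat.coprime_primes hp hq).mpr (Ne.symm hqp)).pow_left i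
        rw [show (n ^ m * y)⁻¹ * (y * n ^ m) = y⁻¹ * (n ^ m)⁻¹ * y * n ^ m by group]
        refine mul_mem ?_ hmL
        simpa using hLn.conj_mem _ (inv_mem hmL) y⁻¹
  · -- a fixed-point-free element of prime order
    obtain ⟨g, hg⟩ := exists_prime_orderOf_dvd_card' (G := G) q (hqi.trans (index_dvd_card N))
    have hgN : g ∉ N := fun hm => hqN (hg ▸ orderOf_dvd_natCard N hm)
    have : Group.IsNilpotent N := FGS.isNilpotent_of_fpf_element N hq hg fun n hn hc => by
      by_contra hn1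
      obtain ⟨r, hr, hrn⟩ := Nat.exists_prime_and_dvd (fun e => hn1 (orderOf_eq_one_iff.mp e))
      obtain rfl := orderOf_fixed h ⟨1, by rw [pow_one, hg]⟩ hgN hn hc.symm r hr hrn
      exact hqN (hrn.trans (orderOf_dvd_natCard N hn))
    refine no_centralized_pPrime h hpi hpN K hKN hK1 hKp fun n hn hno' y hy => ?_
    obtain ⟨i, hi⟩ := hno'
    exact congrArg Subtype.val (CfsgLib.OddLocal.commute_of_coprime_orderOf
      (⟨n, hn⟩ : N) ⟨y, hKN hy⟩ (by
        rw [orderOf_mk, orderOf_mk, hi]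
        exact (((Nat.Prime.coprime_iff_not_dvd hp).mpr hKp).pow_left i).coprime_dvd_right
          (orderOf_dvd_natCard K hy)))

end CfsgLib.FGS.Camina
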