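import Cfsg.Agent.Lib.FGS.EqualClasses
import Cfsg.Agent.Lib.FGS.Class
import Cfsg.Agent.Lib.Solvable.Product
import Cfsg.Agent.Lib.Cores.Coprime

/-!
Class products of coprime sizes, and groups whose two largest class sizes are coprime.
-/

set_option autoImplicit false
set_option linter.unusedSectionVars false
set_option linter.style.haveILetI false

namespace CfsgLib.FGS.TwoLargest

open Subgroup
open CfsgLib.FGS CfsgLib.FGS.EqualClasses

variable {G : Type*} [Group G] [Finite G]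

/-- The size of the conjugacy class. -/
noncomputable def cls (v : G) : ℕ := (centralizer ({v} : Set G)).index

theorem cls_ne_zero (v : G) : cls v ≠ 0 := index_ne_zero_of_finite

theorem cls_eq_one {v : G} : cls v = 1 ↔ v ∈ center G := noncentral_index.symm

theorem cls_eq_of_isConj {u v : G} (h : IsConj u v) : cls u = cls v := by
  rw [cls, cls, index_centralizer_eq_ncard, index_centralizer_eq_ncard]
  congr 1
  ext w
  exact ⟨fun hw => h.symm.trans hw, fun hw => h.trans hw⟩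

theorem cls_dvd {u v : G} (h : centralizer ({u} : Set G) ≤ centralizer ({v} : Set G)) : cls v ∣ cls u :=
  index_dvd_of_le h

theorem centralizer_eq_of_cls {u v : G} (h : centralizer ({u} : Set G) ≤ centralizer ({v} : Set G))
    (he : cls u = cls v) : centralizer ({u} : Set G) = centralizer ({v} : Set G) := by
  refine Subgroup.eq_of_le_of_card_ge h (le_of_eq ?_)
  have h1 := (centralizer ({u} : Set G)).card_mul_index
  have h2 := (centralizer ({v} : Set G)).card_mul_index
  rw [← h1, show (centralizer ({v} : Set G)).index = (centralizer ({u} : Set G)).index from he.symm] at h2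
  exact Nat.eq_of_mul_eq_mul_right (Nat.pos_of_ne_zero index_ne_zero_of_finite) h2

theorem commute_iff {u v : G} : u ∈ centralizer ({v} : Set G) ↔ Commute u v :=
  mem_centralizer_singleton_iff

/-- For commuting elements of coprime orders the centraliser of the product is the intersection. -/
theorem centralizer_mul_le {u v : G} (huv : Commute u v) (hc : (orderOf u).Coprime (orderOf v)) :
    centralizer ({u * v} : Set G) ≤ centralizer ({u} : Set G) := by
  obtain ⟨j, hj⟩ := Nat.exists_mul_mod_eq_one_of_coprime hc.symm (k := orderOf u) (n := orderOf v)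
    |> fun h => (exists_pow_eq_self_of_coprime (x := u) (n := orderOf v) hc.symm)
  intro g hg
  have h1 : Commute g (u * v) := commute_iff.1 hg
  have h2 := h1.pow_right (orderOf v * j)
  rw [huv.mul_pow, pow_mul, pow_mul, pow_orderOf_eq_one, one_pow, mul_one, hj] at h2
  exact commute_iff.2 h2

theorem cls_mul_dvd {u v : G} (h : (cls u).Coprime (cls v)) : cls (u * v) ∣ cls u * cls v := by
  unfold cls at h ⊢
  rw [← (CfsgLib.Solvable.index_inf_of_coprime h).2]
  exact index_dvd_of_le fun g hg =>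
    commute_iff.2 ((commute_iff.1 hg.1).mul_right (commute_iff.1 hg.2))

/-- Coprime classes: all pairs are simultaneously conjugate. -/
theorem isConj_mul {u v u' v' : G} (h : (cls u).Coprime (cls v)) (hu : IsConj u u') (hv : IsConj v v') :
    IsConj (u * v) (u' * v') := by
  obtain ⟨a, ha⟩ := isConj_iff.1 hu
  obtain ⟨b, hb⟩ := isConj_iff.1 hv
  obtain ⟨c, hc, d, hd, he⟩ := CfsgLib.Solvable.mul_of_coprime_index h (a⁻¹ * b)
  refine isConj_iff.2 ⟨a * c, ?_⟩
  have e2 : a * c = b * d⁻¹ := by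
    rw [show b = a * (c * d) by rw [← he]; group]
    group
  have h1 : (a * c) * u * (a * c)⁻¹ = u' := by
    rw [← ha]
    calc (a * c) * u * (a * c)⁻¹ = a * (c * u) * c⁻¹ * a⁻¹ := by group
      _ = a * u * a⁻¹ := by rw [(commute_iff.1 hc).eq]; group
  have h2 : (a * c) * v * (a * c)⁻¹ = v' := by
    rw [e2, ← hb]
    calc (b * d⁻¹) * v * (b * d⁻¹)⁻¹ = b * (d⁻¹ * v) * d * b⁻¹ := by group
      _ = b * v * b⁻¹ := by rw [((commute_iff.1 hd).inv_left).eq]; group
  rw [← h1, ← h2]; group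

theorem cls_le_mul_right {u v : G} (h : (cls u).Coprime (cls v)) : cls v ≤ cls (u * v) := by
  rw [cls, cls, index_centralizer_eq_ncard, index_centralizer_eq_ncard]
  exact Set.ncard_le_ncard_of_injOn (fun w => u * w) (fun w hw => isConj_mul h (IsConj.refl u) hw)
    (fun a _ b _ hab => mul_left_cancel hab) (Set.toFinite _)

theorem cls_le_mul_left {u v : G} (h : (cls u).Coprime (cls v)) : cls u ≤ cls (u * v) := by
  rw [cls, cls, index_centralizer_eq_ncard, index_centralizer_eq_ncard]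
  exact Set.ncard_le_ncard_of_injOn (fun w => w * v) (fun w hw => isConj_mul h hw (IsConj.refl v))
    (fun a _ b _ hab => mul_right_cancel hab) (Set.toFinite _)

/-- If the product class is no bigger, a normal subgroup translates the class. -/
theorem exists_translation {u v : G} (h : (cls u).Coprime (cls v)) (huv : cls (u * v) = cls v) :
    ∃ T : Subgroup G, T.Normal ∧ Nat.card T ∣ cls v ∧ T ≤ centralizer ({u} : Set G) ∧
      ∀ g : G, u⁻¹ * (g * u * g⁻¹) ∈ T := by
  classical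
  set V : Set G := {w | IsConj v w}
  let T : Subgroup G :=
    { carrier := {t | ∀ w, IsConj v w ↔ IsConj v (t * w)}
      one_mem' := fun w => by rw [one_mul]
      mul_mem' := fun {a b} ha hb w => by rw [mul_assoc]; exact (hb w).trans (ha _)
      inv_mem' := fun {a} ha w => by have := ha (a⁻¹ * w); rw [mul_inv_cancel_left] at this; exact this.symm }
  have hTn : T.Normal := ⟨fun t ht g w => by
    have h1 : ∀ w g : G, IsConj v w ↔ IsConj v (g * w * g⁻¹) := fun w g =>
      ⟨fun hw => hw.trans (isConj_iff.2 ⟨g, rfl⟩), fun hw => hw.trans (isConj_iff.2 ⟨g⁻¹, by group⟩)⟩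
    rw [h1 w g⁻¹, ht (g⁻¹ * w * g⁻¹⁻¹), h1 _ g]
    rw [show g * (t * (g⁻¹ * w * g⁻¹⁻¹)) * g⁻¹ = g * t * g⁻¹ * w by group]⟩
  have hmem : ∀ u₁ u₂ : G, IsConj u u₁ → IsConj u u₂ → u₁⁻¹ * u₂ ∈ T := by
    have hbij : ∀ u₁ : G, IsConj u u₁ → (fun w => u₁ * w) '' V = {z | IsConj (u * v) z} := by
      intro u₁ hu₁
      refine Set.eq_of_subset_of_ncard_le ?_ ?_ (Set.toFinite _)
      · rintro _ ⟨w, hw, rfl⟩; exact isConj_mul h hu₁ hw
      · rw [Set.ncard_image_of_injective _ (mul_right_injective u₁), ← index_centralizer_eq_ncard,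
          ← index_centralizer_eq_ncard]
        exact huv.le
    have hiff : ∀ u₁ : G, IsConj u u₁ → ∀ w, IsConj v w ↔ IsConj (u * v) (u₁ * w) := by
      intro u₁ hu₁ w
      refine ⟨fun hw => isConj_mul h hu₁ hw, fun hz => ?_⟩
      obtain ⟨w', hw', he⟩ := (hbij u₁ hu₁).symm.subset hz
      exact mul_left_cancel he ▸ hw'
    intro u₁ u₂ hu₁ hu₂ w
    rw [hiff u₂ hu₂ w, hiff u₁ hu₁ (u₁⁻¹ * u₂ * w), ← mul_assoc, ← mul_assoc, mul_inv_cancel, one_mul]
  have hcard : Nat.card T ∣ cls v := by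
    set S : Set G := {g | IsConj v g⁻¹}
    have hS : S.ncard = cls v := by
      rw [cls, index_centralizer_eq_ncard]
      exact Set.ncard_congr (fun g _ => g⁻¹) (fun g hg => hg) (fun a b _ _ hab => inv_injective hab)
        (fun w hw => ⟨w⁻¹, by simpa [S] using hw, inv_inv w⟩)
    have hpre : QuotientGroup.mk ⁻¹' ((QuotientGroup.mk (s := T)) '' S) = S := by
      refine Set.Subset.antisymm ?_ (Set.subset_preimage_image _ _)
      rintro g ⟨s, hs, he⟩
      have ht : s⁻¹ * g ∈ T := QuotientGroup.eq.1 he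
      show IsConj v g⁻¹
      rw [show g⁻¹ = (s⁻¹ * g)⁻¹ * s⁻¹ by group]
      exact (inv_mem ht s⁻¹).1 hs
    refine ⟨((QuotientGroup.mk (s := T)) '' S).ncard, ?_⟩
    rw [← hS, ← Nat.card_coe_set_eq ((QuotientGroup.mk (s := T)) '' S), ← Nat.card_prod]
    conv_lhs => rw [← hpre]
    rw [← Nat.card_coe_set_eq]
    exact Nat.card_congr (QuotientGroup.preimageMkEquivSubgroupProdSet T _)
  refine ⟨T, hTn, hcard, ?_, fun g => hmem u _ (IsConj.refl u) (isConj_iff.2 ⟨g, rfl⟩)⟩
  haveI := hTn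
  rw [← relIndex_eq_one]
  refine Nat.eq_one_of_dvd_coprimes (h.coprime_dvd_right hcard) ?_ (relIndex_dvd_card _ _)
  exact CfsgLib.Solvable.relIndex_dvd_index_of_normal_left _ _

/-- An element of order prime to the class it translates is central. -/
theorem central_of_coprime {u v : G} (h : (cls u).Coprime (cls v)) (huv : cls (u * v) = cls v)
    (ho : (orderOf u).Coprime (cls v)) : u ∈ center G := by
  obtain ⟨T, -, hcard, hTC, hT⟩ := exists_translation h huv
  refine mem_center_iff.2 fun g => ?_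
  set w := u⁻¹ * (g * u * g⁻¹)
  have hc : Commute w u := commute_iff.1 (hTC (hT g))
  have hw : w ^ orderOf u = 1 := by
    have h1 : (u * w) ^ orderOf u = 1 := by
      rw [show u * w = g * u * g⁻¹ by simp [w], conj_pow, pow_orderOf_eq_one, mul_one, mul_inv_cancel]
    rwa [hc.symm.mul_pow, pow_orderOf_eq_one, one_mul] at h1
  have h1 : orderOf w = 1 := Nat.eq_one_of_dvd_coprimes ho (orderOf_dvd_of_pow_eq_one hw)
    (((T.orderOf_dvd_natCard (hT g)).trans hcard))
  have h2 : g * u * g⁻¹ = u := by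
    rw [orderOf_eq_one_iff] at h1
    exact (inv_mul_eq_one.1 h1).symm
  exact mul_inv_eq_iff_eq_mul.1 h2

/-- An element is central once its prime power parts are. -/
theorem mem_of_parts (H : Subgroup G) (v : G)
    (h : ∀ p : ℕ, p.Prime → p ∣ orderOf v → ∀ a ∈ zpowers v, (∃ k, orderOf a = p ^ k) → a ∈ H) : v ∈ H := by
  suffices key : ∀ (d : ℕ) (w : G), orderOf w = d → w ∈ zpowers v → w ∈ H from key _ v rfl (mem_zpowers v)
  intro d
  induction d using Nat.strong_induction_on with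
  | _ d ih =>
    intro w hd hw
    by_cases hd1 : d = 1
    · rw [hd1, orderOf_eq_one_iff] at hd
      exact hd ▸ one_mem _
    obtain ⟨q, hq, hqd⟩ := Nat.exists_prime_and_dvd hd1
    haveI : Fact q.Prime := ⟨hq⟩
    obtain ⟨a, b, hab, ha, hb, haq, hbq⟩ := CfsgLib.Cores.exists_pow_mul_pow q w
    have hlt : orderOf b < d := by
      refine lt_of_le_of_ne (Nat.le_of_dvd (hd ▸ orderOf_pos w) ?_) fun e => ?_
      · exact hd ▸ orderOf_dvd_of_mem_zpowers hb
      · exact hq.coprime_iff_not_dvd.1 hbq.symm (e ▸ hqd)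
    rw [hab]
    exact mul_mem (h q hq (hqd.trans (hd ▸ orderOf_dvd_of_mem_zpowers hw)) a (zpowers_le.2 hw ha) haq)
      (ih _ hlt b rfl (zpowers_le.2 hw hb))

theorem centralizer_le_of_mem_zpowers {v a : G} (ha : a ∈ zpowers v) :
    centralizer ({v} : Set G) ≤ centralizer ({a} : Set G) := by
  obtain ⟨i, rfl⟩ := ha
  exact fun g hg => commute_iff.2 ((commute_iff.1 hg).zpow_right i)

/-- The hypotheses, with `x` of order built from the primes of `m`. -/
structure Hyp (G : Type*) [Group G] [Finite G] (m n : ℕ) (x y : G) : Prop where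
  n_gt : 1 < n
  n_lt : n < m
  cop : m.Coprime n
  top : ∀ z : G, cls z ≤ m
  second : ∀ z : G, cls z < m → cls z ≤ n
  clsx : cls x = n
  clsy : cls y = m
  primesx : ∀ p : ℕ, p.Prime → p ∣ orderOf x → p ∣ m

variable {m n : ℕ} {x y : G} (D : Hyp G m n x y)
include D

theorem Hyp.eq_m {z : G} (h : n < cls z) : cls z = m :=
  le_antisymm (D.top z) (not_lt.1 fun hlt => absurd (D.second z hlt) (not_le.2 h))

theorem Hyp.not_dvd : ¬ n ∣ m := fun h =>
  absurd (Nat.eq_one_of_dvd_coprimes D.cop h dvd_rfl) D.n_gt.ne'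

theorem Hyp.le_n {z : G} (h : cls z ≠ m) : cls z ≤ n := D.second z (lt_of_le_of_ne (D.top z) h)

/-- Elements of order prime to `m` centralising `x` are central. -/
theorem Hyp.central_of_commute {h : G} (hh : (orderOf h).Coprime m) (hx : Commute x h) : h ∈ center G := by
  have hc : (orderOf x).Coprime (orderOf h) := Nat.coprime_of_dvd fun p hp h1 h2 =>
    hp.ne_one (Nat.eq_one_of_dvd_coprimes hh h2 (D.primesx p hp h1))
  have hle := centralizer_mul_le hx hc
  have hd : n ∣ cls (x * h) := D.clsx ▸ cls_dvd hle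
  have hne : cls (x * h) ≠ m := fun e => D.not_dvd (e ▸ hd)
  have he : cls (x * h) = cls x := by
    rw [D.clsx]
    exact le_antisymm (D.le_n hne) (Nat.le_of_dvd (Nat.pos_of_ne_zero (cls_ne_zero _)) hd)
  have hle2 : centralizer ({x * h} : Set G) ≤ centralizer ({h} : Set G) := by
    rw [hx.eq]
    exact centralizer_mul_le hx.symm hc.symm
  have hdn : cls h ∣ n := D.clsx ▸ cls_dvd ((centralizer_eq_of_cls hle he).symm.le.trans hle2)
  have hcop : (cls h).Coprime (cls y) := D.clsy.symm ▸ (D.cop.symm.coprime_dvd_left hdn)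
  refine central_of_coprime hcop ?_ (D.clsy.symm ▸ hh)
  exact le_antisymm ((D.top _).trans D.clsy.ge) (cls_le_mul_right hcop)

theorem Hyp.exists_translation_x {u : G} (hu : IsConj x u) :
    ∃ T : Subgroup G, T.Normal ∧ Nat.card T ∣ m ∧ T ≤ centralizer ({u} : Set G) ∧
      ∀ g : G, u⁻¹ * (g * u * g⁻¹) ∈ T := by
  have hcop : (cls u).Coprime (cls y) := by
    rw [← cls_eq_of_isConj hu, D.clsx, D.clsy]; exact D.cop.symm
  obtain ⟨T, h1, h2, h3, h4⟩ := exists_translation hcop
    (le_antisymm ((D.top _).trans D.clsy.ge) (cls_le_mul_right hcop))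
  exact ⟨T, h1, D.clsy ▸ h2, h3, h4⟩

theorem Hyp.conj_commute {u v : G} (hu : IsConj x u) (hv : IsConj x v) : Commute u v := by
  obtain ⟨T, -, -, hTC, hT⟩ := D.exists_translation_x hu
  obtain ⟨g, rfl⟩ := isConj_iff.1 (hu.symm.trans hv)
  rw [show g * u * g⁻¹ = u * (u⁻¹ * (g * u * g⁻¹)) by group]
  exact (Commute.refl u).mul_right (commute_iff.1 (hTC (hT g))).symm

/-- The normal closure of `x`. -/
def Kx (x : G) : Subgroup G := closure {u | IsConj x u}

theorem Hyp.Kx_comm {a b : G} (ha : a ∈ Kx x) (hb : b ∈ Kx x) : Commute a b := by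
  have h1 : ∀ u, IsConj x u → Kx x ≤ centralizer ({u} : Set G) := fun u hu =>
    (closure_le _).2 fun v hv => commute_iff.2 (D.conj_commute hv hu)
  have h2 : Kx x ≤ centralizer ({a} : Set G) := (closure_le _).2 fun v hv =>
    commute_iff.2 (commute_iff.1 (h1 v hv ha)).symm
  exact (commute_iff.1 (h2 hb)).symm

theorem Hyp.Kx_pow {a : G} (ha : a ∈ Kx x) : a ^ orderOf x = 1 := by
  induction ha using closure_induction with
  | mem u hu =>
    obtain ⟨g, rfl⟩ := isConj_iff.1 hu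
    rw [conj_pow, pow_orderOf_eq_one, mul_one, mul_inv_cancel]
  | one => exact one_pow _
  | mul a b ha hb e1 e2 => rw [(D.Kx_comm ha hb).mul_pow, e1, e2, one_mul]
  | inv a _ e1 => rw [inv_pow, e1, inv_one]

theorem Hyp.coprime_Kx {a k : G} (ha : a ∈ Kx x) (hk : (orderOf k).Coprime m) :
    (orderOf k).Coprime (orderOf a) := Nat.coprime_of_dvd fun p hp h1 h2 =>
  hp.ne_one (Nat.eq_one_of_dvd_coprimes hk h1
    (D.primesx p hp (h2.trans (orderOf_dvd_of_pow_eq_one (D.Kx_pow ha)))))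

omit D in
theorem conj_mem_Kx {a : G} (ha : a ∈ Kx x) (g : G) : g * a * g⁻¹ ∈ Kx x := by
  have h : Kx x ≤ (Kx x).comap (MulAut.conj g).toMonoidHom :=
    (closure_le _).2 fun u hu => subset_closure (hu.trans (isConj_iff.2 ⟨g, rfl⟩))
  exact h ha

omit D in
theorem self_mem_Kx : x ∈ Kx x := subset_closure (IsConj.refl x)

/-- The orbit norm `a · kak⁻¹ · ⋯` of length `l`. -/
def norm' (k a : G) : ℕ → G
  | 0 => 1
  | l + 1 => a * (k * norm' k a l * k⁻¹)

omit D in
theorem norm_mem {k a : G} (ha : a ∈ Kx x) : ∀ l, norm' k a l ∈ Kx x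
  | 0 => one_mem _
  | l + 1 => mul_mem ha (conj_mem_Kx (norm_mem ha l) k)

theorem Hyp.norm_mul {k a b : G} (ha : a ∈ Kx x) (hb : b ∈ Kx x) :
    ∀ l, norm' k (a * b) l = norm' k a l * norm' k b l
  | 0 => (one_mul 1).symm
  | l + 1 => by
    simp only [norm']
    rw [Hyp.norm_mul ha hb l]
    have hc := D.Kx_comm hb (conj_mem_Kx (norm_mem (k := k) ha l) k)
    calc a * b * (k * (norm' k a l * norm' k b l) * k⁻¹)
        = a * (b * (k * norm' k a l * k⁻¹)) * (k * norm' k b l * k⁻¹) := by group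
      _ = _ := by rw [hc.eq]; group

omit D in
theorem norm_fixed {k a : G} (h : Commute k a) : ∀ l, norm' k a l = a ^ l
  | 0 => (pow_zero a).symm
  | l + 1 => by
    simp only [norm']
    rw [norm_fixed h l, (h.pow_right l).eq, mul_inv_cancel_right, ← pow_succ']

omit D in
theorem norm_succ' (k a : G) : ∀ l, norm' k a (l + 1) = norm' k a l * (k ^ l * a * (k ^ l)⁻¹)
  | 0 => by simp [norm']
  | l + 1 => by
    show a * (k * norm' k a (l + 1) * k⁻¹) = a * (k * norm' k a l * k⁻¹) * _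
    rw [norm_succ' k a l, pow_succ']
    group

theorem Hyp.commute_norm {k a : G} (ha : a ∈ Kx x) : Commute k (norm' k a (orderOf k)) := by
  have h1 : norm' k a (orderOf k + 1) = a * (k * norm' k a (orderOf k) * k⁻¹) := rfl
  have h2 := norm_succ' k a (orderOf k)
  rw [pow_orderOf_eq_one, one_mul, inv_one, mul_one, (D.Kx_comm (norm_mem ha _) ha).eq] at h2
  exact mul_inv_eq_iff_eq_mul.1 (mul_left_cancel (h1.symm.trans h2))

omit D in
theorem norm_conj {c k a : G} (h : Commute c k) : ∀ l, norm' k (c * a * c⁻¹) l = c * norm' k a l * c⁻¹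
  | 0 => by simp [norm']
  | l + 1 => by
    simp only [norm']
    rw [norm_conj h l]
    calc c * a * c⁻¹ * (k * (c * norm' k a l * c⁻¹) * k⁻¹)
        = c * a * c⁻¹ * ((k * c) * norm' k a l * (k * c)⁻¹) := by group
      _ = c * a * c⁻¹ * ((c * k) * norm' k a l * (c * k)⁻¹) := by rw [h.eq]
      _ = _ := by group

/-- The key estimate. -/
theorem Hyp.key {k v z : G} (hk : (orderOf k).Coprime m) (hkZ : k ∉ center G)
    (hz : IsConj x z) (hkv : Commute k v) (hc : (orderOf k).Coprime (orderOf v))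
    (hN : ∀ c : G, Commute c k → Commute c v → Commute c (norm' k z (orderOf k))) :
    cls v ∣ m := by
  classical
  suffices hbig : n < cls (k * v) by
    have hle : centralizer ({k * v} : Set G) ≤ centralizer ({v} : Set G) := by
      rw [hkv.eq]; exact centralizer_mul_le hkv.symm hc.symm
    exact D.eq_m hbig ▸ cls_dvd hle
  set C' := centralizer ({k * v} : Set G) with hC'
  set Cz := centralizer ({z} : Set G) with hCz
  set E := C' ⊓ Cz with hE
  have hC'k : ∀ c ∈ C', Commute c k := fun c hc' => commute_iff.1 (centralizer_mul_le hkv hc hc')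
  have hC'v : ∀ c ∈ C', Commute c v := fun c hc' => commute_iff.1 ((by
    rw [hkv.eq]; exact centralizer_mul_le hkv.symm hc.symm :
      centralizer ({k * v} : Set G) ≤ centralizer ({v} : Set G)) hc')
  have hzK : z ∈ Kx x := subset_closure hz
  let f : Kx x →* G := MonoidHom.mk' (fun a => (a : G)⁻¹ * (k * a * k⁻¹)) (fun a b => by
    have h1 := D.Kx_comm (inv_mem b.2) (mul_mem (inv_mem a.2) (conj_mem_Kx a.2 k))
    calc ((a * b : Kx x) : G)⁻¹ * (k * (a * b : Kx x) * k⁻¹)
        = (b : G)⁻¹ * ((a : G)⁻¹ * (k * a * k⁻¹)) * (k * b * k⁻¹) := by push_cast; group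
      _ = (a : G)⁻¹ * (k * a * k⁻¹) * (b : G)⁻¹ * (k * b * k⁻¹) := by rw [h1.eq]
      _ = _ := by group)
  have hf : ∀ c ∈ C', ∀ (a : G) (ha : a ∈ Kx x),
      f ⟨c * a * c⁻¹, conj_mem_Kx ha c⟩ = c * f ⟨a, ha⟩ * c⁻¹ := by
    intro c hc' a ha
    show (c * a * c⁻¹)⁻¹ * (k * (c * a * c⁻¹) * k⁻¹) = c * (a⁻¹ * (k * a * k⁻¹)) * c⁻¹
    calc (c * a * c⁻¹)⁻¹ * (k * (c * a * c⁻¹) * k⁻¹)
        = c * a⁻¹ * c⁻¹ * ((k * c) * a * (k * c)⁻¹) := by group
      _ = c * a⁻¹ * c⁻¹ * ((c * k) * a * (c * k)⁻¹) := by rw [(hC'k c hc').eq]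
      _ = _ := by group
  have hz1 : f ⟨z, hzK⟩ ≠ 1 := by
    intro e
    have e' : k * z * k⁻¹ = z := (inv_mul_eq_one.1 (show z⁻¹ * (k * z * k⁻¹) = 1 from e)).symm
    obtain ⟨g, hg⟩ := isConj_iff.1 hz
    refine conj_not_central (g := g⁻¹) hkZ (D.central_of_commute ?_ ?_)
    · rwa [show g⁻¹ * k * g⁻¹⁻¹ = MulAut.conj g⁻¹ k from rfl, MulEquiv.orderOf_eq]
    · rw [show x = g⁻¹ * z * g by rw [← hg]; group]
      show g⁻¹ * z * g * (g⁻¹ * k * g⁻¹⁻¹) = g⁻¹ * k * g⁻¹⁻¹ * (g⁻¹ * z * g)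
      calc g⁻¹ * z * g * (g⁻¹ * k * g⁻¹⁻¹) = g⁻¹ * (z * k) * g := by group
        _ = g⁻¹ * (k * z) * g := by rw [mul_inv_eq_iff_eq_mul.1 e']
        _ = _ := by group
  -- equal images have equal conjugates
  have hfix : ∀ c ∈ C', c * f ⟨z, hzK⟩ * c⁻¹ = f ⟨z, hzK⟩ → c ∈ Cz := by
    intro c hc' he
    set d := z⁻¹ * (c * z * c⁻¹) with hd
    have hdK : d ∈ Kx x := mul_mem (inv_mem hzK) (conj_mem_Kx hzK c)
    have h1 : f ⟨d, hdK⟩ = 1 := by
      have h2 : (⟨d, hdK⟩ : Kx x) = ⟨z, hzK⟩⁻¹ * ⟨c * z * c⁻¹, conj_mem_Kx hzK c⟩ := rfl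
      rw [h2, map_mul, map_inv, hf c hc' z hzK, he, inv_mul_cancel]
    have hkd : Commute k d :=
      mul_inv_eq_iff_eq_mul.1 (inv_mul_eq_one.1 (show d⁻¹ * (k * d * k⁻¹) = 1 from h1)).symm
    have hNc := hN c (hC'k c hc') (hC'v c hc')
    have h3 : d ^ orderOf k = 1 := by
      rw [← norm_fixed hkd]
      have h4 := D.norm_mul (k := k) hzK hdK (orderOf k)
      rw [show z * d = c * z * c⁻¹ by simp [hd], norm_conj (hC'k c hc'), hNc.eq, mul_inv_cancel_right] at h4
      exact mul_eq_left.1 h4.symm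
    have h5 : orderOf d = 1 := Nat.eq_one_of_dvd_coprimes (D.coprime_Kx hdK hk)
      (orderOf_dvd_of_pow_eq_one h3) dvd_rfl
    rw [orderOf_eq_one_iff] at h5
    exact commute_iff.2 (mul_inv_eq_iff_eq_mul.1 (inv_mul_eq_one.1 h5).symm)
  set R := Nat.card f.range with hR
  have hr1 : E.relIndex C' < R := by
    have h1 : E.relIndex C' = Nat.card (↥C' ⧸ E.subgroupOf C') := rfl
    let F : ↥C' ⧸ E.subgroupOf C' → {w : f.range // w ≠ 1} := Quotient.lift
      (fun c => ⟨⟨(c : G) * f ⟨z, hzK⟩ * (c : G)⁻¹, ⟨⟨c * z * c⁻¹, conj_mem_Kx hzK _⟩, hf c c.2 z hzK⟩⟩,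
        fun e => hz1 (by
          have e' : (c : G) * f ⟨z, hzK⟩ * (c : G)⁻¹ = 1 := congrArg Subtype.val e
          rw [mul_inv_eq_one] at e'
          exact mul_eq_left.1 e')⟩) (fun a b hab => by
        have hab' : (a : G)⁻¹ * b ∈ E := (QuotientGroup.leftRel_apply.1 hab : a⁻¹ * b ∈ E.subgroupOf C')
        refine Subtype.ext (Subtype.ext ?_)
        show (a : G) * f ⟨z, hzK⟩ * (a : G)⁻¹ = (b : G) * f ⟨z, hzK⟩ * (b : G)⁻¹
        have hzc : (⟨(a : G)⁻¹ * b * z * ((a : G)⁻¹ * b)⁻¹, conj_mem_Kx hzK _⟩ : Kx x) = ⟨z, hzK⟩ :=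
          Subtype.ext (mul_inv_eq_iff_eq_mul.2 (commute_iff.1 hab'.2).eq)
        have h2 := hf _ hab'.1 z hzK
        rw [hzc] at h2
        calc (a : G) * f ⟨z, hzK⟩ * (a : G)⁻¹
            = (a : G) * ((a : G)⁻¹ * b * f ⟨z, hzK⟩ * ((a : G)⁻¹ * b)⁻¹) * (a : G)⁻¹ := by rw [← h2]
          _ = _ := by group)
    have hF : Function.Injective F := by
      intro a b
      refine Quotient.inductionOn₂ a b fun a b hab => Quotient.sound (QuotientGroup.leftRel_apply.2 ?_)
      have hab' : (a : G) * f ⟨z, hzK⟩ * (a : G)⁻¹ = (b : G) * f ⟨z, hzK⟩ * (b : G)⁻¹ :=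
        congrArg (fun w => ((w : {w : f.range // w ≠ 1}).1 : G)) hab
      have hm : (a : G)⁻¹ * b ∈ C' := mul_mem (inv_mem a.2) b.2
      refine ⟨hm, hfix _ hm ?_⟩
      calc (a : G)⁻¹ * b * f ⟨z, hzK⟩ * ((a : G)⁻¹ * b)⁻¹
          = (a : G)⁻¹ * ((b : G) * f ⟨z, hzK⟩ * (b : G)⁻¹) * a := by group
        _ = _ := by rw [← hab']; group
    rw [h1, hR]
    refine lt_of_le_of_lt (Nat.card_le_card_of_injective F hF) ?_
    exact Finite.card_subtype_lt (p := fun w : f.range => w ≠ 1) (x := 1) (not_not.2 rfl)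
  have hr2 : R ≤ E.relIndex Cz := by
    have hKz : Kx x ≤ Cz := fun a ha => commute_iff.2 (D.Kx_comm ha hzK)
    have h1 : (E.subgroupOf (Kx x)) ≤ f.ker := by
      intro a ha
      show (a : G)⁻¹ * (k * a * k⁻¹) = 1
      have hc : Commute (a : G) k := hC'k _ ha.1
      rw [← hc.eq, mul_inv_cancel_right, inv_mul_cancel]
    have h2 : R ≤ E.relIndex (Kx x) := by
      rw [hR, ← index_ker]
      exact Nat.le_of_dvd (Nat.pos_of_ne_zero index_ne_zero_of_finite) (index_dvd_of_le h1)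
    exact h2.trans (relIndex_le_of_le_right hKz index_ne_zero_of_finite)
  have e1 : E.relIndex C' * cls (k * v) = E.relIndex Cz * n := by
    rw [← D.clsx, cls_eq_of_isConj hz, cls, cls, relIndex_mul_index inf_le_left,
      relIndex_mul_index inf_le_right]
  by_contra hle
  have h3 : E.relIndex C' * cls (k * v) ≤ E.relIndex C' * n := Nat.mul_le_mul_left _ (not_lt.1 hle)
  rw [e1] at h3
  exact absurd (Nat.le_of_mul_le_mul_right h3 (by have := D.n_gt; omega)) (not_le.2 (lt_of_lt_of_le hr1 hr2))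

end CfsgLib.FGS.TwoLargest
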