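/-
The graph on primes dividing class sizes of `p`-singular elements, when `p` does not divide the order of
the centre: any two such primes are within distance three.
-/
import Cfsg.Agent.Lib.FGS.CoprimeLargest
import Cfsg.Agent.Lib.FGS.Covering

set_option autoImplicit false

namespace CfsgLib.FGS.SingularGraph

open Subgroup CfsgLib.FGS.TwoLargest
open scoped Pointwise

variable {G : Type*} [Group G] [Finite G] {p : ℕ} [hp : Fact p.Prime]

theorem le_centralizer {u : G} {K : Subgroup G} :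
    K ≤ centralizer ({u} : Set G) ↔ ∀ g ∈ K, Commute g u :=
  ⟨fun h g hg => commute_iff.1 (h hg), fun h g hg => commute_iff.2 (h g hg)⟩

/-- Sylow's theorem inside a subgroup containing a Sylow subgroup. -/
theorem exists_conj_mem (P : Sylow p G) {K : Subgroup G} (hPK : (P : Subgroup G) ≤ K) {g : G} (hg : g ∈ K)
    (hgp : ∃ k, orderOf g = p ^ k) : ∃ c ∈ K, c * g * c⁻¹ ∈ (P : Subgroup G) := by
  obtain ⟨k, hk⟩ := hgp
  have hz : IsPGroup p ↥(zpowers (⟨g, hg⟩ : K)) :=
    IsPGroup.of_card (n := k) (by rw [Nat.card_zpowers, ← Subgroup.orderOf_coe, hk])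
  obtain ⟨Q, hQ⟩ := hz.exists_le_sylow
  obtain ⟨c, hc⟩ := MulAction.exists_smul_eq K Q (P.subtype hPK)
  refine ⟨c, c.2, ?_⟩
  have h1 : c * (⟨g, hg⟩ : K) * c⁻¹ ∈ (P.subtype hPK : Subgroup K) := by
    rw [← hc]
    have h2 := Subgroup.smul_mem_pointwise_smul _ (MulAut.conj c) (Q : Subgroup K) (hQ (mem_zpowers (⟨g, hg⟩ : K)))
    exact h2
  exact h1

theorem sylow_le_of_not_dvd {K : Subgroup G} (h : ¬ p ∣ K.index) :
    ∃ P : Sylow p G, (P : Subgroup G) ≤ K := by
  obtain ⟨Q⟩ := (inferInstance : Nonempty (Sylow p K))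
  obtain ⟨P, hP⟩ := (Q.2.map K.subtype).exists_le_sylow
  refine ⟨P, ?_⟩
  have hcard : Nat.card (P : Subgroup G) ≤ Nat.card ((Q : Subgroup K).map K.subtype) := by
    rw [card_subtype, P.card_eq_multiplicity, Q.card_eq_multiplicity, ← K.card_mul_index,
      Nat.factorization_mul Nat.card_pos.ne' K.index_ne_zero_of_finite, Finsupp.add_apply,
      Nat.factorization_eq_zero_of_not_dvd h, add_zero]
  rw [← Subgroup.eq_of_le_of_card_ge hP hcard]
  exact map_subtype_le _

theorem not_dvd_index_of_le (P : Sylow p G) {K : Subgroup G} (h : (P : Subgroup G) ≤ K) : ¬ p ∣ K.index :=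
  fun hd => P.not_dvd_index (hd.trans (index_dvd_of_le h))

/-- The central step: a noncentral element of order `p` in the centre of a Sylow subgroup. -/
theorem core {u v : G} (P : Sylow p G) (hu : ∃ k, orderOf u = p ^ (k + 1)) (hPu : (P : Subgroup G) ≤ centralizer ({u} : Set G))
    (hua : cls u ≠ 1) (hv : v ∈ (P : Subgroup G)) (hvp : p ∣ orderOf v) (hpv : p ∣ cls v)
    (hcop : (cls u).Coprime (cls v)) :
    ∃ x : G, p ∣ orderOf x ∧ p ∣ cls x ∧ ¬ (cls x).Coprime (cls u) := by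
  classical
  by_contra hcon
  push_neg at hcon
  set C := centralizer ({u} : Set G) with hC
  have hpa : ¬ p ∣ cls u := not_dvd_index_of_le P hPu
  -- `p`-regular elements of `C` centralize a conjugate of `P`
  have h1 : ∀ y ∈ C, ¬ p ∣ orderOf y → ∃ c ∈ C, ∀ π ∈ (P : Subgroup G), Commute π (c * y * c⁻¹) := by
    intro y hy hyp
    have huy : Commute u y := (commute_iff.1 hy).symm
    obtain ⟨k, hk⟩ := hu
    have hco : (orderOf u).Coprime (orderOf y) := hk ▸ ((hp.out.coprime_iff_not_dvd).2 hyp).pow_left _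
    have hle := centralizer_mul_le huy hco
    have hord : p ∣ orderOf (u * y) := by
      rw [huy.orderOf_mul_eq_mul_orderOf_of_coprime hco, hk]
      exact dvd_mul_of_dvd_left (dvd_pow_self p (Nat.succ_ne_zero k)) _
    have hnd : ¬ p ∣ cls (u * y) := fun hd =>
      hua (Nat.eq_one_of_dvd_coprimes (hcon _ hord hd) (cls_dvd hle) dvd_rfl)
    obtain ⟨P', hP'⟩ := sylow_le_of_not_dvd hnd
    have hP'u : (P' : Subgroup G) ≤ C := hP'.trans hle
    obtain ⟨c, hc⟩ := MulAction.exists_smul_eq C (P'.subtype hP'u) (P.subtype hPu)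
    refine ⟨c, c.2, fun π hπ => ?_⟩
    have hπ' : (⟨π, hPu hπ⟩ : C) ∈ (c • P'.subtype hP'u : Sylow p C) := by
      rw [hc]; exact hπ
    obtain ⟨ρ, hρ, hρπ⟩ : (⟨π, hPu hπ⟩ : C) ∈ (MulAut.conj c) • (P'.subtype hP'u : Subgroup C) := hπ'
    have hρ' : (ρ : G) ∈ (P' : Subgroup G) := hρ
    have e : (c : G) * ρ * (c : G)⁻¹ = π := congrArg Subtype.val hρπ
    have h2 : Commute (ρ : G) (u * y) := commute_iff.1 (hP' hρ')
    have h3 : Commute (ρ : G) u := commute_iff.1 (hP'u hρ')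
    have h4 : Commute (ρ : G) y := by
      have := h3.inv_right.mul_right h2
      rwa [inv_mul_cancel_left] at this
    rw [← e]
    exact (Commute.conj_iff (c : G)).2 h4
  -- `C` is generated by `P` and its centralizer
  have hCP : C ≤ (P : Subgroup G) ⊔ centralizer ((P : Subgroup G) : Set G) := by
    have hle : ((P : Subgroup G) ⊔ (C ⊓ centralizer ((P : Subgroup G) : Set G))).subgroupOf C = ⊤ := by
      refine CfsgLib.FGS.eq_top_of_forall_exists_conj fun g => ?_
      obtain ⟨a, b, hab, ha, hb, hap, hbp⟩ := CfsgLib.Cores.exists_pow_mul_pow p (g : G)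
      have haC : a ∈ C := (zpowers_le.2 g.2) (ha)
      have hbC : b ∈ C := (zpowers_le.2 g.2) (hb)
      obtain ⟨c, hc, hcb⟩ := h1 b hbC ((hp.out.coprime_iff_not_dvd).1 hbp.symm)
      have hab' : Commute a b := by
        obtain ⟨i, rfl⟩ := ha
        obtain ⟨j, rfl⟩ := hb
        exact (Commute.refl (g : G)).zpow_zpow i j
      set b' := c * b * c⁻¹ with hb'
      set a' := c * a * c⁻¹ with ha'
      have hPK : (P : Subgroup G) ≤ C ⊓ centralizer ({b'} : Set G) :=
        le_inf hPu (le_centralizer.2 hcb)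
      have haK : a' ∈ C ⊓ centralizer ({b'} : Set G) :=
        mem_inf.2 ⟨C.mul_mem (C.mul_mem hc haC) (C.inv_mem hc), commute_iff.2 ((Commute.conj_iff c).2 hab')⟩
      obtain ⟨k, hk⟩ := hap
      obtain ⟨d, hd, hdP⟩ := exists_conj_mem P hPK haK ⟨k, by
        rw [ha', ← MulAut.conj_apply, MulEquiv.orderOf_eq, hk]⟩
      refine ⟨⟨d * c, mul_mem hd.1 hc⟩, ?_⟩
      rw [mem_subgroupOf]
      show (d * c) * (g : G) * (d * c)⁻¹ ∈ _
      have hdb : d * b' * d⁻¹ = b' := by
        have h5 : Commute d b' := commute_iff.1 hd.2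
        rw [h5.eq, mul_inv_cancel_right]
      rw [show (d * c) * (g : G) * (d * c)⁻¹ = (d * a' * d⁻¹) * (d * b' * d⁻¹) by rw [ha', hb', hab]; group, hdb]
      exact mul_mem (mem_sup_left hdP)
        (mem_sup_right (mem_inf.2 ⟨C.mul_mem (C.mul_mem hc hbC) (C.inv_mem hc),
          mem_centralizer_iff.2 fun π hπ => (hcb π hπ).eq⟩))
    exact (subgroupOf_eq_top.1 hle).trans (sup_le_sup_left inf_le_right _)
  -- classes of size divisible by `p` inside `P` are `P`-orbits
  have h3 : ∀ x ∈ (P : Subgroup G), p ∣ orderOf x → p ∣ cls x →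
      ∀ g : G, ∃ π ∈ (P : Subgroup G), g * x * g⁻¹ = π * x * π⁻¹ := by
    intro x hx hox hpx g
    obtain ⟨c, hc, d, hd, rfl⟩ := CfsgLib.Solvable.mul_of_coprime_index (hcon x hox hpx).symm g
    obtain ⟨π, hπ, h, hh, hprod⟩ : ∃ π ∈ (P : Subgroup G), ∃ h ∈ centralizer ((P : Subgroup G) : Set G),
        π * h = c := by
      have hn : centralizer ((P : Subgroup G) : Set G) ≤ normalizer ((P : Subgroup G) : Set G) :=
        Subgroup.centralizer_le_normalizer _
      have h2 : c ∈ (((P : Subgroup G) ⊔ centralizer ((P : Subgroup G) : Set G) : Subgroup G) : Set G) := hCP hc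
      rw [Subgroup.coe_mul_of_right_le_normalizer_left _ _ hn] at h2
      exact Set.mem_mul.1 h2
    refine ⟨π, hπ, ?_⟩
    have e1 : d * x * d⁻¹ = x := by rw [(commute_iff.1 hd).eq, mul_inv_cancel_right]
    have e2 : h * x * h⁻¹ = x := by
      rw [← mem_centralizer_iff.1 hh x hx, mul_inv_cancel_right]
    calc c * d * x * (c * d)⁻¹ = c * (d * x * d⁻¹) * c⁻¹ := by group
      _ = π * (h * x * h⁻¹) * π⁻¹ := by rw [e1, ← hprod]; group
      _ = π * x * π⁻¹ := by rw [e2]
  -- the element `v` lies in every Sylow subgroup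
  have hvall : ∀ g : G, g * v * g⁻¹ ∈ (P : Subgroup G) := by
    intro g
    obtain ⟨π, hπ, e⟩ := h3 v hv hvp hpv g
    rw [e]; exact mul_mem (mul_mem hπ hv) (inv_mem hπ)
  have hout : ∀ x ∈ (P : Subgroup G), ¬ Commute x v → p ∣ orderOf x ∧ p ∣ cls x := by
    intro x hx hxv
    have hx1 : x ≠ 1 := fun e => hxv (e ▸ Commute.one_left v)
    refine ⟨?_, ?_⟩
    · obtain ⟨k, hk⟩ := IsPGroup.iff_orderOf.1 P.2 ⟨x, hx⟩
      rw [orderOf_mk] at hk
      rcases k with _ | k
      · rw [pow_zero, orderOf_eq_one_iff] at hk; exact absurd hk hx1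
      · exact hk ▸ dvd_pow_self p (Nat.succ_ne_zero k)
    · by_contra hnd
      obtain ⟨P', hP'⟩ := sylow_le_of_not_dvd hnd
      obtain ⟨g, rfl⟩ := MulAction.exists_smul_eq G P P'
      have hvP' : v ∈ (MulAut.conj g) • (P : Subgroup G) :=
        ⟨g⁻¹ * v * g, by have := hvall g⁻¹; rw [inv_inv] at this; exact this, by simp [mul_assoc]⟩
      exact hxv (commute_iff.1 (hP' hvP')).symm
  -- every element of prime power order `q ≠ p` centralizes `P`
  have h4 : ∀ q : ℕ, q.Prime → q ≠ p → ∀ (y : G), (∃ k, orderOf y = q ^ k) →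
      (P : Subgroup G) ≤ centralizer ({y} : Set G) := by
    intro q hq hqp y hy
    haveI := Fact.mk hq
    by_contra hny
    set M : Subgroup (P : Subgroup G) := (centralizer ({y} : Set G)).subgroupOf P with hM
    have hMtop : M ≠ ⊤ := fun e => hny (subgroupOf_eq_top.1 e)
    obtain ⟨N, hN, hMN⟩ := (eq_top_or_exists_le_coatom M).resolve_left hMtop
    haveI : Group.IsNilpotent (P : Subgroup G) := P.2.isNilpotent
    haveI hNn : N.Normal :=
      Subgroup.NormalizerCondition.normal_of_coatom N (normalizerCondition_of_isNilpotent) hN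
    have hcov : ∀ x : (P : Subgroup G), ¬ Commute (x : G) v → x ∈ N := by
      intro x hxv
      obtain ⟨hox, hpx⟩ := hout x x.2 hxv
      -- the class of `x` has `p`-power size
      have hdvd : (centralizer ({(x : G)} : Set G)).index ∣ Nat.card (P : Subgroup G) := by
        have hmul : ∀ g : G, ∃ a ∈ (P : Subgroup G), ∃ b ∈ centralizer ({(x : G)} : Set G), g = a * b := by
          intro g
          obtain ⟨π, hπ, e⟩ := h3 x x.2 hox hpx g
          refine ⟨π, hπ, π⁻¹ * g, commute_iff.2 ?_, by group⟩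
          show π⁻¹ * g * x = x * (π⁻¹ * g)
          calc π⁻¹ * g * x = π⁻¹ * (g * x * g⁻¹) * g := by group
            _ = x * (π⁻¹ * g) := by rw [e]; group
        rw [← CfsgLib.Solvable.relIndex_eq_index_of_mul hmul]
        exact Subgroup.relIndex_dvd_card _ _
      have hqx : ¬ q ∣ (centralizer ({(x : G)} : Set G)).index := by
        intro hd
        obtain ⟨k, hk⟩ := P.2.exists_card_eq
        exact hqp ((Nat.prime_dvd_prime_iff_eq hq hp.out).1 (hq.dvd_of_dvd_pow (hk ▸ hd.trans hdvd)))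
      obtain ⟨Q, hQ⟩ := sylow_le_of_not_dvd hqx
      obtain ⟨c, -, hcy⟩ := exists_conj_mem Q (K := ⊤) le_top (mem_top y) hy
      have hcomm : Commute (c⁻¹ * (x : G) * c) y := by
        have h5 : Commute (c * y * c⁻¹) (x : G) := commute_iff.1 (hQ hcy)
        have h6 := ((Commute.conj_iff c⁻¹).2 h5).symm
        simpa [mul_assoc] using h6
      obtain ⟨π, hπ, e⟩ := h3 x x.2 hox hpx c⁻¹
      rw [inv_inv] at e
      have hmem : (⟨π, hπ⟩ : (P : Subgroup G)) * x * (⟨π, hπ⟩ : (P : Subgroup G))⁻¹ ∈ N := by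
        apply hMN
        rw [hM, mem_subgroupOf]
        refine commute_iff.2 ?_
        show Commute (π * (x : G) * π⁻¹) y
        rwa [← e]
      have := hNn.conj_mem _ hmem (⟨π, hπ⟩ : (P : Subgroup G))⁻¹
      simpa [mul_assoc] using this
    -- a group is not the union of two proper subgroups
    set L : Subgroup (P : Subgroup G) := (centralizer ({v} : Set G)).subgroupOf P
    have hL : L ≠ ⊤ := fun e => not_dvd_index_of_le P (subgroupOf_eq_top.1 e) hpv
    obtain ⟨a, ha⟩ : ∃ a, a ∉ L := by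
      by_contra h; push_neg at h; exact hL (eq_top_iff.2 fun a _ => h a)
    have haN : a ∈ N := hcov a fun h => ha (mem_subgroupOf.2 (commute_iff.2 h))
    refine hN.1 (eq_top_iff.2 fun b _ => ?_)
    by_cases hb : b ∈ L
    · have : a * b ∈ N := hcov _ fun h => ha (by
        have h7 : a * b ∈ L := mem_subgroupOf.2 (commute_iff.2 h)
        simpa using mul_mem h7 (inv_mem hb))
      simpa using mul_mem (inv_mem haN) this
    · exact hcov b fun h => hb (mem_subgroupOf.2 (commute_iff.2 h))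
  -- hence `u` is central
  have huP : u ∈ (P : Subgroup G) := by
    obtain ⟨c, hc, hcP⟩ := exists_conj_mem P hPu (commute_iff.2 (Commute.refl u) : u ∈ C) (let ⟨k, hk⟩ := hu; ⟨k + 1, hk⟩)
    rwa [(commute_iff.1 hc).eq, mul_inv_cancel_right] at hcP
  apply hua
  by_contra hne
  obtain ⟨q, hq, hqd⟩ := Nat.exists_prime_and_dvd hne
  haveI := Fact.mk hq
  have hqp : q ≠ p := fun e => hpa (e ▸ hqd)
  obtain ⟨Q⟩ := (inferInstance : Nonempty (Sylow q G))
  refine not_dvd_index_of_le Q (K := C) (fun y hy => ?_) hqd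
  obtain ⟨k, hk⟩ := IsPGroup.iff_orderOf.1 Q.2 ⟨y, hy⟩
  rw [orderOf_mk] at hk
  exact commute_iff.2 (commute_iff.1 (h4 q hq hqp y ⟨k, hk⟩ huP)).symm

/-- Two elements of order `p` have linked classes. -/
theorem linked (hZ : ¬ p ∣ Nat.card ↥(center G)) {u v : G} (hu : orderOf u = p) (hv : orderOf v = p) :
    ∃ t t' : ℕ, t.Prime ∧ t'.Prime ∧ t ∣ cls u ∧ t' ∣ cls v ∧
      (t = t' ∨ ∃ x : G, p ∣ orderOf x ∧ t * t' ∣ cls x) := by
  have hnc : ∀ w : G, orderOf w = p → cls w ≠ 1 := by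
    intro w hw h
    refine hZ (hw ▸ ?_)
    exact (center G).orderOf_dvd_natCard (cls_eq_one.1 h)
  by_cases hcop : (cls u).Coprime (cls v)
  swap
  · obtain ⟨t, ht, h1, h2⟩ := Nat.Prime.not_coprime_iff_dvd.1 hcop
    exact ⟨t, t, ht, ht, h1, h2, Or.inl rfl⟩
  suffices key : ∀ u v : G, orderOf u = p → orderOf v = p → (cls u).Coprime (cls v) → ¬ p ∣ cls u →
      ∃ t t' : ℕ, t.Prime ∧ t'.Prime ∧ t ∣ cls u ∧ t' ∣ cls v ∧
        (∃ x : G, p ∣ orderOf x ∧ t * t' ∣ cls x) by
    by_cases hpu : p ∣ cls u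
    · have hpv : ¬ p ∣ cls v := fun h => hp.out.ne_one (Nat.eq_one_of_dvd_coprimes hcop hpu h)
      obtain ⟨t, t', h1, h2, h3, h4, x, h5, h6⟩ := key v u hv hu hcop.symm hpv
      exact ⟨t', t, h2, h1, h4, h3, Or.inr ⟨x, h5, mul_comm t t' ▸ h6⟩⟩
    · obtain ⟨t, t', h1, h2, h3, h4, x, h5, h6⟩ := key u v hu hv hcop hpu
      exact ⟨t, t', h1, h2, h3, h4, Or.inr ⟨x, h5, h6⟩⟩
  clear hu hv hcop u v
  intro u v₀ hu hv₀ hcop₀ hpu
  obtain ⟨P, hP⟩ := sylow_le_of_not_dvd hpu
  obtain ⟨c, -, hvP⟩ := exists_conj_mem P (K := ⊤) le_top (mem_top v₀) ⟨1, by rw [hv₀, pow_one]⟩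
  set v := c * v₀ * c⁻¹ with hvdef
  have hcls : cls v₀ = cls v := cls_eq_of_isConj (isConj_iff.2 ⟨c, rfl⟩)
  have hv : orderOf v = p := by rw [hvdef, ← MulAut.conj_apply, MulEquiv.orderOf_eq, hv₀]
  rw [hcls] at hcop₀ ⊢
  by_cases hpv : p ∣ cls v
  · obtain ⟨x, hox, hpx, hnc'⟩ := core P ⟨0, by rw [hu, zero_add, pow_one]⟩ hP (hnc u hu) hvP (hv ▸ dvd_rfl) hpv hcop₀
    obtain ⟨t, ht, htx, htu⟩ := Nat.Prime.not_coprime_iff_dvd.1 hnc'
    exact ⟨t, p, ht, hp.out, htu, hpv, x, hox,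
      ((Nat.coprime_primes ht hp.out).2 (fun e => hpu (e ▸ htu))).mul_dvd_of_dvd_of_dvd htx hpx⟩
  · have huv : Commute v u := commute_iff.1 (hP hvP)
    have hord : p ∣ orderOf (u * v) := by
      have hpow : (u * v) ^ p = 1 := by
        rw [huv.symm.mul_pow]
        conv_lhs => rw [← hu]
        rw [pow_orderOf_eq_one, one_mul, hu, ← hv, pow_orderOf_eq_one]
      have hne : u * v ≠ 1 := fun e => by
        have e' : v = u⁻¹ := eq_inv_of_mul_eq_one_right e
        have hcu : cls v = cls u := by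
          unfold cls; congr 1; ext g
          rw [commute_iff, commute_iff, e', Commute.inv_right_iff]
        rw [hcu, Nat.coprime_self] at hcop₀
        exact hnc u hu hcop₀
      exact (orderOf_eq_prime hpow hne) ▸ dvd_rfl
    have hdvd := cls_mul_dvd hcop₀
    have hnu : ¬ (cls (u * v)).Coprime (cls u) := by
      intro h
      have h1 : cls (u * v) = cls v := le_antisymm
        (Nat.le_of_dvd (Nat.pos_of_ne_zero (cls_ne_zero v)) (h.dvd_of_dvd_mul_left hdvd)) (cls_le_mul_right hcop₀)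
      exact hnc u hu (cls_eq_one.2 (central_of_coprime hcop₀ h1 (hu ▸ (hp.out.coprime_iff_not_dvd).2 hpv)))
    have hnv : ¬ (cls (u * v)).Coprime (cls v) := by
      intro h
      have h1 : cls (v * u) = cls u := by
        rw [huv.eq]
        exact le_antisymm
          (Nat.le_of_dvd (Nat.pos_of_ne_zero (cls_ne_zero u)) (h.dvd_of_dvd_mul_right hdvd)) (cls_le_mul_left hcop₀)
      exact hnc v hv (cls_eq_one.2 (central_of_coprime hcop₀.symm h1 (hv ▸ (hp.out.coprime_iff_not_dvd).2 hpu)))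
    obtain ⟨t, ht, ht1, ht2⟩ := Nat.Prime.not_coprime_iff_dvd.1 hnu
    obtain ⟨t', ht', ht1', ht2'⟩ := Nat.Prime.not_coprime_iff_dvd.1 hnv
    exact ⟨t, t', ht, ht', ht2, ht2', u * v, hord,
      ((Nat.coprime_primes ht ht').2 fun e => ht.ne_one
        (Nat.eq_one_of_dvd_coprimes hcop₀ ht2 (e ▸ ht2'))).mul_dvd_of_dvd_of_dvd ht1 ht1'⟩

/-- A vertex, and what it is adjacent to. -/
theorem vertex {r : ℕ} {x : G} (hr : r.Prime) (hx : p ∣ orderOf x) (hrx : r ∣ cls x) :
    ∃ u : G, orderOf u = p ∧ ∀ t : ℕ, t.Prime → t ∣ cls u →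
      t = r ∨ ∃ w : G, p ∣ orderOf w ∧ r * t ∣ cls w := by
  obtain ⟨c, hc⟩ := hx
  have hc0 : c ≠ 0 := fun e => (orderOf_pos x).ne' (by rw [hc, e, mul_zero])
  refine ⟨x ^ c, by rw [orderOf_pow_of_dvd hc0 (hc ▸ dvd_mul_left c p), hc, Nat.mul_div_cancel _ (Nat.pos_of_ne_zero hc0)],
    fun t ht htu => ?_⟩
  by_cases e : t = r
  · exact Or.inl e
  · refine Or.inr ⟨x, hc ▸ dvd_mul_right p c, ((Nat.coprime_primes hr ht).2 (Ne.symm e)).mul_dvd_of_dvd_of_dvd hrx ?_⟩
    exact htu.trans (cls_dvd (centralizer_le_of_mem_zpowers (pow_mem (mem_zpowers x) c)))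

end CfsgLib.FGS.SingularGraph
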