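/-
A group with disconnected class size graph is central-by-Frobenius with abelian kernel and complement.
-/
import Cfsg.Agent.Lib.FGS.SingularClassGraph
import Cfsg.Agent.Lib.FGS.CoprimeLargestMain
import Cfsg.Agent.Lib.Solvable.Frobenius
import Cfsg.Agent.Lib.Solvable.Product

set_option autoImplicit false

namespace CfsgLib.FGS.Disconnected

open Subgroup CfsgLib.FGS.TwoLargest
open scoped Pointwise

variable {G : Type*} [Group G] [Finite G]

/-- An element of prime power order and an element of coprime class size give a class meeting both sizes. -/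
theorem bridge {p : ℕ} [hp : Fact p.Prime] {v x : G} (hv : ∃ k, orderOf v = p ^ k) (hvZ : v ∉ center G)
    (hxZ : x ∉ center G) (hpx : ¬ p ∣ cls x) (hcop : (cls x).Coprime (cls v)) :
    ∃ w : G, ¬ (cls w).Coprime (cls x) ∧ ¬ (cls w).Coprime (cls v) := by
  have hxne : cls x ≠ 1 := fun h => hxZ (cls_eq_one.1 h)
  have hvne : cls v ≠ 1 := fun h => hvZ (cls_eq_one.1 h)
  obtain ⟨a, b, hab, ha, hb, ⟨j, hj⟩, hbp⟩ := CfsgLib.Cores.exists_pow_mul_pow p x
  have hab' : Commute a b := by
    obtain ⟨i, rfl⟩ := ha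
    obtain ⟨l, rfl⟩ := hb
    exact (Commute.refl x).zpow_zpow i l
  obtain ⟨k, hk⟩ := hv
  obtain ⟨g, hg⟩ := TwoLargest.exists_conj_mem (w := x) hpx ⟨k, hk⟩
  set v' := g * v * g⁻¹ with hv'
  have hcv : cls v' = cls v := (cls_eq_of_isConj (isConj_iff.2 ⟨g, rfl⟩)).symm
  have hov : orderOf v' = p ^ k := (orderOf_conj g v).trans hk
  have hv'Z : v' ∉ center G := fun h => hvne (hcv ▸ cls_eq_one.2 h)
  rw [← hcv] at hcop hvne ⊢
  by_cases hbZ : b ∈ center G
  · -- the `p`-part carries the class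
    have hxa : cls x = cls a := by
      unfold cls; congr 1; ext t
      rw [commute_iff, commute_iff, hab]
      constructor
      · intro h
        have := h.mul_right (show Commute t b⁻¹ from (mem_center_iff.1 (inv_mem hbZ) t))
        rwa [mul_inv_cancel_right] at this
      · exact fun h => h.mul_right (mem_center_iff.1 hbZ t)
    have haZ : a ∉ center G := fun h => hxne (hxa.trans (cls_eq_one.2 h))
    rw [hxa] at hcop hpx hxne ⊢
    obtain ⟨i, rfl⟩ : ∃ i, j = i + 1 := by
      rcases j with _ | i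
      · rw [pow_zero, orderOf_eq_one_iff] at hj; exact absurd (hj ▸ one_mem _) haZ
      · exact ⟨i, rfl⟩
    by_cases hpv : p ∣ cls v'
    · obtain ⟨P, hP⟩ := SingularGraph.sylow_le_of_not_dvd hpx
      obtain ⟨c, -, hcP⟩ := SingularGraph.exists_conj_mem P (K := ⊤) le_top (mem_top v') ⟨k, hov⟩
      have hcc : cls v' = cls (c * v' * c⁻¹) := cls_eq_of_isConj (isConj_iff.2 ⟨c, rfl⟩)
      have hdvd : p ∣ orderOf v' := by
        rcases k with _ | k
        · rw [pow_zero, orderOf_eq_one_iff] at hov; exact absurd (hov ▸ one_mem _) hv'Z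
        · exact hov ▸ dvd_pow_self p (Nat.succ_ne_zero k)
      obtain ⟨w, -, hpw, hw⟩ := SingularGraph.core P ⟨i, hj⟩ hP hxne hcP ((orderOf_conj c v').symm ▸ hdvd)
        (hcc ▸ hpv) (hcc ▸ hcop)
      exact ⟨w, hw, Nat.Prime.not_coprime_iff_dvd.2 ⟨p, hp.out, hpw, hpv⟩⟩
    · have hdvd := cls_mul_dvd hcop
      refine ⟨a * v', fun h => ?_, fun h => ?_⟩
      · have h1 : cls (a * v') = cls v' := le_antisymm
          (Nat.le_of_dvd (Nat.pos_of_ne_zero (cls_ne_zero _)) (h.dvd_of_dvd_mul_left hdvd)) (cls_le_mul_right hcop)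
        refine haZ (central_of_coprime hcop h1 ?_)
        rw [hj]; exact ((hp.out.coprime_iff_not_dvd).2 hpv).pow_left _
      · have hcj : IsConj (a * v') (v' * a) := isConj_iff.2 ⟨a⁻¹, by group⟩
        have h1 : cls (v' * a) = cls a := by
          rw [← cls_eq_of_isConj hcj]
          exact le_antisymm
            (Nat.le_of_dvd (Nat.pos_of_ne_zero (cls_ne_zero _)) (h.dvd_of_dvd_mul_right hdvd)) (cls_le_mul_left hcop)
        refine hv'Z (central_of_coprime hcop.symm h1 ?_)
        rw [hov]; exact ((hp.out.coprime_iff_not_dvd).2 hpx).pow_left _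
  · -- the `p'`-part gives a common multiple
    have hbne : cls b ≠ 1 := fun h => hbZ (cls_eq_one.1 h)
    have hcomm : Commute v' b := commute_iff.1 (centralizer_le_of_mem_zpowers hb hg)
    have hco : (orderOf v').Coprime (orderOf b) := hov ▸ Nat.Coprime.pow_left _ hbp.symm
    refine ⟨v' * b, fun h => hbne ?_, fun h => hvne ?_⟩
    · have h1 : cls b ∣ cls (v' * b) := by
        rw [hcomm.eq]; exact cls_dvd (centralizer_mul_le hcomm.symm hco.symm)
      exact Nat.eq_one_of_dvd_coprimes h h1 (cls_dvd (centralizer_le_of_mem_zpowers hb))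
    · exact Nat.eq_one_of_dvd_coprimes h (cls_dvd (centralizer_mul_le hcomm hco)) dvd_rfl

/-- The class size `c` has all its prime divisors in `π`. -/
def On (π : Set ℕ) (c : ℕ) : Prop := ∀ p : ℕ, p.Prime → p ∣ c → p ∈ π

theorem On.mono {π : Set ℕ} {c d : ℕ} (h : On π c) (hd : d ∣ c) : On π d := fun p hp hpd => h p hp (hpd.trans hd)

theorem On.coprime {π : Set ℕ} {c d : ℕ} (h : On π c) (h' : On πᶜ d) : c.Coprime d :=
  Nat.coprime_of_dvd fun p hp h1 h2 => h' p hp h2 (h p hp h1)

/-- The hypotheses: two kinds of classes, and a largest class of the first kind. -/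
structure Split (G : Type*) [Group G] [Finite G] (π : Set ℕ) : Prop where
  kinds : ∀ z : G, On π (cls z) ∨ On πᶜ (cls z)
  top : ∃ y : G, (∀ z : G, cls z ≤ cls y) ∧ On π (cls y) ∧ y ∉ center G
  other : ∃ x : G, On πᶜ (cls x) ∧ x ∉ center G

variable {π : Set ℕ}

theorem Split.false_of_both (D : Split G π) {x y w : G} (hx : On π (cls x)) (hy : On πᶜ (cls y))
    (h1 : ¬ (cls w).Coprime (cls x)) (h2 : ¬ (cls w).Coprime (cls y)) : False := by
  rcases D.kinds w with h | h
  · exact h2 (h.coprime hy)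
  · exact h1 (hx.coprime h).symm

/-- The class kind of an element of prime power order. -/
theorem Split.kind (D : Split G π) {p : ℕ} [hp : Fact p.Prime] {v : G} (hv : ∃ k, orderOf v = p ^ k)
    (hvZ : v ∉ center G) : (p ∈ π → On πᶜ (cls v)) ∧ (p ∉ π → On π (cls v)) := by
  obtain ⟨y, -, hy, hyZ⟩ := D.top
  obtain ⟨x, hx, hxZ⟩ := D.other
  refine ⟨fun hpπ => (D.kinds v).resolve_left fun h => ?_, fun hpπ => (D.kinds v).resolve_right fun h => ?_⟩
  · obtain ⟨w, h1, h2⟩ := bridge hv hvZ hxZ (fun hd => hx p hp.out hd hpπ) (h.coprime hx).symm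
    exact D.false_of_both h hx h2 h1
  · obtain ⟨w, h1, h2⟩ := bridge hv hvZ hyZ (fun hd => hpπ (hy p hp.out hd)) (hy.coprime h)
    exact D.false_of_both hy h h1 h2

theorem Split.commute_conj (D : Split G π) {a : G} (ha : On πᶜ (cls a)) (g : G) : Commute a (g * a * g⁻¹) := by
  obtain ⟨y, hmax, hy, hyZ⟩ := D.top
  have hcop : (cls a).Coprime (cls y) := (hy.coprime ha).symm
  have he : cls (a * y) = cls y := le_antisymm (hmax _) (cls_le_mul_right hcop)
  obtain ⟨T, -, -, hTC, hT⟩ := exists_translation hcop he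
  rw [show g * a * g⁻¹ = a * (a⁻¹ * (g * a * g⁻¹)) by group]
  exact (Commute.refl a).mul_right (commute_iff.1 (hTC (hT g))).symm

/-- Elements of prime power order for primes in `π` lie in every Sylow subgroup. -/
theorem Split.mem_sylow (D : Split G π) {p : ℕ} [hp : Fact p.Prime] (hpπ : p ∈ π) {v : G}
    (hv : ∃ k, orderOf v = p ^ k) (S : Sylow p G) : v ∈ (S : Subgroup G) := by
  obtain ⟨k, hk⟩ := hv
  have key : ∀ g : G, Commute v (g * v * g⁻¹) := by
    intro g
    by_cases hvZ : v ∈ center G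
    · exact (mem_center_iff.1 hvZ _).symm
    · exact D.commute_conj ((D.kind ⟨k, hk⟩ hvZ).1 hpπ) g
  set N := closure {u : G | IsConj v u} with hN
  have hcc : ∀ u w, IsConj v u → IsConj v w → Commute u w := by
    intro u w hu hw
    obtain ⟨g, rfl⟩ := isConj_iff.1 hu
    obtain ⟨h, rfl⟩ := isConj_iff.1 hw
    have := (key (g⁻¹ * h)).map (MulAut.conj g).toMonoidHom
    simpa [mul_assoc] using this
  haveI hNn : N.Normal := ⟨fun a ha g => by
    have h : N ≤ N.comap (MulAut.conj g).toMonoidHom :=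
      (closure_le _).2 fun u hu => subset_closure (hu.trans (isConj_iff.2 ⟨g, rfl⟩))
    exact h ha⟩
  have hcomm : ∀ a ∈ N, ∀ b ∈ N, Commute a b := by
    have h1 : ∀ u, IsConj v u → N ≤ centralizer ({u} : Set G) := fun u hu =>
      (closure_le _).2 fun w hw => commute_iff.2 (hcc w u hw hu)
    intro a ha b hb
    have h2 : N ≤ centralizer ({a} : Set G) := (closure_le _).2 fun w hw =>
      commute_iff.2 (commute_iff.1 (h1 w hw ha)).symm
    exact (commute_iff.1 (h2 hb)).symm
  have hNp : IsPGroup p N := by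
    rintro ⟨a, ha⟩
    refine ⟨k, Subtype.ext ?_⟩
    show a ^ p ^ k = 1
    rw [← hk]
    induction ha using closure_induction with
    | mem u hu =>
      obtain ⟨g, rfl⟩ := isConj_iff.1 hu
      rw [conj_pow, pow_orderOf_eq_one, mul_one, mul_inv_cancel]
    | one => exact one_pow _
    | mul a b ha hb e1 e2 => rw [(hcomm a ha b hb).mul_pow, e1, e2, one_mul]
    | inv a _ e1 => rw [inv_pow, e1, inv_one]
  have hle : N ≤ (S : Subgroup G) := by
    rw [← S.is_maximal' (hNp.to_sup_of_normal_left S.2) le_sup_right]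
    exact le_sup_left
  exact hle (subset_closure (IsConj.refl v))

/-- Such elements commute. -/
theorem Split.commute_pi (D : Split G π) {p q : ℕ} [hp : Fact p.Prime] [hq : Fact q.Prime] (hpπ : p ∈ π)
    (hqπ : q ∈ π) {v w : G} (hv : ∃ k, orderOf v = p ^ k) (hw : ∃ k, orderOf w = q ^ k) : Commute v w := by
  by_cases hwZ : w ∈ center G
  · exact mem_center_iff.1 hwZ v
  have hnd : ¬ p ∣ cls w := fun hd => (D.kind hw hwZ).1 hqπ p hp.out hd hpπ
  obtain ⟨S, hS⟩ := SingularGraph.sylow_le_of_not_dvd hnd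
  exact commute_iff.1 (hS (D.mem_sylow hpπ hv S))

/-- The candidate kernel. -/
def kern (π : Set ℕ) : Subgroup G :=
  closure {g : G | ∃ p, p.Prime ∧ p ∈ π ∧ ∃ k, orderOf g = p ^ k} ⊔ center G

instance kern_normal : (kern π : Subgroup G).Normal := by
  haveI : (closure {g : G | ∃ p, p.Prime ∧ p ∈ π ∧ ∃ k, orderOf g = p ^ k}).Normal := ⟨fun a ha g => by
    have h : closure {g : G | ∃ p, p.Prime ∧ p ∈ π ∧ ∃ k, orderOf g = p ^ k} ≤
        (closure {g : G | ∃ p, p.Prime ∧ p ∈ π ∧ ∃ k, orderOf g = p ^ k}).comap (MulAut.conj g).toMonoidHom :=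
      (closure_le _).2 fun u ⟨p, hp, hpπ, k, hk⟩ =>
        subset_closure ⟨p, hp, hpπ, k, (orderOf_conj g u).trans hk⟩
    exact h ha⟩
  unfold kern
  infer_instance

theorem Split.kern_comm (D : Split G π) {a b : G} (ha : a ∈ kern π) (hb : b ∈ kern π) : Commute a b := by
  have key : ∀ u : G, (∃ p, p.Prime ∧ p ∈ π ∧ ∃ k, orderOf u = p ^ k) → kern π ≤ centralizer ({u} : Set G) := by
    rintro u ⟨p, hp, hpπ, hu⟩
    refine sup_le ((closure_le _).2 ?_) (center_le_centralizer _)
    rintro w ⟨q, hq, hqπ, hw⟩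
    haveI := Fact.mk hp; haveI := Fact.mk hq
    exact commute_iff.2 (D.commute_pi hqπ hpπ hw hu)
  have h2 : kern π ≤ centralizer ({a} : Set G) := by
    refine sup_le ((closure_le _).2 fun u hu => ?_) (center_le_centralizer _)
    exact commute_iff.2 (commute_iff.1 (key u hu ha)).symm
  exact (commute_iff.1 (h2 hb)).symm

/-- Noncentral elements of prime power order of the two kinds do not commute. -/
theorem Split.no_commute (D : Split G π) {p q : ℕ} [hp : Fact p.Prime] [hq : Fact q.Prime] (hpπ : p ∈ π)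
    (hqπ : q ∉ π) {v a : G} (hv : ∃ k, orderOf v = p ^ k) (ha : ∃ k, orderOf a = q ^ k)
    (hvZ : v ∉ center G) (haZ : a ∉ center G) (hva : Commute v a) : False := by
  obtain ⟨k, hk⟩ := hv
  obtain ⟨l, hl⟩ := ha
  have hco : (orderOf v).Coprime (orderOf a) := by
    rw [hk, hl]
    exact Nat.Coprime.pow k l ((Nat.coprime_primes hp.out hq.out).2 fun e => hqπ (e ▸ hpπ))
  have h1 : cls v ∣ cls (v * a) := cls_dvd (centralizer_mul_le hva hco)
  have h2 : cls a ∣ cls (v * a) := by
    rw [hva.eq]; exact cls_dvd (centralizer_mul_le hva.symm hco.symm)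
  have hv1 := (D.kind ⟨k, hk⟩ hvZ).1 hpπ
  have ha1 := (D.kind ⟨l, hl⟩ haZ).2 hqπ
  refine D.false_of_both (w := v * a) ha1 hv1 (fun h => haZ (cls_eq_one.1 ?_)) (fun h => hvZ (cls_eq_one.1 ?_))
  · exact Nat.eq_one_of_dvd_coprimes h h2 dvd_rfl
  · exact Nat.eq_one_of_dvd_coprimes h h1 dvd_rfl

theorem mem_zpowers_commute {g v a : G} (hg : Commute g v) (ha : a ∈ zpowers g) : Commute a v := by
  obtain ⟨i, rfl⟩ := ha
  exact hg.zpow_left i

theorem Split.exists_pi (D : Split G π) :
    ∃ (p : ℕ) (v : G), p.Prime ∧ p ∈ π ∧ (∃ k, orderOf v = p ^ k) ∧ v ∉ center G := by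
  obtain ⟨y, -, hy, hyZ⟩ := D.top
  obtain ⟨p, hp, hpy⟩ := Nat.exists_prime_and_dvd (fun h => hyZ (cls_eq_one.1 h) : cls y ≠ 1)
  haveI := Fact.mk hp
  by_contra hcon
  push_neg at hcon
  obtain ⟨P⟩ := (inferInstance : Nonempty (Sylow p G))
  refine SingularGraph.not_dvd_index_of_le P (fun g hg => ?_) hpy
  obtain ⟨k, hk⟩ := IsPGroup.iff_orderOf.1 P.2 ⟨g, hg⟩
  rw [orderOf_mk] at hk
  exact commute_iff.2 (mem_center_iff.1 (hcon p g hp (hy p hp hpy) ⟨k, hk⟩) y).symm

/-- An element of a prime outside `π` in the kernel is central. -/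
theorem Split.central_of_mem_kern (D : Split G π) {q : ℕ} [Fact q.Prime] (hqπ : q ∉ π) {a : G}
    (ha : ∃ k, orderOf a = q ^ k) (haK : a ∈ kern π) : a ∈ center G := by
  by_contra haZ
  obtain ⟨p, v, hp, hpπ, hv, hvZ⟩ := D.exists_pi
  haveI := Fact.mk hp
  exact D.no_commute hpπ hqπ hv ha hvZ haZ
    (D.kern_comm (mem_sup_left (subset_closure ⟨p, hp, hpπ, hv⟩)) haK)

theorem Split.exists_other (D : Split G π) :
    ∃ (q : ℕ) (b : G), q.Prime ∧ q ∉ π ∧ (∃ k, orderOf b = q ^ k) ∧ b ∉ center G := by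
  obtain ⟨x, -, hxZ⟩ := D.other
  by_contra hcon
  push_neg at hcon
  apply hxZ
  have hall : ∀ g : G, g ∈ kern π := fun g => mem_of_parts _ _ fun q hq _ a _ haq => by
    by_cases hqπ : q ∈ π
    · exact mem_sup_left (subset_closure ⟨q, hq, hqπ, haq⟩)
    · exact mem_sup_right (hcon q a hq hqπ haq)
  exact mem_center_iff.2 fun g => (D.kern_comm (hall g) (hall x)).eq

/-- Centralizers with class size a `π`-number supplement the kernel. -/
theorem Split.mul_kern (D : Split G π) {a : G} (ha : On π (cls a)) :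
    ∀ g : G, ∃ k ∈ kern π, ∃ c ∈ centralizer ({a} : Set G), g = k * c := by
  set L := kern π ⊔ centralizer ({a} : Set G) with hL
  have hLtop : L = ⊤ := by
    by_contra hne
    obtain ⟨r, hr, hrd⟩ := Nat.exists_prime_and_dvd (fun h => hne (index_eq_one.1 h) : L.index ≠ 1)
    haveI := Fact.mk hr
    by_cases hrπ : r ∈ π
    · obtain ⟨P⟩ := (inferInstance : Nonempty (Sylow r G))
      refine SingularGraph.not_dvd_index_of_le P (fun g hg => mem_sup_left (mem_sup_left (subset_closure ?_))) hrd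
      obtain ⟨k, hk⟩ := IsPGroup.iff_orderOf.1 P.2 ⟨g, hg⟩
      rw [orderOf_mk] at hk
      exact ⟨r, hr, hrπ, k, hk⟩
    · exact hrπ (ha r hr (hrd.trans (index_dvd_of_le le_sup_right)))
  intro g
  have hg : g ∈ ((kern π ⊔ centralizer ({a} : Set G) : Subgroup G) : Set G) := by
    rw [← hL, hLtop]; exact mem_top g
  rw [Subgroup.normal_mul] at hg
  obtain ⟨k, hk, c, hc, e⟩ := Set.mem_mul.1 hg
  exact ⟨k, hk, c, hc, e.symm⟩

/-- The main theorem. -/
theorem Split.main (D : Split G π) : ∃ H : Subgroup (G ⧸ center G), Cfsg.IsFrobeniusComplement H ∧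
    IsMulCommutative H ∧ ∀ x ∈ Cfsg.frobeniusKernel H, ∀ y ∈ Cfsg.frobeniusKernel H, x * y = y * x := by
  classical
  obtain ⟨q, b, hq, hqπ, hbq, hbZ⟩ := D.exists_other
  haveI := Fact.mk hq
  set C := centralizer ({b} : Set G) with hC
  have hbb : On π (cls b) := (D.kind hbq hbZ).2 hqπ
  have hZC : center G ≤ C := center_le_centralizer _
  have hmul := D.mul_kern hbb
  have hCπ : ∀ r : ℕ, r.Prime → r ∈ π → ∀ a : G, (∃ k, orderOf a = r ^ k) → a ∈ C → a ∈ center G := by
    intro r hr hrπ a har haC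
    by_contra haZ
    haveI := Fact.mk hr
    exact D.no_commute hrπ hqπ har hbq haZ hbZ (commute_iff.1 haC)
  have hinf : ∀ k ∈ kern π, k ∈ C → k ∈ center G := by
    intro k hk hkC
    refine mem_of_parts _ _ fun r hr _ a ha har => ?_
    haveI := Fact.mk hr
    by_cases hrπ : r ∈ π
    · exact hCπ r hr hrπ a har (commute_iff.2 (mem_zpowers_commute (commute_iff.1 hkC) ha))
    · exact D.central_of_mem_kern hrπ har (zpowers_le.2 hk ha)
  have hcomm : ∀ c ∈ C, ∀ g : G, g⁻¹ * c⁻¹ * g * c ∈ kern π := by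
    intro c hc
    have key : c ∈ (center (G ⧸ kern π)).comap (QuotientGroup.mk' (kern π)) := by
      refine mem_of_parts _ _ fun r hr _ a ha har => ?_
      have hab : a ∈ C := commute_iff.2 (mem_zpowers_commute (commute_iff.1 hc) ha)
      haveI := Fact.mk hr
      rw [mem_comap, mem_center_iff]
      intro gq
      obtain ⟨g, rfl⟩ := QuotientGroup.mk'_surjective (kern π) gq
      by_cases haZ : a ∈ center G
      · rw [← map_mul, ← map_mul, mem_center_iff.1 haZ g]
      · have hrπ : r ∉ π := fun h => haZ (hCπ r hr h a har hab)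
        obtain ⟨k, hk, d, hd, rfl⟩ := D.mul_kern ((D.kind har haZ).2 hrπ) g
        have hk1 : QuotientGroup.mk' (kern π) k = 1 := by
          rwa [QuotientGroup.mk'_apply, QuotientGroup.eq_one_iff]
        rw [map_mul, hk1, one_mul, ← map_mul, ← map_mul, (commute_iff.1 hd).eq]
    intro g
    rw [mem_comap, mem_center_iff] at key
    rw [← QuotientGroup.eq_one_iff]
    show QuotientGroup.mk' (kern π) (g⁻¹ * c⁻¹ * g * c) = 1
    rw [map_mul, map_mul, map_mul, map_inv, map_inv, mul_assoc, key (QuotientGroup.mk' (kern π) g)]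
    group
  set π' := QuotientGroup.mk' (center G)
  set H := C.map π'
  set K := (kern π).map π'
  haveI hKn : K.Normal := Subgroup.Normal.map inferInstance π' (QuotientGroup.mk'_surjective _)
  have hmemH : ∀ g : G, π' g ∈ H → g ∈ C := by
    rintro g ⟨c, hc, e⟩
    have h1 := (QuotientGroup.eq.1 e : c⁻¹ * g ∈ center G)
    simpa using mul_mem hc (hZC h1)
  have hTI : ∀ k ∈ kern π, k ∉ center G → ∀ c ∈ C, k * c * k⁻¹ ∈ C → c ∈ center G := by
    intro k hk hkZ c hc hkc
    by_contra hcZ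
    have hw : k * c * k⁻¹ * c⁻¹ ∈ center G := by
      refine hinf _ ?_ (mul_mem hkc (inv_mem hc))
      have := mul_mem hk ((kern_normal (π := π)).conj_mem _ (inv_mem hk) c)
      rwa [← mul_assoc, ← mul_assoc] at this
    obtain ⟨r, a, hr, haz, har, haZ⟩ : ∃ (r : ℕ) (a : G), r.Prime ∧ a ∈ zpowers c ∧ (∃ l, orderOf a = r ^ l) ∧ a ∉ center G := by
      by_contra hcon
      push_neg at hcon
      exact hcZ (mem_of_parts _ _ fun r hr _ a ha har => hcon r a hr ha har)
    haveI := Fact.mk hr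
    have haC : a ∈ C := zpowers_le.2 hc haz
    have hrπ : r ∉ π := fun h => haZ (hCπ r hr h a har haC)
    obtain ⟨s, k', hs, hk'z, hk's, hk'Z⟩ : ∃ (s : ℕ) (k' : G), s.Prime ∧ k' ∈ zpowers k ∧ (∃ l, orderOf k' = s ^ l) ∧ k' ∉ center G := by
      by_contra hcon
      push_neg at hcon
      exact hkZ (mem_of_parts _ _ fun r hr _ a ha har => hcon r a hr ha har)
    haveI := Fact.mk hs
    have hsπ : s ∈ π := by
      by_contra h
      exact hk'Z (D.central_of_mem_kern h hk's (zpowers_le.2 hk hk'z))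
    -- conjugation by `k` and its powers moves `a` by central elements
    have hzw : ∀ g : G, ∀ x : G, g * x * g⁻¹ * x⁻¹ ∈ center G ↔ Commute (π' g) (π' x) := by
      intro g x
      rw [← QuotientGroup.eq_one_iff]
      show π' (g * x * g⁻¹ * x⁻¹) = 1 ↔ _
      rw [map_mul, map_mul, map_mul, map_inv, map_inv, mul_inv_eq_one, mul_inv_eq_iff_eq_mul]
      exact Iff.rfl
    have hka : Commute (π' k') (π' a) := by
      have h1 : Commute (π' k) (π' c) := (hzw k c).1 hw
      obtain ⟨i, rfl⟩ := haz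
      obtain ⟨j, rfl⟩ := hk'z
      rw [map_zpow, map_zpow]
      exact h1.zpow_zpow j i
    have hw' := (hzw k' a).2 hka
    set w := k' * a * k'⁻¹ * a⁻¹ with hwdef
    have hwa : w ^ orderOf a = 1 := by
      have h1 : (w * a) ^ orderOf a = 1 := by
        rw [hwdef, inv_mul_cancel_right, conj_pow, pow_orderOf_eq_one, mul_one, mul_inv_cancel]
      rwa [(show Commute w a from (mem_center_iff.1 hw' a).symm).mul_pow, pow_orderOf_eq_one, mul_one] at h1
    have hwk : w ^ orderOf k' = 1 := by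
      have h1 : k' * a = w * a * k' := by rw [hwdef]; group
      have h2 : ∀ n : ℕ, k' ^ n * a = w ^ n * a * k' ^ n := by
        intro n
        induction n with
        | zero => simp
        | succ n ih =>
          calc k' ^ (n + 1) * a = k' ^ n * (k' * a) := by rw [pow_succ, mul_assoc]
            _ = k' ^ n * w * a * k' := by rw [h1]; group
            _ = w * (k' ^ n * a) * k' := by rw [mem_center_iff.1 hw' (k' ^ n)]; group
            _ = w ^ (n + 1) * a * k' ^ (n + 1) := by rw [ih, pow_succ' w, pow_succ k']; group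
      have h3 := h2 (orderOf k')
      rw [pow_orderOf_eq_one, one_mul, mul_one] at h3
      exact mul_eq_right.1 h3.symm
    have hw1 : w = 1 := by
      have h3 := pow_gcd_eq_one.2 ⟨hwa, hwk⟩
      obtain ⟨l, hl⟩ := har
      obtain ⟨l', hl'⟩ := hk's
      rw [hl, hl', (Nat.Coprime.pow l l' ((Nat.coprime_primes hr hs).2 fun e => hrπ (e ▸ hsπ))).gcd_eq_one,
        pow_one] at h3
      exact h3
    exact D.no_commute hsπ hrπ hk's har hk'Z haZ (mul_inv_eq_iff_eq_mul.1 (mul_inv_eq_one.1 hw1))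
  have hH : Cfsg.IsFrobeniusComplement H := by
    refine ⟨fun h => ?_, fun h => ?_, fun γ hγ => ?_⟩
    · apply hbZ
      have : π' b ∈ H := ⟨b, commute_iff.2 (Commute.refl b), rfl⟩
      rw [h, mem_bot] at this
      exact (QuotientGroup.eq_one_iff b).1 this
    · apply hbZ
      refine mem_center_iff.2 fun g => (commute_iff.1 (hmemH g ?_)).eq
      rw [h]; exact mem_top _
    · rw [eq_bot_iff]
      rintro x ⟨hx1, hx2⟩
      obtain ⟨g, rfl⟩ := QuotientGroup.mk'_surjective (center G) γ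
      obtain ⟨k, hk, h, hh, rfl⟩ := hmul g
      obtain ⟨d, hd, rfl⟩ := hx1
      obtain ⟨y, ⟨d', hd', rfl⟩, e⟩ := hx2
      replace e : π' (k * h) * π' d' * (π' (k * h))⁻¹ = π' d := e
      set c := h * d' * h⁻¹
      have hc : c ∈ C := mul_mem (mul_mem hh hd') (inv_mem hh)
      have e' : π' (k * c * k⁻¹) = π' d := by
        rw [← e]; simp only [c, map_mul, map_inv, mul_inv_rev, mul_assoc]
      have hkc : k * c * k⁻¹ ∈ C := hmemH _ ⟨d, hd, e'.symm⟩
      have hkZ : k ∉ center G := fun h0 => hγ ⟨k * h, mul_mem (hZC h0) hh, rfl⟩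
      have hcZ := hTI k hk hkZ c hc hkc
      rw [mem_bot, ← e', map_mul, map_mul, map_inv, (QuotientGroup.eq_one_iff c).2 hcZ |>
        (fun h => show π' c = 1 from h), mul_one, mul_inv_cancel]
  refine ⟨H, hH, ⟨⟨?_⟩⟩, ?_⟩
  · rintro ⟨_, c, hc, rfl⟩ ⟨_, e, he, rfl⟩
    refine Subtype.ext ?_
    show π' c * π' e = π' e * π' c
    have h1 : e⁻¹ * c⁻¹ * e * c ∈ center G :=
      hinf _ (hcomm c hc e) (mul_mem (mul_mem (mul_mem (inv_mem he) (inv_mem hc)) he) hc)
    rw [← map_mul, ← map_mul]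
    refine (QuotientGroup.eq.2 ?_).symm
    have h2 := inv_mem h1
    rwa [show (e * c)⁻¹ * (c * e) = c⁻¹ * e⁻¹ * c * e by group, show c⁻¹ * e⁻¹ * c * e = (e⁻¹ * c⁻¹ * e * c)⁻¹ by group]
  · have hsub : (K : Set (G ⧸ center G)) ⊆ Cfsg.frobeniusKernel H := by
      intro x hx
      by_cases hx1 : x = 1
      · exact Or.inl hx1
      refine CfsgLib.Solvable.mem_frobeniusKernel_iff.2 (Or.inr fun γ hγ => hx1 ?_)
      have h1 : γ⁻¹ * x * γ ∈ K := by
        have := hKn.conj_mem _ hx γ⁻¹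
        rwa [inv_inv] at this
      obtain ⟨k, hk, e⟩ := h1
      have h2 : π' k = 1 := (QuotientGroup.eq_one_iff k).2 (hinf k hk (hmemH k (e.symm ▸ hγ)))
      have h3 : γ⁻¹ * x * γ = 1 := e.symm.trans h2
      calc x = γ * (γ⁻¹ * x * γ) * γ⁻¹ := by group
        _ = 1 := by rw [h3]; group
    have hfac : ∀ x : G ⧸ center G, ∃ k ∈ K, ∃ c ∈ H, x = k * c := by
      intro x
      obtain ⟨g, rfl⟩ := QuotientGroup.mk'_surjective (center G) x
      obtain ⟨k, hk, c, hc, rfl⟩ := hmul g
      exact ⟨π' k, ⟨k, hk, rfl⟩, π' c, ⟨c, hc, rfl⟩, map_mul π' k c⟩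
    have hcard : Nat.card (Cfsg.frobeniusKernel H) ≤ (K : Set (G ⧸ center G)).ncard := by
      rw [CfsgLib.Solvable.card_frobeniusKernel hH, ← CfsgLib.Solvable.relIndex_eq_index_of_mul hfac,
        ← Nat.card_coe_set_eq]
      exact Nat.le_of_dvd Nat.card_pos (relIndex_dvd_card _ _)
    have heq : (K : Set (G ⧸ center G)) = Cfsg.frobeniusKernel H :=
      Set.eq_of_subset_of_ncard_le hsub (by rwa [Nat.card_coe_set_eq] at hcard) (Set.toFinite _)
    rw [← heq]
    rintro _ ⟨a, ha, rfl⟩ _ ⟨a', ha', rfl⟩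
    exact ((D.kern_comm ha ha').map π').eq

end CfsgLib.FGS.Disconnected
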