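/-
Two vertices of the class size graph at distance more than three: their neighbourhoods exhaust the vertices.
-/
import Cfsg.Agent.Lib.FGS.DisconnectedClassGraph

set_option autoImplicit false

namespace CfsgLib.FGS.Diameter

open Subgroup CfsgLib.FGS.TwoLargest

variable {G : Type*} [Group G] [Finite G]

/-- The closed neighbourhood of `r`. -/
def Near (G : Type*) [Group G] [Finite G] (r t : ℕ) : Prop :=
  t.Prime ∧ ∃ x : G, r ∣ cls x ∧ t ∣ cls x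

/-- No class meets both neighbourhoods. -/
def Apart (G : Type*) [Group G] [Finite G] (r s : ℕ) : Prop :=
  ∀ (w : G) (t u : ℕ), Near G r t → Near G s u → t ∣ cls w → ¬ u ∣ cls w

theorem Apart.symm {r s : ℕ} (h : Apart G r s) : Apart G s r :=
  fun w t u ht hu h1 h2 => h w u t hu ht h2 h1

theorem part_central {r s p : ℕ} [hp : Fact p.Prime] (hA : Apart G r s) {x y : G} (hx : r ∣ cls x) (hy : s ∣ cls y)
    (hr : r.Prime) (hpx : ¬ p ∣ cls x) {b : G} (hby : b ∈ zpowers y)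
    (hb : ∃ k, orderOf b = p ^ k) : b ∈ center G := by
  by_contra hbZ
  have hd : cls b ∣ cls y := cls_dvd (centralizer_le_of_mem_zpowers hby)
  have hxZ : x ∉ center G := fun h => by
    rw [cls_eq_one.2 h] at hx
    exact hr.ne_one (Nat.dvd_one.1 hx)
  have hcop : (cls x).Coprime (cls b) := Nat.coprime_of_dvd fun t ht h1 h2 =>
    hA x t t ⟨ht, x, hx, h1⟩ ⟨ht, y, hy, h2.trans hd⟩ h1 h1
  obtain ⟨w, h1, h2⟩ := Disconnected.bridge hb hbZ hxZ hpx hcop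
  obtain ⟨t, ht, ht1, ht2⟩ := Nat.Prime.not_coprime_iff_dvd.1 h1
  obtain ⟨u, hu, hu1, hu2⟩ := Nat.Prime.not_coprime_iff_dvd.1 h2
  exact hA w t u ⟨ht, x, hx, ht2⟩ ⟨hu, y, hy, hu2.trans hd⟩ ht1 hu1

theorem class_near {r s p : ℕ} [hp : Fact p.Prime] (hA : Apart G r s) {x y : G} (hx : r ∣ cls x) (hy : s ∣ cls y)
    (hs : s.Prime) (hpx : ¬ p ∣ cls x) (hpy : ¬ p ∣ cls y) {u : G} (hu : ∃ k, orderOf u = p ^ k) (t : ℕ)
    (ht : t.Prime) (htu : t ∣ cls u) : Near G r t := by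
  obtain ⟨a, b, hab, ha, hb, hap, hbp⟩ := CfsgLib.Cores.exists_pow_mul_pow p x
  have haZ := part_central (hA.symm) hy hx hs hpy ha hap
  have hxb : cls x = cls b := by
    refine Nat.dvd_antisymm ?_ (cls_dvd (centralizer_le_of_mem_zpowers hb))
    refine cls_dvd fun g hg => commute_iff.2 ?_
    rw [hab]
    exact (show Commute g a from mem_center_iff.1 haZ g).mul_right (commute_iff.1 hg)
  obtain ⟨k, hk⟩ := hu
  obtain ⟨g, hg⟩ := TwoLargest.exists_conj_mem (w := x) hpx ⟨k, hk⟩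
  set u' := g * u * g⁻¹
  have hcu : cls u = cls u' := cls_eq_of_isConj (isConj_iff.2 ⟨g, rfl⟩)
  have hub : Commute u' b := commute_iff.1 (centralizer_le_of_mem_zpowers hb hg)
  have hou : orderOf u' = p ^ k := (orderOf_conj g u).trans hk
  have hco : (orderOf u').Coprime (orderOf b) := hou ▸ Nat.Coprime.pow_left _ hbp.symm
  refine ⟨ht, u' * b, ?_, ?_⟩
  · rw [hxb] at hx
    refine hx.trans ?_
    rw [hub.eq]; exact cls_dvd (centralizer_mul_le hub.symm hco.symm)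
  · exact (hcu ▸ htu).trans (cls_dvd (centralizer_mul_le hub hco))

/-- Every vertex is near `r` or near `s`. -/
theorem near_or_near {r s p : ℕ} (hA : Apart G r s) (hr : r.Prime) (hs : s.Prime) (hrv : ∃ x : G, r ∣ cls x)
    (hsv : ∃ y : G, s ∣ cls y) (hp : p.Prime) {g : G} (hg : p ∣ cls g) : Near G r p ∨ Near G s p := by
  by_contra hcon
  rw [not_or] at hcon
  haveI := Fact.mk hp
  obtain ⟨x, hx⟩ := hrv
  obtain ⟨y, hy⟩ := hsv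
  have hpx : ¬ p ∣ cls x := fun h => hcon.1 ⟨hp, x, hx, h⟩
  have hpy : ¬ p ∣ cls y := fun h => hcon.2 ⟨hp, y, hy, h⟩
  obtain ⟨P⟩ := (inferInstance : Nonempty (Sylow p G))
  refine SingularGraph.not_dvd_index_of_le P (fun u hu => ?_) hg
  obtain ⟨k, hk⟩ := IsPGroup.iff_orderOf.1 P.2 ⟨u, hu⟩
  rw [orderOf_mk] at hk
  refine commute_iff.2 (mem_center_iff.1 ?_ g).symm
  rw [← cls_eq_one]
  by_contra hne
  obtain ⟨t, ht, htu⟩ := Nat.exists_prime_and_dvd hne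
  exact hA u t t (class_near hA hx hy hs hpx hpy ⟨k, hk⟩ t ht htu)
    (class_near hA.symm hy hx hr hpy hpx ⟨k, hk⟩ t ht htu) htu htu

/-- In a connected class size graph nothing is at distance more than three. -/
theorem diameter
    (hconn : ∀ S : Set ℕ, (∃ p ∈ S, p.Prime ∧ ∃ g : G, p ∣ cls g) → (∃ q ∉ S, q.Prime ∧ ∃ g : G, q ∣ cls g) →
      ∃ p q : ℕ, (p.Prime ∧ ∃ g : G, p ∣ cls g) ∧ (q.Prime ∧ ∃ g : G, q ∣ cls g) ∧ p ∈ S ∧ q ∉ S ∧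
        ∃ g : G, p * q ∣ cls g)
    {r s : ℕ} (hr : r.Prime ∧ ∃ g : G, r ∣ cls g) (hs : s.Prime ∧ ∃ g : G, s ∣ cls g) :
    ∃ (w : G) (t u : ℕ), Near G r t ∧ Near G s u ∧ t ∣ cls w ∧ u ∣ cls w := by
  by_contra hcon
  have hA : Apart G r s := fun w t u ht hu h1 h2 => hcon ⟨w, t, u, ht, hu, h1, h2⟩
  obtain ⟨x, hx⟩ := hr.2
  obtain ⟨y, hy⟩ := hs.2
  have hsn : ¬ Near G r s := fun h => hA y s s h ⟨hs.1, y, hy, hy⟩ hy hy
  obtain ⟨p, q, ⟨hp, -⟩, ⟨hq, g, hg⟩, hpS, hqS, w, hw⟩ := hconn {t | Near G r t} ⟨r, ⟨hr.1, x, hx, hx⟩, hr⟩ ⟨s, hsn, hs⟩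
  have hqs := (near_or_near hA hr.1 hs.1 ⟨x, hx⟩ ⟨y, hy⟩ hq hg).resolve_left hqS
  exact hA w p q hpS hqs ((dvd_mul_right p q).trans hw) ((dvd_mul_left q p).trans hw)

/-- The same as a path. -/
theorem path
    (hconn : ∀ S : Set ℕ, (∃ p ∈ S, p.Prime ∧ ∃ g : G, p ∣ cls g) → (∃ q ∉ S, q.Prime ∧ ∃ g : G, q ∣ cls g) →
      ∃ p q : ℕ, (p.Prime ∧ ∃ g : G, p ∣ cls g) ∧ (q.Prime ∧ ∃ g : G, q ∣ cls g) ∧ p ∈ S ∧ q ∉ S ∧
        ∃ g : G, p * q ∣ cls g)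
    {p q : ℕ} (hp : p.Prime ∧ ∃ g : G, p ∣ cls g) (hq : q.Prime ∧ ∃ g : G, q ∣ cls g) (hpq : p ≠ q) :
    (∃ g : G, p * q ∣ cls g) ∨ (∃ r : ℕ, (r.Prime ∧ ∃ g : G, r ∣ cls g) ∧ r ≠ p ∧ r ≠ q ∧
      (∃ g : G, p * r ∣ cls g) ∧ (∃ g : G, r * q ∣ cls g)) ∨
      (∃ r s : ℕ, (r.Prime ∧ ∃ g : G, r ∣ cls g) ∧ (s.Prime ∧ ∃ g : G, s ∣ cls g) ∧ r ≠ p ∧ s ≠ q ∧ r ≠ s ∧
        r ≠ q ∧ s ≠ p ∧
        (∃ g : G, p * r ∣ cls g) ∧ (∃ g : G, r * s ∣ cls g) ∧ (∃ g : G, s * q ∣ cls g)) := by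
  obtain ⟨w, t, u, ⟨ht, x, hpx, htx⟩, ⟨hu, y, hqy, huy⟩, htw, huw⟩ := diameter hconn hp hq
  have m : ∀ {a b : ℕ} {z : G}, a.Prime → b.Prime → a ≠ b → a ∣ cls z → b ∣ cls z → ∃ g : G, a * b ∣ cls g :=
    fun {a b z} ha hb hab h1 h2 => ⟨z, ((Nat.coprime_primes ha hb).2 hab).mul_dvd_of_dvd_of_dvd h1 h2⟩
  by_cases etq : t = q
  · exact Or.inl (m hp.1 hq.1 hpq hpx (etq ▸ htx))
  by_cases eup : u = p
  · exact Or.inl (m hp.1 hq.1 hpq (eup ▸ huy) hqy)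
  by_cases etp : t = p
  · by_cases euq : u = q
    · exact Or.inl (m hp.1 hq.1 hpq (etp ▸ htw) (euq ▸ huw))
    · exact Or.inr (Or.inl ⟨u, ⟨hu, y, huy⟩, eup, euq, m hp.1 hu (Ne.symm eup) (etp ▸ htw) huw,
        m hu hq.1 euq huy hqy⟩)
  · by_cases euq : u = q
    · exact Or.inr (Or.inl ⟨t, ⟨ht, x, htx⟩, etp, etq, m hp.1 ht (Ne.symm etp) hpx htx,
        m ht hq.1 etq htw (euq ▸ huw)⟩)
    · by_cases etu : t = u
      · exact Or.inr (Or.inl ⟨t, ⟨ht, x, htx⟩, etp, etq, m hp.1 ht (Ne.symm etp) hpx htx,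
          m ht hq.1 etq (etu ▸ huy) hqy⟩)
      · exact Or.inr (Or.inr ⟨t, u, ⟨ht, x, htx⟩, ⟨hu, y, huy⟩, etp, euq, etu, etq, eup,
          m hp.1 ht (Ne.symm etp) hpx htx, m ht hu etu htw huw, m hu hq.1 euq huy hqy⟩)

end CfsgLib.FGS.Diameter
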