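import Mathlib
import Cfsg.Agent.Lib.FGS.Class
import Cfsg.Agent.Lib.OddLocal.Basic
import Cfsg.Agent.Lib.PGroup.ClassSize

/-!
# A group with the class sizes of a nilpotent group is nilpotent

If `G` has, for every size, as many classes as a nilpotent group, then every central subgroup
`Z(Q)` of a Sylow subgroup is central in `G`, and the elements with `p`-power class size fill the
preimage of a Sylow `p`-subgroup of `G / Z(G)`, for every `p`.
-/

set_option autoImplicit false

namespace CfsgLib.FGS.ClassMultiset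

open Subgroup

variable {G : Type*} [Group G] [Finite G]

/-- The size of the class of `x`. -/
noncomputable def cs (x : G) : ℕ := (centralizer ({x} : Set G)).index

theorem card_cs_eq (k : ℕ) :
    Nat.card {x : G // cs x = k} = Nat.card {C : ConjClasses G // Nat.card C.carrier = k} * k := by
  classical
  let e : {x : G // cs x = k} ≃ Σ C : {C : ConjClasses G // Nat.card C.carrier = k}, C.1.carrier :=
    { toFun := fun x => ⟨⟨ConjClasses.mk x.1, (card_carrier_mk x.1).trans x.2⟩,
        ⟨x.1, ConjClasses.mem_carrier_mk⟩⟩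
      invFun := fun y => ⟨y.2.1, by
        rw [cs, ← card_carrier_mk, ConjClasses.mem_carrier_iff_mk_eq.mp y.2.2]; exact y.1.2⟩
      left_inv := fun x => rfl
      right_inv := fun ⟨⟨C, hC⟩, ⟨x, hx⟩⟩ => by
        obtain rfl := ConjClasses.mem_carrier_iff_mk_eq.mp hx
        rfl }
  have := Fintype.ofFinite {C : ConjClasses G // Nat.card C.carrier = k}
  rw [Nat.card_congr e, Nat.card_sigma, Finset.sum_congr rfl (fun C _ => C.2), Finset.sum_const,
    Finset.card_univ, Nat.card_eq_fintype_card, smul_eq_mul]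

theorem exists_equiv {H : Type*} [Group H] [Finite H]
    (h : ∀ k : ℕ, Nat.card {C : ConjClasses G // Nat.card C.carrier = k} =
      Nat.card {C : ConjClasses H // Nat.card C.carrier = k}) :
    ∃ e : G ≃ H, ∀ x, cs (e x) = cs x := by
  classical
  let e : ∀ k : ℕ, {x : G // cs x = k} ≃ {y : H // cs y = k} := fun k =>
    Finite.equivFinOfCardEq ((card_cs_eq k).trans ((congrArg (· * k) (h k)).trans (card_cs_eq k).symm))
      |>.trans (Finite.equivFinOfCardEq rfl).symm
  exact ⟨Equiv.ofFiberEquiv e, Equiv.ofFiberEquiv_map e⟩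

theorem card_center_eq {H : Type*} [Group H] [Finite H] (e : G ≃ H) (he : ∀ x, cs (e x) = cs x) :
    Nat.card (center G) = Nat.card (center H) :=
  Nat.card_congr (e.subtypeEquiv fun x => by
    rw [← CfsgLib.PGroup.index_centralizer_eq_one_iff, ← CfsgLib.PGroup.index_centralizer_eq_one_iff]
    show cs x = 1 ↔ cs (e x) = 1
    rw [he])

theorem center_le_centralizer' (x : G) : center G ≤ centralizer ({x} : Set G) :=
  center_le_centralizer _

/-- The set of elements with class size prime to `q`, modulo the centre. -/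
def dbar (q : ℕ) : Set (G ⧸ center G) := QuotientGroup.mk '' {x : G | ¬ q ∣ cs x}

theorem cs_mul_central (x : G) {z : G} (hz : z ∈ center G) : cs (x * z) = cs x := by
  rw [cs, cs]
  congr 1
  ext g
  rw [mem_centralizer_singleton_iff, mem_centralizer_singleton_iff, ← mul_assoc, mul_assoc x z g,
    ← mem_center_iff.mp hz g, ← mul_assoc, mul_left_inj]

theorem card_dbar (q : ℕ) :
    Nat.card (center G) * Nat.card (dbar (G := G) q) = Nat.card {x : G // ¬ q ∣ cs x} := by
  rw [← Nat.card_congr (QuotientGroup.preimageMkEquivSubgroupProdSet (center G) (dbar (G := G) q))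
    |>.trans (Nat.card_prod _ _)]
  refine Nat.card_congr (Equiv.subtypeEquivRight fun x => ⟨?_, fun hx => ⟨x, hx, rfl⟩⟩)
  rintro ⟨y, hy, hxy⟩
  have hyx : y⁻¹ * x ∈ center G := QuotientGroup.eq.mp hxy
  have := cs_mul_central y hyx
  rw [mul_inv_cancel_left] at this
  rwa [this]

theorem card_comap_center (W : Subgroup (G ⧸ center G)) :
    Nat.card (W.comap (QuotientGroup.mk' (center G))) = Nat.card (center G) * Nat.card W :=
  (Nat.card_congr (QuotientGroup.preimageMkEquivSubgroupProdSet (center G)
    (W : Set (G ⧸ center G)))).trans (Nat.card_prod _ _)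

/-! ### The nilpotent side -/

section Nilpotent

variable [Group.IsNilpotent G]

theorem sylow_normal {q : ℕ} [Fact q.Prime] (Q : Sylow q G) : (Q : Subgroup G).Normal :=
  (Group.isNilpotent_of_finite_tfae (G := G)).out 0 3 rfl rfl |>.mp ‹_› q ‹_› Q

/-- In a nilpotent group the elements with class size prime to `q` are those centralising the
Sylow `q`-subgroup. -/
theorem not_dvd_cs_iff {q : ℕ} [hq : Fact q.Prime] (Q : Sylow q G) (x : G) :
    ¬ q ∣ cs x ↔ x ∈ centralizer ((Q : Subgroup G) : Set G) := by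
  constructor
  · intro h
    let R : Sylow q (centralizer ({x} : Set G)) := default
    have hcard : Nat.card ((R : Subgroup _).map (centralizer ({x} : Set G)).subtype) =
        q ^ (Nat.card G).factorization q := by
      rw [card_map_of_injective (subtype_injective _), Sylow.card_eq_multiplicity,
        ← index_mul_card (centralizer ({x} : Set G)), Nat.factorization_mul index_ne_zero_of_finite
          Nat.card_pos.ne', Finsupp.add_apply, Nat.factorization_eq_zero_of_not_dvd (show ¬ q ∣ (centralizer ({x} : Set G)).index from h),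
        zero_add]
    have := sylow_normal Q
    have := Sylow.unique_of_normal Q (sylow_normal Q)
    have hle : (Q : Subgroup G) ≤ centralizer ({x} : Set G) := by
      rw [show Q = Sylow.ofCard _ hcard from Subsingleton.elim _ _]
      exact map_subtype_le _
    exact mem_centralizer_iff.mpr fun u hu => mem_centralizer_singleton_iff.mp (hle hu)
  · intro h hd
    have hle : (Q : Subgroup G) ≤ centralizer ({x} : Set G) := fun u hu =>
      mem_centralizer_singleton_iff.mpr (mem_centralizer_iff.mp h u hu)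
    exact Q.not_dvd_index (hd.trans (index_dvd_of_le hle))

/-- `|C(Q) : Z(G)|` is prime to `q`. -/
theorem not_dvd_card_dbar {q : ℕ} [hq : Fact q.Prime] : ¬ q ∣ Nat.card (dbar (G := G) q) := by
  let Q : Sylow q G := default
  set C := centralizer ((Q : Subgroup G) : Set G) with hC
  let S : Sylow q C := default
  have hSZ : (S : Subgroup C).map C.subtype ≤ center G := by
    have hp : IsPGroup q ((S : Subgroup C).map C.subtype) := S.isPGroup'.map _
    have := Sylow.unique_of_normal Q (sylow_normal Q)
    obtain ⟨Q', hQ'⟩ := hp.exists_le_sylow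
    rw [Subsingleton.elim Q' Q] at hQ'
    intro y hy
    have hyC : y ∈ C := map_subtype_le _ hy
    rw [← CfsgLib.PGroup.index_centralizer_eq_one_iff]
    by_contra hne
    obtain ⟨r, hr, hrd⟩ := Nat.exists_prime_and_dvd hne
    have := Fact.mk hr
    obtain ⟨R⟩ : Nonempty (Sylow r G) := inferInstance
    refine R.not_dvd_index (hrd.trans (index_dvd_of_le fun u hu => ?_))
    rw [mem_centralizer_singleton_iff]
    rcases eq_or_ne r q with rfl | hrq
    · exact mem_centralizer_iff.mp hyC u (by rwa [Subsingleton.elim Q R])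
    · obtain ⟨i, hi⟩ := IsPGroup.iff_orderOf.mp Q.isPGroup' ⟨y, hQ' hy⟩
      obtain ⟨j, hj⟩ := IsPGroup.iff_orderOf.mp R.isPGroup' ⟨u, hu⟩
      rw [orderOf_mk] at hi hj
      exact CfsgLib.OddLocal.commute_of_coprime_orderOf u y (by
        rw [hi, hj]; exact (((Nat.coprime_primes hr hq.out).mpr hrq).pow_left j).pow_right i)
  intro hd
  have h1 : Nat.card {x : G // ¬ q ∣ cs x} = Nat.card C :=
    Nat.card_congr (Equiv.subtypeEquivRight fun x => not_dvd_cs_iff Q x)
  rw [← card_dbar] at h1
  have h2 : q ^ (Nat.card C).factorization q ∣ Nat.card (center G) := by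
    rw [← Sylow.card_eq_multiplicity S, ← card_map_of_injective C.subtype_injective]
    exact card_dvd_of_le hSZ
  refine hq.out.not_dvd_one ?_
  have h3 : q ^ ((Nat.card C).factorization q + 1) ∣ Nat.card C := by
    have := mul_dvd_mul h2 hd
    rw [h1, ← pow_succ] at this
    exact this
  have := (hq.out.pow_dvd_iff_le_factorization Nat.card_pos.ne').mp h3
  omega

/-- In a nilpotent group the preimage of a Sylow subgroup of `G / Z(G)` consists of elements with
prime-power class size. -/
theorem dvd_cs_of_mem_comap {p : ℕ} [hp : Fact p.Prime] (W : Sylow p (G ⧸ center G)) {x : G}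
    (hx : x ∈ (W : Subgroup (G ⧸ center G)).comap (QuotientGroup.mk' (center G))) :
    ∀ r : ℕ, r.Prime → r ∣ cs x → r = p := by
  intro r hr hrd
  by_contra hrp
  have := Fact.mk hr
  obtain ⟨R⟩ : Nonempty (Sylow r G) := inferInstance
  obtain ⟨k, hk⟩ := W.isPGroup' ⟨(x : G ⧸ center G), hx⟩
  have hk' : x ^ p ^ k ∈ center G := (QuotientGroup.eq_one_iff _).mp (by
    simpa using congrArg Subtype.val hk)
  set c := orderOf x / p ^ (orderOf x).factorization p with hc
  refine R.not_dvd_index (hrd.trans (index_dvd_of_le fun u hu => ?_))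
  rw [mem_centralizer_singleton_iff]
  have hco : Nat.Coprime c (p ^ k) :=
    ((Nat.coprime_ordCompl hp.out (orderOf_pos x).ne').pow_left k).symm
  have h1 : Commute u (x ^ c) := by
    obtain ⟨j, hj⟩ := IsPGroup.iff_orderOf.mp R.isPGroup' ⟨u, hu⟩
    rw [orderOf_mk] at hj
    refine CfsgLib.OddLocal.commute_of_coprime_orderOf u _ ?_
    rw [hj]
    have hd : orderOf (x ^ c) ∣ p ^ (orderOf x).factorization p := orderOf_dvd_of_pow_eq_one (by
      rw [← pow_mul, hc, Nat.div_mul_cancel (Nat.ordProj_dvd _ _), pow_orderOf_eq_one])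
    exact Nat.Coprime.coprime_dvd_right hd
      (((Nat.coprime_primes hr hp.out).mpr hrp).pow_left j |>.pow_right _)
  have h2 : Commute u (x ^ p ^ k) := mem_center_iff.mp hk' u
  have h3 : Commute u (x ^ ((c : ℤ) * Nat.gcdA c (p ^ k) + ((p ^ k : ℕ) : ℤ) * Nat.gcdB c (p ^ k))) := by
    rw [zpow_add, zpow_mul, zpow_mul, zpow_natCast, zpow_natCast]
    exact (h1.zpow_right _).mul_right (h2.zpow_right _)
  rw [← Nat.gcd_eq_gcd_ab, hco.gcd_eq_one, Nat.cast_one, zpow_one] at h3
  exact h3

end Nilpotent

/-! ### The other side -/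

/-- If `|D̄_q|` is prime to `q`, the centre of a Sylow `q`-subgroup is central. -/
theorem center_sylow_le {q : ℕ} [hq : Fact q.Prime] (hD : ¬ q ∣ Nat.card (dbar (G := G) q))
    (Q : Sylow q G) {y : G} (hyQ : y ∈ Q) (hy : y ∈ centralizer ((Q : Subgroup G) : Set G)) :
    y ∈ center G := by
  classical
  let π := QuotientGroup.mk' (center G)
  set C := (centralizer ((Q : Subgroup G) : Set G)).map π with hC
  have hinv : ∀ (u : G) (v : G ⧸ center G), v ∈ dbar (G := G) q →
      π u * v * (π u)⁻¹ ∈ dbar (G := G) q := by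
    rintro u _ ⟨x, hx, rfl⟩
    refine ⟨u * x * u⁻¹, ?_, by simp [π]⟩
    show ¬ q ∣ cs (u * x * u⁻¹)
    rw [cs, index_centralizer_eq_ncard, show {h : G | IsConj (u * x * u⁻¹) h} = {h | IsConj x h} by
      ext h; exact ⟨fun hh => (isConj_iff.mpr ⟨u, rfl⟩ : IsConj x _).trans hh,
        fun hh => (isConj_iff.mpr ⟨u, rfl⟩ : IsConj x _).symm.trans hh⟩,
      ← index_centralizer_eq_ncard]
    exact hx
  let act : MulAction Q (dbar (G := G) q) :=
    { smul := fun u v => ⟨π u.1 * v.1 * (π u.1)⁻¹, hinv _ _ v.2⟩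
      one_smul := fun v => Subtype.ext (by show π 1 * v.1 * (π 1)⁻¹ = v.1; simp)
      mul_smul := fun u w v => Subtype.ext (by
        show π (u.1 * w.1) * v.1 * (π (u.1 * w.1))⁻¹ = π u.1 * (π w.1 * v.1 * (π w.1)⁻¹) * (π u.1)⁻¹
        rw [map_mul, mul_inv_rev]; group) }
  have hmod := Q.isPGroup'.card_modEq_card_fixedPoints (dbar (G := G) q)
  have hfix : MulAction.fixedPoints Q (dbar (G := G) q) = {v | v.1 ∈ C} := by
    ext ⟨v, hv⟩
    constructor
    · intro hf
      obtain ⟨x, hx, rfl⟩ := hv
      refine ⟨x, mem_centralizer_iff.mpr fun u hu => ?_, rfl⟩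
      have h1 : π u * π x * (π u)⁻¹ = π x := congrArg Subtype.val (hf ⟨u, hu⟩)
      -- the commutator with `x` is a central homomorphism killed by `C(x)`
      let M : Subgroup G := (centralizer ({π x} : Set (G ⧸ center G))).comap π
      have hM : ∀ g ∈ M, g * x * g⁻¹ * x⁻¹ ∈ center G := fun g hg => by
        have hg' : π g * π x = π x * π g := mem_centralizer_singleton_iff.mp hg
        refine (QuotientGroup.eq_one_iff _).mp ?_
        show π (g * x * g⁻¹ * x⁻¹) = 1
        rw [map_mul, map_mul, map_mul, map_inv, map_inv, hg']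
        group
      let φ : M →* center G :=
        MonoidHom.mk' (fun g => ⟨g * x * (g : G)⁻¹ * x⁻¹, hM g g.2⟩) (fun g g' => Subtype.ext (by
          show (g : G) * g' * x * ((g : G) * g')⁻¹ * x⁻¹ =
            (g * x * (g : G)⁻¹ * x⁻¹) * (g' * x * (g' : G)⁻¹ * x⁻¹)
          have hz := mem_center_iff.mp (hM g' g'.2)
          calc (g : G) * g' * x * ((g : G) * g')⁻¹ * x⁻¹
              = g * ((g' * x * (g' : G)⁻¹ * x⁻¹) * x) * (g : G)⁻¹ * x⁻¹ := by group
            _ = g * (x * (g' * x * (g' : G)⁻¹ * x⁻¹)) * (g : G)⁻¹ * x⁻¹ := by rw [hz x]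
            _ = g * x * ((g' * x * (g' : G)⁻¹ * x⁻¹) * ((g : G)⁻¹ * x⁻¹)) := by group
            _ = g * x * (((g : G)⁻¹ * x⁻¹) * (g' * x * (g' : G)⁻¹ * x⁻¹)) := by rw [hz _]
            _ = (g * x * (g : G)⁻¹ * x⁻¹) * (g' * x * (g' : G)⁻¹ * x⁻¹) := by group))
      have huM : u ∈ M := by
        show π u ∈ centralizer ({π x} : Set (G ⧸ center G))
        rw [mem_centralizer_singleton_iff]
        exact mul_inv_eq_iff_eq_mul.mp h1
      obtain ⟨j, hj⟩ := IsPGroup.iff_orderOf.mp Q.isPGroup' ⟨u, hu⟩
      have hker : φ.ker = (centralizer ({x} : Set G)).subgroupOf M := by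
        ext g
        rw [MonoidHom.mem_ker, mem_subgroupOf, mem_centralizer_singleton_iff]
        simp [φ, Subtype.ext_iff, mul_inv_eq_iff_eq_mul]
      have hd1 : orderOf (φ ⟨u, huM⟩) ∣ cs x := by
        refine (φ.range.orderOf_dvd_natCard ⟨_, rfl⟩).trans ?_
        rw [← index_ker, hker]
        have hle : centralizer ({x} : Set G) ≤ M := fun g hg => by
          show π g ∈ centralizer ({π x} : Set (G ⧸ center G))
          rw [mem_centralizer_singleton_iff, ← map_mul, mem_centralizer_singleton_iff.mp hg, map_mul]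
        exact ⟨M.index, (relIndex_mul_index hle).symm⟩
      have hd2 : orderOf (φ ⟨u, huM⟩) ∣ q ^ j :=
        (orderOf_map_dvd φ _).trans ((orderOf_mk u huM).trans ((orderOf_mk u hu).symm.trans hj)).dvd
      have h2 : φ ⟨u, huM⟩ = 1 := orderOf_eq_one_iff.mp (Nat.eq_one_of_dvd_coprimes
        (((Nat.Prime.coprime_iff_not_dvd hq.out).mpr hx).pow_left j) hd2 hd1)
      have h3 : (⟨u, huM⟩ : M) ∈ φ.ker := h2
      rw [hker, mem_subgroupOf, mem_centralizer_singleton_iff] at h3
      exact h3
    · rintro ⟨x, hx, hxv⟩ ⟨u, hu⟩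
      refine Subtype.ext ?_
      show π u * v * (π u)⁻¹ = v
      rw [← (show π x = v from hxv), ← map_mul, mem_centralizer_iff.mp hx u hu, map_mul, mul_inv_cancel_right]
  have hCD : ∀ v ∈ C, v ∈ dbar (G := G) q := by
    rintro _ ⟨x, hx, rfl⟩
    refine ⟨x, fun hd => Q.not_dvd_index (hd.trans (index_dvd_of_le fun u hu => ?_)), rfl⟩
    exact mem_centralizer_singleton_iff.mpr (mem_centralizer_iff.mp hx u hu)
  have hcard : Nat.card (MulAction.fixedPoints Q (dbar (G := G) q)) = Nat.card C := by
    rw [hfix]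
    exact Nat.card_congr ⟨fun v => ⟨v.1.1, v.2⟩, fun v => ⟨⟨v.1, hCD _ v.2⟩, v.2⟩,
      fun _ => rfl, fun _ => rfl⟩
  rw [hcard] at hmod
  have hC' : ¬ q ∣ Nat.card C := fun hd => hD ((hmod.dvd_iff dvd_rfl).mpr hd)
  obtain ⟨i, hi⟩ := IsPGroup.iff_orderOf.mp Q.isPGroup' ⟨y, hyQ⟩
  rw [orderOf_mk] at hi
  have h1 : orderOf (π y) ∣ q ^ i := hi ▸ orderOf_map_dvd π y
  have h2 : orderOf (π y) ∣ Nat.card C := orderOf_dvd_natCard C (mem_map_of_mem π hy)
  exact (QuotientGroup.eq_one_iff y).mp (orderOf_eq_one_iff.mp (Nat.eq_one_of_dvd_coprimes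
    (((Nat.Prime.coprime_iff_not_dvd hq.out).mpr hC').pow_left i) h1 h2))

/-- An element with class size prime to `q` has central `q`-part. -/
theorem pow_mem_center {q : ℕ} [hq : Fact q.Prime] (hD : ¬ q ∣ Nat.card (dbar (G := G) q))
    {x : G} (hx : ¬ q ∣ cs x) :
    x ^ (Nat.card G / q ^ (Nat.card G).factorization q) ∈ center G := by
  classical
  set C := centralizer ({x} : Set G) with hC
  set y := x ^ (Nat.card G / q ^ (Nat.card G).factorization q) with hy
  let R : Sylow q C := default
  have hyC : y ∈ C := pow_mem (mem_centralizer_singleton_iff.mpr rfl) _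
  have hyR : (⟨y, hyC⟩ : C) ∈ (R : Subgroup C) := by
    have hn : (zpowers (⟨y, hyC⟩ : C)).Normal := ⟨fun a ha g => by
      obtain ⟨j, rfl⟩ := mem_zpowers_iff.mp ha
      have hg : Commute (g : G) (y ^ j) :=
        ((show Commute (g : G) x from mem_centralizer_singleton_iff.mp g.2).pow_right _).zpow_right j
      rw [show g * (⟨y, hyC⟩ : C) ^ j * g⁻¹ = (⟨y, hyC⟩ : C) ^ j from
        mul_inv_eq_iff_eq_mul.mpr (Subtype.ext (by simpa using hg.eq))]
      exact zpow_mem_zpowers _ _⟩
    refine IsPGroup.le_sylow_of_normal ?_ R (mem_zpowers _)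
    intro ⟨a, ha⟩
    refine ⟨(Nat.card G).factorization q, Subtype.ext ?_⟩
    obtain ⟨j, rfl⟩ := mem_zpowers_iff.mp ha
    refine Subtype.ext ?_
    simp only [SubgroupClass.coe_pow, SubgroupClass.coe_zpow, OneMemClass.coe_one]
    rw [← zpow_natCast, ← zpow_mul, mul_comm, zpow_mul, zpow_natCast, hy, ← pow_mul,
      Nat.div_mul_cancel (Nat.ordProj_dvd _ _), pow_card_eq_one', one_zpow]
  have hcard : Nat.card ((R : Subgroup C).map C.subtype) = q ^ (Nat.card G).factorization q := by
    rw [card_map_of_injective (subtype_injective _), Sylow.card_eq_multiplicity,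
      ← index_mul_card C, Nat.factorization_mul index_ne_zero_of_finite Nat.card_pos.ne',
      Finsupp.add_apply, Nat.factorization_eq_zero_of_not_dvd (show ¬ q ∣ C.index from hx), zero_add]
  refine center_sylow_le hD (Sylow.ofCard _ hcard) ⟨_, hyR, rfl⟩ ?_
  rw [mem_centralizer_iff]
  rintro _ ⟨u, -, rfl⟩
  exact ((show Commute (u : G) x from mem_centralizer_singleton_iff.mp u.2).pow_right _).eq

theorem mem_sylow_of_cs {p : ℕ} [hp : Fact p.Prime] {X : Type*} [Group X] [Finite X] {v : X}
    (hv : ∃ i, orderOf v = p ^ i)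
    (hc : ∀ r : ℕ, r.Prime → r ∣ (centralizer ({v} : Set X)).index → r = p) (P : Sylow p X) :
    v ∈ P := by
  obtain ⟨i, hi⟩ := hv
  obtain ⟨P0, hP0⟩ := (IsPGroup.of_card (n := i) (G := zpowers v)
    (by rw [Nat.card_zpowers, hi])).exists_le_sylow
  obtain ⟨g, rfl⟩ := MulAction.exists_smul_eq X P0 P
  set C := centralizer ({v} : Set X) with hC
  have hco : C.index.Coprime (P0 : Subgroup X).index := Nat.coprime_of_dvd fun r hr h1 h2 =>
    P0.not_dvd_index (hc r hr h1 ▸ h2)
  let f : (P0 : Subgroup X) ⧸ C.subgroupOf P0 → X ⧸ C :=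
    Quotient.map' Subtype.val fun a b h =>
      QuotientGroup.leftRel_apply.mpr (by simpa [mem_subgroupOf] using QuotientGroup.leftRel_apply.mp h)
  have hinj : Function.Injective f := by
    intro a b
    induction a using Quotient.inductionOn'
    induction b using Quotient.inductionOn'
    intro h
    refine Quotient.sound' (QuotientGroup.leftRel_apply.mpr ?_)
    have := QuotientGroup.eq.mp h
    simpa [mem_subgroupOf] using this
  have hdvd : C.index ∣ (C.subgroupOf P0).index := hco.dvd_of_dvd_mul_right (by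
    rw [← relIndex, ← inf_relIndex_right C P0, relIndex_mul_index inf_le_right]
    exact index_dvd_of_le inf_le_left)
  have hbij := hinj.bijective_of_nat_card_le (Nat.le_of_dvd Nat.card_pos hdvd)
  obtain ⟨a, ha⟩ := hbij.2 ((g⁻¹ : X) : X ⧸ C)
  induction a using Quotient.inductionOn' with | _ w
  have h2 : (w : X)⁻¹ * g⁻¹ ∈ C := QuotientGroup.eq.mp ha
  show v ∈ ((g • P0 : Sylow p X) : Subgroup X)
  rw [Sylow.coe_subgroup_smul]
  rw [mem_pointwise_smul_iff_inv_smul_mem]
  show (MulAut.conj g)⁻¹ • v ∈ (P0 : Subgroup X)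
  rw [MulAut.smul_def, MulAut.inv_def, MulAut.conj_symm_apply]
  have h3 := mem_centralizer_singleton_iff.mp h2
  rw [show g⁻¹ * v * g = w * ((w : X)⁻¹ * g⁻¹ * v) * g by group, h3,
    show (w : X) * (v * ((w : X)⁻¹ * g⁻¹)) * g = w * v * (w : X)⁻¹ by group]
  exact mul_mem (mul_mem w.2 (hP0 (mem_zpowers v))) (inv_mem w.2)

/-- The theorem: same class sizes as a nilpotent group implies nilpotent. -/
theorem isNilpotent_of_equiv {H : Type*} [Group H] [Finite H] [Group.IsNilpotent H] (e : G ≃ H)
    (he : ∀ x, cs (e x) = cs x) : Group.IsNilpotent G := by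
  classical
  have hZ := card_center_eq e he
  have hG : Nat.card G = Nat.card H := Nat.card_congr e
  have hD : ∀ q : ℕ, q.Prime → ¬ q ∣ Nat.card (dbar (G := G) q) := fun q hq => by
    have := Fact.mk hq
    have h1 : Nat.card {x : G // ¬ q ∣ cs x} = Nat.card {x : H // ¬ q ∣ cs x} :=
      Nat.card_congr (e.subtypeEquiv fun x => by rw [he])
    rw [← card_dbar, ← card_dbar, hZ, Nat.mul_left_cancel_iff Nat.card_pos] at h1
    rw [h1]
    exact not_dvd_card_dbar
  have hq : Group.IsNilpotent (G ⧸ center G) := by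
    refine (Group.isNilpotent_of_finite_tfae (G := G ⧸ center G)).out 3 0 rfl rfl |>.mp fun p _ P => ?_
    let E : Set G := {x | ∀ r : ℕ, r.Prime → r ∣ cs x → r = p}
    -- every Sylow preimage contains `E`
    have hsub : ∀ P' : Sylow p (G ⧸ center G),
        E ⊆ ((P' : Subgroup (G ⧸ center G)).comap (QuotientGroup.mk' (center G)) : Set G) := by
      intro P' x hx
      show (x : G ⧸ center G) ∈ P'
      refine mem_sylow_of_cs ?_ ?_ P'
      · refine ⟨_, (Nat.eq_prime_pow_of_unique_prime_dvd (orderOf_pos _).ne' fun {r} hr hrd => ?_)⟩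
        by_contra hrp
        have := Fact.mk hr
        have h1 := pow_mem_center (hD r hr) (fun hd => hrp (hx r hr hd))
        have h2 : orderOf (x : G ⧸ center G) ∣ Nat.card G / r ^ (Nat.card G).factorization r := by
          refine orderOf_dvd_of_pow_eq_one ?_
          rw [← QuotientGroup.mk_pow]
          exact (QuotientGroup.eq_one_iff _).mpr h1
        exact Nat.not_dvd_ordCompl hr Nat.card_pos.ne' (hrd.trans h2)
      · intro r hr hrd
        refine hx r hr (hrd.trans ?_)
        have hle : centralizer ({x} : Set G) ≤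
            (centralizer ({(x : G ⧸ center G)} : Set (G ⧸ center G))).comap
              (QuotientGroup.mk' (center G)) := fun g hg => by
          show (g : G ⧸ center G) ∈ centralizer ({(x : G ⧸ center G)} : Set (G ⧸ center G))
          rw [mem_centralizer_singleton_iff, ← QuotientGroup.mk_mul,
            mem_centralizer_singleton_iff.mp hg, QuotientGroup.mk_mul]
        rw [← index_comap_of_surjective _ (QuotientGroup.mk'_surjective (center G))]
        exact index_dvd_of_le hle
    have hcard : ∀ P' : Sylow p (G ⧸ center G),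
        E = ((P' : Subgroup (G ⧸ center G)).comap (QuotientGroup.mk' (center G)) : Set G) := by
      intro P'
      refine Set.eq_of_subset_of_ncard_le (hsub P') ?_ (Set.toFinite _)
      obtain ⟨W⟩ : Nonempty (Sylow p (H ⧸ center H)) := inferInstance
      have hidx : Nat.card (G ⧸ center G) = Nat.card (H ⧸ center H) := by
        have h1 := card_eq_card_quotient_mul_card_subgroup (center G)
        rw [hG, card_eq_card_quotient_mul_card_subgroup (center H), ← hZ,
          Nat.mul_right_cancel_iff Nat.card_pos] at h1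
        exact h1.symm
      rw [← Nat.card_coe_set_eq, ← Nat.card_coe_set_eq]
      show Nat.card ((P' : Subgroup (G ⧸ center G)).comap (QuotientGroup.mk' (center G))) ≤ _
      rw [card_comap_center, Sylow.card_eq_multiplicity, hidx, hZ, ← Sylow.card_eq_multiplicity W,
        ← card_comap_center]
      refine Nat.card_le_card_of_injective (fun y => ⟨e.symm y.1, fun r hr hrd => ?_⟩)
        fun a b h => Subtype.ext (e.symm.injective (congrArg Subtype.val h))
      rw [← he, e.apply_symm_apply] at hrd
      exact dvd_cs_of_mem_comap W y.2 r hr hrd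
    have : Subsingleton (Sylow p (G ⧸ center G)) := ⟨fun A B => Sylow.ext
      (comap_injective (QuotientGroup.mk'_surjective _) (SetLike.coe_injective
        ((hcard A).symm.trans (hcard B))))⟩
    exact P.normal_of_subsingleton
  exact Group.of_quotient_center_nilpotent hq

end CfsgLib.FGS.ClassMultiset
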