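import Mathlib
import Cfsg.Agent.Lib.FGS.Class

/-!
No group of order `p (p + 1)` has a self-normalising subgroup of order `p` when `p + 1` is not a
prime power.
-/

set_option autoImplicit false

namespace CfsgLib.FGS

open Subgroup

theorem false_of_card_mul_succ {K : Type*} [Group K] [Finite K] {p r s : ℕ} (hp : p.Prime)
    (hr : r.Prime) (hs : s.Prime) (hrs : r ≠ s) (hrd : r ∣ p + 1) (hsd : s ∣ p + 1)
    (P : Subgroup K) (hP : Nat.card P = p) (hcard : Nat.card K = p * (p + 1))
    (hN : Subgroup.normalizer (P : Set K) ≤ P) : False := by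
  classical
  haveI := Fact.mk hp
  have hrp : r ≠ p := fun e => hp.not_dvd_one ((Nat.dvd_add_right dvd_rfl).1 (e ▸ hrd))
  have hsp : s ≠ p := fun e => hp.not_dvd_one ((Nat.dvd_add_right dvd_rfl).1 (e ▸ hsd))
  have hidx : P.index = p + 1 := by
    have h := P.index_mul_card
    rw [hP, hcard, mul_comm p] at h
    exact Nat.eq_of_mul_eq_mul_right hp.pos h
  have hPnd : ¬ p ∣ P.index := by
    rw [hidx]
    exact fun h => hp.not_dvd_one ((Nat.dvd_add_right dvd_rfl).1 h)
  -- the elements of order `p`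
  let F : (K ⧸ P) × {h : P // h ≠ 1} → K := fun z => z.1.out * (z.2.1 : K) * z.1.out⁻¹
  have hTI : ∀ (g : K) (h : P), h ≠ 1 → g * (h : K) * g⁻¹ ∈ P → g ∈ P := by
    intro g h hh hmem
    haveI : Fact (Nat.Prime (Nat.card P)) := ⟨hP ▸ hp⟩
    refine hN ?_
    have hgen : Subgroup.zpowers (h : K) = P := by
      refine Subgroup.eq_of_le_of_card_ge (Subgroup.zpowers_le.2 h.2) ?_
      rw [Nat.card_zpowers, Subgroup.orderOf_coe, hP]
      exact (orderOf_eq_prime (p := p) (by
        have := pow_card_eq_one' (G := P) (x := h)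
        rwa [hP] at this) hh).ge
    have hmap : P.map (MulAut.conj g).toMonoidHom = P := by
      refine Subgroup.eq_of_le_of_card_ge ?_ (Subgroup.card_map_of_injective (MulAut.conj g).injective).ge
      conv_lhs => rw [← hgen]
      rw [MonoidHom.map_zpowers, Subgroup.zpowers_le]
      exact hmem
    refine Subgroup.mem_normalizer_iff.2 fun z => ⟨fun hz => ?_, fun hz => ?_⟩
    · rw [← hmap]; exact ⟨z, hz, rfl⟩
    · rw [← hmap] at hz
      obtain ⟨u, hu, hu'⟩ := hz
      exact (MulAut.conj g).injective hu' ▸ hu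
  have hF : Function.Injective F := by
    rintro ⟨a, ⟨h, hh⟩⟩ ⟨b, ⟨k, hk⟩⟩ e
    have e' : a.out * (h : K) * a.out⁻¹ = b.out * (k : K) * b.out⁻¹ := e
    have hab : a = b := by
      have hm := hTI (b.out⁻¹ * a.out) h hh (by
        rw [show b.out⁻¹ * a.out * (h : K) * (b.out⁻¹ * a.out)⁻¹ =
          b.out⁻¹ * (a.out * (h : K) * a.out⁻¹) * b.out by group, e']
        simpa [mul_assoc] using k.2)
      rw [← QuotientGroup.out_eq' a, ← QuotientGroup.out_eq' b, QuotientGroup.eq]
      simpa using inv_mem hm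
    subst hab
    refine Prod.ext rfl (Subtype.ext (Subtype.ext ?_))
    simpa using e'
  have hFord : ∀ z, orderOf (F z) = p := by
    intro z
    show orderOf (MulAut.conj z.1.out (z.2.1 : K)) = p
    rw [MulEquiv.orderOf_eq, Subgroup.orderOf_coe]
    refine orderOf_eq_prime ?_ z.2.2
    have := pow_card_eq_one' (G := P) (x := z.2.1)
    rwa [hP] at this
  -- classes of elements of other prime order
  have hcls : ∀ z : K, ∀ l : ℕ, l.Prime → l ≠ p → orderOf z = l → p ≤ (conjugatesOf z).ncard := by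
    intro z l hl hlp hz
    set C := Subgroup.centralizer ({z} : Set K)
    have hnd : ¬ p ∣ Nat.card C := by
      intro hd
      obtain ⟨g, hg⟩ := exists_prime_orderOf_dvd_card' p hd
      let S : Sylow p K := (IsPGroup.of_card (n := 1) (by rw [hP, pow_one]) : IsPGroup p P).toSylow hPnd
      obtain ⟨T, hT⟩ := (IsPGroup.of_card (n := 1) (by
        rw [Nat.card_zpowers, Subgroup.orderOf_coe, hg, pow_one]) :
          IsPGroup p (Subgroup.zpowers (g : K))).exists_le_sylow
      obtain ⟨k, hk⟩ := MulAction.exists_smul_eq K S T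
      have hmem := hT (Subgroup.mem_zpowers (g : K))
      rw [← hk, Sylow.coe_subgroup_smul, Subgroup.mem_pointwise_smul_iff_inv_smul_mem, ← map_inv,
        MulAut.smul_def, MulAut.conj_apply, inv_inv] at hmem
      have hgz : (g : K) * z = z * g := Subgroup.mem_centralizer_singleton_iff.1 g.2
      have hne : (⟨_, hmem⟩ : P) ≠ 1 := by
        intro e
        have e' : k⁻¹ * (g : K) * k = 1 := congrArg Subtype.val e
        have hg1 : (g : K) = 1 := by
          calc (g : K) = k * (k⁻¹ * g * k) * k⁻¹ := by group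
            _ = 1 := by rw [e']; group
        rw [show g = 1 from Subtype.ext hg1, orderOf_one] at hg
        exact hp.ne_one hg.symm
      have hzP := hTI (k⁻¹ * z * k) _ hne (by
        show k⁻¹ * z * k * (k⁻¹ * (g : K) * k) * (k⁻¹ * z * k)⁻¹ ∈ P
        rw [show k⁻¹ * z * k * (k⁻¹ * (g : K) * k) * (k⁻¹ * z * k)⁻¹ = k⁻¹ * (z * g) * z⁻¹ * k by group,
          ← hgz]
        have hmem' : k⁻¹ * (g : K) * k ∈ P := hmem
        simpa [mul_assoc] using hmem')
      have h2 : orderOf (⟨k⁻¹ * z * k, hzP⟩ : P) ∣ p := hP ▸ orderOf_dvd_natCard _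
      rw [Subgroup.orderOf_mk, show k⁻¹ * z * k = MulAut.conj k⁻¹ z by simp [MulAut.conj_apply],
        MulEquiv.orderOf_eq, hz] at h2
      exact hlp ((Nat.prime_dvd_prime_iff_eq hl hp).1 h2)
    have hpi : p ∣ C.index := by
      have h : p ∣ C.index * Nat.card C := by rw [C.index_mul_card, hcard]; exact Dvd.intro _ rfl
      exact (hp.dvd_mul.1 h).resolve_right hnd
    exact CfsgLib.FGS.index_centralizer_eq_ncard z ▸
      Nat.le_of_dvd (Nat.pos_of_ne_zero Subgroup.index_ne_zero_of_finite) hpi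
  haveI := Fact.mk hr
  haveI := Fact.mk hs
  obtain ⟨z, hz⟩ := exists_prime_orderOf_dvd_card' (G := K) r (hcard ▸ dvd_mul_of_dvd_right hrd p)
  obtain ⟨w, hw⟩ := exists_prime_orderOf_dvd_card' (G := K) s (hcard ▸ dvd_mul_of_dvd_right hsd p)
  set A := Set.range F
  set B := {h : K | IsConj z h}
  set D := {h : K | IsConj w h}
  have hA : A.ncard = (p + 1) * (p - 1) := by
    rw [← Nat.card_coe_set_eq, Nat.card_range_of_injective hF, Nat.card_prod,
      ← Subgroup.index_eq_card, hidx]
    haveI := Fintype.ofFinite P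
    rw [show Nat.card {h : P // h ≠ 1} = p - 1 by
      rw [Nat.card_eq_fintype_card, Fintype.card_subtype_compl, Fintype.card_subtype_eq,
        ← Nat.card_eq_fintype_card, hP]]
  have hAo : ∀ x ∈ A, orderOf x = p := by rintro _ ⟨u, rfl⟩; exact hFord u
  have hBo : ∀ x ∈ B, orderOf x = r := by
    intro x hx
    obtain ⟨c, rfl⟩ := isConj_iff.1 (hx : IsConj z x)
    rw [show c * z * c⁻¹ = MulAut.conj c z from rfl, MulEquiv.orderOf_eq, hz]
  have hDo : ∀ x ∈ D, orderOf x = s := by
    intro x hx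
    obtain ⟨c, rfl⟩ := isConj_iff.1 (hx : IsConj w x)
    rw [show c * w * c⁻¹ = MulAut.conj c w from rfl, MulEquiv.orderOf_eq, hw]
  have hB : p ≤ B.ncard := hcls z r hr hrp hz
  have hD : p ≤ D.ncard := hcls w s hs hsp hw
  have d1 : Disjoint A B := Set.disjoint_left.2 fun x h1 h2 => hrp ((hBo x h2).symm.trans (hAo x h1))
  have d2 : Disjoint (A ∪ B) D := Set.disjoint_left.2 fun x h1 h2 => by
    rcases h1 with h1 | h1
    · exact hsp ((hDo x h2).symm.trans (hAo x h1))
    · exact hrs ((hBo x h1).symm.trans (hDo x h2))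
  have hsub : A ∪ B ∪ D ⊆ ({1}ᶜ : Set K) := by
    intro x hx h1
    rw [Set.mem_singleton_iff] at h1
    subst h1
    rcases hx with (h | h) | h
    · exact hp.ne_one ((hAo 1 h).symm.trans orderOf_one)
    · exact hr.ne_one ((hBo 1 h).symm.trans orderOf_one)
    · exact hs.ne_one ((hDo 1 h).symm.trans orderOf_one)
  have h1 := Set.ncard_le_ncard hsub (Set.toFinite _)
  rw [Set.ncard_union_eq d2 (Set.toFinite _) (Set.toFinite _),
    Set.ncard_union_eq d1 (Set.toFinite _) (Set.toFinite _), Set.ncard_compl, Set.ncard_singleton,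
    hcard, hA] at h1
  obtain ⟨m, rfl⟩ : ∃ m, p = m + 1 := ⟨p - 1, by have := hp.two_le; omega⟩
  simp only [Nat.add_sub_cancel] at h1
  have h2 : (m + 1) * (m + 1 + 1) = (m + 1 + 1) * m + (m + 1 + 1) := by ring
  omega

end CfsgLib.FGS
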