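import Mathlib
import Cfsg.Agent.Lib.FGS.FrobeniusCount

/-!
Numbers of elements of each order: congruences from Frobenius's theorem and from conjugation.
-/

set_option autoImplicit false

namespace CfsgLib.FGS.Counts

variable (G : Type*) [Group G]

/-- The number of elements of a given order. -/
noncomputable def cnt (m : ℕ) : ℕ := Nat.card {g : G // orderOf g = m}

/-- Every number of elements of an order above two is one of two values. -/
def TwoVals (a b : ℕ) : Prop := ∀ m, 2 < m → cnt G m ≠ 0 → cnt G m = a ∨ cnt G m = b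

variable {G}

theorem TwoVals.symm {a b : ℕ} (h : TwoVals G a b) : TwoVals G b a := fun m h1 h2 => (h m h1 h2).symm

variable [Finite G]

theorem cnt_ne_zero {x : G} {m : ℕ} (h : orderOf x = m) : cnt G m ≠ 0 := by
  haveI : Nonempty {g : G // orderOf g = m} := ⟨⟨x, h⟩⟩
  exact Nat.card_pos.ne'

theorem exists_of_cnt {m : ℕ} (h : cnt G m ≠ 0) : ∃ x : G, orderOf x = m :=
  let ⟨⟨⟨x, hx⟩⟩, _⟩ := Nat.card_ne_zero.1 h
  ⟨x, hx⟩

theorem dvd_card_of_cnt {m : ℕ} (h : cnt G m ≠ 0) : m ∣ Nat.card G := by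
  obtain ⟨x, rfl⟩ := exists_of_cnt h
  exact orderOf_dvd_natCard x

theorem cnt_ne_zero_of_prime {p : ℕ} (hp : p.Prime) (h : p ∣ Nat.card G) : cnt G p ≠ 0 := by
  haveI := Fact.mk hp
  obtain ⟨x, hx⟩ := exists_prime_orderOf_dvd_card' p h
  exact cnt_ne_zero hx

theorem cnt_dvd_ne_zero {m n : ℕ} (h : cnt G n ≠ 0) (hmn : m ∣ n) : cnt G m ≠ 0 := by
  obtain ⟨x, rfl⟩ := exists_of_cnt h
  exact cnt_ne_zero (x := x ^ (orderOf x / m)) (orderOf_pow_orderOf_div (orderOf_pos x).ne' hmn)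

theorem cnt_one : cnt G 1 = 1 := by
  rw [cnt, Nat.card_eq_one_iff_exists]
  exact ⟨⟨1, orderOf_one⟩, fun x => Subtype.ext (orderOf_eq_one_iff.1 x.2)⟩

theorem sum_cnt (s : Finset ℕ) :
    ∑ m ∈ s, cnt G m = Nat.card {x : G // orderOf x ∈ s} := by
  classical
  have := Fintype.ofFinite G
  simp only [cnt, Nat.card_eq_fintype_card, Fintype.card_subtype]
  rw [Finset.card_eq_sum_card_fiberwise (f := fun x => orderOf x) (t := s) (s := Finset.univ.filter fun x : G => orderOf x ∈ s)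
    fun x hx => (Finset.mem_filter.1 hx).2]
  refine Finset.sum_congr rfl fun m hm => congrArg Finset.card ?_
  ext x
  simp only [Finset.mem_filter, Finset.mem_univ, true_and]
  exact ⟨fun h => ⟨h ▸ hm, h⟩, fun h => h.2⟩

theorem sum_cnt_le (s : Finset ℕ) : ∑ m ∈ s, cnt G m ≤ Nat.card G := by
  rw [sum_cnt]
  exact Nat.card_le_card_of_injective _ Subtype.val_injective

theorem sum_cnt_eq {s : Finset ℕ} (hs : ∀ x : G, orderOf x ∈ s) : ∑ m ∈ s, cnt G m = Nat.card G := by
  rw [sum_cnt]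
  exact Nat.card_congr (Equiv.subtypeUnivEquiv hs)

theorem dvd_sum_cnt {n : ℕ} (hn : n ∣ Nat.card G) {s : Finset ℕ} (hs : ∀ m ∈ s, m ∣ n)
    (hs' : ∀ x : G, x ^ n = 1 → orderOf x ∈ s) : n ∣ ∑ m ∈ s, cnt G m := by
  rw [sum_cnt]
  convert dvd_card_pow_eq_one (Nat.card G) le_rfl n hn using 1
  exact Nat.card_congr (Equiv.subtypeEquivRight fun x =>
    ⟨fun h => orderOf_dvd_iff_pow_eq_one.1 (hs _ h), hs' x⟩)

theorem totient_dvd_cnt (m : ℕ) : m.totient ∣ cnt G m := by
  classical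
  have := Fintype.ofFinite G
  rw [cnt, Nat.card_eq_fintype_card, Fintype.card_subtype,
    Finset.card_eq_sum_card_fiberwise (f := fun x : G => Subgroup.zpowers x)
      (t := (Finset.univ.filter fun x : G => orderOf x = m).image fun x => Subgroup.zpowers x)
      fun x hx => Finset.mem_image_of_mem _ hx]
  refine Finset.dvd_sum fun C hC => ?_
  obtain ⟨x, hx, rfl⟩ := Finset.mem_image.1 hC
  simp only [Finset.mem_filter, Finset.mem_univ, true_and] at hx
  refine dvd_of_eq ?_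
  have h := IsCyclic.card_orderOf_eq_totient (α := Subgroup.zpowers x) (d := m)
    (by rw [← Nat.card_eq_fintype_card, Nat.card_zpowers, hx])
  rw [← h]
  refine Finset.card_bij' (fun y _ => (y : G)) (fun y hy => ⟨y, by
      rw [← (Finset.mem_filter.1 hy).2]; exact Subgroup.mem_zpowers y⟩) ?_ ?_ (fun _ _ => rfl) (fun _ _ => rfl)
  · intro y hy
    simp only [Finset.mem_filter, Finset.mem_univ, true_and] at hy ⊢
    refine ⟨by rw [Subgroup.orderOf_coe]; exact hy,
      Subgroup.eq_of_le_of_card_ge (Subgroup.zpowers_le.2 y.2) ?_⟩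
    rw [Nat.card_zpowers, Nat.card_zpowers, hx, Subgroup.orderOf_coe, hy]
  · intro y hy
    simp only [Finset.mem_filter, Finset.mem_univ, true_and] at hy ⊢
    rw [Subgroup.orderOf_mk]
    exact hy.1

theorem even_cnt {m : ℕ} (h : 2 < m) : 2 ∣ cnt G m :=
  (Nat.totient_even h).two_dvd.trans (totient_dvd_cnt m)

/-- If no element has order `m q`, the prime `q` divides every class size in order `m`. -/
theorem dvd_cnt_of_no_mul {m q : ℕ} (hq : q.Prime) (hqG : q ∣ Nat.card G) (hco : m.Coprime q)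
    (h0 : cnt G (m * q) = 0) : q ∣ cnt G m := by
  classical
  haveI := Fact.mk hq
  have := Fintype.ofFinite G
  have := dvd_sum_of_classes (fun x : G => orderOf x = m)
    (fun g x hx => by rw [← hx]; exact (MulEquiv.orderOf_eq (MulAut.conj g) x)) (fun _ => 1) (fun _ _ => rfl) q
    (fun x hx => by
      rw [mul_one]
      by_contra hnd
      have hC : q ∣ Nat.card (Subgroup.centralizer ({x} : Set G)) := by
        rw [← Subgroup.card_mul_index (Subgroup.centralizer ({x} : Set G))] at hqG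
        exact (hq.dvd_mul.1 hqG).resolve_right hnd
      obtain ⟨y, hy⟩ := exists_prime_orderOf_dvd_card' q hC
      refine cnt_ne_zero (x := x * (y : G)) ?_ h0
      have hc : Commute x (y : G) := (Subgroup.mem_centralizer_singleton_iff.1 y.2).symm
      rw [hc.orderOf_mul_eq_mul_orderOf_of_coprime (by rwa [hx, Subgroup.orderOf_coe, hy]), hx,
        Subgroup.orderOf_coe, hy])
  rw [cnt, Nat.card_eq_fintype_card, Fintype.card_subtype, Finset.card_eq_sum_ones]
  exact this

/-- If `p` does not divide the number of elements of odd prime order `q`, all elements of order `p` commute with one. -/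
theorem two_mul_cnt_le {p q : ℕ} (hp : p.Prime) (hq : q.Prime) (hpq : p ≠ q) (hq2 : q ≠ 2)
    (h : ¬ p ∣ cnt G q) : 2 * cnt G p ≤ cnt G (p * q) := by
  classical
  haveI := Fact.mk hp
  obtain ⟨P⟩ : Nonempty (Sylow p G) := inferInstance
  letI : MulAction (P : Subgroup G) {g : G // orderOf g = q} :=
    { smul := fun w g => ⟨(w : G) * g.1 * (w : G)⁻¹, by
        rw [← MulAut.conj_apply, MulEquiv.orderOf_eq]; exact g.2⟩
      one_smul := fun g => Subtype.ext (show (1 : G) * g.1 * (1 : G)⁻¹ = g.1 by simp)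
      mul_smul := fun v w g => Subtype.ext (show ((v : G) * w) * g.1 * ((v : G) * w)⁻¹ =
        (v : G) * ((w : G) * g.1 * (w : G)⁻¹) * (v : G)⁻¹ by group) }
  obtain ⟨⟨y, hy⟩, hfix⟩ := P.2.nonempty_fixed_point_of_prime_not_dvd_card {g : G // orderOf g = q} h
  have hyc : ∀ w ∈ (P : Subgroup G), Commute w y := fun w hw => by
    have := congrArg Subtype.val (hfix ⟨w, hw⟩)
    exact mul_inv_eq_iff_eq_mul.1 this
  have hex : ∀ x : {g : G // orderOf g = p}, ∃ y' : G, orderOf y' = q ∧ Commute (x : G) y' := by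
    rintro ⟨x, hx⟩
    obtain ⟨Q, hQ⟩ := (IsPGroup.of_card (G := Subgroup.zpowers x) (n := 1)
      (by rw [Nat.card_zpowers, hx, pow_one])).exists_le_sylow
    obtain ⟨g, rfl⟩ := MulAction.exists_smul_eq G P Q
    refine ⟨g * y * g⁻¹, by rw [← MulAut.conj_apply, MulEquiv.orderOf_eq, hy], ?_⟩
    obtain ⟨w, hw, e⟩ := hQ (Subgroup.mem_zpowers x)
    simp only [MulDistribMulAction.toMonoidEnd_apply, MulDistribMulAction.toMonoidHom_apply,
      MulAut.smul_def, MulAut.conj_apply] at e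
    subst e
    have := hyc w hw
    show g * w * g⁻¹ * (g * y * g⁻¹) = g * y * g⁻¹ * (g * w * g⁻¹)
    rw [show g * w * g⁻¹ * (g * y * g⁻¹) = g * (w * y) * g⁻¹ by group, this.eq]; group
  choose Y hY hc using hex
  have ho : ∀ (x : {g : G // orderOf g = p}) (i : Bool), orderOf (cond i (Y x) (Y x)⁻¹) = q ∧
      Commute (x : G) (cond i (Y x) (Y x)⁻¹) := by
    rintro x (_ | _)
    · exact ⟨by simpa using hY x, by simpa using (hc x).inv_right⟩
    · exact ⟨hY x, hc x⟩
  let f : {g : G // orderOf g = p} × Bool → {g : G // orderOf g = p * q} := fun t =>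
    ⟨t.1.1 * cond t.2 (Y t.1) (Y t.1)⁻¹, by
      rw [(ho t.1 t.2).2.orderOf_mul_eq_mul_orderOf_of_coprime
        (by rw [t.1.2, (ho t.1 t.2).1]; exact (Nat.coprime_primes hp hq).2 hpq), t.1.2, (ho t.1 t.2).1]⟩
  have hf : Function.Injective f := by
    rintro ⟨x, i⟩ ⟨x', i'⟩ e
    have e' : (x : G) * cond i (Y x) (Y x)⁻¹ = (x' : G) * cond i' (Y x') (Y x')⁻¹ := congrArg Subtype.val e
    have hx : (x : G) = x' := by
      have h1 := congrArg (· ^ q) e'
      simp only [(ho x i).2.mul_pow, (ho x' i').2.mul_pow] at h1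
      have k : ∀ (t : {g : G // orderOf g = p}) (j : Bool), cond j (Y t) (Y t)⁻¹ ^ q = 1 := fun t j => by
        have := pow_orderOf_eq_one (cond j (Y t) (Y t)⁻¹)
        rwa [(ho t j).1] at this
      rw [k, k, mul_one, mul_one] at h1
      have hb : (1 : ℤ) = q * Nat.gcdA q p + p * Nat.gcdB q p := by
        have := Nat.gcd_eq_gcd_ab q p
        rw [((Nat.coprime_primes hq hp).2 hpq.symm).gcd_eq_one] at this
        exact_mod_cast this
      have kp : ∀ t : {g : G // orderOf g = p}, (t : G) = ((t : G) ^ q) ^ Nat.gcdA q p := fun t => by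
        have ht : (t : G) ^ p = 1 := by
          have := pow_orderOf_eq_one (t : G)
          rwa [t.2] at this
        conv_lhs => rw [← zpow_one (t : G), hb, zpow_add, zpow_mul, zpow_mul, zpow_natCast, zpow_natCast, ht,
          one_zpow, mul_one]
      rw [kp x, kp x', h1]
    obtain rfl := Subtype.ext hx
    have h2 := mul_left_cancel e'
    refine Prod.ext rfl ?_
    show i = i'
    have hne : Y x ≠ (Y x)⁻¹ := fun h => by
      have h' : orderOf (Y x) ∣ 2 := orderOf_dvd_of_pow_eq_one (by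
        rw [pow_two]; exact mul_eq_one_iff_eq_inv.2 h)
      rw [hY x] at h'
      exact hq2 ((Nat.prime_dvd_prime_iff_eq hq Nat.prime_two).1 h')
    cases i <;> cases i' <;> first | rfl | exact absurd h2 hne | exact absurd h2.symm hne
  have := Nat.card_le_card_of_injective f hf
  rw [Nat.card_prod, show Nat.card Bool = 2 by simp] at this
  rw [cnt, cnt]
  omega

/-- The orders of the solutions of an equation of degree `p ^ k q`. -/
theorem orderOf_mem_of_pow_eq_one {p q k : ℕ} (hp : p.Prime) (hq : q.Prime) (hpq : p ≠ q)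
    (hp2 : cnt G (p ^ 2) = 0) {x : G} (hx : x ^ (p ^ k * q) = 1) :
    orderOf x ∈ ({1, p, q, p * q} : Finset ℕ) := by
  obtain ⟨a, b, ha, hb, hab⟩ := exists_dvd_and_dvd_of_dvd_mul (orderOf_dvd_of_pow_eq_one hx)
  obtain ⟨i, -, rfl⟩ := (Nat.dvd_prime_pow hp).1 ha
  have hi : i ≤ 1 := by
    by_contra hi
    exact cnt_dvd_ne_zero (cnt_ne_zero hab) (dvd_mul_of_dvd_left (pow_dvd_pow p (by omega : 2 ≤ i)) b) hp2
  rw [hab]
  rcases (Nat.dvd_prime hq).1 hb with rfl | rfl <;> interval_cases i <;> simp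

theorem sum_four {p q : ℕ} (hp : p.Prime) (hq : q.Prime) (hpq : p ≠ q) :
    ∑ m ∈ ({1, p, q, p * q} : Finset ℕ), cnt G m = 1 + cnt G p + cnt G q + cnt G (p * q) := by
  have h1 := hp.two_le
  have h2 := hq.two_le
  have h3 : p < p * q := by nlinarith
  have h4 : q < p * q := by nlinarith
  rw [Finset.sum_insert (by simp; omega), Finset.sum_insert (by simp; omega),
    Finset.sum_insert (by simp; omega), Finset.sum_singleton, cnt_one]
  ring

theorem dvd_four {p q : ℕ} (hp : p.Prime) (hq : q.Prime) (hpq : p ≠ q) (h : p * q ∣ Nat.card G) :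
    p * q ∣ 1 + cnt G p + cnt G q + cnt G (p * q) := by
  rw [← sum_four hp hq hpq]
  refine dvd_sum_cnt h (fun m hm => ?_) fun x hx => ?_
  · simp only [Finset.mem_insert, Finset.mem_singleton] at hm
    rcases hm with rfl | rfl | rfl | rfl <;> simp
  · obtain ⟨a, b, ha, hb, hab⟩ := exists_dvd_and_dvd_of_dvd_mul (orderOf_dvd_of_pow_eq_one hx)
    rw [hab]
    rcases (Nat.dvd_prime hp).1 ha with rfl | rfl <;> rcases (Nat.dvd_prime hq).1 hb with rfl | rfl <;> simp

theorem dvd_one_add {p : ℕ} (hp : p.Prime) (h : p ∣ Nat.card G) : p ∣ 1 + cnt G p := by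
  have := dvd_sum_cnt h (s := {1, p}) (by simp) (fun x hx => by
    simpa using (Nat.dvd_prime hp).1 (orderOf_dvd_of_pow_eq_one hx))
  rwa [Finset.sum_pair hp.one_lt.ne, cnt_one] at this

theorem not_dvd_self {p : ℕ} (hp : p.Prime) (h : p ∣ Nat.card G) : ¬ p ∣ cnt G p := fun h' =>
  hp.one_lt.ne' (Nat.dvd_one.1 ((Nat.dvd_add_left h').1 (dvd_one_add hp h)))

theorem not_dvd_two_mul {p a : ℕ} (hp : p.Prime) (hp2 : p ≠ 2) (ha : ¬ p ∣ a) : ¬ p ∣ 2 * a := fun h =>
  (hp.dvd_mul.1 h).elim (fun h => hp2 ((Nat.prime_dvd_prime_iff_eq hp Nat.prime_two).1 h)) ha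

/-- Two primes with the same number of elements. -/
theorem same_value {a b p q : ℕ} (hv : TwoVals G a b) (hp : p.Prime) (hq : q.Prime) (hpq : p ≠ q)
    (hp2 : p ≠ 2) (hq2 : q ≠ 2) (hpG : p ∣ Nat.card G) (hqG : q ∣ Nat.card G)
    (ha : cnt G p = a) (ha' : cnt G q = a) :
    a ≠ b ∧ cnt G (p * q) = b ∧ cnt G (p ^ 2) = 0 ∧
      ∀ k, p ^ k ∣ Nat.card G → ((p ^ k : ℕ) : ℤ) ∣ (a : ℤ) + 1 ∧ ((p ^ k : ℕ) : ℤ) ∣ (b : ℤ) - 1 := by
  have hna : ¬ p ∣ a := ha ▸ not_dvd_self hp hpG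
  have hne : cnt G (p * q) ≠ 0 := by
    intro h0
    exact not_dvd_self hq hqG (ha'.symm ▸ ha ▸ dvd_cnt_of_no_mul hq hqG ((Nat.coprime_primes hp hq).2 hpq) h0)
  have hpqG : p * q ∣ Nat.card G := dvd_card_of_cnt hne
  have h4 := (dvd_mul_right p q).trans (dvd_four hp hq hpq hpqG)
  have h1 := dvd_one_add hp hpG
  rw [ha, ha'] at h4
  rw [ha] at h1
  have hna2 : cnt G (p * q) ≠ a := fun e => by
    rw [e] at h4
    refine not_dvd_two_mul hp hp2 hna ((Nat.dvd_add_right h1).1 ?_)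
    rwa [show 1 + a + 2 * a = 1 + a + a + a by ring]
  have hb : cnt G (p * q) = b :=
    (hv _ (by have := hp.two_le; have := hq.two_le; nlinarith) hne).resolve_left hna2
  have hab : a ≠ b := fun e => hna2 (hb.trans e.symm)
  rw [hb] at h4
  have hsq : cnt G (p ^ 2) = 0 := by
    by_contra h0
    have hc : p ∣ cnt G (p ^ 2) := by
      refine dvd_trans ?_ (totient_dvd_cnt (p ^ 2))
      rw [Nat.totient_prime_pow hp (by norm_num)]
      exact dvd_mul_of_dvd_left (by simp) _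
    rcases hv _ (by have := hp.two_le; nlinarith) h0 with e | e <;> rw [e] at hc
    · exact hna hc
    · refine hna ((Nat.dvd_add_right h1).1 ((Nat.dvd_add_left hc).1 h4))
  refine ⟨hab, hb, hsq, fun k hk => ?_⟩
  have e1 : p ^ k ∣ 1 + a := by
    rcases k.eq_zero_or_pos with rfl | hk0
    · simp
    have := dvd_sum_cnt hk (s := {1, p})
      (fun m hm => by
        simp only [Finset.mem_insert, Finset.mem_singleton] at hm
        rcases hm with rfl | rfl
        · exact one_dvd _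
        · exact dvd_pow_self _ hk0.ne')
      (fun x hx => by
        obtain ⟨i, -, hi⟩ := (Nat.dvd_prime_pow hp).1 (orderOf_dvd_of_pow_eq_one hx)
        have : i ≤ 1 := by
          by_contra h
          exact cnt_dvd_ne_zero (cnt_ne_zero hi) (pow_dvd_pow p (by omega : 2 ≤ i)) hsq
        rw [hi]; interval_cases i <;> simp)
    rwa [Finset.sum_pair hp.one_lt.ne, cnt_one, ha] at this
  have e2 : p ^ k ∣ 1 + a + a + b := by
    rcases k.eq_zero_or_pos with rfl | hk0
    · simp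
    have hd : p ^ k * q ∣ Nat.card G :=
      ((Nat.coprime_primes hp hq).2 hpq).pow_left k |>.mul_dvd_of_dvd_of_dvd hk hqG
    have := (dvd_mul_right (p ^ k) q).trans (dvd_sum_cnt hd (s := {1, p, q, p * q}) (fun m hm => by
        simp only [Finset.mem_insert, Finset.mem_singleton] at hm
        rcases hm with rfl | rfl | rfl | rfl
        · exact one_dvd _
        · exact dvd_mul_of_dvd_left (dvd_pow_self _ hk0.ne') _
        · exact dvd_mul_left _ _
        · exact mul_dvd_mul_right (dvd_pow_self _ hk0.ne') _)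
      fun x hx => orderOf_mem_of_pow_eq_one hp hq hpq hsq hx)
    rwa [sum_four hp hq hpq, ha, ha', hb] at this
  obtain ⟨u, hu⟩ := Int.natCast_dvd_natCast.2 e1
  obtain ⟨v, hv'⟩ := Int.natCast_dvd_natCast.2 e2
  push_cast at hu hv' ⊢
  exact ⟨⟨u, by linarith⟩, ⟨v - 2 * u, by linear_combination hv' - 2 * hu⟩⟩

theorem not_dvd_of_dvd_sub_one {p b : ℕ} (hp : p.Prime) (h : (p : ℤ) ∣ (b : ℤ) - 1) : ¬ p ∣ b := fun h' => by
  have := dvd_sub (Int.natCast_dvd_natCast.2 h') h
  rw [show (b : ℤ) - ((b : ℤ) - 1) = ((1 : ℕ) : ℤ) by push_cast; ring, Int.natCast_dvd_natCast, Nat.dvd_one] at this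
  exact hp.one_lt.ne' this

/-- Two primes with different numbers do not meet in an element. -/
theorem cnt_mul_eq_zero {a b p q : ℕ} (hv : TwoVals G a b) (hab : a ≠ b) (hp : p.Prime) (hq : q.Prime)
    (hpq : p ≠ q) (hp2 : p ≠ 2) (hq2 : q ≠ 2) (hpG : p ∣ Nat.card G) (hqG : q ∣ Nat.card G)
    (ha : cnt G p = a) (hb : cnt G q = b) : cnt G (p * q) = 0 := by
  by_contra hne
  have hpqG : p * q ∣ Nat.card G := dvd_card_of_cnt hne
  have h4 := dvd_four hp hq hpq hpqG
  have hna : ¬ p ∣ a := ha ▸ not_dvd_self hp hpG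
  have hnb : ¬ q ∣ b := hb ▸ not_dvd_self hq hqG
  have key : ∀ {x y r s : ℕ}, r.Prime → s.Prime → r ≠ s → s ≠ 2 → cnt G r = x → cnt G s = y →
      cnt G (r * s) = x → r ∣ Nat.card G → r ∣ 1 + x + y + x → ¬ r ∣ x → False := by
    intro x y r s hr hs hrs hs2 hx hy hxy hrG h hnx
    have hny : ¬ r ∣ cnt G s := by
      rw [hy]
      intro hry
      refine hnx ((Nat.dvd_add_right (hx ▸ dvd_one_add hr hrG : r ∣ 1 + x)).1 ?_)
      exact (Nat.dvd_add_left hry).1 (show r ∣ 1 + x + x + y by rwa [show 1 + x + x + y = 1 + x + y + x by ring])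
    have := two_mul_cnt_le hr hs hrs hs2 hny
    rw [hxy, hx] at this
    have : x ≠ 0 := hx ▸ cnt_ne_zero_of_prime hr hrG
    omega
  rcases hv _ (by have := hp.two_le; have := hq.two_le; nlinarith) hne with e | e
  · rw [ha, hb, e] at h4
    exact key hp hq hpq hq2 ha hb e hpG ((dvd_mul_right p q).trans h4) hna
  · rw [ha, hb, e] at h4
    exact key hq hp hpq.symm hp2 hb ha (by rwa [mul_comm]) hqG
      (by rw [show 1 + b + a + b = 1 + a + b + b by ring]; exact (dvd_mul_left q p).trans h4) hnb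

/-- If two primes have the same number of elements then so do all. -/
theorem all_same_value {a b p q : ℕ} (hv : TwoVals G a b) (hp : p.Prime) (hq : q.Prime) (hpq : p ≠ q)
    (hp2 : p ≠ 2) (hq2 : q ≠ 2) (hpG : p ∣ Nat.card G) (hqG : q ∣ Nat.card G)
    (ha : cnt G p = a) (ha' : cnt G q = a) {r : ℕ} (hr : r.Prime) (hr2 : r ≠ 2) (hrG : r ∣ Nat.card G) :
    cnt G r = a := by
  rcases hv r (by have := hr.two_le; omega) (cnt_ne_zero_of_prime hr hrG) with e | e
  · exact e
  obtain ⟨hab, -, -, hd⟩ := same_value hv hp hq hpq hp2 hq2 hpG hqG ha ha'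
  have hpr : p ≠ r := fun h => hab (by rw [← ha, h, e])
  have h0 := cnt_mul_eq_zero hv hab hp hr hpr hp2 hr2 hpG hrG ha e
  have hb := hd 1 (by rwa [pow_one])
  rw [pow_one] at hb
  have := two_mul_cnt_le hp hr hpr hr2 (e ▸ not_dvd_of_dvd_sub_one hp hb.2)
  rw [h0, ha] at this
  have : a ≠ 0 := ha ▸ cnt_ne_zero_of_prime hp hpG
  omega

/-- All odd prime powers dividing the order divide `a + 1` and `b - 1`. -/
theorem odd_part_dvd {a b p q : ℕ} (hv : TwoVals G a b) (hp : p.Prime) (hq : q.Prime) (hpq : p ≠ q)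
    (hp2 : p ≠ 2) (hq2 : q ≠ 2) (hpG : p ∣ Nat.card G) (hqG : q ∣ Nat.card G)
    (ha : cnt G p = a) (ha' : cnt G q = a) {M : ℕ} (hM : Odd M) (hMG : M ∣ Nat.card G) :
    (M : ℤ) ∣ (a : ℤ) + 1 ∧ (M : ℤ) ∣ (b : ℤ) - 1 := by
  have key : ∀ r k : ℕ, r.Prime → r ^ k ∣ M →
      ((r ^ k : ℕ) : ℤ) ∣ (a : ℤ) + 1 ∧ ((r ^ k : ℕ) : ℤ) ∣ (b : ℤ) - 1 := by
    intro r k hr hk
    rcases k.eq_zero_or_pos with rfl | hk0
    · simp
    have hrM : r ∣ M := (dvd_pow_self r hk0.ne').trans hk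
    have hr2 : r ≠ 2 := by rintro rfl; exact Nat.not_even_iff_odd.2 hM (even_iff_two_dvd.2 hrM)
    have hrG := hrM.trans hMG
    have hra := all_same_value hv hp hq hpq hp2 hq2 hpG hqG ha ha' hr hr2 hrG
    obtain ⟨s, hs, hs2, hsG, hsa, hrs⟩ : ∃ s, s.Prime ∧ s ≠ 2 ∧ s ∣ Nat.card G ∧ cnt G s = a ∧ r ≠ s := by
      by_cases h : r = p
      · exact ⟨q, hq, hq2, hqG, ha', h ▸ hpq⟩
      · exact ⟨p, hp, hp2, hpG, ha, h⟩
    exact (same_value hv hr hs hrs hr2 hs2 hrG hsG hra hsa).2.2.2 k (hk.trans hMG)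
  refine ⟨?_, ?_⟩ <;>
  · rw [Int.natCast_dvd]
    refine (Nat.dvd_iff_prime_pow_dvd_dvd _ _).2 fun r k hr hk => ?_
    rw [← Int.natCast_dvd]
    first | exact (key r k hr hk).1 | exact (key r k hr hk).2

end CfsgLib.FGS.Counts
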