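import Cfsg.Agent.Lib.FGS.CountsOdd

/-!
Groups of even order with three values for the numbers of elements of each order are solvable.
-/

set_option autoImplicit false

namespace CfsgLib.FGS.Counts

variable {G : Type*} [Group G] [Finite G]

theorem two_pow_mul_inj {i j m n : ℕ} (hm : Odd m) (hn : Odd n) (h : 2 ^ i * m = 2 ^ j * n) :
    i = j ∧ m = n := by
  have cm : ∀ {m : ℕ}, Odd m → ∀ k, (2 ^ k).Coprime m := fun {m} hm k =>
    Nat.Coprime.pow_left k (Nat.coprime_two_left.2 hm)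
  have h1 : 2 ^ i ∣ 2 ^ j := (cm hn i).dvd_of_dvd_mul_right (h ▸ dvd_mul_right _ _)
  have h2 : 2 ^ j ∣ 2 ^ i := (cm hm j).dvd_of_dvd_mul_right (h ▸ dvd_mul_right _ _)
  have e := Nat.dvd_antisymm h1 h2
  refine ⟨Nat.pow_right_injective le_rfl e, ?_⟩
  rw [e] at h
  exact Nat.eq_of_mul_eq_mul_left (by positivity) h

theorem sum_pair_le (K : ℕ) {S : Finset ℕ} (hS : ∀ m ∈ S, Odd m) :
    ∑ i ∈ Finset.range K, ∑ m ∈ S, cnt G (2 ^ i * m) =
      ∑ d ∈ (Finset.range K ×ˢ S).image (fun t => 2 ^ t.1 * t.2), cnt G d := by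
  rw [Finset.sum_image, Finset.sum_product]
  intro a ha b hb e
  simp only [Finset.coe_product, Set.mem_prod, Finset.mem_coe] at ha hb
  obtain ⟨h1, h2⟩ := two_pow_mul_inj (hS _ ha.2) (hS _ hb.2) e
  exact Prod.ext h1 h2

theorem dvd_sum_pair {k m : ℕ} (hm : Odd m) (hn : 2 ^ k * m ∣ Nat.card G) {S : Finset ℕ}
    (hS : ∀ d, d ∈ S ↔ d ∣ m) :
    2 ^ k * m ∣ ∑ i ∈ Finset.range (k + 1), ∑ d ∈ S, cnt G (2 ^ i * d) := by
  rw [sum_pair_le (k + 1) fun d hd => hm.of_dvd_nat ((hS d).1 hd)]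
  refine dvd_sum_cnt hn (fun d hd => ?_) fun x hx => ?_
  · obtain ⟨t, ht, rfl⟩ := Finset.mem_image.1 hd
    simp only [Finset.mem_product, Finset.mem_range] at ht
    exact mul_dvd_mul (pow_dvd_pow 2 (by omega)) ((hS _).1 ht.2)
  · obtain ⟨a, b, ha, hb, hab⟩ := exists_dvd_and_dvd_of_dvd_mul (orderOf_dvd_of_pow_eq_one hx)
    obtain ⟨i, hi, rfl⟩ := (Nat.dvd_prime_pow Nat.prime_two).1 ha
    exact Finset.mem_image.2 ⟨(i, b), by simp [(hS b).2 hb]; omega, hab.symm⟩

theorem mem_pq {p q : ℕ} (hp : p.Prime) (hq : q.Prime) (d : ℕ) :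
    d ∈ ({1, p, q, p * q} : Finset ℕ) ↔ d ∣ p * q := by
  simp only [Finset.mem_insert, Finset.mem_singleton]
  constructor
  · rintro (rfl | rfl | rfl | rfl) <;> simp
  · intro h
    obtain ⟨a, b, ha, hb, rfl⟩ := exists_dvd_and_dvd_of_dvd_mul h
    rcases (Nat.dvd_prime hp).1 ha with rfl | rfl <;> rcases (Nat.dvd_prime hq).1 hb with rfl | rfl <;> simp

theorem mem_p {p : ℕ} (hp : p.Prime) (d : ℕ) : d ∈ ({1, p} : Finset ℕ) ↔ d ∣ p := by
  simp [Nat.dvd_prime hp]

theorem sum_pq {M : Type*} [AddCommMonoid M] (f : ℕ → M) {p q : ℕ} (hp : p.Prime) (hq : q.Prime) (hpq : p ≠ q) :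
    ∑ d ∈ ({1, p, q, p * q} : Finset ℕ), f d = f 1 + (f p + (f q + f (p * q))) := by
  have h1 := hp.two_le
  have h2 := hq.two_le
  have h3 : p < p * q := by nlinarith
  have h4 : q < p * q := by nlinarith
  rw [Finset.sum_insert (by simp; omega), Finset.sum_insert (by simp; omega),
    Finset.sum_insert (by simp; omega), Finset.sum_singleton]

/-- The unique involution doubles odd orders. -/
theorem cnt_two_mul {z : G} (hz : orderOf z = 2) (hzc : ∀ g : G, Commute z g)
    (hzu : ∀ g : G, orderOf g = 2 → g = z) {m : ℕ} (hm : Odd m) : cnt G (2 * m) = cnt G m := by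
  have hzz : z * z = 1 := by rw [← pow_two, ← hz, pow_orderOf_eq_one]
  have ho : ∀ g : G, orderOf g = m → orderOf (z * g) = 2 * m := fun g hg => by
    rw [(hzc g).orderOf_mul_eq_mul_orderOf_of_coprime (by rw [hz, hg]; exact Nat.coprime_two_left.2 hm), hz, hg]
  refine (Nat.card_congr (Equiv.ofBijective (fun g : {g : G // orderOf g = m} =>
    (⟨z * g.1, ho g.1 g.2⟩ : {g : G // orderOf g = 2 * m})) ⟨fun a b h => ?_, fun g => ?_⟩)).symm
  · exact Subtype.ext (mul_left_cancel (congrArg Subtype.val h))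
  · have hgm : g.1 ^ m = z := hzu _ (by
      rw [orderOf_pow_of_dvd hm.pos.ne' (by rw [g.2]; exact dvd_mul_left m 2), g.2, Nat.mul_div_cancel _ hm.pos])
    have h1 : (z * g.1) ^ m = 1 := by
      obtain ⟨k, rfl⟩ := hm
      rw [(hzc g.1).mul_pow, hgm, pow_succ, pow_mul, pow_two, hzz, one_pow, one_mul, hzz]
    have h2 : orderOf (z * g.1) = m := by
      refine Nat.dvd_antisymm (orderOf_dvd_of_pow_eq_one h1) ?_
      have key : ∀ o : ℕ, (z * g.1) ^ o = 1 → g.1 ^ (2 * o) = 1 := fun o ho' => by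
        have e := congrArg (fun t : G => t ^ 2) ho'
        simp only [one_pow] at e
        rwa [← pow_mul, mul_comm o 2, (hzc g.1).mul_pow, pow_mul z, pow_two z, hzz, one_pow, one_mul] at e
      have := key _ (pow_orderOf_eq_one (z * g.1))
      have h3 := orderOf_dvd_of_pow_eq_one this
      rw [g.2] at h3
      exact Nat.dvd_of_mul_dvd_mul_left (by norm_num) h3
    exact ⟨⟨_, h2⟩, Subtype.ext (by show z * (z * g.1) = g.1; rw [← mul_assoc, hzz, one_mul])⟩

/-- In a 2-group with one involution the elements of order above four lie in one cyclic subgroup. -/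
theorem big_elements_cyclic {z : G} (hzu : ∀ g : G, orderOf g = 2 → g = z) (P : Sylow 2 G) :
    ∃ g₀ : (P : Subgroup G), (∀ x : (P : Subgroup G), 4 < orderOf x → x ∈ Subgroup.zpowers g₀) ∧
      Nat.card (P : Subgroup G) ≤ 2 * orderOf g₀ := by
  haveI := Fact.mk Nat.prime_two
  rcases CfsgLib.Solvable.isCyclic_or_quaternion P.2 (fun x y hx hy => by
    have : x = y := Subtype.ext ((hzu _ (by rw [Subgroup.orderOf_coe]; exact hx)).trans
      (hzu _ (by rw [Subgroup.orderOf_coe]; exact hy)).symm)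
    subst this
    exact Subgroup.mem_zpowers x) with hc | ⟨-, n, ⟨e⟩⟩
  · obtain ⟨g, hg⟩ := hc.exists_generator
    exact ⟨g, fun x _ => hg x, by rw [orderOf_eq_card_of_forall_mem_zpowers hg]; omega⟩
  · haveI : NeZero (2 ^ n : ℕ) := ⟨by positivity⟩
    refine ⟨e.symm (QuaternionGroup.a 1), fun x hx => ?_, ?_⟩
    · rw [← MulEquiv.orderOf_eq e] at hx
      cases h : e x with
      | xa i => rw [h, QuaternionGroup.orderOf_xa] at hx; omega
      | a i =>
        refine ⟨(i.val : ℤ), e.injective ?_⟩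
        show e (e.symm (QuaternionGroup.a 1) ^ (i.val : ℤ)) = e x
        rw [map_zpow, MulEquiv.apply_symm_apply, zpow_natCast, QuaternionGroup.a_one_pow, h]
        simp
    · rw [MulEquiv.orderOf_eq, QuaternionGroup.orderOf_a_one, Nat.card_congr e.toEquiv, Nat.card_eq_fintype_card,
        QuaternionGroup.card]
      omega

theorem four_dvd {z : G} (hz : orderOf z = 2) (hzu : ∀ g : G, orderOf g = 2 → g = z)
    (h4 : 4 ∣ Nat.card G) : 4 ∣ 2 + cnt G 4 := by
  have hone : cnt G 2 = 1 := by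
    rw [cnt, Nat.card_eq_one_iff_exists]
    exact ⟨⟨z, hz⟩, fun g => Subtype.ext (hzu g.1 g.2)⟩
  have := dvd_sum_pair (G := G) (k := 2) (m := 1) odd_one h4 (S := {1}) (by simp)
  simpa [Finset.sum_range_succ, cnt_one, hone] using this

theorem cnt_sixteen_eq_zero {z : G} (hz : orderOf z = 2) (hzc : ∀ g : G, Commute z g)
    (hzu : ∀ g : G, orderOf g = 2 → g = z) {a b : ℕ} (hv : TwoVals G a b) : cnt G 16 = 0 := by
  classical
  haveI := Fact.mk Nat.prime_two
  by_contra h16
  have h8 : cnt G 8 ≠ 0 := cnt_dvd_ne_zero h16 (by norm_num)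
  have h4 : cnt G 4 ≠ 0 := cnt_dvd_ne_zero h16 (by norm_num)
  have hd4 := four_dvd hz hzu (dvd_card_of_cnt h4)
  have e8 : 4 ∣ cnt G 8 := (show Nat.totient 8 = 4 by decide +kernel) ▸ totient_dvd_cnt (G := G) 8
  have e16 : 8 ∣ cnt G 16 := (show Nat.totient 16 = 8 by decide +kernel) ▸ totient_dvd_cnt (G := G) 16
  have heq : cnt G 16 = cnt G 8 := by
    rcases hv 4 (by norm_num) h4 with e | e <;> rcases hv 8 (by norm_num) h8 with f | f <;>
      rcases hv 16 (by norm_num) h16 with g | g <;> omega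
  have hroot : ∀ x : {g : G // orderOf g = 8}, ∃ y : G, y ^ 2 = x ∧ orderOf y = 16 := by
    rintro ⟨x, hx⟩
    obtain ⟨Q, hQ⟩ := (IsPGroup.of_card (G := Subgroup.zpowers x) (n := 3)
      (by rw [Nat.card_zpowers, hx]; norm_num)).exists_le_sylow (p := 2)
    obtain ⟨h, hh⟩ := exists_of_cnt h16
    obtain ⟨R, hR⟩ := (IsPGroup.of_card (G := Subgroup.zpowers h) (n := 4)
      (by rw [Nat.card_zpowers, hh]; norm_num)).exists_le_sylow (p := 2)
    obtain ⟨g₀, hg₀, -⟩ := big_elements_cyclic hzu Q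
    obtain ⟨c, rfl⟩ := MulAction.exists_smul_eq G R Q
    let h' : ((c • R : Sylow 2 G) : Subgroup G) := R.equivSMul c ⟨h, hR (Subgroup.mem_zpowers h)⟩
    have hh' : orderOf h' = 16 := by
      rw [MulEquiv.orderOf_eq, Subgroup.orderOf_mk, hh]
    let x' : ((c • R : Sylow 2 G) : Subgroup G) := ⟨x, hQ (Subgroup.mem_zpowers x)⟩
    have hx' : orderOf x' = 8 := by rw [Subgroup.orderOf_mk, hx]
    have hm1 := hg₀ h' (by omega)
    have hm2 := hg₀ x' (by omega)
    have hsq : orderOf (h' ^ 2) = 8 := by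
      rw [orderOf_pow_of_dvd two_ne_zero (by rw [hh']; norm_num), hh']
    have := CfsgLib.Solvable.mem_zpowers_of_isCyclic
      (x := (⟨x', hm2⟩ : Subgroup.zpowers g₀)) (y := ⟨h' ^ 2, pow_mem hm1 2⟩)
      (by rw [Subgroup.orderOf_mk, ← Subgroup.orderOf_coe (⟨h' ^ 2, pow_mem hm1 2⟩ : Subgroup.zpowers g₀)]; exact hx'.trans hsq.symm)
    obtain ⟨i, hi⟩ := mem_powers_iff_mem_zpowers.2 this
    have hi' : (h' ^ 2) ^ i = x' := by simpa using congrArg Subtype.val hi
    refine ⟨((h' ^ i : ((c • R : Sylow 2 G) : Subgroup G)) : G), ?_, ?_⟩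
    · rw [← SubmonoidClass.coe_pow, ← pow_mul, mul_comm, pow_mul, hi']
    · have hodd : ¬ 2 ∣ i := fun hd => by
        obtain ⟨j, rfl⟩ := hd
        rw [← pow_mul] at hi'
        have h1 : orderOf x' ∣ 4 := orderOf_dvd_of_pow_eq_one (by
          rw [← hi', ← pow_mul, show 2 * (2 * j) * 4 = orderOf h' * j by rw [hh']; ring, pow_mul, pow_orderOf_eq_one,
            one_pow])
        rw [hx'] at h1
        norm_num at h1
      rw [Subgroup.orderOf_coe, Nat.Coprime.orderOf_pow (by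
        rw [hh', show (16 : ℕ) = 2 ^ 4 by norm_num]
        exact Nat.Coprime.pow_left 4 (Nat.prime_two.coprime_iff_not_dvd.2 hodd)), hh']
  choose Y hY hYo using hroot
  have hzz : z * z = 1 := by rw [← pow_two, ← hz, pow_orderOf_eq_one]
  let F : {g : G // orderOf g = 8} × Bool → {g : G // orderOf g = 16} := fun t =>
    ⟨cond t.2 (Y t.1) (z * Y t.1), by
      obtain ⟨x, _ | _⟩ := t
      · show orderOf (z * Y x) = 16
        refine orderOf_eq_prime_pow (n := 3) (p := 2) (fun h => ?_) ?_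
        · rw [(hzc _).mul_pow, show (2 : ℕ) ^ 3 = 2 * 4 by norm_num, pow_mul, pow_mul, pow_two z, hzz, one_pow,
            one_mul, hY] at h
          have := orderOf_dvd_of_pow_eq_one h
          rw [x.2] at this
          norm_num at this
        · rw [(hzc _).mul_pow, show (2 : ℕ) ^ (3 + 1) = 2 * 8 by norm_num, pow_mul, pow_mul, pow_two z, hzz, one_pow,
            one_mul, hY]
          have := pow_orderOf_eq_one (x : G)
          rwa [x.2] at this
      · exact hYo x⟩
  have hF : Function.Injective F := by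
    rintro ⟨x, i⟩ ⟨x', i'⟩ e
    have e' : cond i (Y x) (z * Y x) = cond i' (Y x') (z * Y x') := congrArg Subtype.val e
    have sq : ∀ (x : {g : G // orderOf g = 8}) (i : Bool), cond i (Y x) (z * Y x) ^ 2 = x := by
      rintro x (_ | _)
      · show (z * Y x) ^ 2 = x
        rw [(hzc _).mul_pow, pow_two z, hzz, one_mul, hY]
      · exact hY x
    have hxx : x = x' := Subtype.ext (by rw [← sq x i, e', sq x' i'])
    subst hxx
    have hne : Y x ≠ z * Y x := fun h => by
      have : z = 1 := mul_eq_right.1 h.symm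
      rw [this, orderOf_one] at hz
      omega
    refine Prod.ext rfl ?_
    show i = i'
    cases i <;> cases i' <;> first | rfl | exact absurd e' hne | exact absurd e'.symm hne
  have := Nat.card_le_card_of_injective F hF
  rw [Nat.card_prod, show Nat.card Bool = 2 by simp] at this
  change cnt G 8 * 2 ≤ cnt G 16 at this
  omega

theorem cast_eq_zero_of_dvd {p n m : ℕ} (h : n ∣ m) (hp : p ∣ n) : (m : ZMod p) = 0 :=
  (ZMod.natCast_eq_zero_iff _ _).2 (hp.trans h)

theorem two_cast_ne {p : ℕ} [hp : Fact p.Prime] (hp2 : p ≠ 2) : (2 : ZMod p) ≠ 0 := fun h => by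
  rw [show (2 : ZMod p) = ((2 : ℕ) : ZMod p) by simp, ZMod.natCast_eq_zero_iff,
    Nat.prime_dvd_prime_iff_eq hp.out Nat.prime_two] at h
  exact hp2 h

/-- The values at orders `4 p`, `4 p q`, `8 p` and `8 p q`. -/
theorem pair_values {z : G} (hz : orderOf z = 2) (hzc : ∀ g : G, Commute z g)
    (hzu : ∀ g : G, orderOf g = 2 → g = z) {α β δ δ' p q : ℕ} (hv : TwoVals G α β)
    (hp : p.Prime) (hq : q.Prime) (hpq : p ≠ q) (hp2 : p ≠ 2) (hq2 : q ≠ 2)
    (hpG : p ∣ Nat.card G) (hqG : q ∣ Nat.card G) (ha : cnt G p = α) (ha' : cnt G q = α)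
    (h4 : cnt G 4 = δ) (hδ : (δ = α ∧ δ' = β) ∨ (δ = β ∧ δ' = α)) (hne4 : cnt G 4 ≠ 0) :
    cnt G (4 * p) = δ' ∧ cnt G (4 * q) = δ' ∧ cnt G (4 * (p * q)) = δ ∧
      (cnt G 8 ≠ 0 → cnt G 8 = δ' ∧ cnt G (8 * p) = δ ∧ cnt G (8 * q) = δ ∧ cnt G (8 * (p * q)) = δ') := by
  obtain ⟨hab, hb, -, -⟩ := same_value hv hp hq hpq hp2 hq2 hpG hqG ha ha'
  have hone : cnt G 2 = 1 := by
    rw [cnt, Nat.card_eq_one_iff_exists]
    exact ⟨⟨z, hz⟩, fun g => Subtype.ext (hzu g.1 g.2)⟩
  have hmod : ∀ {r : ℕ}, r.Prime → r = p ∨ r = q →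
      (α : ZMod r) = -1 ∧ (β : ZMod r) = 1 ∧ (δ : ZMod r) ≠ 0 ∧ (δ' : ZMod r) = -(δ : ZMod r) ∧
        ¬ r ∣ δ ∧ ¬ r ∣ δ' := by
    intro r hr hrpq
    haveI := Fact.mk hr
    have h : (r : ℤ) ∣ (α : ℤ) + 1 ∧ (r : ℤ) ∣ (β : ℤ) - 1 := by
      rcases hrpq with rfl | rfl
      · simpa using (same_value hv hp hq hpq hp2 hq2 hpG hqG ha ha').2.2.2 1 (by simpa using hpG)
      · simpa using (same_value hv hq hp hpq.symm hq2 hp2 hqG hpG ha' ha).2.2.2 1 (by simpa using hqG)
    have hA : (α : ZMod r) = -1 := by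
      have := (ZMod.intCast_zmod_eq_zero_iff_dvd _ r).2 h.1
      push_cast at this
      exact eq_neg_of_add_eq_zero_left this
    have hB : (β : ZMod r) = 1 := by
      have := (ZMod.intCast_zmod_eq_zero_iff_dvd _ r).2 h.2
      push_cast at this
      exact sub_eq_zero.1 this
    refine ⟨hA, hB, ?_⟩
    simp only [← ZMod.natCast_eq_zero_iff]
    rcases hδ with ⟨rfl, rfl⟩ | ⟨rfl, rfl⟩ <;> simp [hA, hB]
  have hval : ∀ n, 2 < n → cnt G n ≠ 0 → cnt G n = δ ∨ cnt G n = δ' := fun n h1 h2 => by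
    rcases hδ with ⟨rfl, rfl⟩ | ⟨rfl, rfl⟩
    · exact hv n h1 h2
    · exact (hv n h1 h2).symm
  have h2m : ∀ m, Odd m → cnt G (2 * m) = cnt G m := fun m hm => cnt_two_mul hz hzc hzu hm
  have op := hp.odd_of_ne_two hp2
  have oq := hq.odd_of_ne_two hq2
  have opq := op.mul oq
  have n2 : ∀ {r : ℕ}, r.Prime → r ≠ 2 → ∀ k, (2 ^ k).Coprime r := fun hr hr2 k =>
    Nat.Coprime.pow_left k ((Nat.coprime_primes Nat.prime_two hr).2 hr2.symm)
  have k4p : ∀ {r : ℕ}, r.Prime → r ≠ 2 → r ∣ Nat.card G → (r = p ∨ r = q) → cnt G r = α →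
      cnt G (4 * r) = δ' := by
    intro r hr hr2 hrG hrpq hra
    haveI := Fact.mk hr
    obtain ⟨hA, hB, hD, hD', hnd, -⟩ := hmod hr hrpq
    have hne : cnt G (4 * r) ≠ 0 := fun h0 => hnd (h4 ▸ dvd_cnt_of_no_mul hr hrG (n2 hr hr2 2) h0)
    rcases hval _ (by have := hr.two_le; omega) hne with e | e
    · exfalso
      have := cast_eq_zero_of_dvd (dvd_sum_pair (k := 2) (hr.odd_of_ne_two hr2) (dvd_card_of_cnt hne) (mem_p hr))
        (dvd_mul_left r _)
      simp only [Finset.sum_range_succ, Finset.sum_range_zero, Finset.sum_pair hr.one_lt.ne, zero_add, pow_zero,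
        pow_one, one_mul, mul_one, show (2 : ℕ) ^ 2 = 4 by norm_num, cnt_one, hone,
        h2m r (hr.odd_of_ne_two hr2), hra, h4, e] at this
      push_cast at this
      rw [hA] at this
      exact hD (by
        have h' : (2 : ZMod r) * (δ : ZMod r) = 0 := by linear_combination this
        exact (mul_eq_zero.1 h').resolve_left (two_cast_ne hr2))
    · exact e
  have e4p := k4p hp hp2 hpG (.inl rfl) ha
  have e4q := k4p hq hq2 hqG (.inr rfl) ha'
  haveI := Fact.mk hp
  obtain ⟨hA, hB, hD, hD', hnd, hnd'⟩ := hmod hp (.inl rfl)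
  obtain ⟨-, -, -, -, hqd, hqd'⟩ := hmod hq (.inr rfl)
  have sumpq : ∀ i, ∑ d ∈ ({1, p, q, p * q} : Finset ℕ), cnt G (2 ^ i * d) =
      cnt G (2 ^ i * 1) + (cnt G (2 ^ i * p) + (cnt G (2 ^ i * q) + cnt G (2 ^ i * (p * q)))) := fun i =>
    sum_pq (fun d => cnt G (2 ^ i * d)) hp hq hpq
  have h2lt : 2 < p * q := by have := hp.two_le; have := hq.two_le; nlinarith
  have e4pq : cnt G (4 * (p * q)) = δ := by
    have hne : cnt G (4 * (p * q)) ≠ 0 := fun h0 => hqd' (e4p ▸ dvd_cnt_of_no_mul hq hqG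
      ((n2 hq hq2 2).mul_left ((Nat.coprime_primes hp hq).2 hpq)) (by rwa [mul_assoc]))
    refine (hval _ (by omega) hne).resolve_right fun e => ?_
    have := cast_eq_zero_of_dvd (dvd_sum_pair (k := 2) opq (dvd_card_of_cnt hne) (mem_pq hp hq))
      ((dvd_mul_right p q).trans (dvd_mul_left _ _))
    simp only [Finset.sum_range_succ, Finset.sum_range_zero, sumpq, zero_add, pow_zero, pow_one, one_mul, mul_one,
      show (2 : ℕ) ^ 2 = 4 by norm_num, cnt_one, hone, h2m p op, h2m q oq, h2m _ opq, ha, ha', hb, h4, e4p, e4q,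
      e] at this
    push_cast at this
    rw [hA, hB, hD'] at this
    exact hD (by
      have h' : (2 : ZMod p) * (δ : ZMod p) = 0 := by linear_combination -this
      exact (mul_eq_zero.1 h').resolve_left (two_cast_ne hp2))
  refine ⟨e4p, e4q, e4pq, fun h8 => ?_⟩
  have e8 : cnt G 8 = δ' := by
    refine (hval 8 (by norm_num) h8).resolve_left fun e => ?_
    have hd4 := four_dvd hz hzu (dvd_card_of_cnt hne4)
    have := (show Nat.totient 8 = 4 by decide +kernel) ▸ totient_dvd_cnt (G := G) 8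
    omega
  have k8p : ∀ {r : ℕ}, r.Prime → r ≠ 2 → r ∣ Nat.card G → (r = p ∨ r = q) → cnt G r = α →
      cnt G (4 * r) = δ' → cnt G (8 * r) = δ := by
    intro r hr hr2 hrG hrpq hra he4
    haveI := Fact.mk hr
    obtain ⟨hA, hB, hD, hD', hnd, hnd'⟩ := hmod hr hrpq
    have hne : cnt G (8 * r) ≠ 0 := fun h0 => hnd' (e8 ▸ dvd_cnt_of_no_mul hr hrG (n2 hr hr2 3) h0)
    refine (hval _ (by have := hr.two_le; omega) hne).resolve_right fun e => ?_
    have := cast_eq_zero_of_dvd (dvd_sum_pair (k := 3) (hr.odd_of_ne_two hr2) (dvd_card_of_cnt hne) (mem_p hr))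
      (dvd_mul_left r _)
    simp only [Finset.sum_range_succ, Finset.sum_range_zero, Finset.sum_pair hr.one_lt.ne, zero_add, pow_zero,
      pow_one, one_mul, mul_one, show (2 : ℕ) ^ 2 = 4 by norm_num, show (2 : ℕ) ^ 3 = 8 by norm_num, cnt_one, hone,
      h2m r (hr.odd_of_ne_two hr2), hra, h4, he4, e8, e] at this
    push_cast at this
    rw [hA, hD'] at this
    exact hD (by
      have h' : (2 : ZMod r) * (δ : ZMod r) = 0 := by linear_combination -this
      exact (mul_eq_zero.1 h').resolve_left (two_cast_ne hr2))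
  have e8p := k8p hp hp2 hpG (.inl rfl) ha e4p
  have e8q := k8p hq hq2 hqG (.inr rfl) ha' e4q
  refine ⟨e8, e8p, e8q, ?_⟩
  have hne : cnt G (8 * (p * q)) ≠ 0 := fun h0 => hqd (e8p ▸ dvd_cnt_of_no_mul hq hqG
    ((n2 hq hq2 3).mul_left ((Nat.coprime_primes hp hq).2 hpq)) (by rwa [mul_assoc]))
  refine (hval _ (by omega) hne).resolve_left fun e => ?_
  have := cast_eq_zero_of_dvd (dvd_sum_pair (k := 3) opq (dvd_card_of_cnt hne) (mem_pq hp hq))
    ((dvd_mul_right p q).trans (dvd_mul_left _ _))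
  simp only [Finset.sum_range_succ, Finset.sum_range_zero, sumpq, zero_add, pow_zero, pow_one, one_mul, mul_one,
    show (2 : ℕ) ^ 2 = 4 by norm_num, show (2 : ℕ) ^ 3 = 8 by norm_num, cnt_one, hone, h2m p op, h2m q oq,
    h2m _ opq, ha, ha', hb, h4, e4p, e4q, e4pq, e8, e8p, e8q, e] at this
  push_cast at this
  rw [hA, hB, hD'] at this
  exact hD (by
    have h' : (2 : ZMod p) * (δ : ZMod p) = 0 := by linear_combination this
    exact (mul_eq_zero.1 h').resolve_left (two_cast_ne hp2))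

theorem twoVals_of_two {x y a b m n : ℕ} (hv : TwoVals G x y) (hm : 2 < m) (hn : 2 < n) (hm0 : cnt G m ≠ 0)
    (hn0 : cnt G n ≠ 0) (ha : cnt G m = a) (hb : cnt G n = b) (hab : a ≠ b) : TwoVals G a b := fun k hk hk0 => by
  have := hv m hm hm0
  have := hv n hn hn0
  have := hv k hk hk0
  omega

/-- A unique involution and at least two odd primes: only two odd primes and no element of order four. -/
theorem unique_involution_case {z : G} (hz : orderOf z = 2) (hzc : ∀ g : G, Commute z g)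
    (hzu : ∀ g : G, orderOf g = 2 → g = z) {x y : ℕ} (hv : TwoVals G x y)
    {p q : ℕ} (hp : p.Prime) (hq : q.Prime) (hpq : p ≠ q) (hp2 : p ≠ 2) (hq2 : q ≠ 2)
    (hpG : p ∣ Nat.card G) (hqG : q ∣ Nat.card G) :
    cnt G 4 = 0 ∧ cnt G p ≠ cnt G q := by
  classical
  haveI := Fact.mk Nat.prime_two
  have hone : cnt G 2 = 1 := by
    rw [cnt, Nat.card_eq_one_iff_exists]
    exact ⟨⟨z, hz⟩, fun g => Subtype.ext (hzu g.1 g.2)⟩
  have hlt : ∀ {r : ℕ}, r.Prime → r ≠ 2 → 2 < r := fun hr hr2 => by have := hr.two_le; omega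
  have hne : cnt G p = cnt G q → False := by
    intro he
    obtain ⟨α, β, hv', ha, ha'⟩ : ∃ α β, TwoVals G α β ∧ cnt G p = α ∧ cnt G q = α := by
      rcases hv p (hlt hp hp2) (cnt_ne_zero_of_prime hp hpG) with e | e
      · exact ⟨x, y, hv, e, he.symm.trans e⟩
      · exact ⟨y, x, hv.symm, e, he.symm.trans e⟩
    obtain ⟨hab, hb, -, -⟩ := same_value hv' hp hq hpq hp2 hq2 hpG hqG ha ha'
    set k := (Nat.card G).factorization 2
    set M := Nat.card G / 2 ^ k
    have hG : 2 ^ k * M = Nat.card G := Nat.ordProj_mul_ordCompl_eq_self _ 2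
    have hMG : M ∣ Nat.card G := ⟨2 ^ k, by rw [mul_comm]; exact hG.symm⟩
    have hMo : Odd M := Nat.not_even_iff_odd.1 fun h =>
      Nat.not_dvd_ordCompl Nat.prime_two Nat.card_pos.ne' (even_iff_two_dvd.1 h)
    obtain ⟨⟨u, hu⟩, ⟨v, hv2⟩⟩ := odd_part_dvd hv' hp hq hpq hp2 hq2 hpG hqG ha ha' hMo hMG
    have hM3 : 3 ≤ M := le_trans (hlt hp hp2) (Nat.le_of_dvd (by
      rcases Nat.eq_zero_or_pos M with h | h
      · rw [h, mul_zero] at hG; exact absurd hG.symm Nat.card_pos.ne'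
      · exact h) ((Nat.Coprime.pow_right k ((Nat.coprime_primes hp Nat.prime_two).2 hp2)).dvd_of_dvd_mul_left
        (hG.symm ▸ hpG)))
    have hα0 : α ≠ 0 := ha ▸ cnt_ne_zero_of_prime hp hpG
    have hβ2 : 2 ≤ β := by
      have h0 : cnt G (p * q) ≠ 0 := fun h0 => not_dvd_self hq hqG
        (ha'.symm ▸ ha ▸ dvd_cnt_of_no_mul hq hqG ((Nat.coprime_primes hp hq).2 hpq) h0)
      have := even_cnt (G := G) (m := p * q) (by have := hp.two_le; have := hq.two_le; nlinarith)
      omega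
    have hu1 : 1 ≤ u := by nlinarith
    have hv1 : 1 ≤ v := by nlinarith
    have op := hp.odd_of_ne_two hp2
    have oq := hq.odd_of_ne_two hq2
    have h2m : ∀ m, Odd m → cnt G (2 * m) = cnt G m := fun m hm => cnt_two_mul hz hzc hzu hm
    have sumpq : ∀ i, ∑ d ∈ ({1, p, q, p * q} : Finset ℕ), cnt G (2 ^ i * d) =
        cnt G (2 ^ i * 1) + (cnt G (2 ^ i * p) + (cnt G (2 ^ i * q) + cnt G (2 ^ i * (p * q)))) := fun i =>
      sum_pq (fun d => cnt G (2 ^ i * d)) hp hq hpq
    have hoddpq : ∀ m ∈ ({1, p, q, p * q} : Finset ℕ), Odd m := by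
      simp only [Finset.mem_insert, Finset.mem_singleton]
      rintro m (rfl | rfl | rfl | rfl) <;> simp [op, oq, op.mul oq]
    by_cases h4 : cnt G 4 = 0
    · have hk : k = 1 := by
        have h2 : 2 ∣ Nat.card G := hz ▸ orderOf_dvd_natCard z
        have h1 : 1 ≤ k := Nat.prime_two.factorization_pos_of_dvd Nat.card_pos.ne' h2
        by_contra hk
        obtain ⟨P⟩ : Nonempty (Sylow 2 G) := inferInstance
        obtain ⟨g₀, -, hle⟩ := big_elements_cyclic hzu P
        rw [P.card_eq_multiplicity] at hle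
        obtain ⟨i, hi⟩ := IsPGroup.iff_orderOf.1 P.2 g₀
        rw [← Subgroup.orderOf_coe] at hi hle
        have : i ≤ 1 := by
          by_contra h
          exact cnt_dvd_ne_zero (cnt_ne_zero hi) (pow_dvd_pow 2 (by omega : 2 ≤ i)) h4
        have h4' : 2 ^ 2 ∣ Nat.card G := (pow_dvd_pow 2 (by omega)).trans (Dvd.intro M hG)
        have h5 := four_dvd hz hzu (by simpa using h4')
        rw [h4] at h5
        norm_num at h5
      have h := sum_cnt_le (G := G) ((Finset.range 2 ×ˢ ({1, p, q, p * q} : Finset ℕ)).image fun t => 2 ^ t.1 * t.2)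
      rw [← sum_pair_le 2 hoddpq] at h
      simp only [Finset.sum_range_succ, Finset.sum_range_zero, sumpq, zero_add, pow_zero, pow_one, one_mul, mul_one,
        cnt_one, hone, h2m p op, h2m q oq, h2m _ (op.mul oq), ha, ha', hb] at h
      rw [hk, pow_one] at hG
      nlinarith
    · obtain ⟨δ, δ', hδ, hδ4⟩ : ∃ δ δ', ((δ = α ∧ δ' = β) ∨ (δ = β ∧ δ' = α)) ∧ cnt G 4 = δ := by
        rcases hv' 4 (by norm_num) h4 with e | e
        · exact ⟨α, β, .inl ⟨rfl, rfl⟩, e⟩
        · exact ⟨β, α, .inr ⟨rfl, rfl⟩, e⟩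
      have hsum : δ + δ' = α + β := by omega
      obtain ⟨e4p, e4q, e4pq, h8⟩ := pair_values hz hzc hzu hv' hp hq hpq hp2 hq2 hpG hqG ha ha' hδ4 hδ h4
      have h := sum_cnt_le (G := G) ((Finset.range 3 ×ˢ ({1, p, q, p * q} : Finset ℕ)).image fun t => 2 ^ t.1 * t.2)
      rw [← sum_pair_le 3 hoddpq] at h
      simp only [Finset.sum_range_succ, Finset.sum_range_zero, sumpq, zero_add, pow_zero, pow_one, one_mul, mul_one,
        show (2 : ℕ) ^ 2 = 4 by norm_num, cnt_one, hone, h2m p op, h2m q oq, h2m _ (op.mul oq), ha, ha', hb, hδ4,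
        e4p, e4q, e4pq] at h
      have hT : 10 ≤ 2 ^ k := by
        have e : (2 : ℤ) + 6 * α + 4 * β = (6 * u + 4 * v) * M := by linear_combination 6 * hu + 4 * hv2
        have h1 : (2 : ℤ) + 6 * α + 4 * β ≤ (2 : ℤ) ^ k * M := by
          have : ((2 + 6 * α + 4 * β : ℕ) : ℤ) ≤ ((Nat.card G : ℕ) : ℤ) := by exact_mod_cast (by omega)
          rw [← hG] at this
          push_cast at this
          exact this
        have h2 : (10 : ℤ) * M ≤ (2 : ℤ) ^ k * M := by nlinarith
        have h3 := le_of_mul_le_mul_right h2 (by exact_mod_cast (by omega : 0 < M))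
        exact_mod_cast h3
      have h16 := cnt_sixteen_eq_zero hz hzc hzu hv'
      obtain ⟨P⟩ : Nonempty (Sylow 2 G) := inferInstance
      obtain ⟨g₀, -, hle⟩ := big_elements_cyclic hzu P
      rw [P.card_eq_multiplicity] at hle
      obtain ⟨i, hi⟩ := IsPGroup.iff_orderOf.1 P.2 g₀
      rw [← Subgroup.orderOf_coe] at hi hle
      have hi3 : i ≤ 3 := by
        by_contra h
        refine cnt_dvd_ne_zero (cnt_ne_zero hi) (m := 16) ?_ h16
        exact (show (16 : ℕ) = 2 ^ 4 by norm_num) ▸ pow_dvd_pow 2 (by omega)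
      rw [hi] at hle
      change 2 ^ k ≤ 2 * 2 ^ i at hle
      have hk4 : k = 4 ∧ i = 3 := by
        have h1 : 2 ^ k ≤ 2 ^ (i + 1) := by rw [pow_succ]; omega
        have hk1 : k ≤ i + 1 := (Nat.pow_le_pow_iff_right (by norm_num)).1 h1
        have hk2 : 4 ≤ k := by
          by_contra hk
          have : 2 ^ k ≤ 2 ^ 3 := Nat.pow_le_pow_right (by norm_num) (by omega)
          omega
        omega
      obtain ⟨hk4, rfl⟩ := hk4
      have h8ne : cnt G 8 ≠ 0 := cnt_ne_zero hi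
      obtain ⟨e8, e8p, e8q, e8pq⟩ := h8 h8ne
      have hG16 : 16 * M = Nat.card G := by rw [← hG, hk4]; norm_num
      by_cases h3 : ∃ r, r.Prime ∧ r ≠ 2 ∧ r ∣ Nat.card G ∧ r ≠ p ∧ r ≠ q
      · obtain ⟨r, hr, hr2, hrG, hrp, hrq⟩ := h3
        have hra := all_same_value hv' hp hq hpq hp2 hq2 hpG hqG ha ha' hr hr2 hrG
        obtain ⟨f4, -, -, f8⟩ := pair_values hz hzc hzu hv' hr hp hrp hr2 hp2 hrG hpG hra ha hδ4 hδ h4
        obtain ⟨-, f8r, -, -⟩ := f8 h8ne
        have or' := hr.odd_of_ne_two hr2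
        have hno : r ∉ ({1, p, q, p * q} : Finset ℕ) := by
          simp only [Finset.mem_insert, Finset.mem_singleton, not_or]
          refine ⟨hr.one_lt.ne', hrp, hrq, fun e => ?_⟩
          rw [e] at hr
          exact (Nat.prime_mul_iff.1 hr).elim (fun h => hq.one_lt.ne' h.2) fun h => hp.one_lt.ne' h.2
        have h := sum_cnt_le (G := G)
          ((Finset.range 4 ×ˢ (insert r ({1, p, q, p * q} : Finset ℕ))).image fun t => 2 ^ t.1 * t.2)
        rw [← sum_pair_le 4 (by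
          intro m hm
          rcases Finset.mem_insert.1 hm with rfl | hm
          exacts [or', hoddpq m hm])] at h
        simp only [Finset.sum_range_succ, Finset.sum_range_zero, Finset.sum_insert hno, sumpq, zero_add, pow_zero,
          pow_one, one_mul, mul_one, show (2 : ℕ) ^ 2 = 4 by norm_num, show (2 : ℕ) ^ 3 = 8 by norm_num, cnt_one,
          hone, h2m p op, h2m q oq, h2m r or', h2m _ (op.mul oq), ha, ha', hra, hb, hδ4,
          e4p, e4q, e4pq, e8, e8p, e8q, e8pq, f4, f8r] at h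
        have e : (2 : ℤ) + 11 * α + 7 * β = (11 * u + 7 * v) * M - 2 := by linear_combination 11 * hu + 7 * hv2
        have h' : (2 : ℤ) + 11 * α + 7 * β ≤ 16 * M := by exact_mod_cast (by omega : 2 + 11 * α + 7 * β ≤ 16 * M)
        nlinarith
      · push Not at h3
        have hall : ∀ g : G, orderOf g ∈
            (Finset.range 4 ×ˢ ({1, p, q, p * q} : Finset ℕ)).image fun t => 2 ^ t.1 * t.2 := by
          intro g
          obtain ⟨j, m, hm, hjm⟩ := Nat.exists_eq_two_pow_mul_odd (orderOf_pos g).ne'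
          refine Finset.mem_image.2 ⟨(j, m), Finset.mem_product.2 ⟨Finset.mem_range.2 ?_, (mem_pq hp hq m).2 ?_⟩,
            hjm.symm⟩
          · by_contra hj
            refine cnt_dvd_ne_zero (cnt_ne_zero (rfl : orderOf g = _)) (m := 16) ?_ h16
            rw [hjm]
            exact dvd_mul_of_dvd_left ((show (16 : ℕ) = 2 ^ 4 by norm_num) ▸ pow_dvd_pow 2 (by omega)) m
          · refine (Nat.dvd_iff_prime_pow_dvd_dvd _ _).2 fun ℓ e hℓ he => ?_
            rcases e.eq_zero_or_pos with rfl | he0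
            · simp
            have hℓm : ℓ ∣ m := (dvd_pow_self ℓ he0.ne').trans he
            have hℓ2 : ℓ ≠ 2 := by rintro rfl; exact Nat.not_even_iff_odd.2 hm (even_iff_two_dvd.2 hℓm)
            have hℓg : ℓ ^ e ∣ orderOf g := hjm ▸ dvd_mul_of_dvd_right he _
            have hℓG : ℓ ∣ Nat.card G := ((dvd_pow_self ℓ he0.ne').trans hℓg).trans (orderOf_dvd_natCard g)
            have hℓpq : ℓ = p ∨ ℓ = q := by
              by_contra hh
              push Not at hh
              exact hh.2 (h3 ℓ hℓ hℓ2 hℓG hh.1)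
            have hsq : cnt G (ℓ ^ 2) = 0 := by
              rcases hℓpq with rfl | rfl
              · exact (same_value hv' hp hq hpq hp2 hq2 hpG hqG ha ha').2.2.1
              · exact (same_value hv' hq hp hpq.symm hq2 hp2 hqG hpG ha' ha).2.2.1
            have he1 : e = 1 := by
              by_contra he1
              exact cnt_dvd_ne_zero (cnt_ne_zero (rfl : orderOf g = _))
                ((pow_dvd_pow ℓ (by omega : 2 ≤ e)).trans hℓg) hsq
            subst he1
            rcases hℓpq with rfl | rfl <;> simp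
        have h := sum_cnt_eq hall
        rw [← sum_pair_le 4 hoddpq] at h
        simp only [Finset.sum_range_succ, Finset.sum_range_zero, sumpq, zero_add, pow_zero, pow_one, one_mul,
          mul_one, show (2 : ℕ) ^ 2 = 4 by norm_num, show (2 : ℕ) ^ 3 = 8 by norm_num, cnt_one, hone, h2m p op,
          h2m q oq, h2m _ (op.mul oq), ha, ha', hb, hδ4, e4p, e4q, e4pq, e8, e8p, e8q, e8pq] at h
        have e : (2 : ℤ) + 8 * α + 6 * β = (8 * u + 6 * v) * M := by linear_combination 8 * hu + 6 * hv2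
        have h' : (2 : ℤ) + 8 * α + 6 * β = 16 * M := by exact_mod_cast (by omega : 2 + 8 * α + 6 * β = 16 * M)
        have := mul_right_cancel₀ (show (M : ℤ) ≠ 0 by exact_mod_cast (by omega : M ≠ 0)) (e.symm.trans h')
        omega
  refine ⟨?_, hne⟩
  by_contra h4
  -- different values and an element of order four
  have key : ∀ {p q : ℕ}, p.Prime → q.Prime → p ≠ q → p ≠ 2 → q ≠ 2 → p ∣ Nat.card G → q ∣ Nat.card G →
      cnt G p ≠ cnt G q → cnt G p = cnt G 4 → False := by
    intro p q hp hq hpq hp2 hq2 hpG hqG hab he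
    have hp0 := cnt_ne_zero_of_prime hp hpG
    have hv' := twoVals_of_two hv (hlt hp hp2) (hlt hq hq2) hp0 (cnt_ne_zero_of_prime hq hqG) rfl rfl hab
    have op := hp.odd_of_ne_two hp2
    have h4p : cnt G (4 * p) ≠ 0 := fun h0 => not_dvd_self hp hpG (he.symm ▸ dvd_cnt_of_no_mul hp hpG
      (Nat.Coprime.pow_left 2 ((Nat.coprime_primes Nat.prime_two hp).2 hp2.symm)) h0)
    have hd := (dvd_mul_left p _).trans
      (dvd_sum_pair (k := 2) op (dvd_card_of_cnt h4p) (mem_p hp))
    simp only [Finset.sum_range_succ, Finset.sum_range_zero, Finset.sum_pair hp.one_lt.ne, zero_add, pow_zero,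
      pow_one, one_mul, mul_one, show (2 : ℕ) ^ 2 = 4 by norm_num, cnt_one, hone,
      cnt_two_mul hz hzc hzu op, ← he] at hd
    have h1 := dvd_one_add hp hpG
    have hnd : ¬ p ∣ cnt G q := fun hdq => by
      rcases hv' (4 * p) (by have := hp.two_le; omega) h4p with e | e <;> rw [e] at hd
      · have h' : p ∣ 2 * cnt G p + 2 * (1 + cnt G p) := by
          rwa [show 2 * cnt G p + 2 * (1 + cnt G p) = 1 + cnt G p + (1 + cnt G p) + (cnt G p + cnt G p) by ring]
        exact not_dvd_two_mul hp hp2 (not_dvd_self hp hpG) ((Nat.dvd_add_left (dvd_mul_of_dvd_right h1 2)).1 h')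
      · have h' : p ∣ cnt G p + 2 * (1 + cnt G p) + cnt G q := by
          rwa [show cnt G p + 2 * (1 + cnt G p) + cnt G q = 1 + cnt G p + (1 + cnt G p) + (cnt G p + cnt G q) by ring]
        exact not_dvd_self hp hpG ((Nat.dvd_add_left (dvd_mul_of_dvd_right h1 2)).1 ((Nat.dvd_add_left hdq).1 h'))
    have := two_mul_cnt_le hp hq hpq hq2 hnd
    rw [cnt_mul_eq_zero hv' hab hp hq hpq hp2 hq2 hpG hqG rfl rfl] at this
    omega
  have := hv p (hlt hp hp2) (cnt_ne_zero_of_prime hp hpG)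
  have := hv q (hlt hq hq2) (cnt_ne_zero_of_prime hq hqG)
  have := hv 4 (by norm_num) h4
  by_cases he : cnt G p = cnt G 4
  · exact key hp hq hpq hp2 hq2 hpG hqG hne he
  · exact key hq hp hpq.symm hq2 hp2 hqG hpG (fun h => hne h.symm) (by
      have : cnt G p ≠ cnt G q := hne
      omega)

/-- Three values for the numbers of elements of each order force solvability. -/
theorem isSolvable_three_values (h : (((fun m : ℕ => cnt G m) '' Set.range (orderOf : G → ℕ))).ncard = 3) :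
    Group.IsSolvable G := by
  classical
  by_cases hc : (Nat.card G).primeFactors.card ≤ 2
  · exact CfsgLib.Solvable.isSolvable_of_primeFactors_card_le_two hc
  have h2G : 2 ∣ Nat.card G := by
    by_contra h2
    exact hc (card_primeFactors_le (Nat.not_even_iff_odd.1 fun he => h2 (even_iff_two_dvd.1 he)) h)
  haveI := Fact.mk Nat.prime_two
  obtain ⟨x, y, hxy⟩ := exists_two_vals h
  have hv : TwoVals G x y := fun m hm h0 => (hxy m h0).resolve_left fun e => by
    have := even_cnt (G := G) hm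
    omega
  have h2mem : 2 ∈ (Nat.card G).primeFactors := Nat.mem_primeFactors.2 ⟨Nat.prime_two, h2G, Nat.card_pos.ne'⟩
  have herase : 1 < ((Nat.card G).primeFactors.erase 2).card := by
    rw [Finset.card_erase_of_mem h2mem]; omega
  obtain ⟨p, hp, q, hq, hpq⟩ := Finset.one_lt_card.1 herase
  simp only [Finset.mem_erase, Nat.mem_primeFactors] at hp hq
  have hp0 : 2 < p := by have := hp.2.1.two_le; omega
  have hq0 : 2 < q := by have := hq.2.1.two_le; omega
  have hcp := cnt_ne_zero_of_prime hp.2.1 hp.2.2.1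
  have hcq := cnt_ne_zero_of_prime hq.2.1 hq.2.2.1
  have hodd2 := dvd_one_add Nat.prime_two h2G
  by_cases hone : cnt G 2 = 1
  swap
  · exfalso
    have hc2 := (hxy 2 (cnt_ne_zero_of_prime Nat.prime_two h2G)).resolve_left hone
    have hsame : ∀ m, 2 < m → cnt G m ≠ 0 → cnt G m = cnt G p := fun m hm h0 => by
      have := hv m hm h0
      have := hv p hp0 hcp
      have := even_cnt (G := G) hm
      have := even_cnt (G := G) hp0
      omega
    exact (same_value (a := cnt G p) (b := cnt G p) (fun m hm h0 => .inl (hsame m hm h0)) hp.2.1 hq.2.1 hpq hp.1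
      hq.1 hp.2.2.1 hq.2.2.1 rfl (hsame q hq0 hcq)).1 rfl
  obtain ⟨z, hz⟩ := exists_prime_orderOf_dvd_card' 2 h2G
  have hzu : ∀ g : G, orderOf g = 2 → g = z := fun g hg => by
    obtain ⟨w, hw⟩ := Nat.card_eq_one_iff_exists.1 hone
    exact congrArg Subtype.val ((hw ⟨g, hg⟩).trans (hw ⟨z, hz⟩).symm)
  have hzc : ∀ g : G, Commute z g := fun g => by
    have := hzu (g * z * g⁻¹) (by rw [← MulAut.conj_apply, MulEquiv.orderOf_eq, hz])
    exact (mul_inv_eq_iff_eq_mul.1 this).symm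
  obtain ⟨h4, -⟩ := unique_involution_case hz hzc hzu hv hp.2.1 hq.2.1 hpq hp.1 hq.1 hp.2.2.1 hq.2.2.1
  have hfour : ¬ 4 ∣ Nat.card G := fun hd => by
    have := four_dvd hz hzu hd
    omega
  -- exactly two odd primes
  have honly : ((Nat.card G).primeFactors.erase 2).card ≤ 2 := by
    by_contra hh
    obtain ⟨a, ha, b, hb, c, hc', hab, hac, hbc⟩ := Finset.two_lt_card.1 (not_le.1 hh)
    simp only [Finset.mem_erase, Nat.mem_primeFactors] at ha hb hc'
    have f : ∀ {r}, r ≠ 2 → r.Prime → r ∣ Nat.card G → cnt G r = x ∨ cnt G r = y := fun h1 hr hrG =>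
      hv _ (by have := hr.two_le; omega) (cnt_ne_zero_of_prime hr hrG)
    have d : ∀ {r s}, r ≠ 2 → r.Prime → r ∣ Nat.card G → s ≠ 2 → s.Prime → s ∣ Nat.card G → r ≠ s →
        cnt G r ≠ cnt G s := fun h1 h2 h3 h4 h5 h6 h7 =>
      (unique_involution_case hz hzc hzu hv h2 h5 h7 h1 h4 h3 h6).2
    have := f ha.1 ha.2.1 ha.2.2.1
    have := f hb.1 hb.2.1 hb.2.2.1
    have := f hc'.1 hc'.2.1 hc'.2.2.1
    have := d ha.1 ha.2.1 ha.2.2.1 hb.1 hb.2.1 hb.2.2.1 hab
    have := d ha.1 ha.2.1 ha.2.2.1 hc'.1 hc'.2.1 hc'.2.2.1 hac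
    have := d hb.1 hb.2.1 hb.2.2.1 hc'.1 hc'.2.1 hc'.2.2.1 hbc
    omega
  set Z := Subgroup.zpowers z with hZ
  haveI : Z.Normal := ⟨fun n hn g => by
    obtain ⟨i, rfl⟩ := hn
    rw [((hzc g).symm.zpow_right i).eq, mul_inv_cancel_right]
    exact Subgroup.zpow_mem _ (Subgroup.mem_zpowers z) i⟩
  have hcard : Nat.card G = Nat.card (G ⧸ Z) * 2 := by
    rw [Subgroup.card_eq_card_quotient_mul_card_subgroup Z, hZ, Nat.card_zpowers, hz]
  haveI : Group.IsSolvable (G ⧸ Z) := by
    refine CfsgLib.Solvable.isSolvable_of_primeFactors_card_le_two (le_trans (Finset.card_le_card ?_) honly)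
    intro r hr
    rw [Nat.mem_primeFactors] at hr
    refine Finset.mem_erase.2 ⟨?_, Nat.mem_primeFactors.2 ⟨hr.1, hcard ▸ dvd_mul_of_dvd_left hr.2.1 2,
      Nat.card_pos.ne'⟩⟩
    rintro rfl
    refine hfour ?_
    rw [hcard]
    exact Nat.mul_dvd_mul hr.2.1 (dvd_refl 2)
  haveI : Group.IsSolvable Z := Group.isSolvable_of_comm fun a b => Subtype.ext (by
    obtain ⟨i, hi⟩ := a.2
    show (a : G) * b = b * a
    rw [← hi]
    exact ((hzc (b : G)).zpow_left i).eq)
  exact Group.isSolvable_of_ker_le_range Z.subtype (QuotientGroup.mk' Z) (by simp)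

end CfsgLib.FGS.Counts
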