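import Cfsg.Agent.Lib.FGS.CountsBasic
import Cfsg.Agent.Lib.Solvable.FrobeniusComplement
import Cfsg.Agent.Lib.Solvable.BurnsideHall
import Cfsg.Prelude.Def_Solvable

/-!
Groups of odd order with three values for the numbers of elements of each order.
-/

set_option autoImplicit false

namespace CfsgLib.FGS.Counts

open scoped Pointwise

variable {G : Type*} [Group G] [Finite G]

theorem exists_two_vals (h : (((fun m : ℕ => cnt G m) '' Set.range (orderOf : G → ℕ))).ncard = 3) :
    ∃ x y : ℕ, ∀ m, cnt G m ≠ 0 → cnt G m = 1 ∨ cnt G m = x ∨ cnt G m = y := by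
  set V := (fun m : ℕ => cnt G m) '' Set.range (orderOf : G → ℕ) with hV
  have h1 : 1 ∈ V := ⟨1, ⟨1, orderOf_one⟩, cnt_one⟩
  have h2 : (V \ {1}).ncard = 2 := by rw [Set.ncard_sdiff_singleton_of_mem h1]; omega
  obtain ⟨x, y, -, e⟩ := Set.ncard_eq_two.1 h2
  refine ⟨x, y, fun m hm => ?_⟩
  obtain ⟨g, rfl⟩ := exists_of_cnt hm
  have hmem : cnt G (orderOf g) ∈ V := ⟨_, ⟨g, rfl⟩, rfl⟩
  by_cases h : cnt G (orderOf g) = 1
  · exact .inl h
  · exact .inr (by simpa [e] using (show cnt G (orderOf g) ∈ V \ {1} from ⟨hmem, h⟩))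

theorem ne_two_of_odd (hodd : Odd (Nat.card G)) {p : ℕ} (h : p ∣ Nat.card G) : p ≠ 2 := by
  rintro rfl
  exact Nat.not_even_iff_odd.2 hodd (even_iff_two_dvd.2 h)

theorem no_same_value {a b p q : ℕ} (hodd : Odd (Nat.card G)) (hv : TwoVals G a b) (hp : p.Prime)
    (hq : q.Prime) (hpq : p ≠ q) (hpG : p ∣ Nat.card G) (hqG : q ∣ Nat.card G)
    (ha : cnt G p = a) (ha' : cnt G q = a) : False := by
  have hp2 := ne_two_of_odd hodd hpG
  have hq2 := ne_two_of_odd hodd hqG
  obtain ⟨-, hb, -, -⟩ := same_value hv hp hq hpq hp2 hq2 hpG hqG ha ha'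
  have hd := (odd_part_dvd hv hp hq hpq hp2 hq2 hpG hqG ha ha' hodd dvd_rfl).2
  have hb0 : b ≠ 0 := hb ▸ fun h0 => not_dvd_self hq hqG
    (ha'.symm ▸ ha ▸ dvd_cnt_of_no_mul hq hqG ((Nat.coprime_primes hp hq).2 hpq) h0)
  have hb2 : 2 ∣ b := hb ▸ even_cnt (by have := hp.two_le; have := hq.two_le; nlinarith)
  have hle : b ≤ Nat.card G := hb ▸ Nat.card_le_card_of_injective _ Subtype.val_injective
  have := Int.le_of_dvd (by omega) hd
  omega

theorem twoVals_of_odd (hodd : Odd (Nat.card G))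
    (h : (((fun m : ℕ => cnt G m) '' Set.range (orderOf : G → ℕ))).ncard = 3) :
    ∃ x y, TwoVals G x y := by
  obtain ⟨x, y, hxy⟩ := exists_two_vals h
  exact ⟨x, y, fun m hm h0 => (hxy m h0).resolve_left fun e => by
    have := even_cnt (G := G) hm
    omega⟩

theorem card_primeFactors_le (hodd : Odd (Nat.card G))
    (h : (((fun m : ℕ => cnt G m) '' Set.range (orderOf : G → ℕ))).ncard = 3) :
    (Nat.card G).primeFactors.card ≤ 2 := by
  obtain ⟨x, y, hv⟩ := twoVals_of_odd hodd h
  by_contra hc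
  obtain ⟨p, hp, q, hq, r, hr, hpq, hpr, hqr⟩ := Finset.two_lt_card.1 (not_le.1 hc)
  rw [Nat.mem_primeFactors] at hp hq hr
  have val : ∀ {p : ℕ}, p.Prime → p ∣ Nat.card G → cnt G p = x ∨ cnt G p = y := fun hp hpG =>
    hv _ (lt_of_le_of_ne hp.two_le (ne_two_of_odd hodd hpG).symm) (cnt_ne_zero_of_prime hp hpG)
  rcases val hp.1 hp.2.1 with a1 | a1 <;> rcases val hq.1 hq.2.1 with a2 | a2 <;>
    rcases val hr.1 hr.2.1 with a3 | a3
  all_goals
    first
    | exact no_same_value hodd hv hp.1 hq.1 hpq hp.2.1 hq.2.1 a1 a2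
    | exact no_same_value hodd hv.symm hp.1 hq.1 hpq hp.2.1 hq.2.1 a1 a2
    | exact no_same_value hodd hv hp.1 hr.1 hpr hp.2.1 hr.2.1 a1 a3
    | exact no_same_value hodd hv.symm hp.1 hr.1 hpr hp.2.1 hr.2.1 a1 a3
    | exact no_same_value hodd hv hq.1 hr.1 hqr hq.2.1 hr.2.1 a2 a3
    | exact no_same_value hodd hv.symm hq.1 hr.1 hqr hq.2.1 hr.2.1 a2 a3

theorem mul_pow_eq_prod {A : Subgroup G} [A.Normal] (v : A) (g : G) : ∀ n : ℕ,
    ((v : G) * g) ^ n = ((List.range n).map fun i => ((MulAut.conjNormal (g ^ i) v : A) : G)).prod * g ^ n := by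
  intro n
  induction n with
  | zero => simp
  | succ n ih =>
    rw [pow_succ, ih, List.range_succ, List.map_append, List.prod_append]
    simp only [List.map_cons, List.map_nil, List.prod_cons, List.prod_nil, mul_one, MulAut.conjNormal_apply]
    rw [pow_succ]
    group

/-- Averaging over a group of order `s r` whose cyclic subgroups outside the normal part have norm zero. -/
theorem averaging {E C : Type*} [Group E] [Finite E] [CommGroup C] (φ : E →* MulAut C)
    {r : ℕ} [hr : Fact r.Prime] (Y : Subgroup E) (hY : ∀ v : C, (∀ y ∈ Y, φ y v = v) → v = 1)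
    {x : E} (hxn : x ∈ Subgroup.normalizer (Y : Set E))
    (hord : ∀ u ∈ Y, (u * x) ^ r = 1)
    (h1 : ∀ u ∈ Y, ∀ v : C, ∏ j ∈ Finset.range r, φ ((u * x) ^ j) v = 1) (v : C) :
    v ^ Nat.card Y = 1 := by
  classical
  have := Fintype.ofFinite Y
  have hbij : ∀ j, ∀ u : Y, ((u : E) * x) ^ j * (x ^ j)⁻¹ ∈ Y := by
    intro j u
    induction j with
    | zero => simp
    | succ j ih =>
      have e : ((u : E) * x) ^ (j + 1) * (x ^ (j + 1))⁻¹ =
          (((u : E) * x) ^ j * (x ^ j)⁻¹) * (x ^ j * u * (x ^ j)⁻¹) := by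
        rw [pow_succ, pow_succ]; group
      rw [e]
      exact mul_mem ih ((Subgroup.mem_normalizer_iff.1 (pow_mem hxn j) _).1 u.2)
  have h2 : ∀ j ∈ Finset.range r, j ≠ 0 → ∏ u : Y, φ (((u : E) * x) ^ j) v = 1 := by
    intro j hj hj0
    let g : Y → Y := fun u => ⟨((u : E) * x) ^ j * (x ^ j)⁻¹, hbij j u⟩
    have hg : Function.Injective g := by
      intro u u' h
      have h' : ((u : E) * x) ^ j = ((u' : E) * x) ^ j := mul_right_cancel (congrArg Subtype.val h)
      have hcop : r.Coprime j := hr.out.coprime_iff_not_dvd.2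
        (Nat.not_dvd_of_pos_of_lt (Nat.pos_of_ne_zero hj0) (Finset.mem_range.1 hj))
      have key : ∀ w : Y, ((w : E) * x) = (((w : E) * x) ^ j) ^ (Nat.gcdB r j) := by
        intro w
        have hb : (1 : ℤ) = r * Nat.gcdA r j + j * Nat.gcdB r j := by
          have := Nat.gcd_eq_gcd_ab r j
          rw [hcop.gcd_eq_one] at this
          exact_mod_cast this
        conv_lhs => rw [← zpow_one ((w : E) * x), hb, zpow_add, zpow_mul, zpow_natCast, hord _ w.2,
          one_zpow, one_mul, zpow_mul, zpow_natCast]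
      have := key u
      rw [h', ← key u'] at this
      exact Subtype.ext (mul_right_cancel this)
    have h3 : ∏ u : Y, φ (((u : E) * x) ^ j) v = ∏ u : Y, φ (u : E) (φ (x ^ j) v) := by
      refine Fintype.prod_bijective g ⟨hg, Finite.surjective_of_injective hg⟩ _ _ fun u => ?_
      show φ (((u : E) * x) ^ j) v = φ (((u : E) * x) ^ j * (x ^ j)⁻¹) (φ (x ^ j) v)
      rw [← MulAut.mul_apply, ← map_mul, inv_mul_cancel_right]
    rw [h3]
    refine hY _ fun y hy => ?_
    rw [map_prod]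
    refine Fintype.prod_equiv (Equiv.mulLeft ⟨y, hy⟩) _ _ fun u => ?_
    show φ y (φ (u : E) _) = φ (y * u) _
    rw [map_mul, MulAut.mul_apply]
  calc v ^ Nat.card Y = ∏ u : Y, φ (((u : E) * x) ^ 0) v := by simp [Nat.card_eq_fintype_card]
    _ = ∏ j ∈ Finset.range r, ∏ u : Y, φ (((u : E) * x) ^ j) v :=
        (Finset.prod_eq_single_of_mem 0 (Finset.mem_range.2 hr.out.pos) fun j hj hj0 => h2 j hj hj0).symm
    _ = ∏ u : Y, ∏ j ∈ Finset.range r, φ (((u : E) * x) ^ j) v := Finset.prod_comm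
    _ = 1 := Finset.prod_eq_one fun u _ => h1 _ u.2 v

theorem exists_normal_abelian [Nontrivial G] [Group.IsSolvable G] :
    ∃ A : Subgroup G, A.Normal ∧ A ≠ ⊥ ∧ ∀ x ∈ A, ∀ y ∈ A, x * y = y * x := by
  classical
  have hex : ∃ n, derivedSeries G n = ⊥ := Group.IsSolvable.solvable
  have h0 : Nat.find hex ≠ 0 := fun h => by
    have := Nat.find_spec hex
    rw [h, derivedSeries_zero] at this
    exact top_ne_bot this
  obtain ⟨k, hk⟩ := Nat.exists_eq_succ_of_ne_zero h0
  refine ⟨derivedSeries G k, inferInstance, Nat.find_min hex (by omega), fun x hx y hy => ?_⟩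
  have h := Nat.find_spec hex
  rw [hk, derivedSeries_succ, Subgroup.commutator_eq_bot_iff_le_centralizer] at h
  exact (Subgroup.mem_centralizer_iff.1 (h hy) x hx)

theorem two_primes_structure {a b r s : ℕ} [hr : Fact r.Prime] [hs : Fact s.Prime] (hrs : r ≠ s)
    (hodd : Odd (Nat.card G)) (hv : TwoVals G a b) (hab : a ≠ b)
    (hfac : ∀ t : ℕ, t.Prime → t ∣ Nat.card G → t = r ∨ t = s) (hrG : r ∣ Nat.card G) (hsG : s ∣ Nat.card G)
    (ha : cnt G r = a) (hb : cnt G s = b) (A : Subgroup G) [A.Normal] (hA : A ≠ ⊥)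
    (hAc : ∀ x ∈ A, ∀ y ∈ A, x * y = y * x) (hAr : ∀ x ∈ A, x ^ r = 1) :
    (∀ (p : ℕ) [Fact p.Prime] (P : Sylow p G), p ∣ Nat.card G → Monoid.exponent ↥(P : Subgroup G) = p) ∧
      ∃ C : Subgroup G, Cfsg.IsFrobeniusComplement C ∧ (Nat.card ↥C).Prime := by
  classical
  have hr2 := ne_two_of_odd hodd hrG
  have hs2 := ne_two_of_odd hodd hsG
  have h0 := cnt_mul_eq_zero hv hab hr.out hs.out hrs hr2 hs2 hrG hsG ha hb
  have hnra : ¬ r ∣ a := ha ▸ not_dvd_self hr.out hrG
  have hnsb : ¬ s ∣ b := hb ▸ not_dvd_self hs.out hsG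
  have hrb : r ∣ b := hb ▸ dvd_cnt_of_no_mul hr.out hrG ((Nat.coprime_primes hs.out hr.out).2 hrs.symm)
    (by rwa [mul_comm])
  have hsa : s ∣ a := ha ▸ dvd_cnt_of_no_mul hs.out hsG ((Nat.coprime_primes hr.out hs.out).2 hrs) h0
  have hmix : ∀ g : G, ¬ r * s ∣ orderOf g := fun g hg => cnt_dvd_ne_zero (cnt_ne_zero rfl) hg h0
  have hpp : ∀ g : G, (∃ i, orderOf g = r ^ i) ∨ ∃ i, orderOf g = s ^ i := by
    intro g
    have hall : ∀ t : ℕ, t.Prime → t ∣ orderOf g → t = r ∨ t = s := fun t ht htg =>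
      hfac t ht (htg.trans (orderOf_dvd_natCard g))
    by_cases hrg : r ∣ orderOf g
    · refine .inl ⟨_, Nat.eq_prime_pow_of_unique_prime_dvd (orderOf_pos g).ne' fun {t} ht htg => ?_⟩
      rcases hall t ht htg with e | e
      · exact e
      · exact absurd (((Nat.coprime_primes hr.out hs.out).2 hrs).mul_dvd_of_dvd_of_dvd hrg (e ▸ htg)) (hmix g)
    · refine .inr ⟨_, Nat.eq_prime_pow_of_unique_prime_dvd (orderOf_pos g).ne' fun {t} ht htg => ?_⟩
      rcases hall t ht htg with e | e
      · exact absurd (e ▸ htg) hrg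
      · exact e
  obtain ⟨S⟩ : Nonempty (Sylow s G) := inferInstance
  have hfpf : ∀ g ∈ (S : Subgroup G), g ≠ 1 → A ⊓ Subgroup.centralizer {g} = ⊥ := by
    intro g hg hg1
    rw [eq_bot_iff]
    rintro v ⟨hvA, hvc⟩
    by_contra hv1
    rw [Subgroup.mem_bot] at hv1
    have hvo : orderOf v = r := orderOf_eq_prime (hAr v hvA) hv1
    obtain ⟨i, hi⟩ := IsPGroup.iff_orderOf.1 S.2 ⟨g, hg⟩
    rw [Subgroup.orderOf_mk] at hi
    have hi0 : i ≠ 0 := fun h => hg1 (orderOf_eq_one_iff.1 (by rw [hi, h, pow_zero]))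
    have hc : Commute v g := Subgroup.mem_centralizer_singleton_iff.1 hvc
    refine hmix (v * g) ?_
    rw [hc.orderOf_mul_eq_mul_orderOf_of_coprime
      (by rw [hvo, hi]; exact ((Nat.coprime_primes hr.out hs.out).2 hrs).pow_right i), hvo, hi]
    exact mul_dvd_mul_left r (dvd_pow_self s hi0)
  have hScyc : IsCyclic (S : Subgroup G) :=
    (CfsgLib.Solvable.isCyclic_or_quaternion S.2 fun _ _ hx hy =>
      CfsgLib.Solvable.mem_zpowers_of_fpf_pGroup hA
        ((Subgroup.normalizer_eq_top (H := A)).symm ▸ le_top) hfpf S.2 hx hy).resolve_right fun h => hs2 h.1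
  have hfib : ∀ y y' : G, orderOf y = s → orderOf y' = s →
      ∃ (g : G) (j : ℕ), j.Coprime s ∧ y' = g * y ^ j * g⁻¹ := by
    intro y y' hy hy'
    obtain ⟨P, hP⟩ := (IsPGroup.of_card (G := Subgroup.zpowers y) (n := 1)
      (by rw [Nat.card_zpowers, hy, pow_one])).exists_le_sylow (p := s)
    obtain ⟨P', hP'⟩ := (IsPGroup.of_card (G := Subgroup.zpowers y') (n := 1)
      (by rw [Nat.card_zpowers, hy', pow_one])).exists_le_sylow (p := s)
    obtain ⟨g, rfl⟩ := MulAction.exists_smul_eq G P P'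
    obtain ⟨w, hw, e⟩ := hP' (Subgroup.mem_zpowers y')
    simp only [MulDistribMulAction.toMonoidEnd_apply, MulDistribMulAction.toMonoidHom_apply,
      MulAut.smul_def, MulAut.conj_apply] at e
    haveI : IsCyclic (P : Subgroup G) := by
      obtain ⟨k, rfl⟩ := MulAction.exists_smul_eq G S P
      exact isCyclic_of_surjective (S.equivSMul k) (S.equivSMul k).surjective
    have hwo : orderOf w = s := by
      rw [← hy', ← e, ← MulAut.conj_apply, MulEquiv.orderOf_eq]
    obtain ⟨j, hj⟩ := (mem_powers_iff_mem_zpowers.2 (CfsgLib.Solvable.mem_zpowers_of_isCyclic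
      (x := (⟨w, hw⟩ : (P : Subgroup G))) (y := ⟨y, hP (Subgroup.mem_zpowers y)⟩)
      (by rw [Subgroup.orderOf_mk, Subgroup.orderOf_mk, hwo, hy])))
    have hj' : y ^ j = w := by simpa using congrArg Subtype.val hj
    refine ⟨g, j, (hs.out.coprime_iff_not_dvd.2 fun hd => ?_).symm, by rw [hj', e]⟩
    have : w = 1 := by rw [← hj']; exact orderOf_dvd_iff_pow_eq_one.1 (hy.symm ▸ hd)
    rw [this, orderOf_one] at hwo
    exact hs.out.one_lt.ne hwo
  -- no elements of order `s ^ 2`
  have hsq : cnt G (s ^ 2) = 0 := by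
    by_contra hne
    have hc : s ∣ cnt G (s ^ 2) := by
      refine dvd_trans ?_ (totient_dvd_cnt (s ^ 2))
      rw [Nat.totient_prime_pow hs.out (by norm_num)]
      exact dvd_mul_of_dvd_left (by simp) _
    have hval : cnt G (s ^ 2) = a :=
      (hv _ (by have := hs.out.two_le; nlinarith) hne).resolve_right fun e => hnsb (e ▸ hc)
    have := Fintype.ofFinite G
    have := Fintype.ofFinite {g : G // orderOf g = s}
    let π : {g : G // orderOf g = s ^ 2} → {g : G // orderOf g = s} := fun x =>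
      ⟨(x : G) ^ s, by
        rw [orderOf_pow_of_dvd hs.out.ne_zero (by rw [x.2]; exact dvd_pow_self s (by norm_num)), x.2, pow_two,
          Nat.mul_div_cancel _ hs.out.pos]⟩
    have hle : ∀ y y', Nat.card {x // π x = y} ≤ Nat.card {x // π x = y'} := by
      intro y y'
      obtain ⟨g, j, hj, e⟩ := hfib y y' y.2 y'.2
      let T : {g : G // orderOf g = s ^ 2} → {g : G // orderOf g = s ^ 2} := fun x => ⟨g * (x : G) ^ j * g⁻¹, by
        rw [← MulAut.conj_apply, MulEquiv.orderOf_eq,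
          Nat.Coprime.orderOf_pow (by rw [x.2]; exact (hj.symm).pow_left 2), x.2]⟩
      refine Nat.card_le_card_of_injective (fun x => ⟨T x.1, ?_⟩) fun x x' h => ?_
      · apply Subtype.ext
        show (g * (x.1 : G) ^ j * g⁻¹) ^ s = y'
        rw [← MulAut.conj_apply, ← map_pow, ← pow_mul, mul_comm, pow_mul,
          show ((x.1 : G) ^ s) = y from congrArg Subtype.val x.2, MulAut.conj_apply, e]
      · have h' : (x.1 : G) ^ j = (x'.1 : G) ^ j :=
          mul_left_cancel (mul_right_cancel (congrArg (fun t => ((t : {g : G // orderOf g = s ^ 2}) : G))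
            (congrArg Subtype.val h)))
        apply Subtype.ext; apply Subtype.ext
        have hb' : (1 : ℤ) = (j : ℤ) * Nat.gcdA j (s ^ 2) + (s ^ 2 : ℕ) * Nat.gcdB j (s ^ 2) := by
          have := Nat.gcd_eq_gcd_ab j (s ^ 2)
          rw [(hj.pow_right 2).gcd_eq_one] at this
          exact_mod_cast this
        have key : ∀ t : {g : G // orderOf g = s ^ 2}, (t : G) = ((t : G) ^ j) ^ Nat.gcdA j (s ^ 2) := fun t => by
          have ht : (t : G) ^ (s ^ 2) = 1 := by
            have := pow_orderOf_eq_one (t : G)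
            rwa [t.2] at this
          conv_lhs => rw [← zpow_one (t : G), hb', zpow_add, zpow_mul, zpow_mul, zpow_natCast, zpow_natCast, ht,
            one_zpow, mul_one]
        rw [key x.1, key x'.1, h']
    obtain ⟨y₀, hy₀⟩ := exists_of_cnt (cnt_ne_zero_of_prime hs.out hsG)
    have hsum : cnt G (s ^ 2) = cnt G s * Nat.card {x // π x = ⟨y₀, hy₀⟩} := by
      rw [cnt, ← Nat.card_congr (Equiv.sigmaFiberEquiv π), Nat.card_sigma,
        Finset.sum_congr rfl (fun y _ => le_antisymm (hle y ⟨y₀, hy₀⟩) (hle ⟨y₀, hy₀⟩ y)), Finset.sum_const,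
        Finset.card_univ, ← Nat.card_eq_fintype_card, smul_eq_mul, cnt]
    rw [hval, hb] at hsum
    exact hnra (hsum ▸ dvd_mul_of_dvd_left hrb _)
  have hSexp : ∀ g ∈ (S : Subgroup G), g ^ s = 1 := by
    intro g hg
    obtain ⟨i, hi⟩ := IsPGroup.iff_orderOf.1 S.2 ⟨g, hg⟩
    rw [Subgroup.orderOf_mk] at hi
    have : i ≤ 1 := by
      by_contra h
      exact cnt_dvd_ne_zero (cnt_ne_zero hi) (pow_dvd_pow s (by omega : 2 ≤ i)) hsq
    exact orderOf_dvd_iff_pow_eq_one.1 (hi ▸ (pow_dvd_pow s this).trans (pow_one s).dvd)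
  have hScard : Nat.card (S : Subgroup G) = s := by
    obtain ⟨g, hg⟩ := hScyc.exists_generator
    have hc := orderOf_eq_card_of_forall_mem_zpowers hg
    refine le_antisymm ?_ (Nat.le_of_dvd Nat.card_pos (S.dvd_card_of_dvd_card hsG))
    rw [← hc]
    exact Nat.le_of_dvd hs.out.pos (orderOf_dvd_of_pow_eq_one (Subtype.ext (hSexp g g.2)))
  obtain ⟨y, hy1⟩ := (Subgroup.nontrivial_iff_exists_ne_one (S : Subgroup G)).1
    (Finite.one_lt_card_iff_nontrivial.1 (by rw [hScard]; exact hs.out.one_lt))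
  have hyo : orderOf y = s := orderOf_eq_prime (hSexp y hy1.1) hy1.2
  have hSy : Subgroup.zpowers y = (S : Subgroup G) :=
    Subgroup.eq_of_le_of_card_ge (Subgroup.zpowers_le.2 hy1.1) (by rw [Nat.card_zpowers, hyo, hScard])
  have hCy : Subgroup.centralizer ({y} : Set G) = (S : Subgroup G) := by
    refine S.3 (IsPGroup.iff_orderOf.2 fun g => ?_) ?_
    · rcases hpp (g : G) with ⟨i, hi⟩ | ⟨i, hi⟩
      · rcases i.eq_zero_or_pos with rfl | hi0
        · exact ⟨0, by rw [← Subgroup.orderOf_coe]; simpa using hi⟩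
        · exfalso
          have hc : Commute (g : G) y := Subgroup.mem_centralizer_singleton_iff.1 g.2
          refine hmix ((g : G) * y) ?_
          rw [hc.orderOf_mul_eq_mul_orderOf_of_coprime
            (by rw [hi, hyo]; exact ((Nat.coprime_primes hr.out hs.out).2 hrs).pow_left i), hi, hyo]
          exact mul_dvd_mul_right (dvd_pow_self r hi0.ne') s
      · exact ⟨i, by rw [← Subgroup.orderOf_coe]; exact hi⟩
    · intro g hg
      rw [← hSy] at hg
      obtain ⟨i, rfl⟩ := hg
      exact Subgroup.mem_centralizer_singleton_iff.2 ((Commute.refl y).zpow_left i).eq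
  set N := Subgroup.normalizer ((S : Subgroup G) : Set G) with hN
  set W := Nat.card (Sylow s G) with hW
  have hSN : (S : Subgroup G) ≤ N := Subgroup.le_normalizer
  set t := (S : Subgroup G).relIndex N with ht
  have hNcard : Nat.card N = s * t := by
    rw [ht, Subgroup.relIndex, ← Subgroup.card_mul_index ((S : Subgroup G).subgroupOf N),
      Nat.card_congr (Subgroup.subgroupOfEquivOfLe hSN).toEquiv, hScard]
  have hG : Nat.card G = W * (s * t) := by
    rw [← hNcard, hW, S.card_eq_index_normalizer, mul_comm]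
    exact (Subgroup.card_mul_index N).symm
  have hts : t ≤ s - 1 := by
    have := Fintype.ofFinite G
    have h1 : (Finset.univ.filter fun g : G => g ∈ N).card ≤
        s * ((Finset.univ.filter fun g : G => g ∈ N).image fun g => g * y * g⁻¹).card := by
      refine Finset.card_le_mul_card_image _ s fun z hz => ?_
      obtain ⟨g₀, hg₀, rfl⟩ := Finset.mem_image.1 hz
      calc _ ≤ (Finset.univ.filter fun g : G => g ∈ (S : Subgroup G)).card := by
            refine Finset.card_le_card_of_injOn (fun g => g₀⁻¹ * g) (fun g hg => ?_)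
              (fun g _ g' _ h => mul_left_cancel h)
            simp only [Finset.coe_filter, Finset.mem_filter, Finset.mem_univ, true_and, Set.mem_setOf_eq] at hg ⊢
            rw [← hCy, Subgroup.mem_centralizer_singleton_iff]
            have := hg.2
            calc g₀⁻¹ * g * y = g₀⁻¹ * (g * y * g⁻¹) * g := by group
              _ = y * (g₀⁻¹ * g) := by rw [this]; group
        _ = s := by rw [← Fintype.card_subtype, ← Nat.card_eq_fintype_card]; exact hScard
    have h2 : ((Finset.univ.filter fun g : G => g ∈ N).image fun g => g * y * g⁻¹).card ≤ s - 1 := by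
      calc _ ≤ ((Finset.univ.filter fun g : G => g ∈ (S : Subgroup G)).erase 1).card := by
            refine Finset.card_le_card fun z hz => ?_
            obtain ⟨g, hg, rfl⟩ := Finset.mem_image.1 hz
            simp only [Finset.mem_filter, Finset.mem_univ, true_and] at hg
            simp only [Finset.mem_erase, Finset.mem_filter, Finset.mem_univ, true_and, ne_eq]
            exact ⟨fun h => hy1.2 (conj_eq_one_iff.1 h), (Subgroup.mem_normalizer_iff.1 hg y).1 hy1.1⟩
        _ = s - 1 := by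
            rw [Finset.card_erase_of_mem (by simp), ← Fintype.card_subtype, ← Nat.card_eq_fintype_card]
            exact congrArg (· - 1) hScard
    have h3 : (Finset.univ.filter fun g : G => g ∈ N).card = s * t := by
      rw [← hNcard, Nat.card_eq_fintype_card, Fintype.card_subtype]
    rw [h3] at h1
    exact (Nat.le_of_mul_le_mul_left h1 hs.out.pos).trans h2
  have hPcard : ∀ P : Sylow s G, Nat.card (P : Subgroup G) = s := fun P => by
    rw [P.card_eq_multiplicity, ← S.card_eq_multiplicity, hScard]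
  have hbW : b = W * (s - 1) := by
    have := Fintype.ofFinite (Sylow s G)
    have h1 : ∀ P : Sylow s G, Nat.card {g : (P : Subgroup G) // g ≠ 1} = s - 1 := fun P => by
      haveI := Fintype.ofFinite (P : Subgroup G)
      rw [Nat.card_eq_fintype_card, Fintype.card_subtype_compl, Fintype.card_subtype_eq,
        ← Nat.card_eq_fintype_card, hPcard P]
    let F : (Σ P : Sylow s G, {g : (P : Subgroup G) // g ≠ 1}) → {g : G // orderOf g = s} := fun t =>
      ⟨(t.2.1 : G), orderOf_eq_prime (by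
        have h := pow_card_eq_one' (x := t.2.1)
        rw [hPcard t.1] at h
        simpa using congrArg Subtype.val h) (fun h => t.2.2 (Subtype.ext h))⟩
    have hgen : ∀ (P : Sylow s G) (g : G), g ∈ (P : Subgroup G) → orderOf g = s →
        (P : Subgroup G) = Subgroup.zpowers g := fun P g hg ho =>
      (Subgroup.eq_of_le_of_card_ge (Subgroup.zpowers_le.2 hg) (by rw [Nat.card_zpowers, ho, hPcard P])).symm
    have hF : Function.Bijective F := by
      refine ⟨fun ⟨P, g⟩ ⟨P', g'⟩ h => ?_, fun ⟨g, hg⟩ => ?_⟩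
      · have h' : (g.1 : G) = g'.1 := congrArg Subtype.val h
        have e : P = P' := Sylow.ext (by
          rw [hgen P g.1 g.1.2 (F ⟨P, g⟩).2, hgen P' g'.1 g'.1.2 (F ⟨P', g'⟩).2, h'])
        subst e
        exact Sigma.ext rfl (heq_of_eq (Subtype.ext (Subtype.ext h')))
      · obtain ⟨P, hP⟩ := (IsPGroup.of_card (G := Subgroup.zpowers g) (n := 1)
          (by rw [Nat.card_zpowers, hg, pow_one])).exists_le_sylow (p := s)
        refine ⟨⟨P, ⟨⟨g, hP (Subgroup.mem_zpowers g)⟩, fun h => ?_⟩⟩, rfl⟩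
        rw [show g = 1 from congrArg Subtype.val h, orderOf_one] at hg
        exact hs.out.one_lt.ne hg
    rw [← hb, cnt, ← Nat.card_congr (Equiv.ofBijective F hF), Nat.card_sigma,
      Finset.sum_congr rfl (fun P _ => h1 P), Finset.sum_const, Finset.card_univ, ← Nat.card_eq_fintype_card,
      smul_eq_mul]
  -- all orders
  set J := (Finset.range (Nat.card G + 1)).filter fun j => 2 ≤ j ∧ cnt G (r ^ j) ≠ 0 with hJ
  have hJb : ∀ j ∈ J, cnt G (r ^ j) = b := by
    intro j hj
    simp only [hJ, Finset.mem_filter] at hj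
    refine (hv _ ?_ hj.2.2).resolve_left fun e => hnra (e ▸ dvd_trans ?_ (totient_dvd_cnt (r ^ j)))
    · calc 2 < r ^ 2 := by have := hr.out.two_le; nlinarith
        _ ≤ r ^ j := Nat.pow_le_pow_right hr.out.pos hj.2.1
    · rw [Nat.totient_prime_pow hr.out (by omega)]
      exact dvd_mul_of_dvd_left (dvd_pow_self r (by omega)) _
  have hmem : ∀ g : G, orderOf g ∈ ({1, r, s} ∪ J.image (r ^ ·) : Finset ℕ) := by
    intro g
    rcases hpp g with ⟨i, hi⟩ | ⟨i, hi⟩
    · by_cases h2 : i ≤ 1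
      · interval_cases i <;> simp [hi]
      · simp only [Finset.mem_union, Finset.mem_image, hJ, Finset.mem_filter, Finset.mem_range]
        refine .inr ⟨i, ⟨?_, by omega, cnt_ne_zero hi⟩, hi.symm⟩
        exact Nat.lt_succ_of_le ((Nat.lt_pow_self hr.out.one_lt).le.trans
          (Nat.le_of_dvd Nat.card_pos (hi ▸ orderOf_dvd_natCard g)))
    · have : i ≤ 1 := by
        by_contra h
        exact cnt_dvd_ne_zero (cnt_ne_zero hi) (pow_dvd_pow s (by omega : 2 ≤ i)) hsq
      interval_cases i <;> simp [hi]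
  have hdisj : Disjoint ({1, r, s} : Finset ℕ) (J.image (r ^ ·)) := by
    rw [Finset.disjoint_left]
    intro m hm hm'
    obtain ⟨j, hj, rfl⟩ := Finset.mem_image.1 hm'
    simp only [hJ, Finset.mem_filter] at hj
    simp only [Finset.mem_insert, Finset.mem_singleton] at hm
    rcases hm with e | e | e
    · exact absurd e (Nat.one_lt_pow (by omega) hr.out.one_lt).ne'
    · exact absurd e (Nat.lt_of_lt_of_le (by nlinarith [hr.out.two_le] : r < r ^ 2)
        (Nat.pow_le_pow_right hr.out.pos hj.2.1)).ne'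
    · exact hrs ((Nat.prime_dvd_prime_iff_eq hr.out hs.out).1 (e ▸ dvd_pow_self r (by omega)))
  have htot := sum_cnt_eq hmem
  rw [Finset.sum_union hdisj, Finset.sum_image (fun i _ j _ h => Nat.pow_right_injective hr.out.two_le h),
    Finset.sum_congr rfl hJb, Finset.sum_const, smul_eq_mul,
    Finset.sum_insert (by simp [hr.out.one_lt.ne, hs.out.one_lt.ne]), Finset.sum_pair hrs, cnt_one, ha, hb, hG,
    hbW] at htot
  have hJ0 : J.card = 0 := by
    obtain ⟨c, hc⟩ := hsa
    have hW1 : (s : ℤ) ∣ (W : ℤ) - 1 := by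
      simpa using (Nat.modEq_iff_dvd.1 (card_sylow_modEq_one s G).symm)
    obtain ⟨d, hd⟩ := hW1
    obtain ⟨s', hs'⟩ : ∃ s', s = s' + 1 := ⟨s - 1, by have := hs.out.two_le; omega⟩
    have hst : s - 1 = s' := by omega
    have htot' : (1 : ℤ) + a + (1 + (J.card : ℤ)) * (W * ((s : ℤ) - 1)) = W * (s * t) := by
      rw [hst] at htot
      rw [show (s : ℤ) - 1 = (s' : ℤ) by omega]
      have := congrArg (fun n : ℕ => (n : ℤ)) htot
      push_cast at this
      linear_combination this
    have hd' : (W : ℤ) = s * d + 1 := by linarith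
    have hdiv : (s : ℤ) ∣ (J.card : ℤ) := ⟨(c : ℤ) + (1 + J.card) * W - (1 + J.card) * d - W * t, by
      rw [hc] at htot'
      push_cast at htot'
      linear_combination -htot' - (1 + (J.card : ℤ)) * hd'⟩
    have hWpos : 0 < W := Nat.card_pos
    have hlt : (1 + (J.card : ℤ)) * ((s : ℤ) - 1) < s * t := by
      have : (1 + (J.card : ℤ)) * ((s : ℤ) - 1) * W < s * t * W := by nlinarith [htot']
      exact lt_of_mul_lt_mul_right this (by positivity)
    have hJs : (J.card : ℤ) < s := by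
      by_contra hge
      have h1 : (t : ℤ) ≤ (s : ℤ) - 1 := by omega
      have h2 : (2 : ℤ) ≤ s := by exact_mod_cast hs.out.two_le
      nlinarith
    exact Nat.eq_zero_of_dvd_of_lt (Int.natCast_dvd_natCast.1 hdiv) (by exact_mod_cast hJs)
  have hrexp : ∀ g : G, (∃ i, orderOf g = r ^ i) → g ^ r = 1 := by
    rintro g ⟨i, hi⟩
    refine orderOf_dvd_iff_pow_eq_one.1 (hi ▸ ?_)
    have : i ≤ 1 := by
      by_contra h
      refine Finset.notMem_empty i ((Finset.card_eq_zero.1 hJ0) ▸ ?_)
      simp only [hJ, Finset.mem_filter, Finset.mem_range]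
      exact ⟨Nat.lt_succ_of_le ((Nat.lt_pow_self hr.out.one_lt).le.trans
        (Nat.le_of_dvd Nat.card_pos (hi ▸ orderOf_dvd_natCard g))), by omega, cnt_ne_zero hi⟩
    exact (pow_dvd_pow r this).trans (pow_one r).dvd
  have hSnorm : N = (S : Subgroup G) := by
    by_contra hne
    have ht1 : t ≠ 1 := fun h => hne (le_antisymm (Subgroup.relIndex_eq_one.1 h) hSN)
    obtain ⟨ℓ, hℓ, hℓt⟩ := Nat.exists_prime_and_dvd ht1
    have ht0 : t ≠ 0 := fun h => by rw [h, mul_zero] at hNcard; exact Nat.card_pos.ne' hNcard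
    have hℓN : ℓ ∣ Nat.card N := hNcard ▸ dvd_mul_of_dvd_right hℓt s
    have hℓr : ℓ = r := by
      rcases hfac ℓ hℓ (hℓN.trans (Subgroup.card_subgroup_dvd_card N)) with h | h
      · exact h
      · have := Nat.le_of_dvd (Nat.pos_of_ne_zero ht0) (h ▸ hℓt)
        omega
    subst hℓr
    haveI := Fact.mk hℓ
    obtain ⟨⟨x, hxN⟩, hxo⟩ := exists_prime_orderOf_dvd_card' (G := N) ℓ hℓN
    rw [Subgroup.orderOf_mk] at hxo
    letI : CommGroup A := { (inferInstance : Group A) with mul_comm := fun u v => Subtype.ext (hAc _ u.2 _ v.2) }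
    have hux : ∀ u ∈ (S : Subgroup G), (u * x) ^ ℓ = 1 := by
      intro u hu
      refine hrexp _ ((hpp _).resolve_right ?_)
      rintro ⟨i, hi⟩
      have hle : Subgroup.zpowers (u * x) ≤ N := Subgroup.zpowers_le.2 (mul_mem (hSN hu) hxN)
      have hp : IsPGroup s ↥(Subgroup.zpowers (u * x) ⊔ (S : Subgroup G)) :=
        (IsPGroup.of_card (n := i) (by rw [Nat.card_zpowers, hi])).to_sup_of_normal_right' S.2 hle
      have hin : u * x ∈ (S : Subgroup G) :=
        S.3 hp le_sup_right ▸ Subgroup.mem_sup_left (Subgroup.mem_zpowers _)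
      have hxS : x ∈ (S : Subgroup G) := (Subgroup.mul_mem_cancel_left _ hu).1 hin
      have := Subgroup.orderOf_dvd_natCard _ hxS
      rw [hxo, hScard, Nat.prime_dvd_prime_iff_eq hℓ hs.out] at this
      exact hrs this
    have h1 : ∀ u ∈ (S : Subgroup G), ∀ v : A,
        ∏ j ∈ Finset.range ℓ, (MulAut.conjNormal : G →* MulAut A) ((u * x) ^ j) v = 1 := by
      intro u hu v
      have hv' : ((v : G) * (u * x)) ^ ℓ = 1 := by
        refine hrexp _ ?_
        have hp : IsPGroup ℓ ↥(A ⊔ Subgroup.zpowers (u * x)) := by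
          refine IsPGroup.to_sup_of_normal_left (fun w => ⟨1, ?_⟩) fun w => ⟨1, ?_⟩
          · rw [pow_one]; exact Subtype.ext (hAr _ w.2)
          · obtain ⟨k, hk⟩ := w.2
            rw [pow_one]
            apply Subtype.ext
            show (w : G) ^ ℓ = 1
            rw [← hk, ← zpow_natCast, ← zpow_mul, mul_comm, zpow_mul, zpow_natCast, hux u hu, one_zpow]
        obtain ⟨i, hi⟩ := IsPGroup.iff_orderOf.1 hp
          ⟨(v : G) * (u * x), mul_mem (Subgroup.mem_sup_left v.2) (Subgroup.mem_sup_right (Subgroup.mem_zpowers _))⟩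
        exact ⟨i, by rwa [Subgroup.orderOf_mk] at hi⟩
      have := mul_pow_eq_prod v (u * x) ℓ
      rw [hv', hux u hu, mul_one] at this
      apply Subtype.ext
      rw [Subgroup.coe_one, this, show (∏ j ∈ Finset.range ℓ, (MulAut.conjNormal : G →* MulAut A) ((u * x) ^ j) v) =
        ((List.range ℓ).map fun j => (MulAut.conjNormal : G →* MulAut A) ((u * x) ^ j) v).prod from rfl,
        Subgroup.val_list_prod, List.map_map]
      rfl
    obtain ⟨w, hw, hw1⟩ := (Subgroup.nontrivial_iff_exists_ne_one A).1 ((Subgroup.nontrivial_iff_ne_bot A).2 hA)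
    have := averaging (MulAut.conjNormal : G →* MulAut A) (S : Subgroup G) (fun v hv => by
      have h' := congrArg Subtype.val (hv y hy1.1)
      rw [MulAut.conjNormal_apply] at h'
      have hm : (v : G) ∈ A ⊓ Subgroup.centralizer {y} :=
        Subgroup.mem_inf.2 ⟨v.2, Subgroup.mem_centralizer_singleton_iff.2 (mul_inv_eq_iff_eq_mul.1 h').symm⟩
      rw [hfpf y hy1.1 hy1.2, Subgroup.mem_bot] at hm
      exact Subtype.ext hm) hxN hux h1 ⟨w, hw⟩
    rw [hScard] at this
    have hws : orderOf w ∣ s := orderOf_dvd_of_pow_eq_one (by simpa using congrArg Subtype.val this)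
    rw [orderOf_eq_prime (hAr w hw) hw1, Nat.prime_dvd_prime_iff_eq hℓ hs.out] at hws
    exact hrs hws
  refine ⟨fun p _ P hpG => ?_, (S : Subgroup G), ⟨fun h => ?_, fun h => ?_, fun g hg => ?_⟩, by rw [hScard]; exact hs.out⟩
  · have hp := (Fact.out : p.Prime)
    haveI : Nontrivial (P : Subgroup G) := (Subgroup.nontrivial_iff_ne_bot _).2 (P.ne_bot_of_dvd_card hpG)
    refine ((Nat.dvd_prime hp).1 (Monoid.exponent_dvd_iff_forall_pow_eq_one.2 fun g => ?_)).resolve_left
      fun h => not_subsingleton _ (Monoid.exp_eq_one_iff.1 h)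
    obtain ⟨i, hi⟩ := IsPGroup.iff_orderOf.1 P.2 g
    rw [← Subgroup.orderOf_coe] at hi
    apply Subtype.ext
    show (g : G) ^ p = 1
    rcases hfac p hp hpG with rfl | rfl
    · exact hrexp _ ⟨i, hi⟩
    · have : i ≤ 1 := by
        by_contra h
        exact cnt_dvd_ne_zero (cnt_ne_zero hi) (pow_dvd_pow p (by omega : 2 ≤ i)) hsq
      exact orderOf_dvd_iff_pow_eq_one.1 (hi ▸ (pow_dvd_pow p this).trans (pow_one p).dvd)
  · rw [h, Subgroup.card_bot] at hScard
    exact hs.out.one_lt.ne hScard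
  · have : r ∣ s := by rw [← hScard, h, Subgroup.card_top]; exact hrG
    exact hrs ((Nat.prime_dvd_prime_iff_eq hr.out hs.out).1 this)
  · by_contra hne
    have hd : Nat.card ↥((S : Subgroup G) ⊓ MulAut.conj g • (S : Subgroup G)) ∣ s :=
      (Subgroup.card_dvd_of_le (inf_le_left (a := (S : Subgroup G)) (b := MulAut.conj g • (S : Subgroup G)))).trans hScard.dvd
    rcases (Nat.dvd_prime hs.out).1 hd with h | h
    · exact hne (Subgroup.eq_bot_of_card_eq _ h)
    · have e : (S : Subgroup G) ≤ MulAut.conj g • (S : Subgroup G) :=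
        (Subgroup.eq_of_le_of_card_ge inf_le_left (le_of_eq (hScard.trans h.symm))).ge.trans inf_le_right
      refine hg (hSnorm ▸ ?_)
      rw [hN, Subgroup.mem_normalizer_iff]
      have e' : MulAut.conj g • (S : Subgroup G) = (S : Subgroup G) :=
        (Subgroup.eq_of_le_of_card_ge e (by
          rw [Subgroup.pointwise_smul_def]
          exact (Subgroup.card_map_of_injective (MulAut.conj g).injective).le)).symm
      intro h'
      conv_rhs => rw [← e']
      exact (Subgroup.smul_mem_pointwise_smul_iff (a := MulAut.conj g) (S := (S : Subgroup G)) (x := h')).symm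

theorem three_values_odd (hodd : Odd (Nat.card G))
    (h : (((fun m : ℕ => cnt G m) '' Set.range (orderOf : G → ℕ))).ncard = 3) :
    (Nat.card G).primeFactors.card ≤ 2 ∧
      ((Nat.card G).primeFactors.card = 2 →
        (∀ (p : ℕ) [Fact p.Prime] (P : Sylow p G), p ∣ Nat.card G → Monoid.exponent ↥(P : Subgroup G) = p) ∧
        ∃ C : Subgroup G, Cfsg.IsFrobeniusComplement C ∧ (Nat.card ↥C).Prime) := by
  classical
  refine ⟨card_primeFactors_le hodd h, fun h2 => ?_⟩
  obtain ⟨p, q, hpq, hfac⟩ := Finset.card_eq_two.1 h2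
  obtain ⟨x, y, hv⟩ := twoVals_of_odd hodd h
  have hp := Nat.mem_primeFactors.1 (hfac ▸ Finset.mem_insert_self p {q})
  have hq := Nat.mem_primeFactors.1 (hfac ▸ Finset.mem_insert_of_mem (Finset.mem_singleton_self q))
  haveI : Nontrivial G := Finite.one_lt_card_iff_nontrivial.1
    (hp.1.one_lt.trans_le (Nat.le_of_dvd Nat.card_pos hp.2.1))
  haveI := CfsgLib.Solvable.isSolvable_of_primeFactors_card_le_two h2.le
  obtain ⟨A, hAn, hA, hAc⟩ := exists_normal_abelian (G := G)
  obtain ⟨r, hr, hrA⟩ := Nat.exists_prime_and_dvd fun h => hA (Subgroup.card_eq_one.1 h)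
  haveI := Fact.mk hr
  have hrG := hrA.trans (Subgroup.card_subgroup_dvd_card A)
  have hrpq : r = p ∨ r = q := by
    simpa [hfac] using Nat.mem_primeFactors.2 ⟨hr, hrG, Nat.card_pos.ne'⟩
  obtain ⟨s, hs, hsG, hrs, hfac'⟩ : ∃ s, s.Prime ∧ s ∣ Nat.card G ∧ r ≠ s ∧
      ∀ t : ℕ, t.Prime → t ∣ Nat.card G → t = r ∨ t = s := by
    have hall : ∀ t : ℕ, t.Prime → t ∣ Nat.card G → t = p ∨ t = q := fun t ht htG => by
      simpa [hfac] using Nat.mem_primeFactors.2 ⟨ht, htG, Nat.card_pos.ne'⟩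
    rcases hrpq with rfl | rfl
    · exact ⟨q, hq.1, hq.2.1, hpq, hall⟩
    · exact ⟨p, hp.1, hp.2.1, hpq.symm, fun t ht htG => (hall t ht htG).symm⟩
  haveI := Fact.mk hs
  let A₀ : Subgroup G :=
    { carrier := {v | v ∈ A ∧ v ^ r = 1}
      one_mem' := ⟨one_mem _, one_pow _⟩
      mul_mem' := fun {u v} hu hv => ⟨mul_mem hu.1 hv.1, by
        rw [Commute.mul_pow (hAc _ hu.1 _ hv.1), hu.2, hv.2, one_mul]⟩
      inv_mem' := fun {u} hu => ⟨inv_mem hu.1, by rw [inv_pow, hu.2, inv_one]⟩ }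
  haveI : A₀.Normal := ⟨fun v hv g => ⟨hAn.conj_mem v hv.1 g, by
    rw [← MulAut.conj_apply, ← map_pow, hv.2, map_one]⟩⟩
  have hA₀ : A₀ ≠ ⊥ := by
    obtain ⟨v, hv⟩ := exists_prime_orderOf_dvd_card' (G := A) r hrA
    intro h
    have hmem : (v : G) ∈ A₀ := ⟨v.2, by
      have := pow_orderOf_eq_one (v : G)
      rwa [Subgroup.orderOf_coe, hv] at this⟩
    rw [h, Subgroup.mem_bot] at hmem
    rw [show v = 1 from Subtype.ext hmem, orderOf_one] at hv
    exact hr.one_lt.ne hv
  have val : ∀ {p : ℕ}, p.Prime → p ∣ Nat.card G → cnt G p = x ∨ cnt G p = y := fun hp hpG =>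
    hv _ (lt_of_le_of_ne hp.two_le (ne_two_of_odd hodd hpG).symm) (cnt_ne_zero_of_prime hp hpG)
  have fin : ∀ {a b : ℕ}, TwoVals G a b → cnt G r = a → cnt G s = b → _ := fun {a b} hv ha hb =>
    two_primes_structure hrs hodd hv (fun e => no_same_value hodd hv hr hs hrs hrG hsG ha (hb.trans e.symm))
      hfac' hrG hsG ha hb A₀ hA₀ (fun u hu v hv => hAc u hu.1 v hv.1) (fun u hu => hu.2)
  rcases val hr hrG with a1 | a1 <;> rcases val hs hsG with a2 | a2
  · exact (no_same_value hodd hv hr hs hrs hrG hsG a1 a2).elim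
  · exact fin hv a1 a2
  · exact fin hv.symm a1 a2
  · exact (no_same_value hodd hv.symm hr hs hrs hrG hsG a1 a2).elim

end CfsgLib.FGS.Counts
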