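import Mathlib

/-!
# Covering the `p`-elements by proper subgroups

A group generated by its `p`-elements is not covered, as far as `p`-elements go, by `p` proper
subgroups: the maximal proper subgroups generated by `p`-elements would form an invariant family of
at most `p` members, each fixed by every Sylow subgroup.
-/

set_option autoImplicit false

namespace CfsgLib.FGS.CoverPElements

open Subgroup
open scoped Pointwise

universe u v

/-- The elements of `p`-power order. -/
def pEls (p : ℕ) (G : Type u) [Group G] : Set G := {g : G | ∃ k : ℕ, orderOf g = p ^ k}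

theorem map_pEls {p : ℕ} {G H : Type u} [Group G] [Group H] (f : G →* H)
    (hf : Function.Injective f) {g : G} : f g ∈ pEls p H ↔ g ∈ pEls p G := by
  simp only [pEls, Set.mem_ofPred_eq, orderOf_injective f hf]

theorem card_cover_gt {p : ℕ} [hp : Fact p.Prime] : ∀ (n : ℕ) {G : Type u} [Group G] [Finite G],
    Nat.card G = n → closure (pEls p G) = ⊤ → ∀ {ι : Type v} [Fintype ι] (K : ι → Subgroup G),
    (∀ i, K i ≠ ⊤) → (∀ g ∈ pEls p G, ∃ i, g ∈ K i) → p < Fintype.card ι := by
  intro n
  induction n using Nat.strong_induction_on with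
  | _ n ih =>
  intro G _ _ hn hgen ι _ K hK hcov
  subst hn
  classical
  by_contra hle
  push Not at hle
  -- every proper subgroup generated by `p`-elements lies in a member
  have hsub : ∀ H : Subgroup G, H ≠ ⊤ → H = closure (pEls p G ∩ H) → ∃ i, H ≤ K i := by
    intro H hH hHgen
    by_contra hno
    push Not at hno
    refine absurd hle (not_le.mpr (ih _ (lt_of_le_of_ne (card_le_card_group H)
      fun e => hH (eq_top_of_card_eq H e)) rfl ?_ (fun i => (K i).subgroupOf H)
      (fun i e => hno i (subgroupOf_eq_top.mp e)) fun g hg => hcov _ ((map_pEls H.subtype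
        H.subtype_injective).mpr hg)))
    refine map_injective H.subtype_injective ?_
    rw [MonoidHom.map_closure, ← MonoidHom.range_eq_map, range_subtype]
    conv_rhs => rw [hHgen]
    congr 1
    ext x
    constructor
    · rintro ⟨y, hy, rfl⟩
      exact ⟨(map_pEls H.subtype H.subtype_injective).mpr hy, y.2⟩
    · rintro ⟨hx, hxH⟩
      exact ⟨⟨x, hxH⟩, (map_pEls H.subtype H.subtype_injective).mp hx, rfl⟩
  let P0 : Sylow p G := default
  have hpel : ∀ P : Sylow p G, ∀ x ∈ (P : Subgroup G), x ∈ pEls p G := fun P x hx => by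
    obtain ⟨k, hk⟩ := IsPGroup.iff_orderOf.mp P.isPGroup' ⟨x, hx⟩
    exact ⟨k, by rw [← hk, orderOf_mk]⟩
  by_cases htop : (P0 : Subgroup G) = ⊤
  · -- a `p`-group is not covered by `p` proper subgroups
    have := Fintype.ofFinite G
    have hsum : ∀ i, ((Finset.univ.filter fun g => g ∈ K i).erase 1).card + 1 ≤ Nat.card G / p := by
      intro i
      rw [Finset.card_erase_add_one (by simp [one_mem]), ← Fintype.card_subtype,
        ← Nat.card_eq_fintype_card, Nat.le_div_iff_mul_le hp.out.pos]
      show Nat.card (K i) * p ≤ _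
      rw [← card_mul_index (K i)]
      refine Nat.mul_le_mul le_rfl (Nat.le_of_dvd (Nat.pos_of_ne_zero index_ne_zero_of_finite) ?_)
      obtain ⟨a, ha⟩ := P0.isPGroup'.exists_card_eq
      rw [htop, card_top] at ha
      obtain ⟨j, -, hj⟩ := (Nat.dvd_prime_pow hp.out).mp (ha ▸ index_dvd_card (K i))
      rcases Nat.eq_zero_or_pos j with rfl | hj0
      · exact absurd (index_eq_one.mp (by simpa using hj)) (hK i)
      · exact hj ▸ dvd_pow_self p hj0.ne'
    have hcover : (Finset.univ : Finset G).erase 1 ⊆
        Finset.univ.biUnion fun i => (Finset.univ.filter fun g => g ∈ K i).erase 1 := fun g hg => by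
      obtain ⟨i, hi⟩ := hcov g (hpel P0 g (htop ▸ mem_top g))
      simp only [Finset.mem_biUnion, Finset.mem_univ, true_and]
      exact ⟨i, Finset.mem_erase.mpr ⟨(Finset.mem_erase.mp hg).1, by simp [hi]⟩⟩
    have h1 := (Finset.card_le_card hcover).trans Finset.card_biUnion_le
    have h2 : (∑ i, ((Finset.univ.filter fun g => g ∈ K i).erase 1).card) + Fintype.card ι ≤
        Fintype.card ι * (Nat.card G / p) := by
      have h3 := Finset.sum_le_sum (s := Finset.univ) fun i (_ : i ∈ Finset.univ) => hsum i
      rw [Finset.sum_add_distrib, Finset.sum_const, Finset.sum_const, Finset.card_univ,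
        smul_eq_mul, smul_eq_mul, mul_one] at h3
      exact h3
    rw [Finset.card_erase_of_mem (Finset.mem_univ _), Finset.card_univ, ← Nat.card_eq_fintype_card]
      at h1
    have h4 : Fintype.card ι * (Nat.card G / p) ≤ Nat.card G :=
      (Nat.mul_le_mul hle le_rfl).trans (Nat.mul_div_le _ _)
    obtain ⟨i, -⟩ := hcov 1 (show ∃ k : ℕ, orderOf (1 : G) = p ^ k from ⟨0, by rw [orderOf_one, pow_zero]⟩)
    have h5 : 1 < Fintype.card ι := by
      by_contra h
      push Not at h
      have : Subsingleton ι := Fintype.card_le_one_iff_subsingleton.mp h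
      refine hK i (eq_top_iff.mpr (hgen.ge.trans ((Subgroup.closure_le _).mpr fun g hg => ?_)))
      obtain ⟨j, hj⟩ := hcov g hg
      exact Subsingleton.elim j i ▸ hj
    omega
  -- the subgroups generated by the `p`-elements of the members
  set L : ι → Subgroup G := fun i => closure (pEls p G ∩ K i) with hL
  have hLK : ∀ i, L i ≤ K i := fun i => (Subgroup.closure_le _).mpr Set.inter_subset_right
  have hinto : ∀ H : Subgroup G, H ≠ ⊤ → H = closure (pEls p G ∩ H) → ∃ i, H ≤ L i := by
    intro H hH hHgen
    obtain ⟨i, hi⟩ := hsub H hH hHgen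
    exact ⟨i, hHgen.le.trans (closure_mono (Set.inter_subset_inter_right _ hi))⟩
  obtain ⟨i₀, hi₀⟩ := hinto P0 htop (le_antisymm
    (fun x hx => Subgroup.subset_closure (k := pEls p G ∩ (P0 : Subgroup G)) ⟨hpel P0 x hx, hx⟩)
    ((Subgroup.closure_le _).mpr Set.inter_subset_right))
  obtain ⟨i, hiP, himax⟩ := Set.exists_max_image {i | (P0 : Subgroup G) ≤ L i}
    (fun i => Nat.card (L i)) (Set.toFinite _) ⟨i₀, hi₀⟩
  -- every conjugate of `L i` is some `L j`
  have hconj : ∀ g : G, ∃ j, MulAut.conj g • L i = L j := by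
    have hgenconj : ∀ (g : G) (j : ι), MulAut.conj g • L j =
        closure (pEls p G ∩ (MulAut.conj g • L j : Subgroup G)) := by
      intro g j
      refine le_antisymm ?_ ((Subgroup.closure_le _).mpr Set.inter_subset_right)
      rintro _ ⟨x, hx, rfl⟩
      induction hx using closure_induction with
      | mem y hy =>
        refine Subgroup.subset_closure
          ⟨(map_pEls (MulAut.conj g).toMonoidHom (MulAut.conj g).injective).mpr hy.1,
            smul_mem_pointwise_smul _ _ _ (Subgroup.subset_closure hy)⟩
      | one => simp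
      | mul a b _ _ ha hb => simpa using mul_mem ha hb
      | inv a _ ha => simpa using inv_mem ha
    have hne : ∀ (g : G) (j : ι), MulAut.conj g • L j ≠ ⊤ := fun g j e =>
      hK j (top_le_iff.mp (le_trans (le_of_eq (eq_top_of_card_eq (L j) (by
        rw [← card_top (G := G), ← e]
        exact Nat.card_congr (equivSMul (MulAut.conj g) (L j)).toEquiv)).symm) (hLK j)))
    intro g
    obtain ⟨j, hj⟩ := hinto _ (hne g i) (hgenconj g i)
    obtain ⟨k, hk⟩ := hinto _ (hne g⁻¹ j) (hgenconj g⁻¹ j)
    have hle2 : L i ≤ MulAut.conj g⁻¹ • L j := by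
      rw [map_inv, subset_pointwise_smul_iff, inv_inv]
      exact hj
    refine ⟨j, eq_of_le_of_card_ge hj ?_⟩
    have hc : ∀ (a : G) (H : Subgroup G), Nat.card (MulAut.conj a • H : Subgroup G) = Nat.card H :=
      fun a H => (Nat.card_congr (equivSMul (MulAut.conj a) H).toEquiv).symm
    rw [hc, ← hc g⁻¹ (L j)]
    exact (card_le_of_le hk).trans (himax k (hiP.trans (hle2.trans hk)))
  -- the conjugacy orbit has at most `p` members
  let X := MulAction.orbit (ConjAct G) (L i)
  have hXmem : ∀ g : G, ConjAct.toConjAct g • L i = MulAut.conj g • L i := fun g => rfl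
  have hXcard : Nat.card X ≤ p := by
    refine le_trans ?_ hle
    rw [← Nat.card_eq_fintype_card]
    have h1 : ∀ x : X, ∃ j, (x : Subgroup G) = L j := by
      rintro ⟨_, g, rfl⟩
      obtain ⟨j, hj⟩ := hconj (ConjAct.ofConjAct g)
      exact ⟨j, hj⟩
    choose f hf using h1
    exact Nat.card_le_card_of_injective f fun a b e => Subtype.ext ((hf a).trans (e ▸ (hf b).symm))
  -- every Sylow subgroup fixes every member
  have hfix : ∀ (P : Sylow p G) (x : G), x ∈ (P : Subgroup G) → ∀ y : X,
      ConjAct.toConjAct x • y = y := by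
    intro P x hx y
    obtain ⟨g, hg⟩ := MulAction.exists_smul_eq G P0 P
    let A : Subgroup (ConjAct G) := (P : Subgroup G).map ConjAct.toConjAct.toMonoidHom
    have hA : IsPGroup p A := P.isPGroup'.map _
    have hxA : ConjAct.toConjAct x ∈ A := mem_map_of_mem _ hx
    let y0 : X := ⟨ConjAct.toConjAct g • L i, g, rfl⟩
    have hy0 : ∀ a : A, a • y0 = y0 := by
      rintro ⟨_, z, hz, rfl⟩
      refine Subtype.ext ?_
      show MulAut.conj z • (MulAut.conj g • L i) = MulAut.conj g • L i
      have hzm : z ∈ MulAut.conj g • L i := by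
        rw [← hg, Sylow.coe_subgroup_smul] at hz
        exact pointwise_smul_le_pointwise_smul_iff.mpr hiP hz
      exact conj_smul_eq_self_of_mem hzm
    obtain ⟨k, hk⟩ := hA.card_orbit y
    rcases Nat.eq_zero_or_pos k with rfl | hk0
    · rw [pow_zero, Nat.card_eq_one_iff_unique] at hk
      have := hk.1
      exact congrArg Subtype.val (Subsingleton.elim
        (⟨(⟨_, hxA⟩ : A) • y, MulAction.mem_orbit y _⟩ : MulAction.orbit A y)
        ⟨y, MulAction.mem_orbit_self y⟩)
    · exfalso
      have hnot : y0 ∉ MulAction.orbit A y := by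
        rintro ⟨a, ha⟩
        have : y = y0 := by
          have := congrArg (a⁻¹ • ·) ha
          simpa [hy0] using this
        rw [this, show MulAction.orbit A y0 = {y0} from Set.eq_singleton_iff_unique_mem.mpr
          ⟨MulAction.mem_orbit_self _, fun z hz => by obtain ⟨b, rfl⟩ := hz; exact hy0 b⟩] at hk
        simp only [Nat.card_eq_fintype_card] at hk
        exact absurd hk (ne_of_lt (Nat.one_lt_pow hk0.ne' hp.out.one_lt))
      have hlt : (MulAction.orbit A y).ncard < (Set.univ : Set X).ncard :=
        Set.ncard_lt_ncard (Set.ssubset_univ_iff.mpr fun e => hnot (e ▸ Set.mem_univ y0))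
      rw [Set.ncard_univ, ← Nat.card_coe_set_eq, hk] at hlt
      exact absurd (Nat.le_self_pow hk0.ne' p) (not_le.mpr (lt_of_lt_of_le hlt hXcard))
  -- so `L i` is normal
  have hnorm : ∀ x : G, MulAut.conj x • L i = L i := by
    intro x
    have hx : x ∈ closure (pEls p G) := hgen ▸ mem_top x
    induction hx using closure_induction with
    | mem y hy =>
      obtain ⟨k, hk⟩ := hy
      obtain ⟨P, hP⟩ := (IsPGroup.of_card (p := p) (n := k) (G := zpowers y)
        (by rw [Nat.card_zpowers, hk])).exists_le_sylow
      exact congrArg Subtype.val (hfix P y (hP (mem_zpowers y)) ⟨L i, MulAction.mem_orbit_self _⟩)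
    | one => simp
    | mul a b _ _ ha hb => rw [map_mul, mul_smul, hb, ha]
    | inv a _ ha => rw [map_inv, inv_smul_eq_iff, ha]
  refine hK i (top_le_iff.mp (le_trans ?_ (hLK i)))
  rw [← hgen, Subgroup.closure_le]
  rintro y ⟨k, hk⟩
  obtain ⟨P, hP⟩ := (IsPGroup.of_card (p := p) (n := k) (G := zpowers y)
    (by rw [Nat.card_zpowers, hk])).exists_le_sylow
  obtain ⟨g, hg⟩ := MulAction.exists_smul_eq G P0 P
  have := hP (mem_zpowers y)
  rw [← hg, Sylow.coe_subgroup_smul] at this
  exact hnorm g ▸ pointwise_smul_le_pointwise_smul_iff.mpr hiP this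

end CfsgLib.FGS.CoverPElements
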