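import Mathlib

/-!
# Schur's theorem on cyclic regular subgroups

A primitive group with a regular cyclic subgroup of non-prime-power order is doubly transitive.
For an orbit `T` of a point stabiliser, `T'` the corresponding subset of the cyclic group and `p`
a prime, `(∑ T')^p = ∑ t^p` in characteristic `p` is invariant under the stabiliser; primitivity
then forces `T'` outside the `p`-torsion to consist of cosets of the subgroup of order `p`.
-/

set_option autoImplicit false

namespace CfsgLib.FGS.CyclicBGroup

open MulAction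

variable {G Ω : Type*} [Group G] [MulAction G Ω] [Finite Ω] {C : Subgroup G}

/-- Invariance of the powers of an invariant subset in the group algebra of the regular
subgroup. -/
theorem coeff_pow_invariant {k : Type*} [CommSemiring k] {a : Ω} (hCc : ∀ x y : C, x * y = y * x)
    (e : C ≃ Ω) (he : ∀ c : C, e c = (c : G) • a) (T : Finset C)
    (hT : ∀ g ∈ stabilizer G a, ∀ t ∈ T, e.symm (g • e t) ∈ T) (m : ℕ) :
    ∀ g ∈ stabilizer G a, ∀ c : C,
      ((∑ t ∈ T, MonoidAlgebra.single t (1 : k)) ^ m : MonoidAlgebra k C).coeff (e.symm (g • e c)) =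
      ((∑ t ∈ T, MonoidAlgebra.single t (1 : k)) ^ m : MonoidAlgebra k C).coeff c := by
  classical
  have : Finite C := Finite.of_equiv Ω e.symm
  have := Fintype.ofFinite C
  induction m with
  | zero =>
    intro g hg c
    have hga : g • a = a := hg
    have h1 : e.symm (g • e c) = 1 ↔ c = 1 := by
      rw [Equiv.symm_apply_eq, he 1, OneMemClass.coe_one, one_smul]
      conv_lhs => rw [← hga]
      rw [smul_left_cancel_iff, he]
      refine ⟨fun h => e.injective ?_, fun h => by rw [h, OneMemClass.coe_one, one_smul]⟩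
      rw [he, he, h, OneMemClass.coe_one, one_smul]
    simp only [pow_zero, MonoidAlgebra.one_def, MonoidAlgebra.coeff_single, Finsupp.single_apply, eq_comm (a := (1 : C))]
    simp only [h1]
  | succ m ih =>
    intro g hg c
    -- coefficient of the product as a sum over the neighbours
    have hstep : ∀ d : C, ((∑ t ∈ T, MonoidAlgebra.single t (1 : k)) ^ (m + 1) : MonoidAlgebra k C).coeff d =
        ∑ x : C, if x⁻¹ * d ∈ T then
          ((∑ t ∈ T, MonoidAlgebra.single t (1 : k)) ^ m : MonoidAlgebra k C).coeff x else 0 := by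
      intro d
      rw [pow_succ, Finset.mul_sum, MonoidAlgebra.coeff_sum, Finsupp.finsetSum_apply, ← Finset.sum_filter]
      refine Finset.sum_nbij' (fun t => d * t⁻¹) (fun x => x⁻¹ * d) ?_ ?_ ?_ ?_ ?_
      · intro t ht
        simpa [mul_assoc] using ht
      · intro x hx
        simpa using hx
      · intro t _
        simp [mul_assoc]
      · intro x _
        show d * (x⁻¹ * d)⁻¹ = x
        group
      · intro t _
        rw [MonoidAlgebra.coeff_mul_single_apply, mul_one]
    rw [hstep, hstep]
    refine (Fintype.sum_equiv (((e.trans (MulAction.toPerm g)).trans e.symm)) _ _ fun x => ?_).symm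
    show _ = if (e.symm (g • e x))⁻¹ * e.symm (g • e c) ∈ T then _ else 0
    rw [show ((e.trans (MulAction.toPerm g)).trans e.symm) x = e.symm (g • e x) from rfl, ih g hg x]
    refine if_congr ?_ rfl rfl
    -- the neighbour relation is invariant
    have key : ∀ h ∈ stabilizer G a, ∀ u v : C, u⁻¹ * v ∈ T →
        (e.symm (h • e u))⁻¹ * e.symm (h • e v) ∈ T := by
      intro h hh u v huv
      set u' := e.symm (h • e u)
      have hu' : (u' : G) • a = h • (u : G) • a := by rw [← he, ← he, Equiv.apply_symm_apply]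
      have hstab : (u' : G)⁻¹ * h * u ∈ stabilizer G a := by
        rw [mem_stabilizer_iff, mul_smul, mul_smul, ← hu', inv_smul_smul]
      have h1 := hT _ hstab _ huv
      convert h1 using 1
      refine e.injective ?_
      rw [Equiv.apply_symm_apply, he (u'⁻¹ * _), he (u⁻¹ * v), Subgroup.coe_mul, Subgroup.coe_mul,
        Subgroup.coe_inv, Subgroup.coe_inv, mul_smul, mul_smul, ← he, Equiv.apply_symm_apply, he,
        mul_smul, mul_smul, ← mul_smul (u : G) _, mul_inv_cancel, one_smul]
    refine ⟨key g hg x c, fun h => ?_⟩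
    have h2 := key g⁻¹ (inv_mem hg) _ _ h
    simpa using h2

variable [Finite G]

/-- An invariant subset generates nothing or everything. -/
theorem closure_eq_bot_or_top (hprim : IsPreprimitive G Ω) [IsPretransitive G Ω] [Nontrivial Ω]
    {a : Ω} (e : C ≃ Ω) (he : ∀ c : C, e c = (c : G) • a) (S : Set C)
    (hS : ∀ g ∈ stabilizer G a, ∀ s ∈ S, e.symm (g • e s) ∈ S) :
    Subgroup.closure S = ⊥ ∨ Subgroup.closure S = ⊤ := by
  set B := Subgroup.closure S
  have hmove : ∀ c ∈ B, ∀ h ∈ stabilizer G a, e.symm (h • e c) ∈ B := by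
    intro c hc
    induction hc using Subgroup.closure_induction_left with
    | one =>
      intro h hh
      rw [he, OneMemClass.coe_one, one_smul, show h • a = a from hh,
        show e.symm a = 1 from e.symm_apply_eq.mpr (by rw [he, OneMemClass.coe_one, one_smul])]
      exact one_mem B
    | mul_left x hx y hy ih =>
      intro h hh
      set d := e.symm (h • e x)
      have hd : (d : G) • a = h • (x : G) • a := by rw [← he, ← he, Equiv.apply_symm_apply]
      have hstab : (d : G)⁻¹ * h * x ∈ stabilizer G a := by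
        rw [mem_stabilizer_iff, mul_smul, mul_smul, ← hd, inv_smul_smul]
      have h1 := ih _ hstab
      have h2 : e.symm (h • e (x * y)) = d * e.symm (((d : G)⁻¹ * h * x) • e y) := by
        rw [Equiv.symm_apply_eq, he, he (d * _), Subgroup.coe_mul, Subgroup.coe_mul, mul_smul,
          mul_smul, ← he y, ← he (e.symm _), Equiv.apply_symm_apply, ← mul_smul, ← mul_smul,
          ← mul_assoc, ← mul_assoc, mul_inv_cancel, one_mul]
      rw [h2]
      exact mul_mem (Subgroup.subset_closure (hS h hh x hx)) h1
    | inv_mul_cancel x hx y hy ih =>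
      intro h hh
      set d := e.symm (h • e (x⁻¹ * y))
      set u := e.symm (h • e (x⁻¹ : C))
      have hu : (u : G) • a = h • ((x⁻¹ : C) : G) • a := by rw [← he, ← he, Equiv.apply_symm_apply]
      have hstab : (u : G)⁻¹ * h * ((x⁻¹ : C) : G) ∈ stabilizer G a := by
        rw [mem_stabilizer_iff, mul_smul, mul_smul, ← hu, inv_smul_smul]
      have huB : u ∈ B := by
        -- `x⁻¹` is a positive power of `x`
        have hpow : ∀ j : ℕ, ∀ g ∈ stabilizer G a, e.symm (g • e (x ^ j)) ∈ B := by
          intro j
          induction j with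
          | zero =>
            intro g hg
            rw [pow_zero, he, OneMemClass.coe_one, one_smul, show g • a = a from hg,
              show e.symm a = 1 from e.symm_apply_eq.mpr (by rw [he, OneMemClass.coe_one, one_smul])]
            exact one_mem B
          | succ j ihj =>
            intro g hg
            set w := e.symm (g • e x)
            have hw : (w : G) • a = g • (x : G) • a := by rw [← he, ← he, Equiv.apply_symm_apply]
            have hst : (w : G)⁻¹ * g * x ∈ stabilizer G a := by
              rw [mem_stabilizer_iff, mul_smul, mul_smul, ← hw, inv_smul_smul]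
            have h2 : e.symm (g • e (x ^ (j + 1))) = w * e.symm (((w : G)⁻¹ * g * x) • e (x ^ j)) := by
              rw [Equiv.symm_apply_eq, pow_succ', he, he (w * _), Subgroup.coe_mul, Subgroup.coe_mul,
                mul_smul, mul_smul, ← he (x ^ j), ← he (e.symm _), Equiv.apply_symm_apply, ← mul_smul,
                ← mul_smul, ← mul_assoc, ← mul_assoc, mul_inv_cancel, one_mul]
            rw [h2]
            exact mul_mem (Subgroup.subset_closure (hS g hg x hx)) (ihj _ hst)
        have : Finite C := Finite.of_injective (fun c : C => (c : G)) Subtype.val_injective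
        obtain ⟨j, hj⟩ := mem_powers_iff_mem_zpowers.mpr (inv_mem (Subgroup.mem_zpowers x))
        have hju := hpow j h hh
        rwa [show x ^ j = x⁻¹ from hj] at hju
      have h2 : d = u * e.symm (((u : G)⁻¹ * h * ((x⁻¹ : C) : G)) • e y) := by
        rw [Equiv.symm_apply_eq, he, he (u * _), Subgroup.coe_mul, Subgroup.coe_mul, mul_smul,
          mul_smul, ← he y, ← he (e.symm _), Equiv.apply_symm_apply, ← mul_smul, ← mul_smul,
          ← mul_assoc, ← mul_assoc, mul_inv_cancel, one_mul]
      rw [h2]
      exact mul_mem huB (ih _ hstab)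
  -- the set of elements moving `a` into `B • a`
  let M : Subgroup G :=
    { carrier := {g | e.symm (g • a) ∈ B}
      one_mem' := by
        show e.symm ((1 : G) • a) ∈ B
        rw [one_smul, show e.symm a = 1 from e.symm_apply_eq.mpr (by rw [he, OneMemClass.coe_one, one_smul])]
        exact one_mem B
      mul_mem' := fun {g h} hg hh => by
        show e.symm ((g * h) • a) ∈ B
        set d := e.symm (g • a) with hd
        set c := e.symm (h • a) with hc
        have hd' : (d : G) • a = g • a := by rw [← he, Equiv.apply_symm_apply]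
        have hc' : (c : G) • a = h • a := by rw [← he, Equiv.apply_symm_apply]
        have hst : (d : G)⁻¹ * g ∈ stabilizer G a := by
          rw [mem_stabilizer_iff, mul_smul, ← hd', inv_smul_smul]
        have h2 : e.symm ((g * h) • a) = d * e.symm (((d : G)⁻¹ * g) • e c) := by
          rw [Equiv.symm_apply_eq, he (d * _), Subgroup.coe_mul, mul_smul, mul_smul,
            ← he (e.symm _), Equiv.apply_symm_apply, he c, hc', mul_smul, smul_inv_smul]
        rw [h2]
        exact mul_mem hg (hmove c hh _ hst)
      inv_mem' := fun {g} hg => by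
        show e.symm (g⁻¹ • a) ∈ B
        set d := e.symm (g • a) with hd
        have hd' : (d : G) • a = g • a := by rw [← he, Equiv.apply_symm_apply]
        have hst : g⁻¹ * d ∈ stabilizer G a := by
          rw [mem_stabilizer_iff, mul_smul, hd', inv_smul_smul]
        have h2 : g⁻¹ • a = (g⁻¹ * d) • e d⁻¹ := by
          rw [he, Subgroup.coe_inv, mul_smul, smul_inv_smul]
        rw [h2]
        exact hmove _ (inv_mem hg) _ hst }
  have hle : stabilizer G a ≤ M := fun g hg => by
    show e.symm (g • a) ∈ B
    rw [show g • a = a from hg,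
      show e.symm a = 1 from e.symm_apply_eq.mpr (by rw [he, OneMemClass.coe_one, one_smul])]
    exact one_mem B
  have hBM : ∀ c : C, c ∈ B ↔ (c : G) ∈ M := fun c => by
    show _ ↔ e.symm ((c : G) • a) ∈ B
    rw [← he, Equiv.symm_apply_apply]
  rcases ((isCoatom_stabilizer_iff_preprimitive (G := G) a).mpr hprim).le_iff.mp hle with h | h
  · right
    exact eq_top_iff.mpr fun c _ => (hBM c).mpr (h ▸ Subgroup.mem_top _)
  · left
    refine eq_bot_iff.mpr fun c hc => ?_
    have h1 : (c : G) • a = a := by
      have := (hBM c).mp hc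
      rwa [h, mem_stabilizer_iff] at this
    exact Subgroup.mem_bot.mpr (e.injective (by rw [he, he, h1, OneMemClass.coe_one, one_smul]))

/-- Schur: a primitive group with a regular cyclic subgroup of composite, non-prime-power order is
doubly transitive. -/
theorem two_transitive [FaithfulSMul G Ω] (hprim : IsPreprimitive G Ω) (hn : 2 ≤ Nat.card Ω)
    (hnp : ¬ IsPrimePow (Nat.card Ω)) (C : Subgroup G) (hcyc : IsCyclic C)
    (hCt : IsPretransitive C Ω) (hCr : ∀ a : Ω, stabilizer C a = ⊥) :
    IsMultiplyPretransitive G Ω 2 := by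
  classical
  have : IsPretransitive G Ω := hprim.toIsPretransitive
  have : Nontrivial Ω := Finite.one_lt_card_iff_nontrivial.mp hn
  obtain ⟨a⟩ : Nonempty Ω := inferInstance
  let e : C ≃ Ω := Equiv.ofBijective (fun c => (c : G) • a) ⟨fun x y h => by
      have h1 : (y⁻¹ * x : C) ∈ stabilizer C a := by
        show ((y⁻¹ * x : C) : G) • a = a
        rw [Subgroup.coe_mul, Subgroup.coe_inv, mul_smul]
        exact inv_smul_eq_iff.mpr h
      rw [hCr, Subgroup.mem_bot, inv_mul_eq_one] at h1
      exact h1.symm, fun v => by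
      obtain ⟨c, hc⟩ := hCt.exists_smul_eq a v
      exact ⟨c, hc⟩⟩
  have he : ∀ c : C, e c = (c : G) • a := fun c => rfl
  have := Fintype.ofFinite C
  have hcard : Nat.card C = Nat.card Ω := Nat.card_congr e
  -- the stabiliser is transitive on the other points
  suffices hone : ∀ x y : C, x ≠ 1 → y ≠ 1 → ∃ g ∈ stabilizer G a, g • e x = e y by
    rw [is_two_pretransitive_iff]
    intro b c d f hbc hdf
    obtain ⟨g₁, hg₁⟩ := exists_smul_eq G b a
    obtain ⟨g₂, hg₂⟩ := exists_smul_eq G d a
    have h1 : e.symm (g₁ • c) ≠ 1 := fun h => hbc (smul_left_cancel g₁ (by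
      rw [Equiv.symm_apply_eq, he, OneMemClass.coe_one, one_smul] at h
      rw [hg₁, h]))
    have h2 : e.symm (g₂ • f) ≠ 1 := fun h => hdf (smul_left_cancel g₂ (by
      rw [Equiv.symm_apply_eq, he, OneMemClass.coe_one, one_smul] at h
      rw [hg₂, h]))
    obtain ⟨g, hg, hgxy⟩ := hone _ _ h1 h2
    rw [Equiv.apply_symm_apply, Equiv.apply_symm_apply] at hgxy
    refine ⟨g₂⁻¹ * (g * g₁), ?_, ?_⟩
    · rw [mul_smul, mul_smul, hg₁, show g • a = a from hg, ← hg₂, inv_smul_smul]
    · rw [mul_smul, mul_smul, hgxy, inv_smul_smul]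
  obtain ⟨z, hz⟩ := hcyc.exists_generator
  have hcomm : ∀ x y : C, x * y = y * x := fun x y => by
    obtain ⟨i, rfl⟩ := Subgroup.mem_zpowers_iff.mp (hz x)
    obtain ⟨j, rfl⟩ := Subgroup.mem_zpowers_iff.mp (hz y)
    rw [← zpow_add, ← zpow_add, add_comm]
  letI : CommGroup C := { (inferInstance : Group C) with mul_comm := hcomm }
  -- orbits of the stabiliser, inside `C`
  let orb : C → Finset C := fun x => Finset.univ.filter fun t => ∃ g ∈ stabilizer G a, g • e x = e t
  have horb : ∀ x, ∀ g ∈ stabilizer G a, ∀ t ∈ orb x, e.symm (g • e t) ∈ orb x := by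
    intro x g hg t ht
    simp only [orb, Finset.mem_filter, Finset.mem_univ, true_and] at ht ⊢
    obtain ⟨h, hh, hht⟩ := ht
    exact ⟨g * h, mul_mem hg hh, by rw [mul_smul, hht, Equiv.apply_symm_apply]⟩
  have hone_notMem : ∀ x : C, x ≠ 1 → (1 : C) ∉ orb x := by
    intro x hx h
    simp only [orb, Finset.mem_filter, Finset.mem_univ, true_and] at h
    obtain ⟨g, hg, hgx⟩ := h
    rw [he, he, OneMemClass.coe_one, one_smul] at hgx
    conv_rhs at hgx => rw [← show g • a = a from hg]
    rw [smul_left_cancel_iff] at hgx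
    exact hx (e.injective (by rw [he, he, hgx, OneMemClass.coe_one, one_smul]))
  -- orbits are unions of cosets of the subgroup of order `p` outside it
  have hcoset : ∀ p : ℕ, p.Prime → p ∣ Nat.card C → ∀ x : C, ∀ t ∈ orb x, t ^ p ≠ 1 →
      ∀ u : C, u ^ p = 1 → t * u ∈ orb x := by
    intro p hp hpn x t ht htp u hu
    have := Fact.mk hp
    have hpow := coeff_pow_invariant (k := ZMod p) (a := a) hcomm e he (orb x) (horb x) p
    have : CharP (MonoidAlgebra (ZMod p) C) p := charP_of_injective_algebraMap
      (algebraMap (ZMod p) (MonoidAlgebra (ZMod p) C)).injective p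
    rw [sum_pow_char] at hpow
    simp only [MonoidAlgebra.single_pow, one_pow] at hpow
    set N : C → ℕ := fun z => ((orb x).filter fun s => s ^ p = z).card
    have hN : ∀ z, (∑ s ∈ orb x, MonoidAlgebra.single (s ^ p) (1 : ZMod p) : MonoidAlgebra (ZMod p) C).coeff z =
        (N z : ZMod p) := by
      intro z
      rw [MonoidAlgebra.coeff_sum, Finsupp.finsetSum_apply]
      simp only [MonoidAlgebra.coeff_single, Finsupp.single_apply, N]
      rw [Finset.sum_boole]
    simp only [hN] at hpow
    set S : Set C := {z | z ≠ 1 ∧ (N z : ZMod p) ≠ 0}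
    have hSS : ∀ g ∈ stabilizer G a, ∀ z ∈ S, e.symm (g • e z) ∈ S := by
      intro g hg z hzS
      refine ⟨fun h => hzS.1 ?_, by rw [hpow g hg z]; exact hzS.2⟩
      rw [Equiv.symm_apply_eq, he, he, OneMemClass.coe_one, one_smul] at h
      conv_rhs at h => rw [← show g • a = a from hg]
      rw [smul_left_cancel_iff] at h
      exact e.injective (by rw [he, he, h, OneMemClass.coe_one, one_smul])
    have hker : Nat.card (powMonoidHom p : C →* C).ker = p := by
      rw [IsCyclic.card_powMonoidHom_ker, Nat.gcd_eq_right hpn]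
    have hSbot : ∀ z ∈ S, False := by
      intro z hzS
      have hrange : Subgroup.closure S ≤ (powMonoidHom p : C →* C).range := by
        rw [Subgroup.closure_le]
        intro w hw
        obtain ⟨s, hs⟩ : ((orb x).filter fun s => s ^ p = w).Nonempty := by
          rw [← Finset.card_ne_zero]
          intro h0
          exact hw.2 (by show ((N w : ℕ) : ZMod p) = 0; simp [N, h0])
        exact ⟨s, (Finset.mem_filter.mp hs).2⟩
      rcases closure_eq_bot_or_top hprim e he S hSS with h | h
      · exact hzS.1 (Subgroup.mem_bot.mp (h ▸ Subgroup.subset_closure hzS))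
      · rw [h, top_le_iff] at hrange
        have h1 := (powMonoidHom p : C →* C).ker.card_mul_index
        rw [hker, Subgroup.index_ker, hrange, Subgroup.card_top] at h1
        have := Nat.card_pos (α := C)
        nlinarith [hp.two_le]
    -- the fibre over `t ^ p` is full
    have h0 : (N (t ^ p) : ZMod p) = 0 := by
      by_contra h
      exact hSbot _ ⟨htp, h⟩
    rw [ZMod.natCast_eq_zero_iff] at h0
    let F : Finset C := Finset.univ.filter fun s => s ^ p = t ^ p
    have hF : F.card = p := by
      rw [← hker, ← Fintype.card_subtype, ← Nat.card_eq_fintype_card]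
      exact Nat.card_congr
        { toFun := fun s => ⟨s.1 * t⁻¹, by
            show (s.1 * t⁻¹) ^ p = 1
            rw [mul_pow, inv_pow, s.2, mul_inv_cancel]⟩
          invFun := fun s => ⟨s.1 * t, by
            rw [mul_pow, show s.1 ^ p = 1 from s.2, one_mul]⟩
          left_inv := fun s => Subtype.ext (inv_mul_cancel_right s.1 t)
          right_inv := fun s => Subtype.ext (mul_inv_cancel_right s.1 t) }
    have hsub : ((orb x).filter fun s => s ^ p = t ^ p) ⊆ F := fun s hs => by
      simp only [F, Finset.mem_filter, Finset.mem_univ, true_and]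
      exact (Finset.mem_filter.mp hs).2
    have hpos : 0 < N (t ^ p) := Finset.card_pos.mpr ⟨t, Finset.mem_filter.mpr ⟨ht, rfl⟩⟩
    have heq := Finset.eq_of_subset_of_card_le hsub (hF.trans_le (Nat.le_of_dvd hpos h0))
    have htu : t * u ∈ F := by
      simp only [F, Finset.mem_filter, Finset.mem_univ, true_and]
      rw [mul_pow, hu, mul_one]
    rw [← heq] at htu
    exact (Finset.mem_filter.mp htu).1
  -- two primes
  obtain ⟨p, hp, hpn⟩ := Nat.exists_prime_and_dvd (n := Nat.card C) (by omega)
  obtain ⟨q, hq, hqn, hqp⟩ : ∃ q, q.Prime ∧ q ∣ Nat.card C ∧ q ≠ p := by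
    by_contra hno
    push Not at hno
    have h1 := Nat.eq_prime_pow_of_unique_prime_dvd (by omega) fun {d} hd hdn => hno d hd hdn
    refine hnp ⟨p, _, hp.prime, Nat.pos_of_ne_zero fun h => ?_, by rw [← hcard]; exact h1.symm⟩
    rw [h, pow_zero] at h1
    omega
  have := Fact.mk hp
  have := Fact.mk hq
  obtain ⟨x₀, hx₀⟩ := exists_prime_orderOf_dvd_card' p hpn
  obtain ⟨y₀, hy₀⟩ := exists_prime_orderOf_dvd_card' q hqn
  have hx₀p : x₀ ^ p = 1 := by rw [← hx₀, pow_orderOf_eq_one]
  have hy₀q : y₀ ^ q = 1 := by rw [← hy₀, pow_orderOf_eq_one]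
  have hy1 : y₀ ≠ 1 := fun h => hq.ne_one (by rw [← hy₀, h, orderOf_one])
  have hpow_ne : ∀ (r s : ℕ), r.Prime → s.Prime → r ≠ s → ∀ u : C, u ≠ 1 → u ^ r = 1 → u ^ s ≠ 1 := by
    intro r s hr hs hrs u hu h1 h2
    refine hu (orderOf_eq_one_iff.mp (Nat.eq_one_of_dvd_coprimes ((Nat.coprime_primes hr hs).mpr hrs)
      (orderOf_dvd_of_pow_eq_one h1) (orderOf_dvd_of_pow_eq_one h2)))
  -- the orbit of `y₀` contains every element of order `p`
  have hP : ∀ x' : C, x' ≠ 1 → x' ^ p = 1 → x' ∈ orb y₀ := by
    intro x' hx' hx'p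
    have hy : y₀ ∈ orb y₀ := by
      simp only [orb, Finset.mem_filter, Finset.mem_univ, true_and]
      exact ⟨1, one_mem _, one_smul _ _⟩
    have h1 := hcoset p hp hpn y₀ y₀ hy (hpow_ne q p hq hp hqp y₀ hy1 hy₀q) x' hx'p
    have h2 := hcoset q hq hqn y₀ (y₀ * x') h1 (by
      rw [mul_pow, hy₀q, one_mul]
      exact hpow_ne p q hp hq (Ne.symm hqp) x' hx' hx'p) y₀⁻¹ (by rw [inv_pow, hy₀q, inv_one])
    rwa [mul_comm y₀ x', mul_inv_cancel_right] at h2
  intro x y hx hy
  suffices hmem : ∀ x : C, x ≠ 1 → x ∈ orb y₀ by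
    have h1 := hmem x hx
    have h2 := hmem y hy
    simp only [orb, Finset.mem_filter, Finset.mem_univ, true_and] at h1 h2
    obtain ⟨g, hg, hgx⟩ := h1
    obtain ⟨h, hh, hhy⟩ := h2
    exact ⟨h * g⁻¹, mul_mem hh (inv_mem hg), by rw [mul_smul, ← hgx, inv_smul_smul, hhy]⟩
  intro x hx
  by_contra hxo
  have hdisj : ∀ t ∈ orb x, t ∉ orb y₀ := by
    intro t ht hty
    simp only [orb, Finset.mem_filter, Finset.mem_univ, true_and] at ht hty hxo
    obtain ⟨g, hg, hgt⟩ := ht
    obtain ⟨h, hh, hht⟩ := hty
    exact hxo ⟨g⁻¹ * h, mul_mem (inv_mem hg) hh, by rw [mul_smul, hht, ← hgt, inv_smul_smul]⟩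
  have hPinv : ∀ t ∈ orb x, t * x₀ ∈ orb x := fun t ht => hcoset p hp hpn x t ht (fun h => by
    refine hdisj t ht (hP t ?_ h)
    rintro rfl
    exact hone_notMem x hx ht) x₀ hx₀p
  -- the setwise stabiliser of the orbit is everything
  let T : Set Ω := e '' (orb x : Set C)
  have hTa : a ∉ T := by
    rintro ⟨t, ht, hta⟩
    have : t = 1 := e.injective (by rw [hta, he, OneMemClass.coe_one, one_smul])
    exact hone_notMem x hx (this ▸ ht)
  let M : Subgroup G :=
    { carrier := {g | ∀ v, v ∈ T ↔ g • v ∈ T}
      one_mem' := fun v => by rw [one_smul]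
      mul_mem' := fun {g h} hg hh v => by rw [hh v, hg (h • v), mul_smul]
      inv_mem' := fun {g} hg v => by rw [hg (g⁻¹ • v), smul_inv_smul] }
  have hle : stabilizer G a ≤ M := by
    intro g hg v
    constructor
    · rintro ⟨t, ht, rfl⟩
      exact ⟨_, horb x g hg t ht, Equiv.apply_symm_apply _ _⟩
    · rintro ⟨t, ht, htv⟩
      refine ⟨_, horb x g⁻¹ (inv_mem hg) t ht, ?_⟩
      rw [Equiv.apply_symm_apply, htv, inv_smul_smul]
  have hx₀M : (x₀ : G) ∈ M := by
    intro v
    have hshift : ∀ t : C, (x₀ : G) • e t = e (t * x₀) := fun t => by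
      rw [he, he, mul_comm t x₀, Subgroup.coe_mul, mul_smul]
    constructor
    · rintro ⟨t, ht, rfl⟩
      exact ⟨_, hPinv t ht, (hshift t).symm⟩
    · rintro ⟨t, ht, htv⟩
      have hiter : ∀ j : ℕ, t * x₀ ^ j ∈ orb x := by
        intro j
        induction j with
        | zero => simpa using ht
        | succ j ihj => rw [pow_succ, ← mul_assoc]; exact hPinv _ ihj
      refine ⟨t * x₀ ^ (p - 1), hiter _, smul_left_cancel (x₀ : G) ?_⟩
      rw [hshift, mul_assoc, ← pow_succ, Nat.sub_add_cancel hp.pos, hx₀p, mul_one, htv]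
  rcases ((isCoatom_stabilizer_iff_preprimitive (G := G) a).mpr hprim).le_iff.mp hle with h | h
  · obtain ⟨g, hg⟩ := exists_smul_eq G (e x) a
    have hxT : e x ∈ T := ⟨x, by
      simp only [orb, Finset.coe_filter, Finset.mem_univ, true_and]
      exact ⟨1, one_mem _, one_smul _ _⟩, rfl⟩
    exact hTa (hg ▸ ((h ▸ Subgroup.mem_top g : g ∈ M) (e x)).mp hxT)
  · rw [h, mem_stabilizer_iff] at hx₀M
    have : x₀ = 1 := e.injective (by rw [he, he, hx₀M, OneMemClass.coe_one, one_smul])
    exact hp.ne_one (by rw [← hx₀, this, orderOf_one])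

end CfsgLib.FGS.CyclicBGroup
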