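import Mathlib
import Cfsg.Agent.Lib.FGS.CountSucc
import Cfsg.Agent.Lib.SmallGroups.Basic
import Cfsg.Agent.Lib.SmallGroups.Perm

/-!
Transitive groups of degree 6, 7 and 13 generated by, or containing, cycles of prime order: they
contain the alternating group, except for a copy of `A₅` in degree 6.
-/

set_option autoImplicit false

namespace CfsgLib.FGS

open MulAction Equiv

variable {β : Type*} [Fintype β] [DecidableEq β]

theorem nonempty_altCongr {γ : Type*} [Fintype γ] [DecidableEq γ] (e : β ≃ γ) :
    Nonempty (alternatingGroup β ≃* alternatingGroup γ) := by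
  have h : (alternatingGroup β).map e.permCongrHom.toMonoidHom = alternatingGroup γ := by
    ext σ
    constructor
    · rintro ⟨τ, hτ, rfl⟩
      rw [Perm.mem_alternatingGroup]
      exact (Perm.sign_permCongr e τ).trans (Perm.mem_alternatingGroup.1 hτ)
    · intro hσ
      refine ⟨e.permCongrHom.symm σ, ?_, e.permCongrHom.apply_symm_apply σ⟩
      rw [SetLike.mem_coe, Perm.mem_alternatingGroup]
      exact (Perm.sign_permCongr e.symm σ).trans (Perm.mem_alternatingGroup.1 hσ)
  exact ⟨(e.permCongrHom.subgroupMap _).trans (MulEquiv.subgroupCongr h)⟩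

theorem le_of_small_index {H : Subgroup (Perm β)} (hd : 5 ≤ Nat.card β) (hH : H ≤ alternatingGroup β)
    (h : ¬ 2 * Nat.card (alternatingGroup β) ∣ (H.relIndex (alternatingGroup β)).factorial) :
    alternatingGroup β ≤ H := by
  haveI := alternatingGroup.isSimpleGroup hd
  have hnc : ¬ IsMulCommutative (alternatingGroup β) := by
    rw [alternatingGroup.isMulCommutative_iff_card_le_three]; omega
  by_contra hne
  exact h (CfsgLib.SmallGroups.two_mul_card_dvd_factorial hnc _
    fun e => hne (Subgroup.subgroupOf_eq_top.1 e))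

omit [Fintype β] [DecidableEq β] in
theorem card_eq_mul_of_transitive [Finite β] (H : Subgroup (Perm β)) [IsPretransitive H β] (a : β) :
    Nat.card H = Nat.card β * Nat.card (stabilizer H a) := by
  rw [← (stabilizer H a).index_mul_card, index_stabilizer_of_transitive]

/-- Transitive even groups of degree six containing elements of orders 3 and 5. -/
theorem degree_six (hβ : Fintype.card β = 6) {H : Subgroup (Perm β)} [IsPretransitive H β]
    (hH : H ≤ alternatingGroup β) {y z : Perm β} (hy : y ∈ H) (hyo : orderOf y = 5) (hz : z ∈ H)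
    (hzo : orderOf z = 3) :
    ∃ d : ℕ, 5 ≤ d ∧ Nonempty (H ≃* alternatingGroup (Fin d)) := by
  haveI : Fact (Nat.Prime 5) := ⟨by norm_num⟩
  have hβ' : Nat.card β = 6 := by rw [Nat.card_eq_fintype_card, hβ]
  haveI : Nontrivial β := Finite.one_lt_card_iff_nontrivial.1 (by omega)
  have hA : Nat.card (alternatingGroup β) = 360 := by
    have h := two_mul_nat_card_alternatingGroup (α := β)
    rw [Nat.card_perm, hβ', show Nat.factorial 6 = 720 from rfl] at h
    omega
  have hyc : y.IsCycle := Perm.isCycle_of_prime_order' (hyo ▸ by norm_num) (by omega)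
  obtain ⟨a, ha⟩ : ∃ a, y a = a := by
    by_contra hno
    push_neg at hno
    have hs : y.support = Finset.univ := Finset.eq_univ_of_forall fun u => Perm.mem_support.2 (hno u)
    have := hyc.orderOf
    rw [hyo, hs, Finset.card_univ, hβ] at this
    omega
  have h6 : 6 ∣ Nat.card H := ⟨_, by rw [card_eq_mul_of_transitive H a, hβ']⟩
  have h5 : 5 ∣ Nat.card H := hyo ▸ Subgroup.orderOf_dvd_natCard H hy
  obtain ⟨j, hj⟩ : 30 ∣ Nat.card H := by
    rw [show (30 : ℕ) = 6 * 5 by rfl]
    exact Nat.Coprime.mul_dvd_of_dvd_of_dvd (by decide) h6 h5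
  have hrel : H.relIndex (alternatingGroup β) * Nat.card H = 360 := by
    rw [Subgroup.relIndex, ← hA, ← Nat.card_congr (Subgroup.subgroupOfEquivOfLe hH).toEquiv]
    exact Subgroup.index_mul_card _
  set k := H.relIndex (alternatingGroup β) with hk
  have hkj : k * j = 12 := by rw [hj] at hrel; nlinarith
  have hj1 : j ≠ 1 := by
    intro hj1
    set P : Subgroup H := Subgroup.zpowers ⟨y, hy⟩
    have hP : Nat.card P = 5 := by rw [Nat.card_zpowers, Subgroup.orderOf_mk, hyo]
    have hstab : Nat.card (stabilizer H a) = 5 := by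
      have := card_eq_mul_of_transitive H a
      rw [hj, hj1, hβ'] at this
      omega
    refine false_of_card_mul_succ (p := 5) (r := 2) (s := 3) (by norm_num) (by norm_num) (by norm_num)
      (by norm_num) (by norm_num) (by norm_num) P hP (by rw [hj, hj1]) fun n hn => ?_
    have hPS : P = stabilizer H a :=
      Subgroup.eq_of_le_of_card_ge (Subgroup.zpowers_le.2 ha) (by rw [hP, hstab])
    rw [hPS, mem_stabilizer_iff]
    obtain ⟨i, hi⟩ := (Subgroup.mem_normalizer_iff.1 hn _).1 (Subgroup.mem_zpowers (⟨y, hy⟩ : H))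
    have h1 : y ^ i * (n : Perm β) = (n : Perm β) * y := by
      rw [show y ^ i = (n : Perm β) * y * (n : Perm β)⁻¹ from congrArg Subtype.val hi,
        inv_mul_cancel_right]
    have h2 : (y ^ i) ((n : Perm β) a) = (n : Perm β) a := by
      rw [← Perm.mul_apply, h1, Perm.mul_apply, ha]
    -- `n a` is a fixed point of `y`
    have hi5 : (y ^ i) ≠ 1 := by
      intro e
      rw [e, one_mul] at h1
      have : y = 1 := mul_left_cancel (a := (n : Perm β)) (by rw [← h1, mul_one])
      rw [this, orderOf_one] at hyo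
      omega
    show (n : Perm β) a = a
    by_contra hne
    have hsupp : (y ^ i).support = y.support := by
      refine le_antisymm (Perm.support_zpow_le y i) fun u hu => ?_
      have hcyc : (y ^ i).IsCycle := by
        refine Perm.isCycle_of_prime_order' ?_ ?_
        · rw [show orderOf (y ^ i) = 5 from orderOf_eq_prime (by
            rw [← zpow_natCast, ← zpow_mul, mul_comm, zpow_mul, zpow_natCast,
              show y ^ 5 = 1 from hyo ▸ pow_orderOf_eq_one y, one_zpow]) hi5]
          norm_num
        · rw [show orderOf (y ^ i) = 5 from orderOf_eq_prime (by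
            rw [← zpow_natCast, ← zpow_mul, mul_comm, zpow_mul, zpow_natCast,
              show y ^ 5 = 1 from hyo ▸ pow_orderOf_eq_one y, one_zpow]) hi5]
          omega
      have e1 := hcyc.orderOf
      have e2 := hyc.orderOf
      rw [show orderOf (y ^ i) = 5 from orderOf_eq_prime (by
            rw [← zpow_natCast, ← zpow_mul, mul_comm, zpow_mul, zpow_natCast,
              show y ^ 5 = 1 from hyo ▸ pow_orderOf_eq_one y, one_zpow]) hi5] at e1
      rw [hyo] at e2
      exact (Finset.eq_of_subset_of_card_le (Perm.support_zpow_le y i) (by omega)).symm.le hu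
    have hb : (n : Perm β) a ∉ y.support := by
      rw [← hsupp, Perm.mem_support]; exact not_not.2 h2
    have hsub : insert a (insert ((n : Perm β) a) y.support) ⊆ Finset.univ := Finset.subset_univ _
    have hc := Finset.card_le_card hsub
    rw [Finset.card_insert_of_notMem, Finset.card_insert_of_notMem hb, Finset.card_univ, hβ,
      ← hyc.orderOf, hyo] at hc
    · omega
    · simp only [Finset.mem_insert, not_or, Perm.mem_support, not_not]
      exact ⟨fun e => hne e.symm, ha⟩
  by_cases hk6 : k = 6
  · -- a subgroup of index six is a copy of `A₅`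
    refine ⟨5, le_rfl, ?_⟩
    set G := alternatingGroup β
    haveI : IsSimpleGroup G := alternatingGroup.isSimpleGroup (α := β) (by omega)
    have hnc : ¬ IsMulCommutative G := by
      rw [alternatingGroup.isMulCommutative_iff_card_le_three]; omega
    set S : Subgroup G := H.subgroupOf G
    have hSi : S.index = 6 := hk6
    haveI : Fintype (G ⧸ S) := Fintype.ofFinite _
    classical
    let q₀ : G ⧸ S := ((1 : G) : G ⧸ S)
    let ψ := MulAction.toPermHom G (G ⧸ S)
    have hψ : Function.Injective ψ := by
      refine CfsgLib.SmallGroups.toPermHom_injective_of_not_trivial ?_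
      by_contra hno
      push_neg at hno
      have : S = ⊤ := eq_top_iff.2 fun g _ => by
        have h := hno g q₀
        rw [MulAction.Quotient.smul_coe, smul_eq_mul, mul_one, QuotientGroup.eq] at h
        simpa using inv_mem h
      rw [this, Subgroup.index_top] at hSi
      omega
    have hfix : ∀ h : S, ψ h q₀ = q₀ := fun h => by
      show (h : G) • q₀ = q₀
      rw [MulAction.Quotient.smul_coe, smul_eq_mul, mul_one, QuotientGroup.eq]
      simp
    have hp : ∀ (h : S) (u : G ⧸ S), ψ h u ≠ q₀ ↔ u ≠ q₀ := fun h u => by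
      conv_lhs => rw [← hfix h]
      exact (ψ h).injective.ne_iff
    let ρ : S →* Perm {u : G ⧸ S // u ≠ q₀} :=
      { toFun := fun h => (ψ h).subtypePerm (hp h)
        map_one' := Equiv.ext fun u => Subtype.ext (by simp)
        map_mul' := fun g h => Equiv.ext fun u => Subtype.ext (congrArg (fun f : Perm (G ⧸ S) => f u) (map_mul ψ (g : G) h)) }
    have hρi : Function.Injective ρ := by
      intro g h e
      refine Subtype.ext (hψ (Equiv.ext fun u => ?_))
      by_cases hu : u = q₀
      · rw [hu, hfix, hfix]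
      · exact congrArg Subtype.val (DFunLike.congr_fun e ⟨u, hu⟩)
    have hρs : ∀ h : S, ρ h ∈ alternatingGroup {u : G ⧸ S // u ≠ q₀} := fun h => by
      rw [Perm.mem_alternatingGroup]
      show Perm.sign ((ψ h).subtypePerm (hp h)) = 1
      refine (Perm.sign_subtypePerm (ψ h) (p := fun u => u ≠ q₀) (hp h) (fun u hu e => hu ?_)).trans ?_
      · rw [e]; exact hfix h
      exact CfsgLib.SmallGroups.sign_eq_one_of_simple hnc ψ h
    have hcard5 : Fintype.card {u : G ⧸ S // u ≠ q₀} = 5 := by
      rw [Fintype.card_subtype_compl, Fintype.card_subtype_eq, ← Nat.card_eq_fintype_card,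
        ← Subgroup.index_eq_card, hSi]
    haveI : Nontrivial {u : G ⧸ S // u ≠ q₀} := Fintype.one_lt_card_iff_nontrivial.1 (by omega)
    have hS60 : Nat.card S = 60 := by
      have h := S.index_mul_card
      rw [hSi, hA] at h
      omega
    have hA5 : Nat.card (alternatingGroup {u : G ⧸ S // u ≠ q₀}) = 60 := by
      have h := two_mul_nat_card_alternatingGroup (α := {u : G ⧸ S // u ≠ q₀})
      rw [Nat.card_perm, Nat.card_eq_fintype_card (α := {u : G ⧸ S // u ≠ q₀}), hcard5,
        show Nat.factorial 5 = 120 from rfl] at h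
      omega
    let ρ' : S →* alternatingGroup {u : G ⧸ S // u ≠ q₀} := ρ.codRestrict _ hρs
    have hbij : Function.Bijective ρ' :=
      Function.Injective.bijective_of_nat_card_le (fun g h e => hρi (congrArg Subtype.val e))
        (by rw [hA5, hS60])
    obtain ⟨e⟩ := nonempty_altCongr ((Fintype.equivFinOfCardEq hcard5))
    exact ⟨((Subgroup.subgroupOfEquivOfLe hH).symm.trans (MulEquiv.ofBijective ρ' hbij)).trans e⟩
  · have hk5 : k ≤ 5 := by
      have hjpos : j ≠ 0 := fun e => by rw [e, mul_zero] at hkj; omega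
      have : 2 ≤ j := by omega
      have : k * 2 ≤ 12 := hkj ▸ Nat.mul_le_mul_left k this
      omega
    have htop : alternatingGroup β ≤ H := le_of_small_index (by omega) hH fun hdvd => by
      have h := Nat.le_of_dvd (Nat.factorial_pos _) hdvd
      have := Nat.factorial_le hk5
      rw [hA] at h
      norm_num [Nat.factorial] at this
      rw [← hk] at h
      omega
    refine ⟨6, by omega, ?_⟩
    obtain ⟨e⟩ := nonempty_altCongr (Fintype.equivFinOfCardEq hβ)
    exact ⟨(MulEquiv.subgroupCongr (le_antisymm hH htop)).trans e⟩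

/-- A `p`-cycle in a transitive group of degree `p + 2`: coordinates. -/
theorem setup_two_more {p : ℕ} [Fact p.Prime] (hβ : Fintype.card β = p + 2) (hprime : (p + 2).Prime)
    {H : Subgroup (Perm β)} [IsPretransitive H β] {x : Perm β} (hx : x ∈ H) (hxo : orderOf x = p)
    (hxs : x.support.card = p) :
    ∃ (a b : β) (e : ZMod p → β), a ≠ b ∧ Function.Injective e ∧ (∀ j, x (e j) = e (j + 1)) ∧
      (∀ u, u = a ∨ u = b ∨ ∃ j, e j = u) ∧ (∀ j, e j ≠ a) ∧ (∀ j, e j ≠ b) ∧ x a = a ∧ x b = b ∧
      IsMultiplyPretransitive H β 3 := by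
  have hp : p.Prime := Fact.out
  have hxc : x.IsCycle := Perm.isCycle_of_prime_order (hxo ▸ hp) (by rw [hxs, hxo]; have := hp.two_le; omega)
  have hcompl : x.supportᶜ.card = 2 := by rw [Finset.card_compl, hxs, hβ]; omega
  obtain ⟨a, b, hab, hS⟩ := Finset.card_eq_two.1 hcompl
  obtain ⟨z₀, hz₀⟩ : x.support.Nonempty := Finset.card_pos.1 (by rw [hxs]; exact hp.pos)
  let e : ZMod p → β := fun j => (x ^ j.val) z₀
  have hmem : ∀ n : ℕ, (x ^ n) z₀ = e (n : ZMod p) := fun n => by
    show _ = (x ^ (n : ZMod p).val) z₀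
    rw [ZMod.val_natCast, ← hxo, pow_mod_orderOf]
  have hex : ∀ j, x (e j) = e (j + 1) := fun j => by
    show x ((x ^ j.val) z₀) = _
    rw [← Perm.mul_apply, ← pow_succ', hmem, Nat.cast_add, ZMod.natCast_zmod_val, Nat.cast_one]
  have hsupp : ∀ u ∈ x.support, ∃ j, e j = u := by
    intro u hu
    obtain ⟨i, hi⟩ := hxc.exists_pow_eq (Perm.mem_support.1 hz₀) (Perm.mem_support.1 hu)
    exact ⟨(i : ZMod p), by rw [← hmem, hi]⟩
  have hesupp : ∀ j, e j ∈ x.support := fun j => Perm.pow_apply_mem_support.2 hz₀
  have hfix : ∀ u, u = a ∨ u = b → x u = u := fun u hu => by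
    have : u ∈ x.supportᶜ := by rw [hS]; rcases hu with rfl | rfl <;> simp
    simpa using this
  refine ⟨a, b, e, hab, ?_, hex, fun u => ?_, fun j hj => ?_, fun j hj => ?_,
    hfix a (Or.inl rfl), hfix b (Or.inr rfl), ?_⟩
  · intro i j hij
    have hinj : Set.InjOn e (Finset.univ : Finset (ZMod p)) := by
      refine Finset.injOn_of_card_image_eq ?_
      have himg : Finset.univ.image e = x.support := by
        refine Finset.Subset.antisymm (fun u hu => ?_) (fun u hu => ?_)
        · obtain ⟨j, -, rfl⟩ := Finset.mem_image.1 hu; exact hesupp j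
        · obtain ⟨j, hj⟩ := hsupp u hu; exact Finset.mem_image.2 ⟨j, Finset.mem_univ j, hj⟩
      rw [himg, hxs, Finset.card_univ, ZMod.card]
    exact hinj (Finset.mem_coe.2 (Finset.mem_univ i)) (Finset.mem_coe.2 (Finset.mem_univ j)) hij
  · by_cases hu : u ∈ x.support
    · exact Or.inr (Or.inr (hsupp u hu))
    · have : u ∈ ({a, b} : Finset β) := by rw [← hS]; simpa using hu
      simp only [Finset.mem_insert, Finset.mem_singleton] at this
      tauto
  · exact Perm.mem_support.1 (hesupp j) (hj ▸ hfix a (Or.inl rfl))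
  · exact Perm.mem_support.1 (hesupp j) (hj ▸ hfix b (Or.inr rfl))
  · classical
    haveI := Equiv.Perm.isPretransitive_of_isCycle_mem hxc hx
    have hprim : MulAction.IsPreprimitive (fixingSubgroup H (x.support : Set β)ᶜ)
        (SubMulAction.ofFixingSubgroup H (x.support : Set β)ᶜ) := by
      apply MulAction.IsPreprimitive.of_prime_card
      convert hp using 1
      rw [Nat.card_eq_fintype_card, Fintype.card_subtype, ← hxs]
      apply congr_arg
      ext u
      simp [SubMulAction.mem_ofFixingSubgroup_iff]
    have hnc : ((x.support : Set β)ᶜ).ncard = 2 := by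
      rw [← Finset.coe_compl, Set.ncard_coe_finset, hcompl]
    have hcard : Nat.card β = p + 2 := by rw [Nat.card_eq_fintype_card, hβ]
    have hGp : IsPreprimitive H β := IsPreprimitive.of_prime_card (hcard ▸ hprime)
    haveI := hGp.isMultiplyPreprimitive (s := (x.support : Set β)ᶜ) (n := 1)
      (by rw [hnc]) (by rw [hcard]; have := hp.two_le; omega) hprim
    exact MulAction.IsMultiplyPreprimitive.isMultiplyPretransitive ..

/-- Degree `p + 2`: the order, and when the two-point stabiliser is not of order `p`. -/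
theorem card_two_more {p : ℕ} [Fact p.Prime] (hβ : Fintype.card β = p + 2)
    {H : Subgroup (Perm β)} (h3 : IsMultiplyPretransitive H β 3) {x : Perm β} (hx : x ∈ H)
    (hxo : orderOf x = p) {a b : β} (hab : a ≠ b) (hxa : x a = a) (hxb : x b = b) :
    Nat.card H = (p + 2) * (p + 1) * Nat.card (fixingSubgroup H ({a, b} : Set β)) ∧
      p ∣ Nat.card (fixingSubgroup H ({a, b} : Set β)) := by
  have hp : p.Prime := Fact.out
  have hcard : Nat.card β = p + 2 := by rw [Nat.card_eq_fintype_card, hβ]
  haveI : IsMultiplyPretransitive H β 3 := h3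
  have h2 : IsMultiplyPretransitive H β 2 :=
    isMultiplyPretransitive_of_le (n := 3) (by omega) (by rw [hcard]; have := hp.two_le; omega)
  constructor
  · have h := IsMultiplyPretransitive.index_of_fixingSubgroup_mul h2 (s := {a, b}) (Set.ncard_pair hab)
    rw [hcard, Nat.add_sub_cancel, Nat.factorial_succ, Nat.factorial_succ, ← mul_assoc] at h
    rw [← (fixingSubgroup H ({a, b} : Set β)).index_mul_card,
      Nat.eq_of_mul_eq_mul_right (Nat.factorial_pos p) h]
  · have hmem : (⟨x, hx⟩ : H) ∈ fixingSubgroup H ({a, b} : Set β) := by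
      rw [mem_fixingSubgroup_iff]
      rintro u (rfl | rfl)
      · exact hxa
      · exact hxb
    have := Subgroup.orderOf_dvd_natCard _ hmem
    rwa [Subgroup.orderOf_mk, hxo] at this

/-- If the stabiliser of two points is cyclic of order `p`, degree `p + 2` is impossible. -/
theorem false_of_two_point_card {p r s : ℕ} [Fact p.Prime] (hr : r.Prime) (hs : s.Prime) (hrs : r ≠ s)
    (hrd : r ∣ p + 1) (hsd : s ∣ p + 1) (hβ : Fintype.card β = p + 2)
    {H : Subgroup (Perm β)} (h3 : IsMultiplyPretransitive H β 3) {x : Perm β} (hx : x ∈ H)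
    (hxo : orderOf x = p) {a b : β} (hab : a ≠ b) (hxa : x a = a) (hxb : x b = b)
    (hfix : ∀ u, x u = u → u = a ∨ u = b)
    (hF : Nat.card (fixingSubgroup H ({a, b} : Set β)) = p) : False := by
  have hp : p.Prime := Fact.out
  have hcard : Nat.card β = p + 2 := by rw [Nat.card_eq_fintype_card, hβ]
  obtain ⟨hH, -⟩ := card_two_more hβ h3 hx hxo hab hxa hxb
  haveI : IsMultiplyPretransitive H β 3 := h3
  have h1 : IsMultiplyPretransitive H β 1 :=
    isMultiplyPretransitive_of_le (n := 3) (by omega) (by rw [hcard]; have := hp.two_le; omega)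
  haveI : IsPretransitive H β := is_one_pretransitive_iff.1 h1
  set K := stabilizer H a
  have hK : Nat.card K = p * (p + 1) := by
    have h := card_eq_mul_of_transitive H a
    rw [hH, hF, hcard, mul_assoc] at h
    rw [mul_comm p]
    exact (Nat.eq_of_mul_eq_mul_left (by omega) h).symm
  have hxK : (⟨x, hx⟩ : H) ∈ K := hxa
  set P : Subgroup K := Subgroup.zpowers ⟨⟨x, hx⟩, hxK⟩
  have hP : Nat.card P = p := by rw [Nat.card_zpowers, Subgroup.orderOf_mk, Subgroup.orderOf_mk, hxo]
  refine false_of_card_mul_succ hp hr hs hrs hrd hsd P hP hK fun n hn => ?_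
  obtain ⟨i, hi⟩ := (Subgroup.mem_normalizer_iff.1 (inv_mem hn) _).1 (Subgroup.mem_zpowers _)
  have hi' : x ^ i = ((n : H) : Perm β)⁻¹ * x * ((n : H) : Perm β) := by
    simpa using congrArg (fun z : K => ((z : H) : Perm β)) hi
  have hxi : (x ^ i) b = b := Perm.zpow_apply_eq_self_of_apply_eq_self hxb i
  rw [hi', Perm.mul_apply, Perm.mul_apply] at hxi
  have hnb : ((n : H) : Perm β) b = b := by
    rcases hfix _ (Perm.inv_eq_iff_eq.1 hxi) with h | h
    · exfalso
      have ha' : ((n : H) : Perm β) a = a := n.2
      exact hab (((n : H) : Perm β).injective (h.trans ha'.symm)).symm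
    · exact h
  have hPle : P.map K.subtype ≤ fixingSubgroup H ({a, b} : Set β) := by
    rw [MonoidHom.map_zpowers, Subgroup.zpowers_le, mem_fixingSubgroup_iff]
    rintro u (rfl | rfl)
    · exact hxa
    · exact hxb
  have hPeq : P.map K.subtype = fixingSubgroup H ({a, b} : Set β) :=
    Subgroup.eq_of_le_of_card_ge hPle (by rw [hF, Subgroup.card_map_of_injective K.subtype_injective, hP])
  have hnF : (n : H) ∈ fixingSubgroup H ({a, b} : Set β) := by
    rw [mem_fixingSubgroup_iff]
    rintro u (rfl | rfl)
    · exact n.2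
    · exact hnb
  rw [← hPeq] at hnF
  obtain ⟨u, hu, hun⟩ := hnF
  exact (Subtype.ext hun : u = n) ▸ hu

/-- Transitive groups of degree 7 with a 5-cycle. -/
theorem degree_seven (hβ : Fintype.card β = 7) {H : Subgroup (Perm β)} [IsPretransitive H β]
    (hH : H ≤ alternatingGroup β) {x : Perm β} (hx : x ∈ H) (hxo : orderOf x = 5) :
    alternatingGroup β ≤ H := by
  haveI : Fact (Nat.Prime 5) := ⟨by norm_num⟩
  have hxc : x.IsCycle := Perm.isCycle_of_prime_order' (hxo ▸ by norm_num) (by omega)
  have hxs : x.support.card = 5 := by rw [← hxc.orderOf, hxo]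
  obtain ⟨a, b, e, hab, heinj, hex, hcov, -, -, hxa, hxb, h3⟩ :=
    setup_two_more (p := 5) hβ (by norm_num) hx hxo hxs
  obtain ⟨hcard, j, hj⟩ := card_two_more hβ h3 hx hxo hab hxa hxb
  have hfix : ∀ u, x u = u → u = a ∨ u = b := fun u hu => by
    rcases hcov u with h | h | ⟨i, rfl⟩
    · exact Or.inl h
    · exact Or.inr h
    · rw [hex] at hu
      exact absurd (add_eq_left.1 (heinj hu)) one_ne_zero
  have hA : Nat.card (alternatingGroup β) = 2520 := by
    haveI : Nontrivial β := Fintype.one_lt_card_iff_nontrivial.1 (by omega)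
    have h := two_mul_nat_card_alternatingGroup (α := β)
    rw [Nat.card_perm, Nat.card_eq_fintype_card (α := β), hβ, show Nat.factorial 7 = 5040 from rfl] at h
    omega
  have hj1 : j ≠ 1 := fun h => false_of_two_point_card (p := 5) (r := 2) (s := 3) (by norm_num)
    (by norm_num) (by norm_num) (by norm_num) (by norm_num) hβ h3 hx hxo hab hxa hxb hfix
    (by rw [hj, h])
  rw [hj] at hcard
  refine le_of_small_index (by rw [Nat.card_eq_fintype_card]; omega) hH fun hdvd => ?_
  have hrel : H.relIndex (alternatingGroup β) * Nat.card H = 2520 := by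
    rw [Subgroup.relIndex, ← hA, ← Nat.card_congr (Subgroup.subgroupOfEquivOfLe hH).toEquiv]
    exact Subgroup.index_mul_card _
  set k := H.relIndex (alternatingGroup β)
  have hk : k * j = 12 := by rw [hcard] at hrel; norm_num at hrel; nlinarith
  have hjpos : j ≠ 0 := fun e => by rw [e, mul_zero] at hk; omega
  have : k * 2 ≤ 12 := hk ▸ Nat.mul_le_mul_left k (show 2 ≤ j by omega)
  have hf := Nat.factorial_le (show k ≤ 6 by omega)
  have h := Nat.le_of_dvd (Nat.factorial_pos _) hdvd
  rw [hA] at h
  norm_num [Nat.factorial] at hf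
  omega

end CfsgLib.FGS
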