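import Mathlib
import Cfsg.Agent.Lib.FGS.SmallDegree
import Cfsg.Agent.S0713

/-!
A transitive even group of degree 13 with an element of order 11 is the alternating group.
-/

set_option autoImplicit false

namespace CfsgLib.FGS

open MulAction Equiv
open scoped Pointwise

theorem fact_prime_eleven : Fact (Nat.Prime 11) := ⟨by norm_num⟩

attribute [local instance] fact_prime_eleven

theorem zmod11_cases : ∀ u : ZMod 11, u ≠ 0 → u ^ 5 = 1 ∨ u ^ 5 = -1 := by decide

theorem zmod11_pow_mem : ∀ c : ZMod 11, c ^ 5 = 1 → c ≠ 1 → ∀ u : ZMod 11, u ^ 5 = 1 →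
    ∃ i : Fin 5, c ^ (i : ℕ) = u := by decide

theorem zmod11_neg_card :
    ((Finset.univ : Finset (ZMod 11)).filter fun v => v ^ 5 = -1).card ≤ 5 := by decide

variable {β : Type*}

theorem coord_pow_apply {x : Perm β} {e : ZMod 11 → β} (hex : ∀ j, x (e j) = e (j + 1)) (n : ℕ) (j : ZMod 11) :
    (x ^ n) (e j) = e (j + (n : ZMod 11)) := by
  induction n generalizing j with
  | zero => simp
  | succ n ih => rw [pow_succ', Perm.mul_apply, ih, hex, Nat.cast_succ, add_assoc]

theorem mul_coord_pow {g : Perm β} {e : ZMod 11 → β} {c : ZMod 11} (hg : ∀ j, g (e j) = e (c * j))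
    (n : ℕ) (j : ZMod 11) : (g ^ n) (e j) = e (c ^ n * j) := by
  induction n with
  | zero => simp
  | succ n ih => rw [pow_succ', Perm.mul_apply, ih, hg, pow_succ', mul_assoc]

/-- Coordinates of an element normalising the cycle. -/
theorem coord_normalizing {x g : Perm β} {e : ZMod 11 → β} (he : Function.Injective e)
    (hex : ∀ j, x (e j) = e (j + 1)) (hfix : ∀ u, x u = u ∨ ∃ j, e j = u) {c : ℕ}
    (hc : g * x * g⁻¹ = x ^ c) :
    ∃ d : ZMod 11, (c : ZMod 11) ≠ 0 ∧ ∀ j, g (e j) = e ((c : ZMod 11) * j + d) := by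
  have hcomm : ∀ n : ℕ, g * x ^ n = x ^ (c * n) * g := fun n => by
    rw [pow_mul, ← hc, conj_pow, inv_mul_cancel_right]
  obtain ⟨d, hd⟩ : ∃ d, g (e 0) = e d := by
    rcases hfix (g (e 0)) with h | ⟨d, hd⟩
    · exfalso
      have h1 : g (x (e 0)) = (x ^ c) (g (e 0)) := by
        have := congrArg (fun f : Perm β => f (e 0)) (hcomm 1)
        simpa [Perm.mul_apply] using this
      rw [Perm.pow_apply_eq_self_of_apply_eq_self h, hex] at h1
      exact absurd (he (g.injective h1)) (by decide)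
    · exact ⟨d, hd.symm⟩
  have hform : ∀ j, g (e j) = e ((c : ZMod 11) * j + d) := by
    intro j
    have h := congrArg (fun f : Perm β => f (e 0)) (hcomm j.val)
    simp only [Perm.mul_apply] at h
    rw [coord_pow_apply hex, zero_add, ZMod.natCast_zmod_val, hd, coord_pow_apply hex,
      Nat.cast_mul, ZMod.natCast_zmod_val, add_comm] at h
    exact h
  refine ⟨d, fun h0 => ?_, hform⟩
  have h : g (e 1) = g (e 0) := by rw [hform, hform, h0, zero_mul, zero_mul]
  exact absurd (he (g.injective h)) (by decide)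

/-- Elements commuting with `l` and permuting `{a, b, e 0}`. -/
theorem comm_coord {g l : Perm β} {e : ZMod 11 → β} {a b : β} (he : Function.Injective e)
    (hcov : ∀ u, u = a ∨ u = b ∨ ∃ j, e j = u) {c : ZMod 11} (hc5 : c ^ 5 = 1) (hc1 : c ≠ 1)
    (hl : ∀ j, l (e j) = e (c * j)) (hcomm : g * l = l * g)
    (hla : l a = a) (hlb : l b = b) :
    ∀ j, j ≠ 0 → ∃ m, m ≠ 0 ∧ g (e j) = e m ∧
      ∀ i : ℕ, g (e (c ^ i * j)) = e (c ^ i * m) := by
  intro j hj
  have hg : ∀ i : ℕ, g ((l ^ i) (e j)) = (l ^ i) (g (e j)) := fun i => by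
    rw [← Perm.mul_apply, ← Perm.mul_apply, (Commute.pow_right (hcomm : Commute g l) i).eq]
  have hmoved : l (g (e j)) ≠ g (e j) := by
    intro h
    have h1 := hg 1
    rw [pow_one, h, hl] at h1
    have h2 := he (g.injective h1)
    exact hc1 ((mul_eq_right₀ hj).1 h2)
  rcases hcov (g (e j)) with h | h | ⟨m, hm⟩
  · exact absurd (by rw [h]; exact hla) hmoved
  · exact absurd (by rw [h]; exact hlb) hmoved
  · refine ⟨m, fun h0 => hmoved (by rw [← hm, hl, h0, mul_zero]), hm.symm, fun i => ?_⟩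
    have h := hg i
    rwa [mul_coord_pow hl, ← hm, mul_coord_pow hl] at h

/-- Elements commuting with `l`: the two `l`-orbits. -/
theorem comm_pow_ten {g l : Perm β} {e : ZMod 11 → β} {a b : β} (he : Function.Injective e)
    (hcov : ∀ u, u = a ∨ u = b ∨ ∃ j, e j = u) {c : ZMod 11} (hc5 : c ^ 5 = 1) (hc1 : c ≠ 1)
    (hl : ∀ j, l (e j) = e (c * j)) (hcomm : g * l = l * g) (hla : l a = a) (hlb : l b = b) :
    ∃ m₁ m₂ : ZMod 11, m₁ ≠ 0 ∧ (∀ u, u ^ 5 = 1 → g (e u) = e (u * m₁)) ∧
      (∀ u, u ^ 5 = -1 → g (e u) = e (u * m₂)) ∧ (∀ j, j ≠ 0 → (g ^ 10) (e j) = e j) ∧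
      (∀ n, Odd n → (∀ j, j ≠ 0 → (g ^ n) (e j) = e j) → m₁ ^ 5 = 1 ∧ ∀ j, j ≠ 0 → (g ^ 5) (e j) = e j) := by
  obtain ⟨m₁, hm₁, -, h₁⟩ := comm_coord he hcov hc5 hc1 hl hcomm hla hlb 1 one_ne_zero
  obtain ⟨m, hm, -, h₂⟩ := comm_coord he hcov hc5 hc1 hl hcomm hla hlb (-1) (by decide)
  have hA : ∀ u, u ^ 5 = 1 → g (e u) = e (u * m₁) := by
    intro u hu
    obtain ⟨i, rfl⟩ := zmod11_pow_mem c hc5 hc1 u hu
    simpa using h₁ i
  have hB : ∀ u, u ^ 5 = -1 → g (e u) = e (u * -m) := by
    intro u hu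
    obtain ⟨i, hi⟩ := zmod11_pow_mem c hc5 hc1 (-u) (by rw [Odd.neg_pow (by decide), hu, neg_neg])
    have h := h₂ i
    rw [hi, neg_mul_neg, mul_one, neg_mul] at h
    rwa [mul_neg]
  have hne : m₁ ^ 5 = (-m) ^ 5 := by
    rcases zmod11_cases m₁ hm₁ with h1 | h1 <;> rcases zmod11_cases (-m) (neg_ne_zero.2 hm) with h2 | h2 <;>
      first
      | (rw [h1, h2]; done)
      | (exfalso
         set v := (-1 : ZMod 11) * -m * m₁ ^ 9 with hv
         have hm10 : m₁ ^ 10 = 1 := by rw [show (10 : ℕ) = 5 * 2 by rfl, pow_mul, h1]; decide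
         have hv5 : v ^ 5 = 1 := by
           rw [hv, mul_pow, mul_pow, h2, ← pow_mul, show 9 * 5 = 5 * 9 by rfl, pow_mul, h1]
           decide
         have e1 := hA v hv5
         have e2 := hB (-1) (by decide)
         have e3 : v * m₁ = (-1 : ZMod 11) * -m := by
           rw [hv, mul_assoc, ← pow_succ, hm10, mul_one]
         rw [e3, ← e2] at e1
         have := he (g.injective e1)
         rw [this] at hv5
         exact absurd hv5 (by decide))
  refine ⟨m₁, -m, hm₁, hA, hB, ?_, ?_⟩
  all_goals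
    rcases zmod11_cases m₁ hm₁ with h1 | h1
  -- the classes are preserved
  · have key : ∀ n : ℕ, (∀ u, u ^ 5 = 1 → (g ^ n) (e u) = e (u * m₁ ^ n)) ∧
        (∀ u, u ^ 5 = -1 → (g ^ n) (e u) = e (u * (-m) ^ n)) := by
      intro n
      induction n with
      | zero => simp
      | succ n ih =>
        constructor <;> intro u hu <;> rw [pow_succ, Perm.mul_apply]
        · rw [hA u hu, ih.1 _ (by rw [mul_pow, hu, h1, one_mul]), mul_assoc, ← pow_succ']
        · rw [hB u hu, ih.2 _ (by rw [mul_pow, hu, ← hne, h1, mul_one]), mul_assoc, ← pow_succ']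
    intro j hj
    rcases zmod11_cases j hj with hj5 | hj5
    · rw [(key 10).1 j hj5, show (10 : ℕ) = 5 * 2 by rfl, pow_mul, h1, one_pow, mul_one]
    · rw [(key 10).2 j hj5, show (10 : ℕ) = 5 * 2 by rfl, pow_mul, ← hne, h1, one_pow, mul_one]
  -- the classes are interchanged
  · have h2 : (-m) ^ 5 = -1 := hne ▸ h1
    set M := m₁ * -m with hM
    have hM5 : M ^ 5 = 1 := by rw [hM, mul_pow, h1, h2]; decide
    have key : ∀ n : ℕ, ∀ j, j ≠ 0 → ((g ^ 2) ^ n) (e j) = e (j * M ^ n) := by
      have hstep : ∀ j, j ≠ 0 → (g ^ 2) (e j) = e (j * M) := by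
        intro j hj
        rw [pow_two, Perm.mul_apply]
        rcases zmod11_cases j hj with hj5 | hj5
        · rw [hA j hj5, hB _ (by rw [mul_pow, hj5, h1, one_mul]), hM, mul_assoc]
        · rw [hB j hj5, hA _ (by rw [mul_pow, hj5, h2]; decide), hM, mul_assoc, mul_comm (-m)]
      intro n
      induction n with
      | zero => simp
      | succ n ih =>
        intro j hj
        have hne0 : j * M ≠ 0 := mul_ne_zero hj (fun e0 => by rw [e0] at hM5; exact absurd hM5 (by decide))
        rw [pow_succ, Perm.mul_apply, hstep j hj, ih _ hne0, mul_assoc, ← pow_succ']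
    intro j hj
    rw [show (10 : ℕ) = 2 * 5 by rfl, pow_mul, key 5 j hj, hM5, mul_one]
  · intro n _ _
    refine ⟨h1, fun j hj => ?_⟩
    have key : ∀ k : ℕ, (∀ u, u ^ 5 = 1 → (g ^ k) (e u) = e (u * m₁ ^ k)) ∧
        (∀ u, u ^ 5 = -1 → (g ^ k) (e u) = e (u * (-m) ^ k)) := by
      intro k
      induction k with
      | zero => simp
      | succ k ih =>
        constructor <;> intro u hu <;> rw [pow_succ, Perm.mul_apply]
        · rw [hA u hu, ih.1 _ (by rw [mul_pow, hu, h1, one_mul]), mul_assoc, ← pow_succ']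
        · rw [hB u hu, ih.2 _ (by rw [mul_pow, hu, ← hne, h1, mul_one]), mul_assoc, ← pow_succ']
    rcases zmod11_cases j hj with hj5 | hj5
    · rw [(key 5).1 j hj5, h1, mul_one]
    · rw [(key 5).2 j hj5, ← hne, h1, mul_one]
  · intro n hn hfix
    exfalso
    have h2 : (-m) ^ 5 = -1 := hne ▸ h1
    have key : ∀ k : ℕ, ∃ v, v ^ 5 = (-1) ^ k ∧ (g ^ k) (e 1) = e v := by
      intro k
      induction k with
      | zero => exact ⟨1, by simp, by simp⟩
      | succ k ih =>
        obtain ⟨v, hv, hv'⟩ := ih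
        rcases Nat.even_or_odd k with hk | hk
        · rw [hk.neg_one_pow] at hv
          exact ⟨v * m₁, by rw [mul_pow, hv, h1, pow_succ, hk.neg_one_pow],
            by rw [pow_succ', Perm.mul_apply, hv', hA v hv]⟩
        · rw [hk.neg_one_pow] at hv
          exact ⟨v * -m, by rw [mul_pow, hv, h2, pow_succ, hk.neg_one_pow],
            by rw [pow_succ', Perm.mul_apply, hv', hB v hv]⟩
    obtain ⟨v, hv, hv'⟩ := key n
    rw [hfix 1 one_ne_zero] at hv'
    rw [← he hv', hn.neg_one_pow, one_pow] at hv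
    exact absurd hv (by decide)

variable [Fintype β] [DecidableEq β]

/-- Two elements of prime order in a group where that prime divides the order only once. -/
theorem exists_conj_mem_zpowers {q : ℕ} [Fact q.Prime] (K : Subgroup (Perm β))
    (hq : ¬ q * q ∣ Nat.card K) {u v : Perm β} (hu : u ∈ K) (hv : v ∈ K) (huo : orderOf u = q)
    (hvo : orderOf v = q) : ∃ k ∈ K, k * v * k⁻¹ ∈ Subgroup.zpowers u := by
  set P : Subgroup K := Subgroup.zpowers ⟨u, hu⟩
  have hP : Nat.card P = q := by rw [Nat.card_zpowers, Subgroup.orderOf_mk, huo]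
  have hPi : ¬ q ∣ P.index := fun h => hq (by
    rw [← P.index_mul_card, hP]; exact Nat.mul_dvd_mul_right h q)
  let S : Sylow q K := (IsPGroup.of_card (n := 1) (by rw [hP, pow_one]) : IsPGroup q P).toSylow hPi
  obtain ⟨T, hT⟩ := (IsPGroup.of_card (n := 1) (by
    rw [Nat.card_zpowers, Subgroup.orderOf_mk, hvo, pow_one]) :
      IsPGroup q (Subgroup.zpowers (⟨v, hv⟩ : K))).exists_le_sylow
  obtain ⟨k, hk⟩ := MulAction.exists_smul_eq K T S
  have hmem : k * ⟨v, hv⟩ * k⁻¹ ∈ P := by
    have h2 : MulAut.conj k • (⟨v, hv⟩ : K) ∈ MulAut.conj k • (T : Subgroup K) :=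
      Subgroup.smul_mem_pointwise_smul _ _ _ (hT (Subgroup.mem_zpowers _))
    rw [← Sylow.coe_subgroup_smul, hk] at h2
    exact h2
  obtain ⟨i, hi⟩ := hmem
  exact ⟨(k : Perm β), k.2, i, by simpa using congrArg Subtype.val hi⟩

/-- Transitive even groups of degree 13 with an element of order 11. -/
theorem degree_thirteen (hβ : Fintype.card β = 13) {H : Subgroup (Perm β)} [IsPretransitive H β]
    (hH : H ≤ alternatingGroup β) {x : Perm β} (hx : x ∈ H) (hxo : orderOf x = 11) :
    alternatingGroup β ≤ H := by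
  haveI : Fact (Nat.Prime 11) := ⟨by norm_num⟩
  haveI : Fact (Nat.Prime 5) := ⟨by norm_num⟩
  have hcardβ : Nat.card β = 13 := by rw [Nat.card_eq_fintype_card, hβ]
  haveI : Nontrivial β := Fintype.one_lt_card_iff_nontrivial.1 (by omega)
  have hGp : IsPreprimitive H β := IsPreprimitive.of_prime_card (hcardβ ▸ by norm_num)
  have hxc : x.IsCycle := Perm.isCycle_of_prime_order' (hxo ▸ by norm_num) (by omega)
  have hxs : x.support.card = 11 := by rw [← hxc.orderOf, hxo]
  obtain ⟨a, b, e, hab, he, hex, hcov, hea, heb, hxa, hxb, h3⟩ :=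
    setup_two_more (p := 11) hβ (by norm_num) hx hxo hxs
  have hfix : ∀ u, x u = u ∨ ∃ j, e j = u := fun u => by
    rcases hcov u with h | h | h
    · exact Or.inl (h ▸ hxa)
    · exact Or.inl (h ▸ hxb)
    · exact Or.inr h
  have heq : ∀ f g : Perm β, f a = g a → f b = g b → (∀ j, f (e j) = g (e j)) → f = g := by
    intro f g ha hb he'
    refine Equiv.ext fun u => ?_
    rcases hcov u with rfl | rfl | ⟨j, rfl⟩
    · exact ha
    · exact hb
    · exact he' j
  have hsign : ∀ g ∈ H, Perm.sign g = 1 := fun g hg => Perm.mem_alternatingGroup.1 (hH hg)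
  have hswap : swap a b ∉ H := fun h => by
    have := hsign _ h
    rw [Perm.sign_swap hab] at this
    exact absurd this (by decide)
  have h11 : ∀ K : Subgroup (Perm β), ¬ 11 * 11 ∣ Nat.card K := by
    intro K h
    have := h.trans (Subgroup.card_subgroup_dvd_card K)
    rw [Nat.card_perm, hcardβ] at this
    exact absurd this (by decide)
  set F : Subgroup (Perm β) := H ⊓ stabilizer (Perm β) a ⊓ stabilizer (Perm β) b with hFdef
  have hFmem : ∀ g, g ∈ F ↔ g ∈ H ∧ g a = a ∧ g b = b := fun g => by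
    simp [hFdef, Subgroup.mem_inf, and_assoc]
  have hxpow : ∀ g : Perm β, g ∈ Subgroup.zpowers x → ∃ n : ℕ, x ^ n = g := fun g hg => by
    rw [← mem_powers_iff_mem_zpowers] at hg
    exact hg
  -- an element swapping `a` and `b` and negating the coordinates
  obtain ⟨h, hh, hhab⟩ := CfsgLib.SmallGroups.exists_mem_eq_on_finset h3 (by omega) {a, b}
    (by rw [Finset.card_pair hab]; omega) (swap a b) ((swap a b).injective.injOn)
  have hha : h a = b := by rw [hhab a (by simp), swap_apply_left]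
  have hhb : h b = a := by rw [hhab b (by simp), swap_apply_right]
  have hFh : h * x * h⁻¹ ∈ F := by
    rw [hFmem]
    refine ⟨mul_mem (mul_mem hh hx) (inv_mem hh), ?_, ?_⟩
    · rw [Perm.mul_apply, Perm.mul_apply, show h⁻¹ a = b from Perm.inv_eq_iff_eq.2 hhb.symm, hxb, hhb]
    · rw [Perm.mul_apply, Perm.mul_apply, show h⁻¹ b = a from Perm.inv_eq_iff_eq.2 hha.symm, hxa, hha]
  have hxF : x ∈ F := (hFmem x).2 ⟨hx, hxa, hxb⟩
  obtain ⟨k, hk, hkx⟩ := exists_conj_mem_zpowers (q := 11) F (h11 F) hxF hFh hxo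
    (by rw [show h * x * h⁻¹ = MulAut.conj h x from rfl, MulEquiv.orderOf_eq, hxo])
  obtain ⟨hkH, hka, hkb⟩ := (hFmem k).1 hk
  obtain ⟨cn, hcn⟩ := hxpow _ hkx
  obtain ⟨d, hc0, htc⟩ := coord_normalizing he hex hfix (g := k * h) (c := cn) (by rw [hcn]; group)
  set t₁ := x ^ (-d).val * (k * h) with ht₁
  have ht₁H : t₁ ∈ H := mul_mem (pow_mem hx _) (mul_mem hkH hh)
  have ht₁a : t₁ a = b := by
    rw [ht₁, Perm.mul_apply, Perm.mul_apply, hha, hkb, Perm.pow_apply_eq_self_of_apply_eq_self hxb]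
  have ht₁b : t₁ b = a := by
    rw [ht₁, Perm.mul_apply, Perm.mul_apply, hhb, hka, Perm.pow_apply_eq_self_of_apply_eq_self hxa]
  have ht₁e : ∀ j, t₁ (e j) = e ((cn : ZMod 11) * j) := fun j => by
    rw [ht₁, Perm.mul_apply, htc, coord_pow_apply hex, ZMod.natCast_zmod_val, add_neg_cancel_right]
  set t := t₁ ^ 5 with ht
  have htH : t ∈ H := pow_mem ht₁H _
  have hta : t a = b := by
    simp only [ht, pow_succ, pow_zero, one_mul, Perm.mul_apply, ht₁a, ht₁b]
  have htb : t b = a := by
    simp only [ht, pow_succ, pow_zero, one_mul, Perm.mul_apply, ht₁a, ht₁b]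
  have hc5' : (cn : ZMod 11) ^ 5 = -1 := by
    refine (zmod11_cases _ hc0).resolve_left fun h1 => hswap ?_
    rw [show swap a b = t from heq _ _ (by rw [swap_apply_left, hta]) (by rw [swap_apply_right, htb])
      fun j => by rw [ht, mul_coord_pow ht₁e, h1, one_mul, swap_apply_of_ne_of_ne (hea j) (heb j)]]
    exact htH
  have hte : ∀ j, t (e j) = e (-j) := fun j => by rw [ht, mul_coord_pow ht₁e, hc5', neg_one_mul]
  by_cases hl : ∀ g ∈ F, g * x * g⁻¹ ∈ Subgroup.zpowers x → g ∈ Subgroup.zpowers x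
  · -- the two point stabiliser is `⟨x⟩`
    exfalso
    set P : Subgroup F := Subgroup.zpowers ⟨x, hxF⟩ with hPdef
    have hP : Nat.card P = 11 := by rw [Nat.card_zpowers, Subgroup.orderOf_mk, hxo]
    have hPi : ¬ 11 ∣ P.index := fun hd => h11 F (by
      rw [← P.index_mul_card, hP]; exact Nat.mul_dvd_mul_right hd 11)
    let S : Sylow 11 F := (IsPGroup.of_card (n := 1) (by rw [hP, pow_one]) : IsPGroup 11 P).toSylow hPi
    have hN : Subgroup.normalizer ((S : Subgroup F) : Set F) ≤ Subgroup.centralizer ((S : Subgroup F) : Set F) := by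
      intro g hg
      obtain ⟨i, hi⟩ := (Subgroup.mem_normalizer_iff.1 hg (⟨x, hxF⟩ : F)).1 (Subgroup.mem_zpowers _)
      obtain ⟨n, hn⟩ := hl g g.2 ⟨i, by simpa using congrArg Subtype.val hi⟩
      rw [Subgroup.mem_centralizer_iff]
      rintro _ ⟨m, rfl⟩
      refine Subtype.ext ?_
      show ((⟨x, hxF⟩ : F) ^ m : F) * (g : Perm β) = (g : Perm β) * ((⟨x, hxF⟩ : F) ^ m : F)
      rw [← show x ^ n = (g : Perm β) from hn, Subgroup.coe_zpow, ← zpow_add, ← zpow_add, add_comm]
    set Kc := (MonoidHom.transferSylow S hN).ker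
    have hKP : Subgroup.IsComplement' Kc P := MonoidHom.ker_transferSylow_isComplement' S hN
    have hKnd : ¬ 11 ∣ Nat.card Kc := by
      intro hd
      refine h11 F ?_
      rw [← hKP.card_mul, hP]
      exact Nat.mul_dvd_mul_right hd 11
    set xF : F := ⟨x, hxF⟩
    let D : AddSubmonoid (ZMod 11) :=
      { carrier := {d | ∃ k ∈ Kc, ((k : F) : Perm β) (e 0) = e d}
        zero_mem' := ⟨1, one_mem _, rfl⟩
        add_mem' := by
          rintro d d' ⟨k, hk, hkd⟩ ⟨k', hk', hkd'⟩
          refine ⟨xF ^ d.val * k' * (xF ^ d.val)⁻¹ * k,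
            mul_mem (Subgroup.Normal.conj_mem inferInstance k' hk' _) hk, ?_⟩
          show (x ^ d.val * (k' : Perm β) * (x ^ d.val)⁻¹ * (k : Perm β)) (e 0) = _
          simp only [Perm.mul_apply, hkd]
          rw [show (x ^ d.val)⁻¹ (e d) = e 0 from Perm.inv_eq_iff_eq.2 (by
            rw [coord_pow_apply hex, zero_add, ZMod.natCast_zmod_val]), hkd', coord_pow_apply hex,
            ZMod.natCast_zmod_val, add_comm] }
    have hD0 : ∀ d ∈ D, d = 0 := by
      intro d hd
      by_contra hd0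
      have hall : ∀ u : ZMod 11, u ∈ D := fun u => by
        have := AddSubmonoid.nsmul_mem D hd (u * d⁻¹).val
        rwa [nsmul_eq_mul, ZMod.natCast_zmod_val, mul_assoc, inv_mul_cancel₀ hd0, mul_one] at this
      haveI : Finite (Kc : Subgroup F) := inferInstance
      have horb : (MulAction.orbit Kc (e 0)).ncard = 11 := by
        have : MulAction.orbit Kc (e 0) = Set.range e := by
          ext u
          constructor
          · rintro ⟨k, rfl⟩
            show ((k : F) : Perm β) (e 0) ∈ _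
            obtain ⟨-, hka', hkb'⟩ := (hFmem _).1 (k : F).2
            rcases hcov (((k : F) : Perm β) (e 0)) with h | h | h
            · exact absurd (((k : F) : Perm β).injective (h.trans hka'.symm)) (hea 0)
            · exact absurd (((k : F) : Perm β).injective (h.trans hkb'.symm)) (heb 0)
            · exact h
          · rintro ⟨j, rfl⟩
            obtain ⟨k, hk, hkj⟩ := hall j
            exact ⟨⟨k, hk⟩, hkj⟩
        rw [this, ← Nat.card_coe_set_eq, Nat.card_range_of_injective he, Nat.card_zmod]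
      rw [← MulAction.index_stabilizer] at horb
      exact hKnd (horb ▸ Subgroup.index_dvd_card _)
    have hK1 : Kc = ⊥ := by
      rw [Subgroup.eq_bot_iff_forall]
      intro k hk
      obtain ⟨-, hka', hkb'⟩ := (hFmem _).1 k.2
      refine Subtype.ext (heq _ _ hka' hkb' fun j => ?_)
      have hk' : (xF ^ j.val)⁻¹ * k * ((xF ^ j.val)⁻¹)⁻¹ ∈ Kc := Subgroup.Normal.conj_mem inferInstance k hk _
      rw [inv_inv] at hk'
      set k' := (xF ^ j.val)⁻¹ * k * xF ^ j.val
      rcases hcov ((k' : Perm β) (e 0)) with h | h | ⟨d, hd⟩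
      · exact absurd ((k' : Perm β).injective (h.trans ((hFmem _).1 k'.2).2.1.symm)) (hea 0)
      · exact absurd ((k' : Perm β).injective (h.trans ((hFmem _).1 k'.2).2.2.symm)) (heb 0)
      · have hd0 := hD0 d ⟨k', hk', hd.symm⟩
        rw [hd0] at hd
        have h1 : ((x ^ j.val)⁻¹ * (k : Perm β) * x ^ j.val) (e 0) = e 0 := hd.symm
        rw [Perm.mul_apply, Perm.mul_apply, coord_pow_apply hex, zero_add, ZMod.natCast_zmod_val,
          Perm.inv_eq_iff_eq, coord_pow_apply hex, zero_add, ZMod.natCast_zmod_val] at h1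
        simpa using h1
    have hF11 : Nat.card F = 11 := by
      rw [← hKP.card_mul, hK1, Subgroup.card_bot, one_mul, hP]
    have hFeq : (fixingSubgroup H ({a, b} : Set β)).map H.subtype = F := by
      ext g
      rw [hFmem]
      constructor
      · rintro ⟨g', hg', rfl⟩
        exact ⟨g'.2, (mem_fixingSubgroup_iff H).1 hg' a (Or.inl rfl),
          (mem_fixingSubgroup_iff H).1 hg' b (Or.inr rfl)⟩
      · rintro ⟨hgH, hga, hgb⟩
        refine ⟨⟨g, hgH⟩, (mem_fixingSubgroup_iff H).2 ?_, rfl⟩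
        rintro u (rfl | rfl)
        · exact hga
        · exact hgb
    refine false_of_two_point_card (p := 11) (r := 2) (s := 3) (by norm_num) (by norm_num) (by norm_num)
      (by norm_num) (by norm_num) hβ h3 hx hxo hab hxa hxb (fun u hu => ?_)
      (by rw [← hF11, ← hFeq, Subgroup.card_map_of_injective H.subtype_injective])
    rcases hcov u with h | h | ⟨j, rfl⟩
    · exact Or.inl h
    · exact Or.inr h
    · rw [hex] at hu; exact absurd (add_eq_left.1 (he hu)) one_ne_zero
  · -- an element of order five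
    push_neg at hl
    obtain ⟨g, hg, hgx, hgn⟩ := hl
    obtain ⟨hgH, hga, hgb⟩ := (hFmem g).1 hg
    obtain ⟨c0, hc0'⟩ := hxpow _ hgx
    obtain ⟨d', hcne, hgc⟩ := coord_normalizing he hex hfix (g := g) (c := c0) hc0'.symm
    set c := (c0 : ZMod 11)
    obtain ⟨l, hldef⟩ : ∃ l, l = x ^ (-d').val * g := ⟨_, rfl⟩
    have hlH : l ∈ H := hldef ▸ mul_mem (pow_mem hx _) hgH
    have hla : l a = a := by rw [hldef, Perm.mul_apply, hga, Perm.pow_apply_eq_self_of_apply_eq_self hxa]
    have hlb : l b = b := by rw [hldef, Perm.mul_apply, hgb, Perm.pow_apply_eq_self_of_apply_eq_self hxb]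
    have hle : ∀ j, l (e j) = e (c * j) := fun j => by
      rw [hldef, Perm.mul_apply, hgc, coord_pow_apply hex, ZMod.natCast_zmod_val, add_neg_cancel_right]
    have hc1 : c ≠ 1 := by
      intro h1
      have : l = 1 := heq _ _ hla hlb fun j => by rw [hle, h1, one_mul]; rfl
      apply hgn
      rw [show g = (x ^ (-d').val)⁻¹ * l by rw [hldef]; group, this, mul_one]
      exact inv_mem (pow_mem (Subgroup.mem_zpowers x) _)
    have hl5a : (l ^ 5) a = a := Perm.pow_apply_eq_self_of_apply_eq_self hla 5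
    have hl5b : (l ^ 5) b = b := Perm.pow_apply_eq_self_of_apply_eq_self hlb 5
    have hc5 : c ^ 5 = 1 := by
      refine (zmod11_cases c hcne).resolve_right fun h1 => hswap ?_
      rw [show swap a b = t * l ^ 5 from heq _ _ (by rw [swap_apply_left, Perm.mul_apply, hl5a, hta])
        (by rw [swap_apply_right, Perm.mul_apply, hl5b, htb]) fun j => by
          rw [Perm.mul_apply, mul_coord_pow hle, h1, hte, swap_apply_of_ne_of_ne (hea j) (heb j),
            neg_one_mul, neg_neg]]
      exact mul_mem htH (pow_mem hlH _)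
    have hlne : l ≠ 1 := by
      intro h1
      have := hle 1
      rw [h1, Perm.one_apply, mul_one] at this
      exact hc1 (he this).symm
    have hl5 : orderOf l = 5 := orderOf_eq_prime
      (heq _ _ hl5a hl5b fun j => by rw [mul_coord_pow hle, hc5, one_mul]; rfl) hlne
    have hlo : l (e 0) = e 0 := by rw [hle, mul_zero]
    set K3 : Subgroup (Perm β) := F ⊓ stabilizer (Perm β) (e 0) with hK3
    have hK3mem : ∀ g, g ∈ K3 ↔ g ∈ H ∧ g a = a ∧ g b = b ∧ g (e 0) = e 0 := fun g => by
      simp [hK3, Subgroup.mem_inf, hFmem, and_assoc]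
    have hlK : l ∈ K3 := (hK3mem l).2 ⟨hlH, hla, hlb, hlo⟩
    by_cases h25 : 5 * 5 ∣ Nat.card K3
    · -- a five-cycle
      set L : Subgroup K3 := Subgroup.zpowers ⟨l, hlK⟩
      have hL : Nat.card L = 5 := by rw [Nat.card_zpowers, Subgroup.orderOf_mk, hl5]
      obtain ⟨Q, hQ⟩ := (IsPGroup.of_card (n := 1) (by rw [hL, pow_one]) : IsPGroup 5 L).exists_le_sylow
      haveI : Group.IsNilpotent (Q : Subgroup K3) := Q.isPGroup'.isNilpotent
      have hQc : 5 * 5 ∣ Nat.card (Q : Subgroup K3) := by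
        rw [show 5 * 5 = 5 ^ 2 by norm_num] at h25 ⊢
        exact Q.pow_dvd_card_of_pow_dvd_card h25
      have hlt : L.subgroupOf (Q : Subgroup K3) < ⊤ := lt_of_le_of_ne le_top fun heq' => by
        have h := congrArg (fun T : Subgroup (Q : Subgroup K3) => Nat.card T) heq'
        simp only [Nat.card_congr (Subgroup.subgroupOfEquivOfLe hQ).toEquiv, Subgroup.card_top, hL] at h
        rw [← h] at hQc
        exact absurd hQc (by decide)
      obtain ⟨g', hg'N, hg'L⟩ :=
        SetLike.exists_of_lt (Group.normalizerCondition_of_isNilpotent (L.subgroupOf (Q : Subgroup K3)) hlt)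
      set u : Perm β := ((g' : K3) : Perm β) with hu
      obtain ⟨huH, hua, hub, huo⟩ := (hK3mem u).1 (g' : K3).2
      obtain ⟨k5, hk5⟩ := IsPGroup.iff_orderOf.1 Q.isPGroup' g'
      have huord : orderOf u = 5 ^ k5 := by rw [hu, Subgroup.orderOf_coe, Subgroup.orderOf_coe, hk5]
      obtain ⟨i, hi⟩ : ∃ i : ℕ, l ^ i = u * l * u⁻¹ := by
        have hmem : (⟨⟨l, hlK⟩, hQ (Subgroup.mem_zpowers _)⟩ : (Q : Subgroup K3)) ∈ L.subgroupOf (Q : Subgroup K3) :=
          Subgroup.mem_subgroupOf.2 (Subgroup.mem_zpowers _)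
        have h1 := Subgroup.mem_subgroupOf.1 ((Subgroup.mem_normalizer_iff.1 hg'N _).1 hmem)
        obtain ⟨i, hi⟩ := h1
        have hmemz : u * l * u⁻¹ ∈ Subgroup.zpowers l := ⟨i, by simpa using congrArg (fun z : K3 => (z : Perm β)) hi⟩
        rwa [← mem_powers_iff_mem_zpowers] at hmemz
      have hcomm : u * l = l * u := by
        have hpow : ∀ n : ℕ, u ^ n * l * (u ^ n)⁻¹ = l ^ i ^ n := by
          intro n
          induction n with
          | zero => simp
          | succ n ih =>
            rw [pow_succ' i, pow_mul, hi, conj_pow, ← ih, pow_succ']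
            group
        have h1 := hpow (5 ^ k5)
        rw [← huord, pow_orderOf_eq_one, one_mul, inv_one, mul_one] at h1
        have h2 : i ^ orderOf u ≡ 1 [MOD 5] := by
          rw [← hl5, ← pow_eq_pow_iff_modEq, ← h1, pow_one]
        have h3 : ((i : ZMod 5)) = 1 := by
          have h4 : ((i ^ orderOf u : ℕ) : ZMod 5) = ((1 : ℕ) : ZMod 5) := (ZMod.natCast_eq_natCast_iff _ _ 5).2 h2
          rwa [Nat.cast_pow, huord, ZMod.pow_card_pow, Nat.cast_one] at h4
        have h5 : i ≡ 1 [MOD 5] := (ZMod.natCast_eq_natCast_iff _ _ 5).1 (by rw [h3, Nat.cast_one])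
        rw [← hl5, ← pow_eq_pow_iff_modEq, pow_one, hi, mul_inv_eq_iff_eq_mul] at h5
        exact h5
      obtain ⟨m₁, m₂, hm₁, hA, hB, h10, hodd⟩ := comm_pow_ten he hcov hc5 hc1 hle hcomm hla hlb
      obtain ⟨hm5, hu5⟩ := hodd (5 ^ k5) (Odd.pow (by decide)) fun j _ => by
        rw [← huord, pow_orderOf_eq_one]; rfl
      obtain ⟨i', hi'⟩ := zmod11_pow_mem c hc5 hc1 m₁ hm5
      set w := u * (l ^ (i' : ℕ))⁻¹ with hw
      have hwH : w ∈ H := mul_mem huH (inv_mem (pow_mem hlH _))
      have hwfix : ∀ v, v = a ∨ v = b ∨ v = e 0 → w v = v := by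
        intro v hv
        have hlv : (l ^ (i' : ℕ))⁻¹ v = v := Perm.inv_eq_iff_eq.2 (by
          rcases hv with rfl | rfl | rfl
          · exact (Perm.pow_apply_eq_self_of_apply_eq_self hla _).symm
          · exact (Perm.pow_apply_eq_self_of_apply_eq_self hlb _).symm
          · exact (Perm.pow_apply_eq_self_of_apply_eq_self hlo _).symm)
        rw [hw, Perm.mul_apply, hlv]
        rcases hv with rfl | rfl | rfl
        · exact hua
        · exact hub
        · exact huo
      have hwA : ∀ v : ZMod 11, v ^ 5 = 1 → w (e v) = e v := by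
        intro v hv
        have hm0 : c ^ (i' : ℕ) ≠ 0 := hi' ▸ hm₁
        have hlv : (l ^ (i' : ℕ))⁻¹ (e v) = e ((c ^ (i' : ℕ))⁻¹ * v) := Perm.inv_eq_iff_eq.2 (by
          rw [mul_coord_pow hle, ← mul_assoc, mul_inv_cancel₀ hm0, one_mul])
        rw [hw, Perm.mul_apply, hlv, hA _ (by
          rw [mul_pow, hv, inv_pow, pow_right_comm, hc5, one_pow, inv_one, mul_one]), hi']
        congr 1
        rw [mul_comm, ← mul_assoc, mul_inv_cancel₀ hm₁, one_mul]
      have hwne : w ≠ 1 := by
        intro h1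
        apply hg'L
        rw [Subgroup.mem_subgroupOf]
        refine ⟨(i' : ℕ), Subtype.ext ?_⟩
        show ((⟨l, hlK⟩ : K3) ^ ((i' : ℕ) : ℤ) : K3) = u
        rw [zpow_natCast, SubmonoidClass.coe_pow]
        exact (mul_inv_eq_one.1 h1).symm
      have hw5 : w ^ 5 = 1 := by
        rw [hw, Commute.mul_pow ((Commute.pow_right (hcomm : Commute u l) _).inv_right), inv_pow, ← pow_mul,
          mul_comm _ 5, pow_mul, show l ^ 5 = 1 from hl5 ▸ pow_orderOf_eq_one l, one_pow, inv_one, mul_one]
        refine heq _ _ (Perm.pow_apply_eq_self_of_apply_eq_self hua 5)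
          (Perm.pow_apply_eq_self_of_apply_eq_self hub 5) fun j => ?_
        by_cases hj : j = 0
        · rw [hj]; exact Perm.pow_apply_eq_self_of_apply_eq_self huo 5
        · exact hu5 j hj
      have hwo : orderOf w = 5 := orderOf_eq_prime hw5 hwne
      have hsub : w.support ⊆ ((Finset.univ : Finset (ZMod 11)).filter fun v => v ^ 5 = -1).image e := by
        intro v hv
        rw [Perm.mem_support] at hv
        rcases hcov v with h | h | ⟨j, rfl⟩
        · exact absurd (hwfix v (Or.inl h)) hv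
        · exact absurd (hwfix v (Or.inr (Or.inl h))) hv
        · by_cases hj : j = 0
          · exact absurd (hwfix _ (Or.inr (Or.inr (by rw [hj])))) hv
          · rcases zmod11_cases j hj with h | h
            · exact absurd (hwA j h) hv
            · exact Finset.mem_image.2 ⟨j, Finset.mem_filter.2 ⟨Finset.mem_univ _, h⟩, rfl⟩
      have hcard5 : w.support.card ≤ 5 := by
        refine (Finset.card_le_card hsub).trans (Finset.card_image_le.trans ?_)
        exact zmod11_neg_card
      have hwc : w.IsCycle := Perm.isCycle_of_prime_order (hwo ▸ by norm_num) (by omega)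
      exact Cfsg.Agent.S0713.result H hGp (by norm_num : Nat.Prime 5) (by omega) (by omega) hwc
        (by rw [← hwc.orderOf, hwo]) hwH
    · -- a three-cycle
      obtain ⟨h', hh', hh'3⟩ := CfsgLib.SmallGroups.exists_mem_eq_on_finset h3 (by omega) {a, b, e 0}
        Finset.card_le_three (swap a (e 0) * swap a b) ((swap a (e 0) * swap a b).injective.injOn)
      have hh'a : h' a = b := by
        rw [hh'3 a (by simp), Perm.mul_apply, swap_apply_left, swap_apply_of_ne_of_ne hab.symm (Ne.symm (heb 0))]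
      have hh'b : h' b = e 0 := by
        rw [hh'3 b (by simp), Perm.mul_apply, swap_apply_right, swap_apply_left]
      have hh'o : h' (e 0) = a := by
        rw [hh'3 (e 0) (by simp), Perm.mul_apply, swap_apply_of_ne_of_ne (hea 0) (heb 0), swap_apply_right]
      have hconj : h' * l * h'⁻¹ ∈ K3 := by
        rw [hK3mem]
        refine ⟨mul_mem (mul_mem hh' hlH) (inv_mem hh'), ?_, ?_, ?_⟩
        · rw [Perm.mul_apply, Perm.mul_apply, show h'⁻¹ a = e 0 from Perm.inv_eq_iff_eq.2 hh'o.symm, hlo, hh'o]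
        · rw [Perm.mul_apply, Perm.mul_apply, show h'⁻¹ b = a from Perm.inv_eq_iff_eq.2 hh'a.symm, hla, hh'a]
        · rw [Perm.mul_apply, Perm.mul_apply, show h'⁻¹ (e 0) = b from Perm.inv_eq_iff_eq.2 hh'b.symm, hlb, hh'b]
      obtain ⟨k', hk', hk'l⟩ := exists_conj_mem_zpowers (q := 5) K3 h25 hlK hconj hl5
        (by rw [show h' * l * h'⁻¹ = MulAut.conj h' l from rfl, MulEquiv.orderOf_eq, hl5])
      obtain ⟨hk'H, hk'a, hk'b, hk'o⟩ := (hK3mem k').1 hk'
      set n := k' * h' with hn
      have hnH : n ∈ H := mul_mem hk'H hh'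
      have hnl : n * l * n⁻¹ ∈ Subgroup.zpowers l := by
        rw [show n * l * n⁻¹ = k' * (h' * l * h'⁻¹) * k'⁻¹ by rw [hn]; group]; exact hk'l
      obtain ⟨r, hr⟩ : ∃ r : ℤ, l ^ r = n⁻¹ * l * n := by
        have hmap : (Subgroup.zpowers l).map (MulAut.conj n).toMonoidHom = Subgroup.zpowers l :=
          Subgroup.eq_of_le_of_card_ge (by rw [MonoidHom.map_zpowers, Subgroup.zpowers_le]; exact hnl)
            (Subgroup.card_map_of_injective (MulAut.conj n).injective).ge
        obtain ⟨u', hu', hu''⟩ : l ∈ (Subgroup.zpowers l).map (MulAut.conj n).toMonoidHom := by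
          rw [hmap]; exact Subgroup.mem_zpowers l
        obtain ⟨r, rfl⟩ := hu'
        refine ⟨r, ?_⟩
        rw [show n⁻¹ * l * n = (MulAut.conj n).symm l by simp [MulAut.conj_symm_apply], MulEquiv.eq_symm_apply]
        exact hu''
      have htl : Commute t l := by
        refine heq _ _ ?_ ?_ fun j => ?_
        · rw [Perm.mul_apply, Perm.mul_apply, hla, hta, hlb]
        · rw [Perm.mul_apply, Perm.mul_apply, hlb, htb, hla]
        · rw [Perm.mul_apply, Perm.mul_apply, hle, hte, hte, hle, mul_neg]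
      set s := n * t * n⁻¹ with hs
      have hsl : Commute s l := by
        show n * t * n⁻¹ * l = l * (n * t * n⁻¹)
        calc n * t * n⁻¹ * l = n * (t * (n⁻¹ * l * n)) * n⁻¹ := by group
          _ = n * ((n⁻¹ * l * n) * t) * n⁻¹ := by rw [← hr, (htl.zpow_right r).eq]
          _ = l * (n * t * n⁻¹) := by group
      have hna : n a = b := by rw [hn, Perm.mul_apply, hh'a, hk'b]
      have hnb : n b = e 0 := by rw [hn, Perm.mul_apply, hh'b, hk'o]
      have hno : n (e 0) = a := by rw [hn, Perm.mul_apply, hh'o, hk'a]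
      have hto : t (e 0) = e 0 := by rw [hte, neg_zero]
      have hsa : s a = a := by
        rw [hs, Perm.mul_apply, Perm.mul_apply, show n⁻¹ a = e 0 from Perm.inv_eq_iff_eq.2 hno.symm, hto, hno]
      have hsb : s b = e 0 := by
        rw [hs, Perm.mul_apply, Perm.mul_apply, show n⁻¹ b = a from Perm.inv_eq_iff_eq.2 hna.symm, hta, hnb]
      have hso : s (e 0) = b := by
        rw [hs, Perm.mul_apply, Perm.mul_apply, show n⁻¹ (e 0) = b from Perm.inv_eq_iff_eq.2 hnb.symm, htb, hna]
      set w := t * s with hw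
      have hwH : w ∈ H := mul_mem htH (mul_mem (mul_mem hnH htH) (inv_mem hnH))
      have hwa : w a = b := by rw [hw, Perm.mul_apply, hsa, hta]
      have hwb : w b = e 0 := by rw [hw, Perm.mul_apply, hsb, hto]
      have hwo : w (e 0) = a := by rw [hw, Perm.mul_apply, hso, htb]
      obtain ⟨-, -, -, -, -, h10, -⟩ := comm_pow_ten he hcov hc5 hc1 hle
        ((htl.mul_left hsl : Commute w l)).eq hla hlb
      have hw10 : (w ^ 10) a = b := by
        simp only [pow_succ, pow_zero, one_mul, Perm.mul_apply, hwa, hwb, hwo]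
      refine CfsgLib.SmallGroups.alternatingGroup_le_of_small_support hGp (pow_mem hwH 10)
        (fun h1 => hab (by rw [h1, Perm.one_apply] at hw10; exact hw10)) ?_
      refine (Finset.card_le_card (t := {a, b, e 0}) fun v hv => ?_).trans Finset.card_le_three
      rw [Perm.mem_support] at hv
      rcases hcov v with h | h | ⟨j, rfl⟩
      · simp [h]
      · simp [h]
      · by_cases hj : j = 0
        · simp [hj]
        · exact absurd (h10 j hj) hv

end CfsgLib.FGS
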