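import Cfsg.Prelude.Def_KGroupFacts
import Mathlib.GroupTheory.SpecificGroups.Dihedral
import Mathlib.GroupTheory.SpecificGroups.Quaternion
import Mathlib.GroupTheory.OrderOfElement
import Mathlib.Tactic.Group

/-!
Stem extensions of dihedral groups.
-/

set_option autoImplicit false

namespace CfsgLib.FGS

/-- The kernel of a stem extension of a dihedral group of order `2 n` lies in a cyclic subgroup of
order dividing `n`, at positions `m` with `n ∣ 2 m`. -/
theorem dihedral_stem_ker {n : ℕ} [NeZero n] {Γ : Type*} [Group Γ] [Finite Γ]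
    (σ : Γ →* DihedralGroup n) (hσ : Cfsg.IsStemExtension σ) :
    ∃ C : Γ, C ^ n = 1 ∧ ∀ k ∈ σ.ker, ∃ m : ℤ, C ^ m = k ∧ (n : ℤ) ∣ 2 * m := by
  obtain ⟨hsurj, hcen, hcomm⟩ := hσ
  obtain ⟨X, hX⟩ := hsurj (DihedralGroup.r 1)
  obtain ⟨Y, hY⟩ := hsurj (DihedralGroup.sr 0)
  have hcz : ∀ {z : Γ}, σ z = 1 → ∀ g, g * z = z * g := fun hz g =>
    Subgroup.mem_center_iff.1 (hcen hz) g
  set z2 := X * (Y * X * Y⁻¹) with hz2
  have hz2k : σ z2 = 1 := by
    rw [hz2, map_mul, map_mul, map_mul, map_inv, hX, hY, ← mul_assoc, mul_inv_eq_one]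
    simp [DihedralGroup.sr_mul_r, DihedralGroup.r_mul_sr]
  have hz1k : σ (X ^ n) = 1 := by
    rw [map_pow, hX, DihedralGroup.r_one_pow_n]
  have hconj : Y * X * Y⁻¹ = X⁻¹ * z2 := by rw [hz2]; group
  set C := (X ^ 2)⁻¹ * z2 with hC
  have hXC : X * C * X⁻¹ = C := by
    rw [hC, ← mul_assoc X, mul_assoc _ z2, ← hcz hz2k X⁻¹]; group
  have hYC : Y * C * Y⁻¹ = C⁻¹ := by
    have h1 : Y * C * Y⁻¹ = ((Y * X * Y⁻¹) ^ 2)⁻¹ * (Y * z2 * Y⁻¹) := by
      rw [conj_pow, hC]; group
    rw [h1, hconj, hcz hz2k Y, mul_inv_cancel_right, Commute.mul_pow (hcz hz2k X⁻¹), hC]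
    simp only [mul_inv_rev, inv_pow, inv_inv]
    have h2 : (z2 ^ 2)⁻¹ * z2 = z2⁻¹ := by group
    rw [show ((z2 : Γ) ^ 2)⁻¹ * X ^ 2 * z2 = (z2 ^ 2)⁻¹ * z2 * X ^ 2 by
      rw [mul_assoc ((z2 : Γ) ^ 2)⁻¹ (X ^ 2) z2, hcz hz2k (X ^ 2), ← mul_assoc ((z2 : Γ) ^ 2)⁻¹ z2 (X ^ 2)], h2]
  -- the derived subgroup lies in the cyclic group generated by `C`
  have hgen : Subgroup.closure ({X, Y} ∪ (σ.ker : Set Γ)) = ⊤ := by
    refine eq_top_iff.2 fun g _ => ?_
    have hXm : X ∈ Subgroup.closure ({X, Y} ∪ (σ.ker : Set Γ)) :=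
      Subgroup.subset_closure (Or.inl (Or.inl rfl))
    have hYm : Y ∈ Subgroup.closure ({X, Y} ∪ (σ.ker : Set Γ)) :=
      Subgroup.subset_closure (Or.inl (Or.inr rfl))
    have key : ∀ w : Γ, σ w = σ g → w ∈ Subgroup.closure ({X, Y} ∪ (σ.ker : Set Γ)) →
        g ∈ Subgroup.closure ({X, Y} ∪ (σ.ker : Set Γ)) := fun w hw hwm => by
      rw [show g = w * (w⁻¹ * g) by group]
      exact Subgroup.mul_mem _ hwm (Subgroup.subset_closure (Or.inr (by
        rw [SetLike.mem_coe, MonoidHom.mem_ker, map_mul, map_inv, hw, inv_mul_cancel])))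
    cases hg : σ g with
    | r i =>
      refine key (X ^ i.val) ?_ (Subgroup.pow_mem _ hXm _)
      rw [hg, map_pow, hX, DihedralGroup.r_one_pow, ZMod.natCast_zmod_val]
    | sr i =>
      refine key (Y * X ^ i.val) ?_ (Subgroup.mul_mem _ hYm (Subgroup.pow_mem _ hXm _))
      rw [hg, map_mul, map_pow, hX, hY, DihedralGroup.r_one_pow, ZMod.natCast_zmod_val,
        DihedralGroup.sr_mul_r, zero_add]
  haveI hN : (Subgroup.zpowers C).Normal := by
    rw [← Subgroup.normalizer_eq_top_iff, eq_top_iff, ← hgen, Subgroup.closure_le]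
    have key : ∀ w : Γ, (w * C * w⁻¹ = C ∨ w * C * w⁻¹ = C⁻¹) →
        w ∈ Subgroup.normalizer (Subgroup.zpowers C : Set Γ) := by
      intro w hw
      have hmap : (Subgroup.zpowers C).map (MulAut.conj w).toMonoidHom = Subgroup.zpowers C := by
        rw [MonoidHom.map_zpowers]
        rcases hw with h | h <;> simp [MulAut.conj_apply, h]
      refine Subgroup.mem_normalizer_iff.2 fun s => ⟨fun hs => ?_, fun hs => ?_⟩
      · rw [← hmap]; exact ⟨s, hs, by simp⟩
      · rw [← hmap] at hs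
        obtain ⟨u, hu, hu'⟩ := hs
        simp at hu'
        exact hu' ▸ hu
    rintro w ((rfl | rfl) | hw)
    · exact key _ (Or.inl hXC)
    · exact key _ (Or.inr hYC)
    · exact key _ (Or.inl (by rw [← hcz hw C]; group))
  have hab : commutator Γ ≤ Subgroup.zpowers C := by
    let f := QuotientGroup.mk' (Subgroup.zpowers C)
    have hCeq : C = (X ^ 2)⁻¹ * X * (Y * X * Y⁻¹) := by rw [hC, hz2]; group
    have hxy : f Y * f X = f X * f Y := by
      have h1 : f C = 1 := (QuotientGroup.eq_one_iff C).2 (Subgroup.mem_zpowers C)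
      have h1' : f ((X ^ 2)⁻¹ * X * (Y * X * Y⁻¹)) = 1 := (congrArg f hCeq).symm.trans h1
      simp only [map_mul, map_inv, map_pow] at h1'
      calc f Y * f X = f X * ((f X ^ 2)⁻¹ * f X * (f Y * f X * (f Y)⁻¹)) * f Y := by group
        _ = f X * f Y := by rw [h1', mul_one]
    have hall : ∀ g : Γ, f g ∈ Subgroup.center (Γ ⧸ Subgroup.zpowers C) := by
      have hgen' : ∀ w ∈ ({X, Y} ∪ (σ.ker : Set Γ)), f w ∈ Subgroup.center _ := by
        intro w hw
        refine Subgroup.mem_center_iff.2 fun q => ?_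
        obtain ⟨g, rfl⟩ := QuotientGroup.mk'_surjective (Subgroup.zpowers C) q
        have hg : g ∈ Subgroup.closure ({X, Y} ∪ (σ.ker : Set Γ)) := hgen ▸ Subgroup.mem_top g
        suffices Commute (f g) (f w) from this.eq
        induction hg using Subgroup.closure_induction with
        | mem v hv =>
          rcases hw with (rfl | rfl) | hw
          · rcases hv with (rfl | rfl) | hv
            · exact Commute.refl _
            · exact hxy
            · exact Commute.map (show Commute v w from (hcz hv _).symm) f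
          · rcases hv with (rfl | rfl) | hv
            · exact hxy.symm
            · exact Commute.refl _
            · exact Commute.map (show Commute v w from (hcz hv _).symm) f
          · exact Commute.map (show Commute v w from hcz hw v) f
        | one => rw [map_one]; exact Commute.one_left _
        | mul a b _ _ iha ihb => rw [map_mul]; exact iha.mul_left ihb
        | inv a _ iha => rw [map_inv]; exact iha.inv_left
      intro g
      have hg : g ∈ Subgroup.closure ({X, Y} ∪ (σ.ker : Set Γ)) := hgen ▸ Subgroup.mem_top g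
      exact ((Subgroup.closure_le (K := (Subgroup.center _).comap f)).2 hgen') hg
    rw [commutator_def, Subgroup.commutator_le]
    intro u _ v _
    refine (QuotientGroup.eq_one_iff _).1 ?_
    show f _ = 1
    rw [map_commutatorElement, commutatorElement_eq_one_iff_mul_comm]
    exact Subgroup.mem_center_iff.1 (hall v) (f u)
  refine ⟨C, ?_, fun k hk => ?_⟩
  · have h1 : Y * X ^ n * Y⁻¹ = X ^ n := by rw [hcz hz1k Y]; group
    rw [← conj_pow, hconj, Commute.mul_pow (hcz hz2k X⁻¹), inv_pow] at h1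
    rw [hC, Commute.mul_pow (hcz hz2k _), inv_pow, ← pow_mul, mul_comm 2 n, pow_mul, sq]
    calc (X ^ n * X ^ n)⁻¹ * z2 ^ n = (X ^ n)⁻¹ * ((X ^ n)⁻¹ * z2 ^ n) := by group
      _ = 1 := by rw [h1, inv_mul_cancel]
  obtain ⟨m, rfl⟩ := hab (hcomm hk)
  refine ⟨m, rfl, ?_⟩
  have hσC : σ C = ((DihedralGroup.r 1 : DihedralGroup n) ^ 2)⁻¹ := by
    rw [hC, map_mul, hz2k, mul_one, map_inv, map_pow, hX]
  have hk' : σ (C ^ m) = 1 := hk
  rw [map_zpow, hσC, inv_zpow, inv_eq_one, ← zpow_natCast, ← zpow_mul,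
    ← orderOf_dvd_iff_zpow_eq_one, DihedralGroup.orderOf_r_one] at hk'
  simpa using hk'

/-- The projection from the dicyclic group of order `4 n` onto the dihedral group of order `2 n`. -/
def dicyclicToDihedral (n : ℕ) [NeZero n] : QuaternionGroup n →* DihedralGroup n where
  toFun x := match x with
    | .a i => .r (ZMod.castHom (Dvd.intro_left 2 rfl) (ZMod n) i)
    | .xa i => .sr (ZMod.castHom (Dvd.intro_left 2 rfl) (ZMod n) i)
  map_one' := by rw [QuaternionGroup.one_def, DihedralGroup.one_def]; simp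
  map_mul' x y := by
    cases x <;> cases y <;>
      simp [QuaternionGroup.a_mul_a, QuaternionGroup.a_mul_xa, QuaternionGroup.xa_mul_a,
        QuaternionGroup.xa_mul_xa, DihedralGroup.r_mul_r, DihedralGroup.r_mul_sr,
        DihedralGroup.sr_mul_r, DihedralGroup.sr_mul_sr]

theorem dicyclicToDihedral_a (n : ℕ) [NeZero n] (i : ZMod (2 * n)) :
    dicyclicToDihedral n (.a i) = .r (ZMod.castHom (Dvd.intro_left 2 rfl) (ZMod n) i) := rfl

theorem dicyclicToDihedral_xa (n : ℕ) [NeZero n] (i : ZMod (2 * n)) :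
    dicyclicToDihedral n (.xa i) = .sr (ZMod.castHom (Dvd.intro_left 2 rfl) (ZMod n) i) := rfl

theorem dicyclicToDihedral_ker (n : ℕ) [NeZero n] :
    (dicyclicToDihedral n).ker = Subgroup.zpowers (QuaternionGroup.a (n : ZMod (2 * n))) := by
  refine le_antisymm (fun x hx => ?_) (Subgroup.zpowers_le.2 ?_)
  · rw [MonoidHom.mem_ker] at hx
    cases x with
    | xa i => rw [dicyclicToDihedral_xa, DihedralGroup.one_def] at hx; cases hx
    | a i =>
      rw [dicyclicToDihedral_a, DihedralGroup.one_def, DihedralGroup.r.injEq] at hx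
      obtain ⟨j, rfl⟩ := ZMod.natCast_zmod_surjective i
      rw [map_natCast, ZMod.natCast_eq_zero_iff] at hx
      obtain ⟨c, rfl⟩ := hx
      refine ⟨c, ?_⟩
      show QuaternionGroup.a (n : ZMod (2 * n)) ^ (c : ℤ) = _
      rw [zpow_natCast]
      induction c with
      | zero => rw [pow_zero, Nat.mul_zero, Nat.cast_zero, QuaternionGroup.one_def]
      | succ c ih => rw [pow_succ, ih, QuaternionGroup.a_mul_a]; push_cast; ring_nf
  · rw [MonoidHom.mem_ker, dicyclicToDihedral_a, map_natCast, ZMod.natCast_self]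
    rfl

theorem dicyclicToDihedral_card_ker (n : ℕ) [NeZero n] :
    Nat.card (dicyclicToDihedral n).ker = 2 := by
  rw [dicyclicToDihedral_ker, Nat.card_zpowers]
  refine orderOf_eq_prime ?_ fun h => ?_
  · rw [sq, QuaternionGroup.a_mul_a, QuaternionGroup.one_def, ← Nat.cast_add,
      show n + n = 2 * n by omega, ZMod.natCast_self]
  · rw [QuaternionGroup.one_def, QuaternionGroup.a.injEq, ZMod.natCast_eq_zero_iff] at h
    have := Nat.le_of_dvd (NeZero.pos n) h
    have := NeZero.pos n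
    omega

theorem dicyclicToDihedral_isStemExtension (n : ℕ) [NeZero n] (hn : Even n) :
    Cfsg.IsStemExtension (dicyclicToDihedral n) := by
  refine ⟨fun x => ?_, ?_, ?_⟩
  · cases x with
    | r i =>
      obtain ⟨j, rfl⟩ := ZMod.natCast_zmod_surjective i
      exact ⟨.a j, by rw [dicyclicToDihedral_a, map_natCast]⟩
    | sr i =>
      obtain ⟨j, rfl⟩ := ZMod.natCast_zmod_surjective i
      exact ⟨.xa j, by rw [dicyclicToDihedral_xa, map_natCast]⟩
  · rw [dicyclicToDihedral_ker, Subgroup.zpowers_le, Subgroup.mem_center_iff]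
    have hneg : -(n : ZMod (2 * n)) = n := by
      rw [neg_eq_iff_add_eq_zero, ← Nat.cast_add, show n + n = 2 * n by omega, ZMod.natCast_self]
    intro g
    cases g with
    | a i => rw [QuaternionGroup.a_mul_a, QuaternionGroup.a_mul_a, add_comm]
    | xa i => rw [QuaternionGroup.xa_mul_a, QuaternionGroup.a_mul_xa, sub_eq_add_neg, hneg]
  · rw [dicyclicToDihedral_ker, Subgroup.zpowers_le]
    obtain ⟨k, hk⟩ := hn
    have h1 : QuaternionGroup.a (n : ZMod (2 * n)) =
        QuaternionGroup.xa 0 * QuaternionGroup.a (-(k : ZMod (2 * n))) * (QuaternionGroup.xa 0)⁻¹ *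
          (QuaternionGroup.a (-(k : ZMod (2 * n))))⁻¹ := by
      rw [eq_mul_inv_iff_mul_eq, eq_mul_inv_iff_mul_eq, QuaternionGroup.a_mul_a,
        QuaternionGroup.a_mul_xa, QuaternionGroup.xa_mul_a]
      have hkn : (n : ZMod (2 * n)) = (k : ZMod (2 * n)) + k := by rw [← Nat.cast_add, ← hk]
      rw [hkn]
      ring_nf
    rw [h1, commutator_def]
    exact Subgroup.commutator_mem_commutator (Subgroup.mem_top _) (Subgroup.mem_top _)

end CfsgLib.FGS
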