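import Cfsg.Agent.Lib.Invol.BrauerSuzuki
import Cfsg.Agent.Lib.Char.TI
import Cfsg.Agent.Lib.Char.Vanishing

/-!
A group with one class of involutions whose centralizer is generalized dihedral over a TI subgroup,
all products of two involutions lying in conjugates of that subgroup, does not exist.
-/

set_option autoImplicit false

namespace CfsgLib.FGS

open CfsgLib.Char CfsgLib.CharBlocks
open scoped ComplexConjugate Classical

variable {G : Type*} [Group G] [Fintype G]

theorem sum_units_hom_eq_zero {H : Type*} [Group H] [Fintype H] (μ : H →* ℂˣ) {x₀ : H}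
    (hx : μ x₀ ≠ 1) : ∑ x : H, (μ x : ℂ) = 0 := by
  have h1 : ∑ x : H, (μ x : ℂ) = (μ x₀ : ℂ) * ∑ x : H, (μ x : ℂ) := by
    rw [Finset.mul_sum]
    exact (Fintype.sum_equiv (Equiv.mulLeft x₀) _ _ fun x => by simp).symm
  by_contra hne
  exact hx (Units.ext (mul_right_cancel₀ hne (h1.symm.trans (one_mul _).symm)))

theorem irr_involution_int {χ : G → ℂ} (hχ : Cfsg.IsIrrCharacter G χ) {t : G} (ht : orderOf t = 2) :
    ∃ u : ℤ, χ t = u := by
  obtain ⟨n, ρ, -, rfl⟩ := hχ
  obtain ⟨z, hz, hsum⟩ := exists_roots_char ρ t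
  rw [ht] at hz
  refine ⟨∑ i, if z i = 1 then 1 else -1, ?_⟩
  rw [hsum, Int.cast_sum]
  refine Finset.sum_congr rfl fun i _ => ?_
  rcases sq_eq_one_iff.1 (hz i) with h | h
  · simp [h]
  · rw [h]; norm_num

theorem sum_sub_subgroup {C D : Subgroup G} (hCD : C ≤ D) (φ : D → ℂ)
    (h0 : ∀ x : D, (x : G) ∉ C → φ x = 0) :
    ∑ x : D, φ x = ∑ c : C, φ (Subgroup.inclusion hCD c) := by
  refine (Fintype.sum_of_injective (Subgroup.inclusion hCD) (Subgroup.inclusion_injective hCD) _ _
    (fun x hx => h0 x fun hmem => hx ⟨⟨x, hmem⟩, Subtype.ext rfl⟩) fun c => rfl).symm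

theorem dihedral_arith {h : ℕ} {d u : ℤ} (hh : 2 ≤ h) (hd : 0 < d)
    (heq : (4 * (h : ℤ) ^ 2 - 2 * h + 1) * (d - u) ^ 2 = 8 * (h : ℤ) ^ 2 * (d * (d + 1)))
    (hcol : u ^ 2 + (u + 1) ^ 2 + 1 ≤ 4 * (h : ℤ)) : False := by
  set H : ℤ := (h : ℤ) with hH
  have hH2 : 2 ≤ H := by rw [hH]; exact_mod_cast hh
  set n := 4 * H ^ 2 - 2 * H + 1 with hn
  have hcop : IsCoprime n (8 * H ^ 2) := by
    have h1 : IsCoprime n H := ⟨1, -(4 * H - 2), by rw [hn]; ring⟩
    have h2 : IsCoprime n 2 := ⟨1, -(2 * H ^ 2 - H), by rw [hn]; ring⟩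
    have : (8 : ℤ) = 2 ^ 3 := by norm_num
    rw [this]
    exact IsCoprime.mul_right h2.pow_right h1.pow_right
  obtain ⟨k, hk⟩ : n ∣ d * (d + 1) := hcop.dvd_of_dvd_mul_left ⟨_, heq.symm⟩
  have hn0 : n ≠ 0 := by nlinarith
  have hsq : (d - u) ^ 2 = H ^ 2 * (8 * k) := by
    apply mul_left_cancel₀ hn0
    rw [heq, hk]; ring
  obtain ⟨e, he⟩ : H ∣ d - u := (Int.pow_dvd_pow_iff (by norm_num : (2 : ℕ) ≠ 0)).1 ⟨_, hsq⟩
  have he2 : e ^ 2 = 8 * k := by
    apply mul_left_cancel₀ (pow_ne_zero 2 (show H ≠ 0 by omega))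
    rw [← hsq, he]; ring
  obtain ⟨f, hf⟩ : (2 : ℤ) ∣ e := Int.prime_two.dvd_of_dvd_pow ⟨4 * k, by rw [he2]; ring⟩
  have hf2 : f ^ 2 = 2 * k := by
    apply mul_left_cancel₀ (show (4 : ℤ) ≠ 0 by norm_num)
    calc 4 * f ^ 2 = e ^ 2 := by rw [hf]; ring
      _ = _ := by rw [he2]; ring
  obtain ⟨m, hm⟩ : (2 : ℤ) ∣ f := Int.prime_two.dvd_of_dvd_pow ⟨k, hf2⟩
  have hk2 : k = 2 * m ^ 2 := by rw [hm] at hf2; linarith
  have hkpos : k ≠ 0 := by
    rintro rfl
    rw [mul_zero] at hk
    nlinarith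
  have hm0 : m ≠ 0 := by rintro rfl; simp at hk2; exact hkpos hk2
  have hdm : d = u + 4 * H * m := by rw [hf, hm] at he; linarith
  set w := 2 * u + 1 with hw
  have hw1 : 1 ≤ w ^ 2 := by
    have : w ≠ 0 := by omega
    have h0 : 0 < w ^ 2 := by positivity
    omega
  have heq2 : 32 * H ^ 2 * m ^ 2 + 16 * H * m ^ 2 - 8 * m ^ 2 + 16 * H * m * w + w ^ 2 - 1 = 0 := by
    rw [hdm, hk2, hn] at hk
    rw [hw]
    linear_combination 4 * hk
  have hm1 : 1 ≤ m ^ 2 := by
    have h0 : 0 < m ^ 2 := by positivity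
    omega
  have hneg : 16 * H * m * w ≤ -(32 * H ^ 2 * m ^ 2) := by nlinarith
  have hpos : 0 ≤ 32 * H ^ 2 * m ^ 2 := by positivity
  have h3 := mul_self_le_mul_self hpos (show 32 * H ^ 2 * m ^ 2 ≤ -(16 * H * m * w) by linarith)
  have hpos' : 0 < 256 * H ^ 2 * m ^ 2 := by positivity
  have h4 : 4 * H ^ 2 * m ^ 2 ≤ w ^ 2 := le_of_mul_le_mul_left (by ring_nf at h3 ⊢; linarith) hpos'
  have h5 : 4 * H ^ 2 ≤ w ^ 2 := by nlinarith
  nlinarith

variable {C D : Subgroup G} {t : G} {h : ℕ}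

theorem dihedralTI_false (hh : 2 ≤ h) (hCD : C ≤ D) (hCc : Nat.card C = 2 * h)
    (hDc : Nat.card D = 4 * h) (hcomm : ∀ a ∈ C, ∀ b ∈ C, a * b = b * a)
    (ht : t ∈ C) (ht2 : orderOf t = 2) (hDt : Subgroup.centralizer ({t} : Set G) = D)
    (hout : ∀ x ∈ D, x ∉ C → x * x = 1 ∧ ∀ c ∈ C, x * c * x⁻¹ = c⁻¹)
    (huniq : ∀ c ∈ C, c * c = 1 → c = 1 ∨ c = t)
    (hCent : ∀ c ∈ C, c ≠ 1 → c ≠ t → Subgroup.centralizer ({c} : Set G) = C)
    (hTI : ∀ g : G, g ∉ D → ∀ c ∈ C, g * c * g⁻¹ ∈ C → c = 1)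
    (hinv : ∀ w : G, orderOf w = 2 → IsConj t w)
    (hdih : ∀ a : G, a ≠ 1 → t * a * t⁻¹ = a⁻¹ → Odd (orderOf a) → ∃ g : G, g⁻¹ * a * g ∈ C)
    (μ : C →* ℂˣ) (hμt : μ ⟨t, ht⟩ = 1) (x₀ : C) (hμ : μ x₀ * μ x₀ ≠ 1) : False := by
  classical
  have htt : t * t = 1 := by rw [← pow_two, ← ht2, pow_orderOf_eq_one]
  have ht1 : t ≠ 1 := fun e => by simp [e] at ht2
  have hmemD : ∀ x : G, x ∈ D ↔ x * t = t * x := fun x => by
    rw [← hDt, Subgroup.mem_centralizer_singleton_iff]
  have hnorm : ∀ x ∈ D, ∀ c ∈ C, x * c * x⁻¹ ∈ C := by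
    intro x hx c hc
    by_cases hxC : x ∈ C
    · exact mul_mem (mul_mem hxC hc) (inv_mem hxC)
    · rw [(hout x hx hxC).2 c hc]; exact inv_mem hc
  have horder2 : ∀ w : G, orderOf w = 2 ↔ w * w = 1 ∧ w ≠ 1 := fun w => by
    rw [orderOf_eq_prime_iff, pow_two]
  have hi : ∀ w : G, orderOf w = 2 → ∃ g : G, g * t * g⁻¹ = w := fun w hw => isConj_iff.1 (hinv w hw)
  choose g hg using hi
  have hgord : ∀ x : G, orderOf (x * t * x⁻¹) = 2 := fun x => by
    rw [← ht2]; exact MulEquiv.orderOf_eq (MulAut.conj x) t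
  -- involutions and cosets
  have hcoset : ∀ P : G → Prop,
      Nat.card {x : G // P (x * t * x⁻¹)} = Nat.card {w : G // orderOf w = 2 ∧ P w} * (4 * h) := by
    intro P
    rw [← hDc, ← Nat.card_prod]
    refine Nat.card_congr
      { toFun := fun x => (⟨x.1 * t * x.1⁻¹, hgord _, x.2⟩,
          ⟨(g _ (hgord x.1))⁻¹ * x.1, (hmemD _).2 (by
            have e := hg _ (hgord x.1)
            calc (g _ (hgord x.1))⁻¹ * x.1 * t
                = (g _ (hgord x.1))⁻¹ * (x.1 * t * x.1⁻¹) * x.1 := by group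
              _ = (g _ (hgord x.1))⁻¹ * (g _ (hgord x.1) * t * (g _ (hgord x.1))⁻¹) * x.1 := by rw [e]
              _ = t * ((g _ (hgord x.1))⁻¹ * x.1) := by group)⟩)
        invFun := fun q => ⟨g q.1.1 q.1.2.1 * q.2.1, by
          have h1 := (hmemD _).1 q.2.2
          have e := hg q.1.1 q.1.2.1
          have : g q.1.1 q.1.2.1 * q.2.1 * t * (g q.1.1 q.1.2.1 * q.2.1)⁻¹ = q.1.1 := by
            calc g q.1.1 q.1.2.1 * q.2.1 * t * (g q.1.1 q.1.2.1 * q.2.1)⁻¹
                = g q.1.1 q.1.2.1 * (q.2.1 * t) * (q.2.1 : G)⁻¹ * (g q.1.1 q.1.2.1)⁻¹ := by group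
              _ = g q.1.1 q.1.2.1 * t * (g q.1.1 q.1.2.1)⁻¹ := by rw [h1]; group
              _ = _ := e
          rw [this]; exact q.1.2.2⟩
        left_inv := fun x => Subtype.ext (by simp)
        right_inv := fun q => by
          obtain ⟨⟨w, hw, hPw⟩, ⟨dd, hdd⟩⟩ := q
          have hw' : g w hw * dd * t * (g w hw * dd)⁻¹ = w := by
            calc g w hw * dd * t * (g w hw * dd)⁻¹
                = g w hw * (dd * t) * dd⁻¹ * (g w hw)⁻¹ := by group
              _ = g w hw * t * (g w hw)⁻¹ := by rw [(hmemD dd).1 hdd]; group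
              _ = w := hg w hw
          refine Prod.ext (Subtype.ext hw') (Subtype.ext ?_)
          have : ∀ (w' : G) (hw'' : orderOf w' = 2), w' = w → g w' hw'' = g w hw := by
            rintro _ _ rfl; rfl
          show (g _ _)⁻¹ * (g w hw * dd) = dd
          rw [this _ _ hw']
          group }
  -- the outer involutions of `D`
  have hz2 : ∀ z : G, z ∈ D → z ∉ C → orderOf z = 2 := fun z hz hzC =>
    (horder2 z).2 ⟨(hout z hz hzC).1, fun e => hzC (e ▸ one_mem C)⟩
  let Φ : {q : G × G // (q.1 ∈ D ∧ q.1 ∉ C) ∧ q.2 ∈ C ∧ q.2 ≠ 1} → G := fun q =>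
    g q.1.1 (hz2 _ q.2.1.1 q.2.1.2) * q.1.2 * (g q.1.1 (hz2 _ q.2.1.1 q.2.1.2))⁻¹ * t
  -- `t` is outer in the centralizer of each outer involution
  have htz : ∀ (z : G) (hz : z ∈ D ∧ z ∉ C), ∀ c ∈ C, t * (g z (hz2 z hz.1 hz.2) * c *
      (g z (hz2 z hz.1 hz.2))⁻¹) * t⁻¹ = g z (hz2 z hz.1 hz.2) * c⁻¹ * (g z (hz2 z hz.1 hz.2))⁻¹ := by
    intro z hz c hc
    have e := hg z (hz2 z hz.1 hz.2)
    set k := g z (hz2 z hz.1 hz.2)
    have hkD : k⁻¹ * t * k ∈ D := by
      rw [hmemD]
      have h1 : z * t = t * z := (hmemD z).1 hz.1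
      calc k⁻¹ * t * k * t = k⁻¹ * (t * (k * t * k⁻¹)) * k := by group
        _ = k⁻¹ * (z * t) * k := by rw [e, h1]
        _ = _ := by rw [← e]; group
    have hkC : k⁻¹ * t * k ∉ C := by
      intro hmem
      rcases huniq _ hmem (by
        calc k⁻¹ * t * k * (k⁻¹ * t * k) = k⁻¹ * (t * t) * k := by group
          _ = 1 := by rw [htt]; group) with h1 | h1
      · exact ht1 (by calc t = k * (k⁻¹ * t * k) * k⁻¹ := by group
          _ = 1 := by rw [h1]; group)
      · refine hz.2 ?_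
        have : z = t := by
          rw [← e]
          calc k * t * k⁻¹ = k * (k⁻¹ * t * k) * k⁻¹ := by rw [h1]
            _ = t := by group
        rw [this]; exact ht
    have h2 := (hout _ hkD hkC).2 c hc
    calc t * (k * c * k⁻¹) * t⁻¹ = k * (k⁻¹ * t * k * c * (k⁻¹ * t * k)⁻¹) * k⁻¹ := by group
      _ = _ := by rw [h2]
  have hΦimg : ∀ w : G, (∃ q, Φ q = w) ↔ (orderOf w = 2 ∧ w ≠ t) := by
    intro w
    constructor
    · rintro ⟨⟨⟨z, c⟩, ⟨hz, hzC⟩, hc, hc1⟩, rfl⟩
      have hk := htz z ⟨hz, hzC⟩ c hc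
      simp only [Φ]
      set k := g z (hz2 z hz hzC) with hkdef
      have hne : k * c * k⁻¹ ≠ 1 := fun e => hc1 (conj_eq_one_iff.1 e)
      refine ⟨(horder2 _).2 ⟨?_, ?_⟩, fun e => hne ?_⟩
      · calc k * c * k⁻¹ * t * (k * c * k⁻¹ * t)
            = k * c * k⁻¹ * (t * (k * c * k⁻¹) * t⁻¹) * (t * t) := by group
          _ = 1 := by rw [hk, htt]; group
      · intro e
        have e1 : k * c * k⁻¹ = t := by
          rw [eq_inv_of_mul_eq_one_left e, inv_eq_of_mul_eq_one_right htt]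
        -- then `t` would lie in the TI subgroup
        have h3 : k⁻¹ * t * k = c := by rw [← e1]; group
        have h4 : c * c = 1 := by
          rw [← h3]
          calc k⁻¹ * t * k * (k⁻¹ * t * k) = k⁻¹ * (t * t) * k := by group
            _ = 1 := by rw [htt]; group
        rcases huniq c hc h4 with h5 | h5
        · exact hc1 h5
        · refine hzC ?_
          have : z = t := by
            rw [← hg z (hz2 z hz hzC), ← hkdef]
            calc k * t * k⁻¹ = k * c * k⁻¹ := by rw [h5]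
              _ = t := e1
          rw [this]; exact ht
      · calc k * c * k⁻¹ = k * c * k⁻¹ * t * t⁻¹ := by group
          _ = 1 := by rw [e]; group
    · rintro ⟨hw, hwt⟩
      obtain ⟨hww, hw1⟩ := (horder2 w).1 hw
      set a := w * t with ha
      have hwi : w⁻¹ = w := inv_eq_of_mul_eq_one_right hww
      have hti : t⁻¹ = t := inv_eq_of_mul_eq_one_right htt
      have ha1 : a ≠ 1 := fun e => hwt (by
        calc w = w * t * t⁻¹ := by group
          _ = t := by rw [show w * t = 1 from e, one_mul, hti])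
      have hta : t * a * t⁻¹ = a⁻¹ := by
        rw [ha, mul_inv_rev, hti, hwi]
        calc t * (w * t) * t = t * w * (t * t) := by group
          _ = t * w := by rw [htt, mul_one]
      obtain ⟨z, hz, hzC, hmem⟩ : ∃ (z : G) (hz : z ∈ D) (hzC : z ∉ C),
          (g z (hz2 z hz hzC))⁻¹ * a * g z (hz2 z hz hzC) ∈ C := by
        rcases Nat.even_or_odd (orderOf a) with hev | hod
        · obtain ⟨m, hm⟩ := hev
          set z := a ^ m with hzdef
          have hm0 : 0 < m := by have := orderOf_pos a; omega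
          have hzz : z * z = 1 := by rw [hzdef, ← pow_add, ← hm, pow_orderOf_eq_one]
          have hz1 : z ≠ 1 := pow_ne_one_of_lt_orderOf hm0.ne' (by omega)
          have hzD : z ∈ D := by
            rw [hmemD]
            have h1 : t * z * t⁻¹ = z := by
              rw [hzdef, ← conj_pow, hta, inv_pow, ← hzdef, inv_eq_of_mul_eq_one_right hzz]
            exact (mul_inv_eq_iff_eq_mul.1 h1).symm
          have haz : a * z = z * a := (Commute.self_pow a m).eq
          have hzC : z ∉ C := by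
            intro hmem
            rcases huniq z hmem hzz with h1 | h1
            · exact hz1 h1
            · have h2 : t * a * t⁻¹ = a := by rw [← h1, ← haz]; group
              have h3 : a * a = 1 := mul_eq_one_iff_eq_inv.2 (h2.symm.trans hta)
              have hord : orderOf a = 2 := (horder2 a).2 ⟨h3, ha1⟩
              rw [hord] at hm
              have : m = 1 := by omega
              rw [hzdef, this, pow_one] at h1
              apply hw1
              calc w = w * t * t⁻¹ := by group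
                _ = 1 := by rw [← ha, h1, mul_inv_cancel]
          refine ⟨z, hzD, hzC, ?_⟩
          have e := hg z (hz2 z hzD hzC)
          set k := g z (hz2 z hzD hzC)
          have hkD : k⁻¹ * a * k ∈ D := by
            rw [hmemD]
            calc k⁻¹ * a * k * t = k⁻¹ * (a * (k * t * k⁻¹)) * k := by group
              _ = k⁻¹ * (z * a) * k := by rw [e, haz]
              _ = _ := by rw [← e]; group
          by_contra hnot
          have h3 := (hout _ hkD hnot).1
          have h4 : a * a = 1 := by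
            calc a * a = k * (k⁻¹ * a * k * (k⁻¹ * a * k)) * k⁻¹ := by group
              _ = 1 := by rw [h3]; group
          have hord : orderOf a = 2 := (horder2 a).2 ⟨h4, ha1⟩
          rw [hord] at hm
          have hm1 : m = 1 := by omega
          rw [hzdef, hm1, pow_one] at e
          refine hnot ?_
          rw [show k⁻¹ * a * k = t by rw [← e]; group]
          exact ht
        · obtain ⟨q, hq⟩ := hdih a ha1 hta hod
          have hqa : (q⁻¹ * t * q) * (q⁻¹ * a * q) * (q⁻¹ * t * q)⁻¹ ∈ C := by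
            have : (q⁻¹ * t * q) * (q⁻¹ * a * q) * (q⁻¹ * t * q)⁻¹ = (q⁻¹ * a * q)⁻¹ := by
              calc (q⁻¹ * t * q) * (q⁻¹ * a * q) * (q⁻¹ * t * q)⁻¹ = q⁻¹ * (t * a * t⁻¹) * q := by group
                _ = _ := by rw [hta]; group
            rw [this]; exact inv_mem hq
          have hb1 : q⁻¹ * a * q ≠ 1 := fun e => ha1 (by
            calc a = q * (q⁻¹ * a * q) * q⁻¹ := by group
              _ = 1 := by rw [e]; group)
          have hsD : q⁻¹ * t * q ∈ D := by
            by_contra hns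
            exact hb1 (hTI _ hns _ hq hqa)
          have hsC : q⁻¹ * t * q ∉ C := by
            intro hs
            have h1 := hcomm _ hs _ hq
            have h2 : t * a = a * t := by
              calc t * a = q * ((q⁻¹ * t * q) * (q⁻¹ * a * q)) * q⁻¹ := by group
                _ = q * ((q⁻¹ * a * q) * (q⁻¹ * t * q)) * q⁻¹ := by rw [h1]
                _ = a * t := by group
            have h3 : a = a⁻¹ := by rw [← hta, h2, mul_inv_cancel_right]
            have h4 : orderOf a = 2 := (horder2 a).2 ⟨mul_eq_one_iff_eq_inv.2 h3, ha1⟩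
            rw [h4] at hod
            exact absurd hod (by decide)
          have hzD : q * t * q⁻¹ ∈ D := by
            rw [hmemD]
            have h1 := (hmemD _).1 hsD
            calc q * t * q⁻¹ * t = q * (t * (q⁻¹ * t * q)) * q⁻¹ := by group
              _ = q * ((q⁻¹ * t * q) * t) * q⁻¹ := by rw [h1]
              _ = _ := by group
          have hzC : q * t * q⁻¹ ∉ C := by
            intro hzC
            rcases huniq _ hzC (by
              calc q * t * q⁻¹ * (q * t * q⁻¹) = q * (t * t) * q⁻¹ := by group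
                _ = 1 := by rw [htt]; group) with h1 | h1
            · exact ht1 (conj_eq_one_iff.1 h1)
            · refine hsC ?_
              rw [show q⁻¹ * t * q = t from by
                calc q⁻¹ * t * q = q⁻¹ * (q * t * q⁻¹) * q := by rw [h1]
                  _ = t := by group]
              exact ht
          refine ⟨q * t * q⁻¹, hzD, hzC, ?_⟩
          have e := hg _ (hz2 _ hzD hzC)
          set k := g _ (hz2 _ hzD hzC)
          have hd : k⁻¹ * q ∈ D := by
            rw [hmemD]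
            calc k⁻¹ * q * t = k⁻¹ * (q * t * q⁻¹) * q := by group
              _ = k⁻¹ * (k * t * k⁻¹) * q := by rw [e]
              _ = _ := by group
          have := hnorm _ hd _ hq
          convert this using 1
          group
      refine ⟨⟨(z, (g z (hz2 z hz hzC))⁻¹ * a * g z (hz2 z hz hzC)), ⟨hz, hzC⟩, hmem, fun e => ha1 ?_⟩, ?_⟩
      · calc a = g z (hz2 z hz hzC) * ((g z (hz2 z hz hzC))⁻¹ * a * g z (hz2 z hz hzC)) *
            (g z (hz2 z hz hzC))⁻¹ := by group
          _ = 1 := by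
            rw [show (g z (hz2 z hz hzC))⁻¹ * a * g z (hz2 z hz hzC) = 1 from e]; group
      · simp only [Φ]
        calc g z _ * ((g z _)⁻¹ * a * g z _) * (g z _)⁻¹ * t = a * t := by group
          _ = w := by rw [ha, mul_assoc, htt, mul_one]
  have hΦinj : Function.Injective Φ := by
    rintro ⟨⟨z, c⟩, ⟨hz, hzC⟩, hc, hc1⟩ ⟨⟨z', c'⟩, ⟨hz', hzC'⟩, hc', hc1'⟩ e
    simp only [Φ] at e
    have e' := mul_right_cancel e
    have e1 := hg z (hz2 z hz hzC)
    have e1' := hg z' (hz2 z' hz' hzC')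
    set k := g z (hz2 z hz hzC) with hk
    set k' := g z' (hz2 z' hz' hzC') with hk'
    have h1 : (k'⁻¹ * k) * c * (k'⁻¹ * k)⁻¹ = c' := by
      calc (k'⁻¹ * k) * c * (k'⁻¹ * k)⁻¹ = k'⁻¹ * (k * c * k⁻¹) * k' := by group
        _ = _ := by rw [e']; group
    have hkk : k'⁻¹ * k ∈ D := by
      by_contra hn
      exact hc1 (hTI _ hn c hc (h1.symm ▸ hc'))
    have h2 := (hmemD _).1 hkk
    have hzz : z = z' := by
      rw [← e1, ← e1']
      calc k * t * k⁻¹ = k' * ((k'⁻¹ * k) * t) * k⁻¹ := by group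
        _ = k' * (t * (k'⁻¹ * k)) * k⁻¹ := by rw [h2]
        _ = _ := by group
    subst hzz
    have hcc : c = c' := mul_left_cancel (mul_right_cancel e')
    subst hcc
    rfl
  -- the counts
  set nI := Nat.card {w : G // orderOf w = 2} with hnI
  have hGn : Nat.card G = nI * (4 * h) := by
    have := hcoset fun _ => True
    rw [Nat.card_congr (Equiv.subtypeUnivEquiv fun _ => trivial),
      Nat.card_congr (Equiv.subtypeEquivRight fun w => and_iff_left (a := orderOf w = 2) trivial)] at this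
    exact this
  have hZcard : Nat.card {z : G // z ∈ D ∧ z ∉ C} = 2 * h := by
    rw [show Nat.card {z : G // z ∈ D ∧ z ∉ C} = Set.ncard ((D : Set G) \ C) from Nat.card_coe_set_eq _]
    rw [Set.ncard_sdiff (SetLike.coe_subset_coe.2 hCD), ← Nat.card_coe_set_eq, ← Nat.card_coe_set_eq,
      SetLike.coe_sort_coe, SetLike.coe_sort_coe, hCc, hDc]
    omega
  have hn : nI = 2 * h * (2 * h - 1) + 1 := by
    have e1 : Nat.card {q : G × G // (q.1 ∈ D ∧ q.1 ∉ C) ∧ q.2 ∈ C ∧ q.2 ≠ 1} = 2 * h * (2 * h - 1) := by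
      rw [Nat.card_congr (Equiv.subtypeProdEquivProd (p := fun z => z ∈ D ∧ z ∉ C)
        (q := fun c => c ∈ C ∧ c ≠ 1)), Nat.card_prod, hZcard]
      congr 1
      rw [show Nat.card {c : G // c ∈ C ∧ c ≠ 1} = Set.ncard ((C : Set G) \ {1}) from Nat.card_coe_set_eq _,
        Set.ncard_sdiff_singleton_of_mem (one_mem C), ← Nat.card_coe_set_eq, SetLike.coe_sort_coe, hCc]
    have e2 : Set.range Φ = {w : G | orderOf w = 2} \ {t} := by
      ext w
      exact hΦimg w
    rw [← e1, ← Set.ncard_range_of_injective hΦinj, e2,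
      Set.ncard_sdiff_singleton_of_mem (show t ∈ {w : G | orderOf w = 2} from ht2), hnI,
      show Nat.card {w : G // orderOf w = 2} = Set.ncard {w : G | orderOf w = 2} from Nat.card_coe_set_eq _]
    have : 0 < Set.ncard {w : G | orderOf w = 2} :=
      (Set.ncard_pos (Set.toFinite _)).2 ⟨t, ht2⟩
    omega
  -- the class multiplication constant
  set K : G → ℂ := fun z => ∑ χ : Cfsg.IrrCharacter G,
    (χ : G → ℂ) t * (χ : G → ℂ) t * conj ((χ : G → ℂ) z) / (χ : G → ℂ) 1 with hK
  have hKc : ∀ c ∈ C, c ≠ 1 → c ≠ t → (nI : ℂ) * K c = 8 * (h : ℂ) ^ 2 := by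
    intro c hc hc1 hct
    have hci : c ≠ c⁻¹ := fun e => (huniq c hc (mul_eq_one_iff_eq_inv.2 e)).elim hc1 hct
    have hconj : ∀ (x a : G), a ∈ C → a ≠ 1 → (IsConj (x * a * x⁻¹) c ↔ a = c ∨ a = c⁻¹) := by
      intro x a ha ha1
      rw [isConj_iff]
      constructor
      · rintro ⟨y, hy⟩
        have e : (y * x) * a * (y * x)⁻¹ = c := by rw [← hy]; group
        have hyx : y * x ∈ D := by
          by_contra hn
          exact ha1 (hTI _ hn a ha (e.symm ▸ hc))
        by_cases hyC : y * x ∈ C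
        · left
          rw [← e, hcomm _ hyC _ ha, mul_inv_cancel_right]
        · right
          rw [← e, (hout _ hyx hyC).2 a ha, inv_inv]
      · rintro (rfl | rfl)
        · exact ⟨x⁻¹, by group⟩
        · obtain ⟨z, hzD, hzC⟩ : ∃ z, z ∈ D ∧ z ∉ C := by
            obtain ⟨⟨z, hz⟩⟩ := (Nat.card_pos_iff.1 (hZcard ▸ (by omega : 0 < 2 * h))).1
            exact ⟨z, hz⟩
          refine ⟨z * x⁻¹, ?_⟩
          calc z * x⁻¹ * (x * c⁻¹ * x⁻¹) * (z * x⁻¹)⁻¹ = z * c⁻¹ * z⁻¹ := by group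
            _ = c := by rw [(hout z hzD hzC).2 _ (inv_mem hc), inv_inv]
    have hcnt : Nat.card {w : G // orderOf w = 2 ∧ IsConj (w * t) c} = 4 * h := by
      have hsub : {w : G | orderOf w = 2 ∧ IsConj (w * t) c} = Φ '' {q | q.1.2 = c ∨ q.1.2 = c⁻¹} := by
        ext w
        constructor
        · rintro ⟨hw, hwc⟩
          have hwt : w ≠ t := fun e => by
            rw [e, htt, isConj_one_right] at hwc
            exact hc1 hwc
          obtain ⟨q, rfl⟩ := (hΦimg w).2 ⟨hw, hwt⟩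
          refine ⟨q, ?_, rfl⟩
          simp only [Φ, mul_assoc, htt, mul_one] at hwc
          rw [← mul_assoc] at hwc
          exact (hconj _ _ q.2.2.1 q.2.2.2).1 hwc
        · rintro ⟨q, hq, rfl⟩
          refine ⟨((hΦimg _).1 ⟨q, rfl⟩).1, ?_⟩
          simp only [Φ, mul_assoc, htt, mul_one]
          rw [← mul_assoc]
          exact (hconj _ _ q.2.2.1 q.2.2.2).2 hq
      rw [show Nat.card {w : G // orderOf w = 2 ∧ IsConj (w * t) c} =
          Set.ncard {w : G | orderOf w = 2 ∧ IsConj (w * t) c} from Nat.card_coe_set_eq _, hsub,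
        Set.ncard_image_of_injective _ hΦinj, ← Nat.card_coe_set_eq]
      refine (Nat.card_congr (show {q : {q : G × G // (q.1 ∈ D ∧ q.1 ∉ C) ∧ q.2 ∈ C ∧ q.2 ≠ 1} // q.1.2 = c ∨ q.1.2 = c⁻¹} ≃
          {z : G // z ∈ D ∧ z ∉ C} × {a : G // a = c ∨ a = c⁻¹} from
        { toFun := fun q => (⟨q.1.1.1, q.1.2.1⟩, ⟨q.1.1.2, q.2⟩)
          invFun := fun q => ⟨⟨(q.1.1, q.2.1), q.1.2, by
            rcases q.2.2 with e | e <;> rw [e]
            · exact ⟨hc, hc1⟩
            · exact ⟨inv_mem hc, inv_ne_one.2 hc1⟩⟩, q.2.2⟩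
          left_inv := fun q => rfl
          right_inv := fun q => rfl })).trans ?_
      rw [Nat.card_prod, hZcard, show Nat.card {a : G // a = c ∨ a = c⁻¹} = Set.ncard ({c, c⁻¹} : Set G) from
        Nat.card_coe_set_eq _, Set.ncard_pair hci]
      ring
    have h1 := card_conj_mul_isConj t t c
    rw [hcoset (fun w => IsConj (w * t) c), hcnt, hCent c hc hc1 hct, hCc, hGn] at h1
    push_cast at h1
    have h4 : (4 * (h : ℂ)) ≠ 0 := by
      have : (h : ℂ) ≠ 0 := Nat.cast_ne_zero.2 (by omega)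
      exact mul_ne_zero (by norm_num) this
    apply mul_left_cancel₀ h4
    simp only [hK]
    linear_combination -h1
  -- the generalized character
  set C' := C.subgroupOf D with hC'
  let μ' : C' →* ℂˣ := μ.comp (Subgroup.subgroupOfEquivOfLe hCD).toMonoidHom
  set ψ : C' → ℂ := fun x => 1 - (μ' x : ℂ) with hψ
  set f : D → ℂ := Cfsg.indFun C' ψ with hf
  have hψgen : Cfsg.IsGeneralizedCharacter C' ψ :=
    isGen_sub isGen_one (isGen_of_irr (isIrrCharacter_units_hom μ'))
  have hfgen : Cfsg.IsGeneralizedCharacter D f := isGen_indFun C' hψgen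
  have hcarD : (Nat.card C' : ℂ) = 2 * h := by
    rw [hC', Nat.card_congr (Subgroup.subgroupOfEquivOfLe hCD).toEquiv, hCc]; push_cast; ring
  have hfin : ∀ c : C, f (Subgroup.inclusion hCD c) = 2 - (μ c : ℂ) - ((μ c)⁻¹ : ℂˣ) := by
    intro c
    have hv : ∀ y : D, Cfsg.extendByZero C' ψ (y⁻¹ * Subgroup.inclusion hCD c * y) =
        if (y : G) ∈ C then 1 - (μ c : ℂ) else 1 - ((μ c)⁻¹ : ℂˣ) := by
      intro y
      have hmem : y⁻¹ * Subgroup.inclusion hCD c * y ∈ C' := by
        rw [hC', Subgroup.mem_subgroupOf]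
        have := hnorm _ (inv_mem y.2) _ c.2
        simpa using this
      rw [extendByZero_of_mem ψ hmem]
      simp only [hψ]
      have hval : ∀ b : C, (b : G) = (y : G)⁻¹ * c * y →
          μ' ⟨y⁻¹ * Subgroup.inclusion hCD c * y, hmem⟩ = μ b := by
        intro b hb
        simp only [μ', MonoidHom.comp_apply]
        exact congrArg μ (Subtype.ext (hb.symm ▸ rfl))
      split_ifs with hy
      · rw [hval c (by rw [hcomm _ (inv_mem hy) _ c.2, inv_mul_cancel_right])]
      · rw [hval c⁻¹ (by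
          have := (hout _ (inv_mem y.2) (fun hh => hy (by simpa using inv_mem hh))).2 _ c.2
          rw [inv_inv] at this
          rw [Subgroup.coe_inv]
          exact this.symm), map_inv]
    rw [hf, indFun_apply, Finset.sum_congr rfl fun y _ => hv y, Finset.sum_ite, Finset.sum_const,
      Finset.sum_const, nsmul_eq_mul, nsmul_eq_mul, hcarD]
    have e1 : (Finset.univ.filter fun y : D => (y : G) ∈ C).card = 2 * h := by
      rw [← Fintype.card_subtype, ← Nat.card_eq_fintype_card, ← hCc]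
      exact Nat.card_congr (Subgroup.subgroupOfEquivOfLe hCD).toEquiv
    have e2 : (Finset.univ.filter fun y : D => ¬ (y : G) ∈ C).card = 2 * h := by
      have := Finset.card_filter_add_card_filter_not (s := (Finset.univ : Finset D)) (fun y : D => (y : G) ∈ C)
      rw [e1, Finset.card_univ, ← Nat.card_eq_fintype_card, hDc] at this
      omega
    rw [e1, e2]
    have : (h : ℂ) ≠ 0 := Nat.cast_ne_zero.2 (by omega)
    field_simp
    push_cast
    ring
  have hfout : ∀ x : D, (x : G) ∉ C → f x = 0 := by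
    intro x hx
    rw [hf, indFun_apply]
    refine mul_eq_zero_of_right _ (Finset.sum_eq_zero fun y _ => extendByZero_of_notMem ψ fun hmem => hx ?_)
    rw [hC', Subgroup.mem_subgroupOf] at hmem
    have := hnorm _ y.2 _ hmem
    convert this using 1
    push_cast
    group
  have hf1 : f 1 = 0 := by
    have := hfin 1
    simp only [map_one, inv_one, Units.val_one] at this
    rw [this]; ring
  have hft : f (Subgroup.inclusion hCD ⟨t, ht⟩) = 0 := by
    rw [hfin, hμt, inv_one, Units.val_one]; ring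
  have hμ1 : μ x₀ ≠ 1 := fun e => hμ (by rw [e, one_mul])
  have hS1 : ∑ c : C, (μ c : ℂ) = 0 := sum_units_hom_eq_zero μ hμ1
  have hS2 : ∑ c : C, ((μ c)⁻¹ : ℂˣ).val = 0 :=
    sum_units_hom_eq_zero (μ⁻¹) (x₀ := x₀) (by simpa using hμ1)
  have hS3 : ∑ c : C, (μ c * μ c : ℂˣ).val = 0 :=
    sum_units_hom_eq_zero (μ * μ) (x₀ := x₀) hμ
  have hS4 : ∑ c : C, ((μ c * μ c)⁻¹ : ℂˣ).val = 0 :=
    sum_units_hom_eq_zero ((μ * μ)⁻¹) (x₀ := x₀) (fun e => hμ (inv_eq_one.1 e))
  have hCf : (Fintype.card C : ℂ) = 2 * h := by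
    rw [← Nat.card_eq_fintype_card, hCc]; push_cast; ring
  have hfsum : ∑ x : D, f x = 4 * h := by
    rw [sum_sub_subgroup hCD f hfout, Finset.sum_congr rfl fun c _ => hfin c, Finset.sum_sub_distrib,
      Finset.sum_sub_distrib, hS1, hS2, Finset.sum_const, Finset.card_univ, nsmul_eq_mul, hCf]
    ring
  have hfreal : ∀ x : D, conj (f x) = f x := by
    intro x
    by_cases hx : (x : G) ∈ C
    · rw [show x = Subgroup.inclusion hCD ⟨x, hx⟩ from rfl, hfin]
      set c : C := ⟨x, hx⟩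
      have hn1 : conj (μ c : ℂ) = ((μ c)⁻¹ : ℂˣ).val := by
        have := char_inv (isCharacter_of_isIrr (isIrrCharacter_units_hom μ)) c
        simp only [map_inv] at this
        exact this.symm
      have hn2 : conj (((μ c)⁻¹ : ℂˣ).val) = (μ c : ℂ) := by rw [← hn1, Complex.conj_conj]
      rw [map_sub, map_sub, map_ofNat, hn1, hn2]
      ring
    · rw [hfout x hx, map_zero]
  have hfnorm : Cfsg.classInner f f = 3 := by
    rw [classInner_def, hDc]
    have : ∑ x : D, f x * conj (f x) = 12 * h := by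
      rw [Finset.sum_congr rfl fun x _ => by rw [hfreal x],
        sum_sub_subgroup hCD (fun x => f x * f x) (fun x hx => by rw [hfout x hx, mul_zero])]
      have e : ∀ c : C, f (Subgroup.inclusion hCD c) * f (Subgroup.inclusion hCD c) =
          6 - 4 * (μ c : ℂ) - 4 * ((μ c)⁻¹ : ℂˣ).val + (μ c * μ c : ℂˣ).val + ((μ c * μ c)⁻¹ : ℂˣ).val := by
        intro c
        rw [hfin, mul_inv_rev, Units.val_mul, Units.val_mul]
        have h1 : (μ c : ℂ) * ((μ c)⁻¹ : ℂˣ).val = 1 := Units.mul_inv _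
        linear_combination 2 * h1
      rw [Finset.sum_congr rfl fun c _ => e c, Finset.sum_add_distrib, Finset.sum_add_distrib,
        Finset.sum_sub_distrib, Finset.sum_sub_distrib, ← Finset.mul_sum, ← Finset.mul_sum, hS1, hS2, hS3, hS4,
        Finset.sum_const, Finset.card_univ, nsmul_eq_mul, hCf]
      ring
    rw [this]
    have : (h : ℂ) ≠ 0 := Nat.cast_ne_zero.2 (by omega)
    push_cast
    field_simp
    norm_num
  set θ := Cfsg.indFun D f with hθ
  have hTI' : ∀ x : G, x ∉ D → ∀ c ∈ (C : Set G), x * c * x⁻¹ ∈ (C : Set G) → c = 1 := hTI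
  have hfT : ∀ x : D, (x : G) ∉ (C : Set G) → f x = 0 := hfout
  have hθnorm : Cfsg.classInner θ θ = 3 := by
    rw [hθ, classInner_indFun_of_TI D (C : Set G) hTI' (isClassFunction_of_isGen hfgen) hfT hfT hf1, hfnorm]
  have hθ1 : Cfsg.classInner θ (fun _ => (1 : ℂ)) = 1 := by
    rw [hθ, frobenius_reciprocity D f (isClassFunction_of_isIrr isIrrCharacter_one), classInner_def, hDc]
    simp only [map_one, mul_one]
    rw [hfsum]
    have : (h : ℂ) ≠ 0 := Nat.cast_ne_zero.2 (by omega)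
    push_cast
    field_simp
  have hθone : θ 1 = 0 := by
    rw [hθ, CfsgLib.Char.indFun_one, hf1, mul_zero]
  have hθt : θ t = 0 := by
    have := indFun_eq_of_TI D (C : Set G) hTI' (isClassFunction_of_isGen hfgen) hfT
      (t := Subgroup.inclusion hCD ⟨t, ht⟩) ht (fun e => ht1 (congrArg Subtype.val e))
    rw [hft] at this
    exact this
  obtain ⟨A, B, hAB, hdec⟩ := CfsgLib.Invol.gen_norm_two_neg_one (θ := θ - fun _ => (1 : ℂ))
    (isGen_sub (isGen_indFun D hfgen) isGen_one) (by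
      have h11 : Cfsg.classInner (fun _ : G => (1 : ℂ)) (fun _ => 1) = 1 := classInner_irr_self isIrrCharacter_one
      have h1θ : Cfsg.classInner (fun _ : G => (1 : ℂ)) θ = 1 := by
        rw [← classInner_conj_symm, hθ1, map_one]
      rw [classInner_sub_left, classInner_sub_right, classInner_sub_right, hθnorm, hθ1, h1θ, h11]
      norm_num)
    (by simp [hθone])
  have hAB' : Cfsg.classInner θ (fun _ => (1 : ℂ)) = 1 + Cfsg.classInner (A : G → ℂ) (fun _ => 1) -
      Cfsg.classInner (B : G → ℂ) (fun _ => 1) := by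
    rw [show θ = (fun _ => (1 : ℂ)) + ((A : G → ℂ) - (B : G → ℂ)) by rw [← hdec]; abel, classInner_add_left,
      classInner_sub_left, classInner_irr_self isIrrCharacter_one]
    ring
  let one' : Cfsg.IrrCharacter G := ⟨fun _ => 1, isIrrCharacter_one⟩
  have hA1 : A ≠ one' ∧ B ≠ one' := by
    rw [hθ1] at hAB'
    rw [classInner_irr A.2 isIrrCharacter_one, classInner_irr B.2 isIrrCharacter_one] at hAB'
    constructor
    · intro e
      have hA : (A : G → ℂ) = fun _ => 1 := congrArg Subtype.val e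
      have hB : (B : G → ℂ) ≠ fun _ => 1 := fun e' => hAB (Subtype.ext (hA.trans e'.symm))
      simp [hA, hB] at hAB'
    · intro e
      have hB : (B : G → ℂ) = fun _ => 1 := congrArg Subtype.val e
      have hA : (A : G → ℂ) ≠ fun _ => 1 := fun e' => hAB (Subtype.ext (e'.trans hB.symm))
      simp [hA, hB] at hAB'
  obtain ⟨d, hd0, hd⟩ := exists_degree_pos A.2
  obtain ⟨u, hu⟩ := irr_involution_int A.2 ht2
  have hB1 : (B : G → ℂ) 1 = (d : ℂ) + 1 := by
    have := congrFun hdec 1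
    simp only [Pi.sub_apply, hθone, hd] at this
    linear_combination this
  have hBt : (B : G → ℂ) t = (u : ℂ) + 1 := by
    have := congrFun hdec t
    simp only [Pi.sub_apply, hθt, hu] at this
    linear_combination this
  -- the column bound
  have hcol : u ^ 2 + (u + 1) ^ 2 + 1 ≤ 4 * (h : ℤ) := by
    have h1 := sum_normSq_eq_card_centralizer (G := G) t
    rw [hDt, hDc] at h1
    have h2 := Finset.sum_le_sum_of_subset_of_nonneg (Finset.subset_univ ({A, B, one'} : Finset _))
      (fun χ _ _ => Complex.normSq_nonneg ((χ : G → ℂ) t))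
    rw [h1, Finset.sum_insert (by simp [hAB, hA1.1]), Finset.sum_insert (by simp [hA1.2]),
      Finset.sum_singleton, hu, hBt] at h2
    have h3 : Complex.normSq ((u : ℂ)) = (u : ℝ) * u := by
      rw [show (u : ℂ) = ((u : ℝ) : ℂ) by push_cast; rfl, Complex.normSq_ofReal]
    have h4 : Complex.normSq ((u : ℂ) + 1) = ((u : ℝ) + 1) * ((u : ℝ) + 1) := by
      rw [show (u : ℂ) + 1 = (((u : ℝ) + 1 : ℝ) : ℂ) by push_cast; rfl, Complex.normSq_ofReal]
    have h5 : Complex.normSq ((one' : G → ℂ) t) = 1 := Complex.normSq_one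
    rw [h3, h4, h5] at h2
    have h6 : ((u ^ 2 + (u + 1) ^ 2 + 1 : ℤ) : ℝ) ≤ ((4 * (h : ℤ) : ℤ) : ℝ) := by
      push_cast at h2 ⊢
      linarith
    exact_mod_cast h6
  -- the key identity
  have hkey : (nI : ℂ) * ∑ χ : Cfsg.IrrCharacter G,
      Cfsg.classInner θ (χ : G → ℂ) * ((χ : G → ℂ) t * (χ : G → ℂ) t / (χ : G → ℂ) 1) = 8 * (h : ℂ) ^ 2 := by
    have e1 : ∀ χ : Cfsg.IrrCharacter G, Cfsg.classInner θ (χ : G → ℂ) =
        (4 * (h : ℂ))⁻¹ * ∑ x : D, f x * conj ((χ : G → ℂ) x) := fun χ => by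
      rw [hθ, frobenius_reciprocity D f (isClassFunction_of_isIrr χ.2), classInner_def, hDc]
      push_cast
      rfl
    have e2 : ∑ χ : Cfsg.IrrCharacter G,
        Cfsg.classInner θ (χ : G → ℂ) * ((χ : G → ℂ) t * (χ : G → ℂ) t / (χ : G → ℂ) 1) =
        (4 * (h : ℂ))⁻¹ * ∑ x : D, f x * K x := by
      simp only [e1, hK, Finset.mul_sum, Finset.sum_mul]
      rw [Finset.sum_comm]
      refine Finset.sum_congr rfl fun x _ => Finset.sum_congr rfl fun χ _ => ?_
      ring
    have e3 : ∀ x : D, (nI : ℂ) * (f x * K x) = 8 * (h : ℂ) ^ 2 * f x := by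
      intro x
      by_cases hx : (x : G) ∈ C
      · by_cases hx1 : (x : G) = 1
        · rw [show x = 1 from Subtype.ext hx1, hf1]; ring
        by_cases hxt : (x : G) = t
        · rw [show x = Subgroup.inclusion hCD ⟨t, ht⟩ from Subtype.ext hxt, hft]; ring
        linear_combination f x * hKc _ hx hx1 hxt
      · rw [hfout x hx]; ring
    rw [e2, mul_left_comm, Finset.mul_sum, Finset.sum_congr rfl fun x _ => e3 x, ← Finset.mul_sum, hfsum]
    have : (h : ℂ) ≠ 0 := Nat.cast_ne_zero.2 (by omega)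
    field_simp
  have hm : ∀ χ : Cfsg.IrrCharacter G, Cfsg.classInner θ (χ : G → ℂ) =
      (if χ = one' then 1 else 0) + (if χ = A then 1 else 0) - (if χ = B then 1 else 0) := by
    intro χ
    rw [show θ = (fun _ => (1 : ℂ)) + ((A : G → ℂ) - (B : G → ℂ)) by rw [← hdec]; abel, classInner_add_left,
      classInner_sub_left, classInner_irrCharacter, classInner_irrCharacter,
      show (fun _ : G => (1 : ℂ)) = ((one' : Cfsg.IrrCharacter G) : G → ℂ) from rfl, classInner_irrCharacter]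
    simp only [eq_comm (a := χ)]
    ring
  simp only [hm, sub_mul, add_mul, Finset.sum_sub_distrib, Finset.sum_add_distrib, ite_mul, one_mul,
    zero_mul, Finset.sum_ite_eq', Finset.mem_univ, if_true] at hkey
  rw [hu, hd, hBt, hB1] at hkey
  simp only [show ((one' : Cfsg.IrrCharacter G) : G → ℂ) t = 1 from rfl,
    show ((one' : Cfsg.IrrCharacter G) : G → ℂ) 1 = 1 from rfl] at hkey
  have hdne : (d : ℂ) ≠ 0 := Nat.cast_ne_zero.2 hd0.ne'
  have hdne' : (d : ℂ) + 1 ≠ 0 := by exact_mod_cast Nat.succ_ne_zero d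
  field_simp at hkey
  have hkey2 : (((nI : ℤ) * ((d : ℤ) - u) ^ 2 : ℤ) : ℂ) = ((8 * (h : ℤ) ^ 2 * ((d : ℤ) * ((d : ℤ) + 1)) : ℤ) : ℂ) := by
    push_cast
    linear_combination hkey
  have hkey3 := Int.cast_injective hkey2
  have hnI' : (nI : ℤ) = 4 * (h : ℤ) ^ 2 - 2 * h + 1 := by
    rw [hn]
    push_cast [Nat.cast_sub (show 1 ≤ 2 * h by omega)]
    ring
  rw [hnI'] at hkey3
  exact dihedral_arith hh (by exact_mod_cast hd0) hkey3 hcol

end CfsgLib.FGS
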