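import Mathlib

/-!
Automorphisms of odd order of doubly transitive groups: if the image of a point stabilizer has an
orbit of length coprime to the degree, the automorphism is induced by a permutation.
-/

namespace CfsgLib.FGS.TwoTransAut

open scoped Matrix

variable {Ω : Type*} [Fintype Ω] {G : Subgroup (Equiv.Perm Ω)}

/-- `A` intertwines the action with its twist by `β`. -/
def Inv (β : MulAut G) (A : Matrix Ω Ω ℤ) : Prop :=
  ∀ (g : G) (i j : Ω), A ((β g : Equiv.Perm Ω) i) ((g : Equiv.Perm Ω) j) = A i j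

theorem Inv.mul [DecidableEq Ω] {β γ : MulAut G} {A B : Matrix Ω Ω ℤ} (hA : Inv β A) (hB : Inv γ B) :
    Inv (β * γ) (A * B) := by
  intro g i j
  rw [Matrix.mul_apply, Matrix.mul_apply]
  refine (Fintype.sum_equiv ((γ g : Equiv.Perm Ω)) _ _ fun l => ?_).symm
  rw [MulAut.mul_apply, hA, hB]

theorem Inv.transpose {β : MulAut G} {A : Matrix Ω Ω ℤ} (hA : Inv β A) : Inv β⁻¹ Aᵀ := by
  intro g i j
  obtain ⟨h, rfl⟩ := β.surjective g
  rw [MulAut.inv_apply_self]
  exact hA h j i

theorem Inv.one [DecidableEq Ω] : Inv (1 : MulAut G) (1 : Matrix Ω Ω ℤ) := by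
  intro g i j
  simp [Matrix.one_apply]

theorem Inv.pow [DecidableEq Ω] {β : MulAut G} {A : Matrix Ω Ω ℤ} (hA : Inv β A) :
    ∀ n : ℕ, Inv (β ^ n) (A ^ n)
  | 0 => by rw [pow_zero, pow_zero]; exact Inv.one
  | n + 1 => by rw [pow_succ, pow_succ]; exact (Inv.pow hA n).mul hA

theorem inv_one_form [DecidableEq Ω] (h2 : MulAction.IsMultiplyPretransitive G Ω 2) {A : Matrix Ω Ω ℤ}
    (hA : Inv (1 : MulAut G) A) : ∃ d e : ℤ, ∀ i j, A i j = if i = j then d else e := by
  haveI := h2
  by_cases hne : ∃ a b : Ω, a ≠ b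
  · obtain ⟨a, b, hab⟩ := hne
    refine ⟨A a a, A a b, fun i j => ?_⟩
    split
    · next h =>
      subst h
      haveI : MulAction.IsPretransitive G Ω := MulAction.isPretransitive_of_is_two_pretransitive
      obtain ⟨g, rfl⟩ := MulAction.exists_smul_eq G a i
      exact hA g a a
    · next h =>
      obtain ⟨g, rfl, rfl⟩ := MulAction.is_two_pretransitive_iff.1 h2 hab h
      exact hA g a b
  · push Not at hne
    rcases isEmpty_or_nonempty Ω with h | ⟨⟨a⟩⟩
    · exact ⟨0, 0, fun i => (h.false i).elim⟩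
    · exact ⟨A a a, 0, fun i j => by rw [hne i a, hne j a, if_pos rfl]⟩

/-- `x • 1 + y • J`. -/
def form [DecidableEq Ω] (x y : ℤ) : Matrix Ω Ω ℤ := Matrix.of fun i j => (if i = j then x else 0) + y

set_option maxHeartbeats 2000000 in
theorem main (G : Subgroup (Equiv.Perm Ω)) (h2 : MulAction.IsMultiplyPretransitive G Ω 2) (o : Ω) (α : MulAut G)
    (hα : Odd (orderOf α)) (ω : Ω)
    (hk : (Nat.card (MulAction.orbit ((MulAction.stabilizer G o).map α.toMonoidHom) ω)).Coprime (Fintype.card Ω)) :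
    (∃ σ : Equiv.Perm Ω, σ ∈ Subgroup.normalizer (G : Set (Equiv.Perm Ω)) ∧
        ∀ g : G, ((α g : G) : Equiv.Perm Ω) = σ * (g : Equiv.Perm Ω) * σ⁻¹) ∧
      (Nat.card (MulAction.orbit ((MulAction.stabilizer G o).map α.toMonoidHom) ω) = 1 ∨
        Nat.card (MulAction.orbit ((MulAction.stabilizer G o).map α.toMonoidHom) ω) = Fintype.card Ω - 1) := by
  classical
  haveI := h2
  haveI : MulAction.IsPretransitive G Ω := MulAction.isPretransitive_of_is_two_pretransitive
  set H := MulAction.stabilizer G o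
  set n := Fintype.card Ω with hn
  set k := Nat.card (MulAction.orbit (H.map α.toMonoidHom) ω) with hkd
  let R : Ω → Ω → Prop := fun i j => ∃ g : G, (α g : Equiv.Perm Ω) ω = i ∧ (g : Equiv.Perm Ω) o = j
  have hR : ∀ (g : G) i j, R ((α g : Equiv.Perm Ω) i) ((g : Equiv.Perm Ω) j) ↔ R i j := by
    intro g i j
    constructor
    · rintro ⟨a, h1, h2⟩
      refine ⟨g⁻¹ * a, ?_, ?_⟩
      · simp [map_mul, map_inv, h1]
      · simp [h2]
    · rintro ⟨a, rfl, rfl⟩
      exact ⟨g * a, by simp [map_mul], by simp⟩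
  have hcol0 : Nat.card {i // R i o} = k := by
    rw [hkd]
    refine Nat.card_congr (Equiv.subtypeEquivRight fun i => ?_)
    constructor
    · rintro ⟨g, rfl, hg⟩
      exact ⟨⟨α g, g, hg, rfl⟩, rfl⟩
    · rintro ⟨⟨_, g, hg, rfl⟩, rfl⟩
      exact ⟨g, rfl, hg⟩
  have hcol : ∀ j, Nat.card {i // R i j} = k := by
    intro j
    obtain ⟨g, rfl⟩ := MulAction.exists_smul_eq G o j
    rw [← hcol0]
    exact Nat.card_congr ((Equiv.subtypeEquiv (α g : Equiv.Perm Ω) fun i => (hR g i o).symm)).symm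
  let M : Matrix Ω Ω ℤ := Matrix.of fun i j => if R i j then 1 else 0
  have hM : Inv α M := fun g i j => by simp [M, hR]
  have hcs : ∀ j, ∑ i, M i j = k := fun j => by
    simp only [M, Matrix.of_apply]
    rw [← hcol j, Nat.card_eq_fintype_card, Fintype.card_subtype]
    rw [Finset.sum_boole]
  have hrconst : ∀ i i', ∑ j, M i j = ∑ j, M i' j := by
    intro i i'
    obtain ⟨g, rfl⟩ := MulAction.exists_smul_eq G i i'
    refine Fintype.sum_equiv ((α.symm g : G) : Equiv.Perm Ω) _ _ fun j => ?_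
    have := hM (α.symm g) i j
    rw [MulEquiv.apply_symm_apply] at this
    exact this.symm
  have hrs : ∀ i, ∑ j, M i j = k := by
    intro i
    have h1 : ∑ i', ∑ j, M i' j = (n : ℤ) * ∑ j, M i j := by
      rw [Finset.sum_congr rfl fun i' _ => hrconst i' i, Finset.sum_const, Finset.card_univ, nsmul_eq_mul, hn]
    rw [Finset.sum_comm (f := fun a b => M a b), Finset.sum_congr rfl fun j _ => hcs j, Finset.sum_const, Finset.card_univ, nsmul_eq_mul,
      ← hn] at h1
    have : (n : ℤ) ≠ 0 := by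
      rw [hn]; exact_mod_cast (Fintype.card_pos_iff.2 ⟨o⟩).ne'
    exact (mul_left_cancel₀ this h1).symm
  rcases Nat.lt_or_ge n 2 with hn1 | hn1
  · haveI : Subsingleton Ω := Fintype.card_le_one_iff_subsingleton.1 (by omega)
    haveI : Nonempty (MulAction.orbit (H.map α.toMonoidHom) ω) := ⟨⟨ω, MulAction.mem_orbit_self ω⟩⟩
    refine ⟨⟨1, one_mem _, fun g => Subsingleton.elim _ _⟩, Or.inl ?_⟩
    exact Nat.card_unique
  obtain ⟨p, q, hpq⟩ := Fintype.one_lt_card_iff.1 (show 1 < Fintype.card Ω by omega)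
  -- the design
  obtain ⟨d, l, hdl⟩ := inv_one_form h2 (by
    have := hM.mul hM.transpose; rwa [mul_inv_cancel] at this)
  have hd : d = k := by
    rw [← hrs p, ← (hdl p p).trans (if_pos rfl), Matrix.mul_apply]
    exact Finset.sum_congr rfl fun j _ => by simp [M]
  have hl : 0 ≤ l ∧ l ≤ d := by
    rw [← (hdl p q).trans (if_neg hpq), ← (hdl p p).trans (if_pos rfl), Matrix.mul_apply, Matrix.mul_apply]
    refine ⟨Finset.sum_nonneg fun j _ => ?_, Finset.sum_le_sum fun j _ => ?_⟩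
    all_goals simp only [M, Matrix.transpose_apply, Matrix.of_apply]
    all_goals split_ifs <;> norm_num
  set J : Matrix Ω Ω ℤ := Matrix.of fun _ _ => 1 with hJ
  have hMJ : M * J = (k : ℤ) • J := by
    ext i j; simp [Matrix.mul_apply, hJ, hrs]
  have hJM : J * M = (k : ℤ) • J := by
    ext i j; simp [Matrix.mul_apply, hJ, hcs]
  have hJMt : J * Mᵀ = (k : ℤ) • J := by
    ext i j; simp [Matrix.mul_apply, hJ, hrs]
  have hJJ : J * J = (n : ℤ) • J := by
    ext i j; simp [Matrix.mul_apply, hJ, hn]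
  set x : ℤ := (k : ℤ) - l with hx
  have hMM : M * Mᵀ = x • 1 + l • J := by
    ext i j
    rw [hdl, hd]
    simp only [Matrix.add_apply, Matrix.smul_apply, Matrix.one_apply, hJ, Matrix.of_apply, smul_eq_mul, hx]
    split_ifs <;> ring
  have hpowJ : ∀ r : ℕ, M ^ r * J = ((k : ℤ) ^ r) • J := by
    intro r
    induction r with
    | zero => simp
    | succ r ih => rw [pow_succ, mul_assoc, hMJ, Matrix.mul_smul, ih, smul_smul, pow_succ']
  have hJpowT : ∀ r : ℕ, J * Mᵀ ^ r = ((k : ℤ) ^ r) • J := by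
    intro r
    induction r with
    | zero => simp
    | succ r ih => rw [pow_succ, ← mul_assoc, ih, Matrix.smul_mul, hJMt, smul_smul, ← pow_succ]
  have hprod : ∀ r : ℕ, ∃ y : ℤ, M ^ r * Mᵀ ^ r = x ^ r • 1 + y • J := by
    intro r
    induction r with
    | zero => exact ⟨0, by simp⟩
    | succ r ih =>
      obtain ⟨y, hy⟩ := ih
      refine ⟨x * y + l * (k ^ r * k ^ r), ?_⟩
      calc M ^ (r + 1) * Mᵀ ^ (r + 1) = M ^ r * (M * Mᵀ) * Mᵀ ^ r := by
            rw [pow_succ, pow_succ']; simp only [mul_assoc]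
        _ = x • (M ^ r * Mᵀ ^ r) + l • (M ^ r * J * Mᵀ ^ r) := by
            rw [hMM, mul_add, add_mul, Matrix.mul_smul, Matrix.mul_smul, Matrix.smul_mul, Matrix.smul_mul, mul_one]
        _ = _ := by
            rw [hy, hpowJ, Matrix.smul_mul, hJpowT]
            simp only [smul_add, smul_smul, add_smul, pow_succ']
            abel
  set m := orderOf α with hm
  obtain ⟨D, E, hDE⟩ := inv_one_form h2 (by
    have := hM.pow m; rwa [pow_orderOf_eq_one] at this)
  have hMm : M ^ m = (D - E) • 1 + E • J := by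
    ext i j
    rw [hDE]
    simp only [Matrix.add_apply, Matrix.smul_apply, Matrix.one_apply, hJ, Matrix.of_apply, smul_eq_mul]
    split_ifs <;> ring
  set a := D - E
  have hkm : (k : ℤ) ^ m = a + E * n := by
    have h1 : M ^ m * J = (a + E * n) • J := by
      rw [hMm, add_mul, Matrix.smul_mul, Matrix.smul_mul, one_mul, hJJ, smul_smul, ← add_smul]
    rw [hpowJ] at h1
    simpa [hJ] using congrFun (congrFun h1 p) p
  have ha2 : a ^ 2 = x ^ m := by
    obtain ⟨y, hy⟩ := hprod m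
    have hT : Mᵀ ^ m = a • 1 + E • J := by
      rw [← Matrix.transpose_pow, hMm]
      ext i j
      simp only [Matrix.transpose_apply, Matrix.add_apply, Matrix.smul_apply, Matrix.one_apply, hJ, Matrix.of_apply]
      simp only [eq_comm]
    rw [hMm, hT] at hy
    have e1 := congrFun (congrFun hy p) q
    have e2 := congrFun (congrFun hy p) p
    simp only [add_mul, mul_add, Matrix.smul_mul, Matrix.mul_smul, one_mul, mul_one, hJJ, smul_smul] at e1 e2
    simp only [Matrix.add_apply, Matrix.smul_apply, Matrix.one_apply, hJ, Matrix.of_apply, smul_eq_mul, if_neg hpq, if_true] at e1 e2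
    linarith
  have hlk : x + (n : ℤ) * l = (k : ℤ) ^ 2 := by
    have h1 : M * Mᵀ * J = (x + n * l) • J := by
      rw [hMM, add_mul, Matrix.smul_mul, Matrix.smul_mul, one_mul, hJJ, smul_smul, ← add_smul, mul_comm (n : ℤ)]
    have h2 : M * Mᵀ * J = ((k : ℤ) ^ 2) • J := by
      rw [mul_assoc]
      have : Mᵀ * J = (k : ℤ) • J := by ext i j; simp [Matrix.mul_apply, hJ, hcs]
      rw [this, Matrix.mul_smul, hMJ, smul_smul, pow_two]
    rw [h1] at h2
    simpa [hJ] using congrFun (congrFun h2 p) p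
  have hkn : IsCoprime (k : ℤ) (n : ℤ) := Nat.Coprime.isCoprime hk
  have hk0 : k ≠ 0 := by
    intro h
    rw [h, Nat.coprime_zero_left] at hk
    omega
  have hxpos : 0 < x := by
    rcases lt_or_eq_of_le (by rw [hx, ← hd]; linarith [hl.2] : 0 ≤ x) with h | h
    · exact h
    exfalso
    rw [← h, zero_add] at hlk
    have : (n : ℤ) ∣ (k : ℤ) ^ 2 := ⟨l, hlk.symm⟩
    have h1 := IsCoprime.dvd_of_dvd_mul_left hkn.symm (by rwa [pow_two] at this)
    have h2 : (n : ℤ) ∣ 1 := by
      obtain ⟨u, v, huv⟩ := hkn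
      exact huv ▸ dvd_add (dvd_mul_of_dvd_right h1 u) (dvd_mul_left _ v)
    have := Int.le_of_dvd one_pos h2
    omega
  obtain ⟨j, hj⟩ := hα
  obtain ⟨c, hc⟩ : ∃ c : ℤ, a = c * x ^ j := by
    have h1 : (x ^ j) ^ 2 ∣ a ^ 2 := by
      rw [ha2, hj, ← pow_mul, mul_comm j 2]; exact pow_dvd_pow _ (Nat.le_succ _)
    obtain ⟨c, hc⟩ := (Int.pow_dvd_pow_iff two_ne_zero).1 h1
    exact ⟨c, by rw [hc]; ring⟩
  have hc2 : c ^ 2 = x := by
    have h1 : c ^ 2 * x ^ (2 * j) = x * x ^ (2 * j) := by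
      rw [← pow_succ', show 2 * j + 1 = m by omega, ← ha2, hc, pow_mul', mul_pow]
    exact mul_right_cancel₀ (pow_ne_zero _ hxpos.ne') h1
  -- `k` is congruent to `c`
  have hcop : IsCoprime x (n : ℤ) := by
    have : IsCoprime ((k : ℤ) ^ 2) (n : ℤ) := hkn.pow_left
    rw [← hlk] at this
    exact IsCoprime.of_add_mul_left_left (z := l) this
  have hkc : (n : ℤ) ∣ (k : ℤ) - c := by
    refine IsCoprime.dvd_of_dvd_mul_right (IsCoprime.pow_right (n := j) hcop.symm) ?_
    have h1 : ((k : ℤ) - c) * x ^ j = ((k : ℤ) ^ m - a) - k * (((k : ℤ) ^ 2) ^ j - x ^ j) := by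
      rw [hc, hj, pow_succ', pow_mul]; ring
    rw [h1]
    refine dvd_sub ⟨E, by rw [hkm]; ring⟩ (dvd_mul_of_dvd_right (dvd_trans ⟨l, ?_⟩ (sub_dvd_pow_sub_pow _ _ j)) _)
    rw [← hlk]; ring
  have hk' : k = 1 ∨ k = n - 1 := by
    have hxk : x ≤ k := by linarith [hl.1, hd, hx.le, hx.ge]
    have hkn' : k ≤ n := by
      rw [← hcol o, hn, ← Nat.card_eq_fintype_card]
      exact Nat.card_le_card_of_injective _ Subtype.val_injective
    have hkne : k ≠ n := fun h => by
      rw [h, Nat.coprime_self] at hk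
      omega
    have h1 : -(k : ℤ) ≤ c ∧ c ≤ k := by constructor <;> nlinarith
    obtain ⟨t, ht⟩ := hkc
    have hnZ : (2 : ℤ) ≤ n := by exact_mod_cast hn1
    have hknZ : (k : ℤ) + 1 ≤ n := by exact_mod_cast (by omega : k + 1 ≤ n)
    have ht2 : t ≤ 1 ∧ 0 ≤ t := by constructor <;> nlinarith
    rcases (show t = 0 ∨ t = 1 by omega) with rfl | rfl
    · left
      have hck : c = k := by linarith
      subst hck
      have : (k : ℤ) ≤ 1 := by nlinarith
      omega
    · right
      -- the complementary design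
      have hnl : 0 ≤ (n : ℤ) - 2 * k + l := by
        have : (0 : ℤ) ≤ ∑ r, (1 - M p r) * (1 - M q r) :=
          Finset.sum_nonneg fun r _ => by simp only [M, Matrix.of_apply]; split_ifs <;> norm_num
        simp only [sub_mul, mul_sub, one_mul, mul_one, Finset.sum_sub_distrib, hrs, Finset.sum_const,
          Finset.card_univ, nsmul_eq_mul, ← hn] at this
        have e : ∑ r, M p r * M q r = l := by
          rw [← (hdl p q).trans (if_neg hpq), Matrix.mul_apply]; rfl
        rw [e] at this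
        linarith
      have : (n : ℤ) - k ≤ 1 := by nlinarith
      omega
  refine ⟨?_, hk'⟩
  -- a permutation intertwining the two actions
  obtain ⟨P, hP, hu⟩ : ∃ P : Ω → Ω → Prop,
      (∀ (g : G) i j, P ((α g : Equiv.Perm Ω) i) ((g : Equiv.Perm Ω) j) ↔ P i j) ∧ ∀ j, ∃! i, P i j := by
    rcases hk' with h | h
    · refine ⟨R, hR, fun j => ?_⟩
      obtain ⟨hsub, ⟨i, hi⟩⟩ := Nat.card_eq_one_iff_unique.1 ((hcol j).trans h)
      exact ⟨i, hi, fun i' hi' => congrArg Subtype.val (hsub.elim ⟨i', hi'⟩ ⟨i, hi⟩)⟩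
    · refine ⟨fun i j => ¬ R i j, fun g i j => not_congr (hR g i j), fun j => ?_⟩
      have h1 : Nat.card {i // ¬ R i j} = 1 := by
        rw [Nat.card_eq_fintype_card, Fintype.card_subtype_compl, ← hn, ← Nat.card_eq_fintype_card, hcol j, h]
        omega
      obtain ⟨hsub, ⟨i, hi⟩⟩ := Nat.card_eq_one_iff_unique.1 h1
      exact ⟨i, hi, fun i' hi' => congrArg Subtype.val (hsub.elim ⟨i', hi'⟩ ⟨i, hi⟩)⟩
  choose f hf hfu using hu
  have heq : ∀ (g : G) j, f ((g : Equiv.Perm Ω) j) = (α g : Equiv.Perm Ω) (f j) :=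
    fun g j => (hfu _ _ ((hP g (f j) j).2 (hf j))).symm
  have hsurj : Function.Surjective f := fun i => by
    obtain ⟨g, hg⟩ := MulAction.exists_smul_eq G (f o) i
    exact ⟨((α.symm g : G) : Equiv.Perm Ω) o, by rw [heq, MulEquiv.apply_symm_apply]; exact hg⟩
  let σ : Equiv.Perm Ω := Equiv.ofBijective f ⟨Finite.injective_iff_surjective.2 hsurj, hsurj⟩
  have hσ : ∀ g : G, ((α g : G) : Equiv.Perm Ω) = σ * (g : Equiv.Perm Ω) * σ⁻¹ := fun g => by
    rw [eq_mul_inv_iff_mul_eq]
    exact Equiv.ext fun j => (heq g j).symm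
  refine ⟨σ, ?_, hσ⟩
  rw [Subgroup.mem_normalizer_iff]
  intro g
  constructor
  · intro hg
    rw [← hσ ⟨g, hg⟩]
    exact (α _).2
  · intro hg
    have h1 := hσ (α.symm ⟨_, hg⟩)
    rw [MulEquiv.apply_symm_apply] at h1
    have h2 : g = (α.symm ⟨_, hg⟩ : G) := by simpa using h1
    rw [h2]; exact SetLike.coe_mem _

end CfsgLib.FGS.TwoTransAut
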