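import Mathlib
import Cfsg.Agent.Lib.Cores.Fitting
import Cfsg.Agent.Lib.Solvable.CoprimeAction
import Cfsg.Agent.Lib.Solvable.FrobeniusComplement
import Cfsg.Agent.Lib.Solvable.UniqueSubgroup
import Cfsg.Agent.Lib.OddLocal.Basic

/-!
# Equal order pairs
-/

namespace CfsgLib.FGS

open Subgroup Cfsg
open scoped commutatorElement

variable {G : Type*} [Group G] [Finite G] {N : Subgroup G}

omit [Finite G] in
theorem dvd_orderOf_of_commute (heq : ∀ x : G, x ∉ N → ∀ n ∈ N, orderOf (x * n) = orderOf x)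
    {x n : G} (hx : x ∉ N) (hn : n ∈ N) (hxn : Commute x n) {r : ℕ} (hr : r.Prime)
    (hno : orderOf n = r) (hx0 : 0 < orderOf x) : r ∣ orderOf x := by
  by_contra hnd
  have h := hxn.orderOf_mul_eq_mul_orderOf_of_coprime
    (by rw [hno]; exact (hr.coprime_iff_not_dvd.2 hnd).symm)
  rw [heq x hx n hn, hno] at h
  have := hr.one_lt
  nlinarith

/-- A normal `p`-subgroup outside `N` forces `N` to be a `p`-group. -/
theorem isPGroup_of_pGroup_not_le [N.Normal]
    (heq : ∀ x : G, x ∉ N → ∀ n ∈ N, orderOf (x * n) = orderOf x) {p : ℕ} [hp : Fact p.Prime]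
    (P : Subgroup G) [P.Normal] (hP : IsPGroup p P) (hPN : ¬ P ≤ N) : IsPGroup p N := by
  refine IsPGroup.of_card
    (Nat.eq_prime_pow_of_unique_prime_dvd Nat.card_pos.ne' fun {r} hr hrN => ?_)
  by_contra hrp
  have : Fact r.Prime := ⟨hr⟩
  obtain ⟨x, hxP, hxN⟩ := SetLike.not_le_iff_exists.1 hPN
  obtain ⟨⟨n, hn⟩, hno⟩ := exists_prime_orderOf_dvd_card' r hrN
  rw [Subgroup.orderOf_mk] at hno
  have hKp : IsPGroup p ↥(P ⊓ N) := hP.to_le inf_le_left
  have hcop : (Nat.card (zpowers n)).Coprime (Nat.card ↥(P ⊓ N)) :=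
    IsPGroup.coprime_card_of_ne r p hrp _ _
      (IsPGroup.of_card (n := 1) (by rw [Nat.card_zpowers, hno, pow_one])) hKp
  obtain ⟨k, hk, hfix⟩ := CfsgLib.Solvable.exists_mul_mem_centralizer (zpowers n) (P ⊓ N)
    (le_normalizer_of_normal) hcop (Or.inl inferInstance) x fun a ha => by
      have haN : a ∈ N := zpowers_le.2 hn ha
      refine Subgroup.mem_inf.2 ⟨?_, ?_⟩
      · rw [commutatorElement_def]
        exact mul_mem ((inferInstance : P.Normal).conj_mem x hxP a) (inv_mem hxP)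
      · rw [commutatorElement_def, mul_assoc a, mul_assoc]
        exact mul_mem haN ((inferInstance : N.Normal).conj_mem _ (inv_mem haN) x)
  have hcomm : Commute (k * x) n := (Subgroup.mem_centralizer_iff.1 hfix n (mem_zpowers n)).symm
  have hkxN : k * x ∉ N := fun h => hxN (by
    have := mul_mem (inv_mem (Subgroup.mem_inf.1 hk).2) h
    rwa [inv_mul_cancel_left] at this)
  have hr' := dvd_orderOf_of_commute heq hkxN hn hcomm hr hno (orderOf_pos _)
  obtain ⟨j, hj⟩ := hP ⟨k * x, mul_mem (Subgroup.mem_inf.1 hk).1 hxP⟩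
  replace hj : (k * x) ^ p ^ j = 1 := congrArg Subtype.val hj
  exact hrp ((Nat.prime_dvd_prime_iff_eq hr hp.out).1
    (hr.dvd_of_dvd_pow (hr'.trans (orderOf_dvd_of_pow_eq_one hj))))

theorem equalOrder_fitting [N.Normal] (hN1 : N ≠ ⊥)
    (heq : ∀ x : G, x ∉ N → ∀ n ∈ N, orderOf (x * n) = orderOf x) :
    (N ≤ fittingSubgroup G ∨ fittingSubgroup G ≤ N) ∧
      (N < fittingSubgroup G → IsPrimePow (Nat.card (fittingSubgroup G))) := by
  have key : ¬ fittingSubgroup G ≤ N → ∃ p : ℕ, p.Prime ∧ IsPGroup p N ∧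
      fittingSubgroup G ≤ pCore p G := by
    intro hF
    rw [CfsgLib.Cores.fittingSubgroup_eq_iSup_pCore, iSup_le_iff] at hF
    push Not at hF
    obtain ⟨⟨p, hp⟩, hpN⟩ := hF
    have : Fact p.Prime := ⟨Nat.prime_of_mem_primeFactors hp⟩
    have : (pCore p G).Normal := @Subgroup.normal_of_characteristic _ _ _
      (CfsgLib.Cores.pCore_characteristic p)
    have hNp := isPGroup_of_pGroup_not_le heq (pCore p G) (CfsgLib.Cores.isPGroup_pCore p) hpN
    refine ⟨p, Fact.out, hNp, ?_⟩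
    rw [CfsgLib.Cores.fittingSubgroup_eq_iSup_pCore, iSup_le_iff]
    rintro ⟨q, hq⟩
    rcases eq_or_ne q p with rfl | hqp
    · exact le_rfl
    have : Fact q.Prime := ⟨Nat.prime_of_mem_primeFactors hq⟩
    have : (pCore q G).Normal := @Subgroup.normal_of_characteristic _ _ _
      (CfsgLib.Cores.pCore_characteristic q)
    by_cases hqN : pCore q G ≤ N
    · have hd := IsPGroup.disjoint_of_ne q p hqp _ _ (CfsgLib.Cores.isPGroup_pCore q) hNp
      rw [disjoint_iff, inf_eq_left.2 hqN] at hd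
      exact hd.le.trans bot_le
    · have hd := IsPGroup.disjoint_of_ne q p hqp _ _
        (isPGroup_of_pGroup_not_le heq (pCore q G) (CfsgLib.Cores.isPGroup_pCore q) hqN) hNp
      rw [disjoint_self] at hd
      exact absurd hd hN1
  refine ⟨?_, fun hlt => ?_⟩
  · by_cases hF : fittingSubgroup G ≤ N
    · exact Or.inr hF
    · obtain ⟨p, hp, hNp, -⟩ := key hF
      have : Fact p.Prime := ⟨hp⟩
      exact Or.inl (CfsgLib.Cores.le_fittingSubgroup hNp.isNilpotent)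
  · obtain ⟨p, hp, -, hF⟩ := key hlt.not_ge
    have : Fact p.Prime := ⟨hp⟩
    obtain ⟨k, hk⟩ := IsPGroup.iff_card.1 ((CfsgLib.Cores.isPGroup_pCore p).to_le hF)
    rw [hk]
    refine hp.prime.isPrimePow.pow (fun h0 => ?_)
    rw [h0, pow_zero] at hk
    exact hN1 (le_bot_iff.1 (hlt.le.trans (Subgroup.eq_bot_of_card_eq _ hk).le))

theorem equalOrder_sylow [N.Normal] (hN1 : N ≠ ⊥)
    (heq : ∀ x : G, x ∉ N → ∀ n ∈ N, orderOf (x * n) = orderOf x)
    (hnil : Group.IsNilpotent N) (hnpp : ¬ IsPrimePow (Nat.card N))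
    (q : ℕ) [hq : Fact q.Prime] (Q : Sylow q (G ⧸ N)) :
    IsCyclic (Q : Subgroup (G ⧸ N)) ∨
      ∃ n : ℕ, Nonempty ((Q : Subgroup (G ⧸ N)) ≃* QuaternionGroup (2 ^ n)) := by
  by_cases hu : ∀ x y : (Q : Subgroup (G ⧸ N)), orderOf x = q → orderOf y = q → x ∈ zpowers y
  · rcases CfsgLib.Solvable.isCyclic_or_quaternion Q.isPGroup' hu with h | ⟨-, h⟩
    exacts [Or.inl h, Or.inr h]
  exfalso
  push Not at hu
  obtain ⟨x₀, y₀, hx₀, hy₀, hxy₀⟩ := hu
  have : Nontrivial (Q : Subgroup (G ⧸ N)) := ⟨⟨x₀, 1, fun h => by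
    rw [h, orderOf_one] at hx₀
    exact hq.out.one_lt.ne hx₀⟩⟩
  have := Q.isPGroup'.center_nontrivial
  obtain ⟨⟨z₁, hz₁⟩, hz₁1⟩ := exists_ne (1 : center (Q : Subgroup (G ⧸ N)))
  obtain ⟨z, hzc, hzo⟩ : ∃ z : (Q : Subgroup (G ⧸ N)), z ∈ center _ ∧ orderOf z = q := by
    have hd : q ∣ Nat.card (center (Q : Subgroup (G ⧸ N))) :=
      ((Q.isPGroup'.to_subgroup _).card_eq_or_dvd).resolve_left fun h =>
        hz₁1 (Subtype.ext (Subgroup.mem_bot.1 (Subgroup.eq_bot_of_card_eq _ h ▸ hz₁)))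
    obtain ⟨z, hz⟩ := exists_prime_orderOf_dvd_card' q hd
    exact ⟨z, z.2, by rw [Subgroup.orderOf_coe]; exact hz⟩
  obtain ⟨x, hxo, hxz⟩ : ∃ x : (Q : Subgroup (G ⧸ N)), orderOf x = q ∧ x ∉ zpowers z := by
    by_contra hall
    push Not at hall
    obtain ⟨i, hi⟩ := mem_zpowers_iff.1 (hall x₀ hx₀)
    apply hxy₀
    have hy : zpowers y₀ = zpowers z := Subgroup.eq_of_le_of_card_ge (zpowers_le.2 (hall y₀ hy₀))
      (by rw [Nat.card_zpowers, Nat.card_zpowers, hy₀, hzo])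
    rw [hy]
    exact hall x₀ hx₀
  set E : Subgroup (G ⧸ N) := closure {(x : G ⧸ N), (z : G ⧸ N)} with hE
  have hcxz : (x : G ⧸ N) * z = z * x := congrArg Subtype.val (mem_center_iff.1 hzc x)
  have hEQ : E ≤ (Q : Subgroup (G ⧸ N)) := by
    rw [hE, closure_le]
    rintro w (rfl | rfl)
    exacts [x.2, z.2]
  have hEcomm : IsMulCommutative E := Subgroup.isMulCommutative_closure (by
    rintro a (rfl | rfl) b (rfl | rfl)
    exacts [rfl, hcxz, hcxz.symm, rfl])
  have hEnc : ¬ IsCyclic E := fun hc => by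
    obtain ⟨i, hi⟩ := CfsgLib.Solvable.mem_zpowers_of_isCyclic
      (x := (⟨(x : G ⧸ N), subset_closure (Or.inl rfl)⟩ : E))
      (y := ⟨(z : G ⧸ N), subset_closure (Or.inr rfl)⟩)
      (by rw [← Subgroup.orderOf_coe, ← Subgroup.orderOf_coe]
          show orderOf (x : G ⧸ N) = orderOf (z : G ⧸ N)
          rw [Subgroup.orderOf_coe, Subgroup.orderOf_coe, hxo, hzo])
    exact hxz ⟨i, Subtype.ext (congrArg Subtype.val hi :)⟩
  obtain ⟨Q₀, hQ₀⟩ := Sylow.mapSurjective_surjective (QuotientGroup.mk'_surjective N) q Q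
  set S : Subgroup G := (Q₀ : Subgroup G) ⊓ E.comap (QuotientGroup.mk' N) with hS
  have hSmap : E ≤ S.map (QuotientGroup.mk' N) := by
    intro w hw
    have hwQ : w ∈ (Q : Subgroup (G ⧸ N)) := hEQ hw
    rw [← hQ₀] at hwQ
    obtain ⟨s, hs, rfl⟩ := hwQ
    exact ⟨s, Subgroup.mem_inf.2 ⟨hs, hw⟩, rfl⟩
  -- the q-part T and an r-part R of N
  set T : Subgroup G := (pCore q N).map N.subtype with hT
  have : (pCore q N).Characteristic := CfsgLib.Cores.pCore_characteristic q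
  have hTn : T.Normal := inferInstance
  have hTN : T ≤ N := map_subtype_le _
  have hTp : IsPGroup q T := (CfsgLib.Cores.isPGroup_pCore q).map _
  have hqT : ∀ w : G, w ∈ N → (∃ j : ℕ, orderOf w = q ^ j) → w ∈ T := by
    rintro w hw ⟨j, hj⟩
    obtain ⟨P⟩ := (inferInstance : Nonempty (Sylow q N))
    have hP : (P : Subgroup N).Normal := Sylow.normal_of_normalizerCondition
      Group.normalizerCondition_of_isNilpotent P
    have hle : IsPGroup q (zpowers (⟨w, hw⟩ : N)) :=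
      IsPGroup.of_card (n := j) (by rw [Nat.card_zpowers, Subgroup.orderOf_mk, hj])
    obtain ⟨P', hP'⟩ := hle.exists_le_sylow
    have : (P' : Subgroup N) = P := by
      have := Sylow.unique_of_normal P hP
      rw [Subsingleton.elim P' P]
    exact ⟨⟨w, hw⟩, CfsgLib.Cores.le_pCore (hn := hP) P.isPGroup' (this ▸ hP' (mem_zpowers _)), rfl⟩
  obtain ⟨r, hr, hrN, hrq⟩ : ∃ r : ℕ, r.Prime ∧ r ∣ Nat.card N ∧ r ≠ q := by
    by_contra hall
    push Not at hall
    apply hnpp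
    rw [Nat.eq_prime_pow_of_unique_prime_dvd (p := q) Nat.card_pos.ne' (fun {d} hd hdN => hall d hd hdN)]
    refine hq.out.prime.isPrimePow.pow fun h0 => hN1 (Subgroup.eq_bot_of_card_eq _ ?_)
    rw [Nat.eq_prime_pow_of_unique_prime_dvd (p := q) Nat.card_pos.ne' (fun {d} hd hdN => hall d hd hdN),
      h0, pow_zero]
  have : Fact r.Prime := ⟨hr⟩
  set R : Subgroup G := (pCore r N).map N.subtype with hR
  have : (pCore r N).Characteristic := CfsgLib.Cores.pCore_characteristic r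
  have hRn : R.Normal := inferInstance
  have hRp : IsPGroup r R := (CfsgLib.Cores.isPGroup_pCore r).map _
  have hTR : Disjoint R T := IsPGroup.disjoint_of_ne r q hrq _ _ hRp hTp
  have hR1 : R ≠ ⊥ := by
    obtain ⟨P⟩ := (inferInstance : Nonempty (Sylow r N))
    have hP : (P : Subgroup N).Normal := Sylow.normal_of_normalizerCondition
      Group.normalizerCondition_of_isNilpotent P
    intro h
    rw [hR, Subgroup.map_eq_bot_iff_of_injective _ N.subtype_injective] at h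
    exact P.ne_bot_of_dvd_card hrN
      (le_bot_iff.1 ((CfsgLib.Cores.le_pCore (hn := hP) P.isPGroup').trans h.le))
  let π := QuotientGroup.mk' T
  have hord : ∀ s ∈ S, ∃ j : ℕ, orderOf s = q ^ j := fun s hs => by
    obtain ⟨j, hj⟩ := Q₀.isPGroup' ⟨s, (Subgroup.mem_inf.1 hs).1⟩
    replace hj : s ^ q ^ j = 1 := congrArg Subtype.val hj
    exact ((Nat.dvd_prime_pow hq.out).1 (orderOf_dvd_of_pow_eq_one hj)).imp fun _ h => h.2
  have hSab : ∀ a ∈ S.map π, ∀ b ∈ S.map π, a * b = b * a := by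
    rintro _ ⟨a, ha, rfl⟩ _ ⟨b, hb, rfl⟩
    have hc : a * b * (b * a)⁻¹ ∈ N := by
      rw [← QuotientGroup.eq_one_iff, QuotientGroup.mk_mul, QuotientGroup.mk_inv, mul_inv_eq_one,
        QuotientGroup.mk_mul, QuotientGroup.mk_mul]
      exact congrArg Subtype.val (mul_comm' (⟨_, (Subgroup.mem_inf.1 ha).2⟩ : E)
        ⟨_, (Subgroup.mem_inf.1 hb).2⟩)
    have hcS : a * b * (b * a)⁻¹ ∈ S := mul_mem (mul_mem ha hb) (inv_mem (mul_mem hb ha))
    have : π (a * b * (b * a)⁻¹) = 1 := (QuotientGroup.eq_one_iff _).2 (hqT _ hc (hord _ hcS))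
    rw [map_mul, map_inv, mul_inv_eq_one, map_mul, map_mul] at this
    exact this
  have hnc : ¬ IsCyclic (S.map π) := by
    intro hc
    apply hEnc
    obtain ⟨⟨g, hg⟩, hgen⟩ := hc.exists_generator
    obtain ⟨s, hs, rfl⟩ := hg
    refine ⟨⟨⟨QuotientGroup.mk s, (Subgroup.mem_inf.1 hs).2⟩, fun e => ?_⟩⟩
    obtain ⟨w, hw, hwe⟩ := hSmap e.2
    obtain ⟨i, hi⟩ := hgen ⟨π w, w, hw, rfl⟩
    refine ⟨i, Subtype.ext ?_⟩
    show (QuotientGroup.mk s : G ⧸ N) ^ i = (e : G ⧸ N)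
    rw [← hwe, QuotientGroup.mk'_apply, ← QuotientGroup.mk_zpow, QuotientGroup.eq]
    refine hTN ?_
    rw [← QuotientGroup.eq, QuotientGroup.mk_zpow]
    exact congrArg Subtype.val hi
  refine hnc (CfsgLib.Solvable.isCyclic_of_fpf (K := R.map π) ?_ ?_ ?_ (Or.inl hSab))
  · intro h
    rw [Subgroup.map_eq_bot_iff, QuotientGroup.ker_mk'] at h
    exact hR1 (disjoint_self.1 (hTR.mono_right h))
  · have := hRn.map π (QuotientGroup.mk'_surjective T)
    exact le_normalizer_of_normal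
  rintro _ ⟨s, hs, rfl⟩ hs1
  rw [Subgroup.eq_bot_iff_forall]
  intro w hw
  obtain ⟨⟨n, hn, rfl⟩, hcn⟩ := Subgroup.mem_inf.1 hw
  rw [Subgroup.mem_centralizer_singleton_iff, ← map_mul, ← map_mul] at hcn
  have hsN : s ∉ N := fun h => hs1 ((QuotientGroup.eq_one_iff s).2 (hqT s h (hord s hs)))
  have hc : s * n * s⁻¹ * n⁻¹ = 1 := by
    rw [← Subgroup.mem_bot, ← hTR.eq_bot]
    refine Subgroup.mem_inf.2 ⟨mul_mem (hRn.conj_mem n hn s) (inv_mem hn), ?_⟩
    rw [← QuotientGroup.eq_one_iff]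
    show π (s * n * s⁻¹ * n⁻¹) = 1
    rw [show s * n * s⁻¹ * n⁻¹ = (s * n) * (n * s)⁻¹ by group, map_mul, map_inv, hcn,
      mul_inv_cancel]
  have hcomm : Commute s n := by
    rw [mul_inv_eq_one, mul_inv_eq_iff_eq_mul] at hc
    exact hc
  by_contra hn1
  have hn1' : n ≠ 1 := fun h => hn1 (by rw [h, map_one])
  obtain ⟨j, hj⟩ := hRp ⟨n, hn⟩
  replace hj : n ^ r ^ j = 1 := congrArg Subtype.val hj
  obtain ⟨i, -, hi⟩ := (Nat.dvd_prime_pow hr).1 (orderOf_dvd_of_pow_eq_one hj)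
  have hi0 : i ≠ 0 := fun h => hn1' (orderOf_eq_one_iff.1 (by rw [hi, h, pow_zero]))
  obtain ⟨i', rfl⟩ := Nat.exists_eq_succ_of_ne_zero hi0
  have hno : orderOf (n ^ r ^ i') = r := by
    rw [orderOf_pow_of_dvd (pow_ne_zero _ hr.ne_zero) (hi ▸ ⟨r, by rw [pow_succ]⟩), hi,
      pow_succ, Nat.mul_div_cancel_left _ (pow_pos hr.pos _)]
  have hd := dvd_orderOf_of_commute heq hsN (pow_mem (map_subtype_le _ hn) _) (hcomm.pow_right _)
    hr hno (orderOf_pos s)
  obtain ⟨e, he⟩ := hord s hs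
  exact hrq ((Nat.prime_dvd_prime_iff_eq hr hq.out).1 (hr.dvd_of_dvd_pow (he ▸ hd)))

end CfsgLib.FGS
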