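import Mathlib
import Cfsg.Prelude
import Cfsg.Agent.Lib.PGroup.AbelianConjSylow
import Cfsg.Agent.Lib.Invol.ZStarFinal

/-!
# Sylow subgroups when `p`-subgroups of equal order are conjugate

Such a Sylow subgroup is cyclic, elementary abelian or quaternion of order 8. A nonabelian one of exponent `p`
gives two transvections on a plane, so an element acting with order four; then the Sylow 2-subgroup has one
involution, and both transvections lie in a normal subgroup of odd order.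
-/

set_option autoImplicit false
set_option linter.unusedSectionVars false

namespace CfsgLib.FGS.EqualOrder

open Subgroup CfsgLib.PGroup.ConjAb

variable {G : Type*} [Group G] [Finite G]

/-- Conjugacy of `p`-subgroups of equal order. -/
def Conj (G : Type*) [Group G] : Prop :=
  ∀ p : ℕ, p.Prime → ∀ H K : Subgroup G, IsPGroup p H → IsPGroup p K → Nat.card H = Nat.card K →
    ∃ g : G, K = H.map (MulAut.conj g).toMonoidHom

variable {p : ℕ} [hp : Fact p.Prime]

theorem isPGroup_zpowers {x : G} {n : ℕ} (hx : orderOf x = p ^ n) : IsPGroup p (zpowers x) :=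
  IsPGroup.of_card (n := n) (by rw [Nat.card_zpowers, hx])

theorem exponent (hD : Conj G) (h : HasPlane p G) {P : Subgroup G} (hP : IsPGroup p P) {x : G} (hx : x ∈ P) :
    x ^ p = 1 := by
  by_contra hxp
  obtain ⟨n, hn⟩ := IsPGroup.iff_orderOf.1 hP ⟨x, hx⟩
  rw [Subgroup.orderOf_mk] at hn
  have h2 : 2 ≤ n := by
    by_contra h2
    exact hxp (orderOf_dvd_iff_pow_eq_one.1
      (hn ▸ (pow_dvd_pow p (show n ≤ 1 by omega)).trans (pow_one p).dvd))
  have hto : orderOf (x ^ p ^ (n - 2)) = p ^ 2 := by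
    rw [orderOf_pow_of_dvd (pow_ne_zero _ hp.out.ne_zero) (hn ▸ pow_dvd_pow p (Nat.sub_le n 2)), hn,
      Nat.pow_div (Nat.sub_le n 2) hp.out.pos, show n - (n - 2) = 2 by omega]
  obtain ⟨E, -, hEcard, hEexp⟩ := h
  obtain ⟨g, hg⟩ := hD p hp.out E (zpowers (x ^ p ^ (n - 2))) (IsPGroup.of_card hEcard)
    (isPGroup_zpowers hto) (by rw [hEcard, Nat.card_zpowers, hto])
  obtain ⟨e, he, het⟩ := hg ▸ mem_zpowers (x ^ p ^ (n - 2))
  have : (x ^ p ^ (n - 2)) ^ p = 1 := by rw [← het, ← map_pow, hEexp e he, map_one]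
  have := Nat.le_of_dvd hp.out.pos (hto ▸ orderOf_dvd_of_pow_eq_one this)
  have := hp.out.one_lt
  nlinarith

theorem eq_two_of_quaternion (hD : Conj G) {P : Subgroup G} (hP : IsPGroup 2 P) {k : ℕ}
    (e : P ≃* QuaternionGroup (2 ^ k)) : k ≤ 1 := by
  by_contra hk
  haveI : NeZero (2 ^ k : ℕ) := ⟨by positivity⟩
  haveI : Fact (Nat.Prime 2) := ⟨Nat.prime_two⟩
  set A : QuaternionGroup (2 ^ k) := QuaternionGroup.a 1 with hA
  set j : P := e.symm (QuaternionGroup.xa 0) with hj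
  have hjo : orderOf (j : G) = 4 := by
    rw [Subgroup.orderOf_coe, hj, MulEquiv.orderOf_eq, QuaternionGroup.orderOf_xa]
  have hcardP : Nat.card P = 4 * 2 ^ k := by
    rw [Nat.card_congr e.toEquiv, Nat.card_eq_fintype_card, QuaternionGroup.card]
  obtain ⟨K, hK8, hKle⟩ := Sylow.exists_subgroup_card_pow_prime_le (G := P) 2 (n := 2) (m := 3)
    (by rw [hcardP]; exact ⟨2 ^ (k - 1), by rw [show k = k - 1 + 1 by omega, pow_succ]; simp; ring⟩)
    (zpowers j) (by rw [Nat.card_zpowers, ← Subgroup.orderOf_coe, hjo]; norm_num) (by norm_num)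
  set c : P := e.symm (A ^ (2 ^ (k - 2))) with hc
  have hco : orderOf (c : G) = 8 := by
    rw [Subgroup.orderOf_coe, hc, MulEquiv.orderOf_eq, orderOf_pow_of_dvd (by positivity) ?_,
      QuaternionGroup.orderOf_a_one]
    · rw [show 2 * 2 ^ k = 8 * 2 ^ (k - 2) by
        conv_lhs => rw [show k = k - 2 + 2 by omega, pow_add]
        ring, Nat.mul_div_cancel _ (by positivity)]
    · rw [QuaternionGroup.orderOf_a_one]
      exact (pow_dvd_pow 2 (Nat.sub_le k 2)).trans (dvd_mul_left _ _)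
  obtain ⟨g, hg⟩ := hD 2 Nat.prime_two (zpowers (c : G)) (K.map P.subtype) (isPGroup_zpowers (n := 3) hco)
    ((hP.to_subgroup K).map _)
    (by rw [Nat.card_zpowers, hco, card_map_of_injective P.subtype_injective, hK8]; norm_num)
  have hjK : (j : G) ∈ (zpowers (c : G)).map (MulAut.conj g).toMonoidHom :=
    hg ▸ mem_map_of_mem P.subtype (hKle (mem_zpowers j))
  rw [MonoidHom.map_zpowers] at hjK
  set d : G := (MulAut.conj g).toMonoidHom c with hd
  have hdP : d ∈ P := by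
    have h : d ∈ K.map P.subtype := hg ▸ mem_map_of_mem _ (mem_zpowers _)
    exact map_subtype_le K h
  have hdo : orderOf (e ⟨d, hdP⟩) = 8 := by
    rw [MulEquiv.orderOf_eq, ← Subgroup.orderOf_coe]
    exact (orderOf_injective _ (MulEquiv.injective _) _).trans hco
  obtain ⟨i, hi⟩ := hjK
  have hi' : e ⟨d, hdP⟩ ^ i = QuaternionGroup.xa 0 := by
    rw [← map_zpow, show (⟨d, hdP⟩ : P) ^ i = j from Subtype.ext (by simpa using hi), hj,
      MulEquiv.apply_symm_apply]
  rcases hq : e ⟨d, hdP⟩ with r | r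
  · rw [hq] at hi'
    obtain ⟨m, hm⟩ : ∃ m : ℕ, (QuaternionGroup.a r : QuaternionGroup (2 ^ k)) = A ^ m :=
      ⟨r.val, by rw [hA, QuaternionGroup.a_one_pow, ZMod.natCast_zmod_val]⟩
    have hmem : QuaternionGroup.xa 0 ∈ zpowers A := by
      rw [← hi', hm]
      exact zpow_mem (pow_mem (mem_zpowers A) m) i
    obtain ⟨l, hl⟩ := mem_powers_iff_mem_zpowers.2 hmem
    change A ^ l = _ at hl
    rw [hA, QuaternionGroup.a_one_pow] at hl
    cases hl
  · rw [hq, QuaternionGroup.orderOf_xa] at hdo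
    omega

/-- A Sylow subgroup that is not elementary abelian, for `p = 2`. -/
theorem two_case (hD : Conj G) (P : Sylow 2 G) : IsCyclic P ∨ Cfsg.IsElementaryAbelian 2 (P : Subgroup G) ∨
    Nonempty ((P : Subgroup G) ≃* QuaternionGroup 2) := by
  by_cases h : HasPlane 2 G
  · refine Or.inr (Or.inl ⟨⟨⟨fun a b => Subtype.ext ?_⟩⟩, fun a ha => exponent hD h P.2 ha⟩)
    have hs : ∀ c ∈ (P : Subgroup G), c⁻¹ = c := fun c hc => by
      have := exponent hD h P.2 hc
      rw [pow_two] at this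
      exact inv_eq_of_mul_eq_one_right this
    calc (a : G) * b = ((a : G) * b)⁻¹ := (hs _ (mul_mem a.2 b.2)).symm
      _ = _ := by rw [mul_inv_rev, hs _ a.2, hs _ b.2]; rfl
  · rcases cyclic_or_quaternion_of_not_hasPlane Nat.prime_two h P.2 with hc | ⟨-, k, ⟨e⟩⟩
    · exact Or.inl hc
    · have := eq_two_of_quaternion hD P.2 e
      interval_cases k
      · haveI : IsCyclic (QuaternionGroup (2 ^ 0)) := isCyclic_of_orderOf_eq_card (QuaternionGroup.xa 0) (by
          rw [QuaternionGroup.orderOf_xa, Nat.card_eq_fintype_card, QuaternionGroup.card]; rfl)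
        exact Or.inl (isCyclic_of_surjective e.symm.toMonoidHom e.symm.surjective)
      · exact Or.inr (Or.inr ⟨e⟩)

/-- The product of a normalised subgroup and a cyclic group of order `p` outside it. -/
theorem card_sup_zpowers {H : Subgroup G} {u : G} (hn : u ∈ normalizer (H : Set G)) (hu : u ^ p = 1)
    (hnot : u ∉ H) : Nat.card ↥(H ⊔ zpowers u) = Nat.card H * p ∧
      ∀ c ∈ H ⊔ zpowers u, ∃ h ∈ H, ∃ i : ℤ, h * u ^ i = c := by
  have hle : zpowers u ≤ normalizer (H : Set G) := zpowers_le.2 hn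
  have hset : ∀ c, c ∈ H ⊔ zpowers u ↔ ∃ h ∈ H, ∃ i : ℤ, h * u ^ i = c := fun c => by
    rw [← SetLike.mem_coe, coe_mul_of_right_le_normalizer_left _ _ hle]
    constructor
    · rintro ⟨h, hh, _, ⟨i, rfl⟩, rfl⟩
      exact ⟨h, hh, i, rfl⟩
    · rintro ⟨h, hh, i, rfl⟩
      exact ⟨h, hh, _, ⟨i, rfl⟩, rfl⟩
  refine ⟨?_, fun c hc => (hset c).1 hc⟩
  have ho : orderOf u = p := orderOf_eq_prime hu fun h => hnot (h ▸ one_mem _)
  have hdisj : Disjoint H (zpowers u) := by
    rw [disjoint_iff_inf_le]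
    rintro v ⟨hvH, hv⟩
    by_contra hv1
    obtain ⟨l, hl⟩ := hv
    have hlp : ¬ (p : ℤ) ∣ l := by
      rintro ⟨m, rfl⟩
      exact hv1 (by rw [← hl]; simp [zpow_mul, hu])
    obtain ⟨a, b, hab⟩ := ((Nat.prime_iff_prime_int.1 hp.out).coprime_iff_not_dvd.2 hlp)
    refine hnot ?_
    rw [show u = v ^ b by
      rw [← hl]
      show u = (u ^ l) ^ b
      rw [← zpow_mul, mul_comm, show b * l = 1 + (-a) * p by linarith, zpow_add, mul_comm (-a), zpow_mul,
        zpow_natCast, hu, one_zpow, mul_one, zpow_one]]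
    exact H.zpow_mem hvH b
  rw [← ho, ← Nat.card_zpowers, ← Nat.card_prod]
  refine (Nat.card_congr (Equiv.ofBijective
    (fun q : H × zpowers u => (⟨(q.1 : G) * q.2, mul_mem (mem_sup_left q.1.2) (mem_sup_right q.2.2)⟩ :
      ↥(H ⊔ zpowers u))) ⟨?_, ?_⟩)).symm
  · rintro ⟨a, b⟩ ⟨c, d⟩ h
    have := mul_injective_of_disjoint hdisj (a₁ := (a, b)) (a₂ := (c, d)) (congrArg Subtype.val h)
    exact this
  · rintro ⟨c, hc⟩
    obtain ⟨h, hh, i, rfl⟩ := (hset c).1 hc
    exact ⟨(⟨h, hh⟩, ⟨u ^ i, i, rfl⟩), rfl⟩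

theorem pow_conj_shift {w z x : G} (h1 : w * z * w⁻¹ = z * x) (h2 : w * x * w⁻¹ = x) (i : ℕ) :
    w ^ i * z * (w ^ i)⁻¹ = z * x ^ i := by
  induction i with
  | zero => simp
  | succ i ih =>
    calc w ^ (i + 1) * z * (w ^ (i + 1))⁻¹ = w * (w ^ i * z * (w ^ i)⁻¹) * w⁻¹ := by
          rw [pow_succ']; group
      _ = (w * z * w⁻¹) * (w * x * w⁻¹) ^ i := by rw [ih, conj_pow]; group
      _ = _ := by rw [h1, h2, pow_succ', mul_assoc]

/-- The product of two transvections. -/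
theorem weyl {y u z x : G} (hc : Commute x z) (hy1 : y * z * y⁻¹ = z) (hy2 : y * x * y⁻¹ = z * x)
    (hu1 : u * z * u⁻¹ = z * x) (hu2 : u * x * u⁻¹ = x) :
    (y * u⁻¹ * y) * z * (y * u⁻¹ * y)⁻¹ = x⁻¹ ∧ (y * u⁻¹ * y) * x * (y * u⁻¹ * y)⁻¹ = z := by
  have hv2 : u⁻¹ * x * u = x := by
    calc u⁻¹ * x * u = u⁻¹ * (u * x * u⁻¹) * u := by rw [hu2]
      _ = x := by group
  have hv1 : u⁻¹ * z * u = z * x⁻¹ := by
    calc u⁻¹ * z * u = u⁻¹ * (z * x) * u * (u⁻¹ * x * u)⁻¹ := by group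
      _ = z * x⁻¹ := by rw [← hu1, hv2]; group
  constructor
  · calc (y * u⁻¹ * y) * z * (y * u⁻¹ * y)⁻¹ = y * (u⁻¹ * (y * z * y⁻¹) * u) * y⁻¹ := by group
      _ = y * (z * x⁻¹) * y⁻¹ := by rw [hy1, hv1]
      _ = (y * z * y⁻¹) * (y * x * y⁻¹)⁻¹ := by group
      _ = z * (x⁻¹ * z⁻¹) := by rw [hy1, hy2, mul_inv_rev]
      _ = x⁻¹ := by rw [(hc.inv_inv).eq, mul_inv_cancel_left]
  · calc (y * u⁻¹ * y) * x * (y * u⁻¹ * y)⁻¹ = y * (u⁻¹ * (y * x * y⁻¹) * u) * y⁻¹ := by group
      _ = y * ((u⁻¹ * z * u) * (u⁻¹ * x * u)) * y⁻¹ := by rw [hy2]; group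
      _ = z := by rw [hv1, hv2, inv_mul_cancel_right, hy1]

/-- Two `p`-elements whose product acts on two elements as an element of order four are impossible. -/
theorem two_contra (hD : Conj G) (hp2 : p ≠ 2) {z y u w : G} (hz : orderOf z = p) (hy : y ^ p = 1)
    (hu : u ^ p = 1) (hw : w = y * u⁻¹ * y) {x : G} (hx : x ≠ 1) (hxz : x ≠ z)
    (hwz : w * z * w⁻¹ = x⁻¹) (hwx : w * x * w⁻¹ = z) : False := by
  classical
  haveI : Fact (Nat.Prime 2) := ⟨Nat.prime_two⟩
  have hzz : z ≠ z⁻¹ := fun h => hp2 ((Nat.prime_dvd_prime_iff_eq hp.out Nat.prime_two).1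
    (hz ▸ orderOf_dvd_of_pow_eq_one (by rw [pow_two]; exact mul_eq_one_iff_eq_inv.2 h)))
  have hzx : z ≠ x⁻¹ := fun h => by
    have h1 : w * z * w⁻¹ = z⁻¹ := by
      calc w * z * w⁻¹ = (w * x * w⁻¹)⁻¹ := by rw [h]; group
        _ = z⁻¹ := by rw [hwx]
    exact hzz ((h.trans (hwz.symm.trans h1)))
  have h2 : w ^ 2 * z * (w ^ 2)⁻¹ = z⁻¹ := by
    calc w ^ 2 * z * (w ^ 2)⁻¹ = w * (w * z * w⁻¹) * w⁻¹ := by simp only [pow_two, mul_inv_rev, mul_assoc]
      _ = (w * x * w⁻¹)⁻¹ := by rw [hwz]; group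
      _ = z⁻¹ := by rw [hwx]
  have h4 : Commute (w ^ 4) z := by
    refine mul_inv_eq_iff_eq_mul.1 ?_
    calc w ^ 4 * z * (w ^ 4)⁻¹ = w ^ 2 * (w ^ 2 * z * (w ^ 2)⁻¹) * (w ^ 2)⁻¹ := by group
      _ = w ^ 2 * z⁻¹ * (w ^ 2)⁻¹ := by rw [h2]
      _ = (w ^ 2 * z * (w ^ 2)⁻¹)⁻¹ := by group
      _ = z := by rw [h2, inv_inv]
  -- conjugation by a power only depends on the exponent modulo four
  have hmod : ∀ n, w ^ n * z * (w ^ n)⁻¹ = w ^ (n % 4) * z * (w ^ (n % 4))⁻¹ := fun n => by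
    conv_lhs => rw [← Nat.mod_add_div n 4, pow_add, pow_mul]
    calc w ^ (n % 4) * (w ^ 4) ^ (n / 4) * z * (w ^ (n % 4) * (w ^ 4) ^ (n / 4))⁻¹
        = w ^ (n % 4) * ((w ^ 4) ^ (n / 4) * z * ((w ^ 4) ^ (n / 4))⁻¹) * (w ^ (n % 4))⁻¹ := by group
      _ = _ := by rw [(h4.pow_left _).eq, mul_inv_cancel_right]
  have hodd : ∀ n, w ^ n * z * (w ^ n)⁻¹ = z → 4 ∣ n := fun n hn => by
    rw [hmod] at hn
    have := Nat.mod_lt n (show 4 > 0 by norm_num)
    refine Nat.dvd_of_mod_eq_zero ?_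
    interval_cases hr : n % 4
    · rfl
    · rw [pow_one, hwz] at hn; exact absurd hn.symm hzx
    · rw [h2] at hn; exact absurd hn.symm hzz
    · exfalso
      refine hxz ?_
      calc x = w ^ 4 * x * (w ^ 4)⁻¹ := by
            rw [show x = (x⁻¹)⁻¹ from (inv_inv x).symm, ← hwz]
            calc (w * z * w⁻¹)⁻¹ = (w * (w ^ 4 * z * (w ^ 4)⁻¹) * w⁻¹)⁻¹ := by
                  rw [h4.eq, mul_inv_cancel_right]
              _ = _ := by group
        _ = w ^ 3 * (w * x * w⁻¹) * (w ^ 3)⁻¹ := by group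
        _ = z := by rw [hwx, hn]
  set n := orderOf w with hn
  have hn4 : 4 ∣ n := hodd n (by rw [pow_orderOf_eq_one]; group)
  -- no plane at the prime two
  have hplane : ¬ HasPlane 2 G := fun h => by
    have hv : orderOf (w ^ (n / 4)) = 4 := by
      rw [orderOf_pow_of_dvd (Nat.div_pos (Nat.le_of_dvd (orderOf_pos w) hn4) (by norm_num)).ne'
        (Nat.div_dvd_of_dvd hn4), ← hn, Nat.div_div_self hn4 (orderOf_pos w).ne']
    have := orderOf_dvd_of_pow_eq_one (exponent hD h (isPGroup_zpowers (p := 2) (n := 2) hv) (mem_zpowers _))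
    rw [hv] at this
    norm_num at this
  let S : Sylow 2 G := default
  obtain ⟨m, hm⟩ := Nat.exists_eq_two_pow_mul_odd (orderOf_pos w).ne'
  have hpodd : ∀ c : G, c ^ p = 1 → Odd (orderOf c) := fun c hc =>
    Odd.of_dvd_nat (hp.out.odd_of_ne_two hp2) (orderOf_dvd_of_pow_eq_one hc)
  rcases cyclic_or_quaternion_of_not_hasPlane Nat.prime_two hplane S.2 with hcyc | ⟨-, k, ⟨e⟩⟩
  · -- a normal complement of the cyclic Sylow subgroup
    have hmin : (Nat.card G).minFac = 2 := Nat.minFac_eq_two_iff _ |>.2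
      ((show (2 : ℕ) ∣ 4 by norm_num).trans (hn4.trans (orderOf_dvd_natCard w)))
    have hNC := IsCyclic.normalizer_le_centralizer hmin hcyc
    set φ := MonoidHom.transferSylow S hNC
    have hc := MonoidHom.ker_transferSylow_isComplement' S hNC
    have hker : ∀ c : G, c ^ p = 1 → c ∈ φ.ker := fun c hc' => by
      obtain ⟨j, hj⟩ := IsPGroup.iff_orderOf.1 S.2 (φ c)
      have hd : orderOf (φ c) ∣ p := (orderOf_map_dvd φ c).trans (orderOf_dvd_of_pow_eq_one hc')
      rw [hj] at hd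
      rcases Nat.eq_zero_or_pos j with rfl | hj0
      · exact orderOf_eq_one_iff.1 (by rw [hj, pow_zero])
      · exact absurd ((Nat.prime_dvd_prime_iff_eq Nat.prime_two hp.out).1
          ((dvd_pow_self 2 hj0.ne').trans hd)) (Ne.symm hp2)
    have hwk : w ∈ φ.ker := hw ▸ mul_mem (mul_mem (hker y hy) (inv_mem (hker u hu))) (hker y hy)
    refine S.not_dvd_index ?_
    rw [hc.index_eq_card]
    exact ((show (2 : ℕ) ∣ 4 by norm_num).trans hn4).trans (orderOf_dvd_natCard φ.ker hwk)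
  · -- the involution is central modulo the odd core
    have hk : k ≤ 1 := eq_two_of_quaternion hD S.2 e
    have hexp : ∀ s ∈ (S : Subgroup G), s ^ 4 = 1 := by
      have h0 : ∀ q : QuaternionGroup (2 ^ 0), q ^ 4 = 1 := by decide
      have h1 : ∀ q : QuaternionGroup (2 ^ 1), q ^ 4 = 1 := by decide
      intro s hs
      have : (⟨s, hs⟩ : (S : Subgroup G)) ^ 4 = 1 := e.injective (by
        rw [map_pow, map_one]
        interval_cases k
        · exact h0 _
        · exact h1 _)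
      exact congrArg Subtype.val this
    obtain ⟨a, hmodd, ha⟩ := hm
    set v := w ^ a with hv
    have hvo : orderOf v = 2 ^ m := by
      rw [hv, orderOf_pow_of_dvd hmodd.pos.ne' (ha ▸ dvd_mul_left _ _), ha,
        Nat.mul_div_cancel _ hmodd.pos]
    obtain ⟨T, hT⟩ := (isPGroup_zpowers (p := 2) hvo).exists_le_sylow
    obtain ⟨c, hcT⟩ := Invol.sylow_exists_conj S T
    have hm2 : m ≤ 2 := by
      have h := (hcT v).1 (hT (mem_zpowers v))
      have h' := hexp _ h
      rw [show c⁻¹ * v * c = c⁻¹ * v * (c⁻¹)⁻¹ by rw [inv_inv], conj_pow, conj_eq_one_iff] at h'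
      have := orderOf_dvd_of_pow_eq_one h'
      rw [hvo, show 4 = 2 ^ 2 by norm_num, Nat.pow_dvd_pow_iff_le_right (by norm_num)] at this
      exact this
    have hm0 : m = 2 := by
      refine le_antisymm hm2 ?_
      by_contra h
      interval_cases m
      · rw [pow_zero, one_mul] at ha
        exact Nat.not_even_iff_odd.2 hmodd (ha ▸ even_iff_two_dvd.2 ((show (2:ℕ) ∣ 4 by norm_num).trans hn4))
      · rw [ha, pow_one] at hn
        obtain ⟨r, rfl⟩ := hmodd
        omega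
    set t := v ^ 2 with ht
    have hto : orderOf t = 2 := by
      rw [ht, orderOf_pow_of_dvd two_ne_zero (by rw [hvo, hm0]; norm_num), hvo, hm0]; norm_num
    have hiso : Cfsg.IsIsolatedInvolution t := by
      obtain ⟨R, hR⟩ := (isPGroup_zpowers (p := 2) (n := 1) (x := t) (by rw [hto]; norm_num)).exists_le_sylow
      refine Invol.isolated_of_sylow R hto (hR (mem_zpowers t)) fun g hg => ?_
      obtain ⟨i, hi⟩ := mem_zpowers_iff.1
        (unique_order_of_not_hasPlane Nat.prime_two hplane R.2 ⟨_, hg⟩ ⟨t, hR (mem_zpowers t)⟩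
          (by rw [Subgroup.orderOf_mk, Invol.orderOf_conj_eq, hto]) (by rw [Subgroup.orderOf_mk, hto]))
      have hi' : t ^ i = g * t * g⁻¹ := by simpa using congrArg Subtype.val hi
      have ht2 : t ^ (2 : ℤ) = 1 := by
        rw [show (2 : ℤ) = ((2 : ℕ) : ℤ) by norm_num, zpow_natCast, ← hto, pow_orderOf_eq_one]
      obtain ⟨r, rfl | rfl⟩ := Int.even_or_odd' i
      · exfalso
        rw [zpow_mul, ht2, one_zpow, eq_comm, conj_eq_one_iff] at hi'
        rw [hi', orderOf_one] at hto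
        norm_num at hto
      · rw [← hi', zpow_add, zpow_mul, ht2, one_zpow, one_mul, zpow_one]
    have hcomm := Invol.zstar hiso
    set O := Cfsg.oddCore G with hO
    have hOn : O.Normal := by
      have := CfsgLib.Cores.pPrimeCore_characteristic (G := G) 2
      rw [hO]; infer_instance
    -- `t` inverts `z`
    have htz : t * z * t⁻¹ = z⁻¹ := by
      rw [ht, hv, ← pow_mul, hmod]
      obtain ⟨r, hr⟩ := hmodd
      rw [show a * 2 % 4 = 2 by omega, h2]
    have hzO : z ∈ O := by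
      have h := hcomm z
      rw [htz] at h
      have h' : z ^ 2 ∈ O := by
        have := inv_mem h
        rwa [mul_inv_rev, inv_inv, ← pow_two] at this
      obtain ⟨r, hr⟩ := hp.out.odd_of_ne_two hp2
      rw [show z = (z ^ 2) ^ (r + 1) by
        rw [← pow_mul, show 2 * (r + 1) = p + 1 by omega, pow_succ, ← hz, pow_orderOf_eq_one, one_mul]]
      exact pow_mem h' _
    have hall : ∀ c : G, c ^ p = 1 → c ∈ O := fun c hc => by
      by_cases hc1 : c = 1
      · rw [hc1]; exact one_mem _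
      have hco : orderOf c = p := orderOf_eq_prime hc hc1
      obtain ⟨g, hg⟩ := hD p hp.out (zpowers z) (zpowers c) (isPGroup_zpowers (n := 1) (by rw [hz, pow_one]))
        (isPGroup_zpowers (n := 1) (by rw [hco, pow_one])) (by rw [Nat.card_zpowers, Nat.card_zpowers, hz, hco])
      obtain ⟨d, hd, hd'⟩ := hg ▸ mem_zpowers c
      rw [← hd']
      exact hOn.conj_mem d (zpowers_le.2 hzO hd) g
    have hwO : w ∈ O := hw ▸ mul_mem (mul_mem (hall y hy) (inv_mem (hall u hu))) (hall y hy)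
    have hod : Odd (Nat.card O) := CfsgLib.Cores.odd_card_oddCore
    have := Odd.of_dvd_nat hod (orderOf_dvd_natCard O hwO)
    exact Nat.not_even_iff_odd.2 this (even_iff_two_dvd.2 ((show (2:ℕ) ∣ 4 by norm_num).trans hn4))

/-- For odd `p` a Sylow subgroup of exponent `p` is abelian. -/
theorem abelian_of_exponent (hD : Conj G) (hp2 : p ≠ 2) (P : Sylow p G)
    (hexp : ∀ c ∈ (P : Subgroup G), c ^ p = 1) : IsMulCommutative (P : Subgroup G) := by
  classical
  by_contra hna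
  -- a second central element
  set Z := center (P : Subgroup G) with hZ
  obtain ⟨xq, hx1, hxc⟩ : ∃ xq : (P : Subgroup G) ⧸ Z, xq ≠ 1 ∧ xq ∈ center ((P : Subgroup G) ⧸ Z) := by
    have hnt : Nontrivial ((P : Subgroup G) ⧸ Z) := QuotientGroup.nontrivial_iff.2 fun h => hna
      ⟨⟨fun a b => mem_center_iff.1 (h ▸ mem_top b : b ∈ Z) a⟩⟩
    haveI := (P.2.to_quotient Z).center_nontrivial
    obtain ⟨c, hc⟩ := exists_ne (1 : center ((P : Subgroup G) ⧸ Z))
    exact ⟨c, fun h => hc (Subtype.ext h), c.2⟩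
  obtain ⟨x', rfl⟩ := QuotientGroup.mk_surjective xq
  have hx'Z : x' ∉ Z := fun h => hx1 ((QuotientGroup.eq_one_iff x').2 h)
  obtain ⟨y', hy'⟩ : ∃ y' : (P : Subgroup G), y' * x' ≠ x' * y' := by
    by_contra h
    push Not at h
    exact hx'Z (mem_center_iff.2 h)
  set z' := y' * x' * y'⁻¹ * x'⁻¹ with hz'
  have hz'Z : z' ∈ Z := by
    rw [← QuotientGroup.eq_one_iff, hz', QuotientGroup.mk_mul, QuotientGroup.mk_mul, QuotientGroup.mk_mul,
      mem_center_iff.1 hxc (y' : (P : Subgroup G) ⧸ Z), QuotientGroup.mk_inv, QuotientGroup.mk_inv]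
    group
  set x : G := (x' : G) with hx
  set y : G := (y' : G) with hy
  set z : G := (z' : G) with hz
  have hxP : x ∈ (P : Subgroup G) := x'.2
  have hyP : y ∈ (P : Subgroup G) := y'.2
  have hzP : z ∈ (P : Subgroup G) := z'.2
  have hzc : ∀ c ∈ (P : Subgroup G), c * z = z * c := fun c hc =>
    congrArg Subtype.val (mem_center_iff.1 hz'Z ⟨c, hc⟩)
  have hzx : Commute z x := (hzc x hxP).symm
  have hyz : y * z * y⁻¹ = z := by rw [hzc y hyP, mul_inv_cancel_right]
  have hyx : y * x * y⁻¹ = z * x := by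
    have : z = y * x * y⁻¹ * x⁻¹ := rfl
    rw [this, inv_mul_cancel_right]
  have hnc : y * x ≠ x * y := fun h => hy' (Subtype.ext h)
  have hzne : z ≠ 1 := fun h => hnc (by
    rw [h, one_mul] at hyx
    exact mul_inv_eq_iff_eq_mul.1 hyx)
  have hzo : orderOf z = p := orderOf_eq_prime (hexp z hzP) hzne
  have hxne : x ≠ 1 := fun h => hnc (by rw [h, mul_one, one_mul])
  -- the plane
  have hxnot : x ∉ zpowers z := fun h => by
    obtain ⟨i, hi⟩ := h
    exact hnc (by rw [← hi]; exact ((show Commute y z from hzc y hyP).zpow_right i).eq)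
  have hxnz : x ∈ normalizer (zpowers z : Set G) := centralizer_le_normalizer _
    (mem_centralizer_iff.2 fun c ⟨i, hi⟩ => by rw [← hi]; exact (hzx.zpow_left i).eq)
  obtain ⟨hEcard, hEmem⟩ := card_sup_zpowers (p := p) hxnz (hexp x hxP) hxnot
  rw [Nat.card_zpowers, hzo] at hEcard
  set E := zpowers z ⊔ zpowers x with hE
  have hzE : z ∈ E := mem_sup_left (mem_zpowers z)
  have hxE : x ∈ E := mem_sup_right (mem_zpowers x)
  have hEP : E ≤ (P : Subgroup G) := sup_le (zpowers_le.2 hzP) (zpowers_le.2 hxP)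
  have hEc : ∀ c : G, Commute c z → Commute c x → ∀ q ∈ E, Commute c q := fun c h1 h2 q hq => by
    obtain ⟨h, ⟨i, rfl⟩, j, rfl⟩ := hEmem q hq
    exact (h1.zpow_right i).mul_right (h2.zpow_right j)
  have hnorm : ∀ c : G, c * z * c⁻¹ ∈ E → c * x * c⁻¹ ∈ E → c ∈ normalizer (E : Set G) := fun c h1 h2 => by
    refine mem_normalizer_fintype (S := (E : Set G)) fun q hq => ?_
    obtain ⟨h, ⟨i, rfl⟩, j, rfl⟩ := hEmem q hq
    rw [show c * (z ^ i * x ^ j) * c⁻¹ = (c * z ^ i * c⁻¹) * (c * x ^ j * c⁻¹) by group, ← conj_zpow, ← conj_zpow]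
    exact mul_mem (zpow_mem h1 i) (zpow_mem h2 j)
  have hpE : IsPGroup p E := P.2.to_le hEP
  have hsup : ∀ c : G, c ∈ normalizer (E : Set G) → c ^ p = 1 → c ∉ E →
      Nat.card ↥(E ⊔ zpowers c) = p * p * p ∧ IsPGroup p ↥(E ⊔ zpowers c) := fun c hc hcp hcE => by
    have h := (card_sup_zpowers (p := p) hc hcp hcE).1
    rw [hEcard] at h
    exact ⟨h, IsPGroup.of_card (n := 3) (by rw [h]; ring)⟩
  -- no further element centralises the plane
  have hyE : y ∉ E := fun h => hnc ((hEc x hzx.symm (Commute.refl x) y h).eq.symm)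
  have hyN : y ∈ normalizer (E : Set G) := hnorm y (by rwa [hyz]) (by rw [hyx]; exact mul_mem hzE hxE)
  have hCE : ∀ c : G, c ^ p = 1 → Commute c z → Commute c x → c ∈ E := fun c hcp h1 h2 => by
    by_contra hcE
    have hcN : c ∈ normalizer (E : Set G) := hnorm c (by rw [h1.eq, mul_inv_cancel_right]; exact hzE)
      (by rw [h2.eq, mul_inv_cancel_right]; exact hxE)
    obtain ⟨g, hg⟩ := hD p hp.out (E ⊔ zpowers c) (E ⊔ zpowers y) (hsup c hcN hcp hcE).2
      (hsup y hyN (hexp y hyP) hyE).2 ((hsup c hcN hcp hcE).1.trans (hsup y hyN (hexp y hyP) hyE).1.symm)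
    have hab : ∀ a ∈ E ⊔ zpowers c, ∀ b ∈ E ⊔ zpowers c, Commute a b := fun a ha b hb => by
      obtain ⟨e1, he1, i, rfl⟩ := (card_sup_zpowers hcN hcp hcE).2 a ha
      obtain ⟨e2, he2, j, rfl⟩ := (card_sup_zpowers hcN hcp hcE).2 b hb
      have hee : Commute e1 e2 := hEc e1 (hEc z (Commute.refl z) hzx e1 he1).symm
        (hEc x hzx.symm (Commute.refl x) e1 he1).symm e2 he2
      exact Commute.mul_left (hee.mul_right ((hEc c h1 h2 e1 he1).symm.zpow_right j))
        (((hEc c h1 h2 e2 he2).zpow_left i).mul_right (((Commute.refl c).zpow_left i).zpow_right j))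
    obtain ⟨a, ha, ea⟩ := hg ▸ (mem_sup_left hxE : x ∈ E ⊔ zpowers y)
    obtain ⟨b, hb, eb⟩ := hg ▸ (mem_sup_right (mem_zpowers y) : y ∈ E ⊔ zpowers y)
    exact hnc (by rw [← ea, ← eb]; exact ((hab b hb a ha).map (MulAut.conj g).toMonoidHom).eq)
  -- the centraliser of the second element
  set C := centralizer ({x} : Set G) with hC
  have hxo : orderOf x = p := orderOf_eq_prime (hexp x hxP) hxne
  obtain ⟨g, hg⟩ := hD p hp.out (zpowers z) (zpowers x) (isPGroup_zpowers (n := 1) (by rw [hzo, pow_one]))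
    (isPGroup_zpowers (n := 1) (by rw [hxo, pow_one])) (by rw [Nat.card_zpowers, Nat.card_zpowers, hzo, hxo])
  have hQC : (P : Subgroup G).map (MulAut.conj g).toMonoidHom ≤ C := by
    rintro _ ⟨c, hc, rfl⟩
    obtain ⟨d, ⟨i, hi⟩, hd⟩ := hg ▸ mem_zpowers x
    rw [hC, mem_centralizer_singleton_iff, ← hd, ← hi, ← map_mul, ← map_mul]
    exact congrArg _ ((show Commute c z from hzc c hc).zpow_right i).eq
  have hEC : E ≤ C := fun q hq => mem_centralizer_singleton_iff.2 (hEc x hzx.symm (Commute.refl x) q hq).eq.symm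
  obtain ⟨R, hR⟩ := (hpE.comap_of_injective C.subtype C.subtype_injective).exists_le_sylow
  set R' := (R : Subgroup C).map C.subtype with hR'
  have hER : E ≤ R' := fun q hq => ⟨⟨q, hEC hq⟩, hR (mem_subgroupOf.2 hq), rfl⟩
  have hcardR : Nat.card P ≤ Nat.card R' := by
    obtain ⟨R0, hR0⟩ := ((P.2.map (MulAut.conj g).toMonoidHom).comap_of_injective C.subtype
      C.subtype_injective).exists_le_sylow
    rw [hR', card_map_of_injective C.subtype_injective, Nat.card_congr (R.equiv R0).toEquiv]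
    refine le_trans ?_ (card_le_of_le hR0)
    rw [← card_map_of_injective C.subtype_injective (K := Subgroup.comap C.subtype _),
      Subgroup.map_comap_eq, range_subtype, inf_eq_right.2 hQC,
      card_map_of_injective (MulEquiv.injective _)]
  have hlt : E < R' := lt_of_le_of_ne hER fun h => by
    rw [← h] at hcardR
    exact hyE ((eq_of_le_of_card_ge hEP hcardR).symm ▸ hyP)
  haveI : Group.IsNilpotent R' := (R.2.map C.subtype).isNilpotent
  obtain ⟨u, huR, huN, huE⟩ : ∃ u ∈ R', u ∈ normalizer (E : Set G) ∧ u ∉ E := by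
    have hlt' : E.subgroupOf R' < ⊤ := lt_top_iff_ne_top.2 fun h =>
      not_le_of_gt hlt (subgroupOf_eq_top.1 h)
    obtain ⟨u, hu1, hu2⟩ := SetLike.exists_of_lt (normalizerCondition_of_isNilpotent (E.subgroupOf R') hlt')
    refine ⟨u, u.2, mem_normalizer_fintype (S := (E : Set G)) fun q hq => ?_, fun h => hu2 h⟩
    exact (mem_normalizer_iff.1 hu1 ⟨q, hER hq⟩).1 hq
  have hux : Commute u x := mem_centralizer_singleton_iff.1 (map_subtype_le _ huR)
  have hup : u ^ p = 1 := by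
    obtain ⟨T, hT⟩ := (R.2.map C.subtype).exists_le_sylow
    obtain ⟨c, hc⟩ := MulAction.exists_smul_eq G P T
    have hmem : u ∈ (P : Subgroup G).map (MulAut.conj c).toMonoidHom := by
      have := hT huR
      rwa [← hc, Sylow.coe_subgroup_smul] at this
    obtain ⟨d, hd, rfl⟩ := hmem
    rw [← map_pow, hexp d hd, map_one]
  -- the action on the plane
  obtain ⟨zi, ⟨a, rfl⟩, b, hab⟩ := hEmem (u * z * u⁻¹) ((mem_normalizer_iff.1 huN z).1 hzE)
  have hpow : ∀ i : ℕ, ∃ l : ℤ, u ^ i * z * (u ^ i)⁻¹ = z ^ (a ^ i) * x ^ l := fun i => by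
    induction i with
    | zero => exact ⟨0, by simp⟩
    | succ i ih =>
      obtain ⟨l, hl⟩ := ih
      refine ⟨b * a ^ i + l, ?_⟩
      calc u ^ (i + 1) * z * (u ^ (i + 1))⁻¹ = u * (u ^ i * z * (u ^ i)⁻¹) * u⁻¹ := by rw [pow_succ']; group
        _ = (u * z * u⁻¹) ^ (a ^ i) * (u * x * u⁻¹) ^ l := by rw [hl, conj_zpow, conj_zpow]; group
        _ = (z ^ a * x ^ b) ^ (a ^ i) * x ^ l := by rw [← hab, hux.eq, mul_inv_cancel_right]
        _ = _ := by
          rw [((hzx.zpow_left a).zpow_right b).mul_zpow, ← zpow_mul, ← zpow_mul, mul_assoc, ← zpow_add, pow_succ',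
            mul_comm a]
  have ha1 : (p : ℤ) ∣ a - 1 := by
    obtain ⟨l, hl⟩ := hpow p
    rw [hup, one_mul, inv_one, mul_one] at hl
    have h1 : z ^ (a ^ p - 1) ∈ zpowers x := ⟨-l, by
      have e : z ^ (a ^ p) = z * (x ^ l)⁻¹ := eq_mul_inv_of_mul_eq hl.symm
      show x ^ (-l) = _
      rw [zpow_sub, zpow_one, e, zpow_neg, ((hzx.zpow_right l).inv_right).eq, mul_inv_cancel_right]⟩
    have h2 : (p : ℤ) ∣ a ^ p - 1 := by
      by_contra h
      obtain ⟨r, s, hrs⟩ := ((Nat.prime_iff_prime_int.1 hp.out).coprime_iff_not_dvd.2 h)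
      have hzX : z ∈ zpowers x := by
        have := zpow_mem h1 s
        rwa [← zpow_mul, show (a ^ p - 1) * s = (1 : ℤ) + (-r) * p by linarith, zpow_add, mul_comm (-r),
          zpow_mul, zpow_natCast, ← hzo, pow_orderOf_eq_one, one_zpow, mul_one, zpow_one] at this
      obtain ⟨i, hi⟩ := hzX
      refine hnc (mul_inv_eq_iff_eq_mul.1 ?_)
      have hz2 : y * x ^ i * y⁻¹ = x ^ i := by rw [show x ^ i = z from hi, hyz]
      rw [← conj_zpow, hyx, hzx.mul_zpow] at hz2
      have hz3 : z ^ i = 1 := mul_eq_right.1 hz2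
      have hi3 : (p : ℤ) ∣ i := hzo ▸ orderOf_dvd_iff_zpow_eq_one.2 hz3
      exfalso
      obtain ⟨j, rfl⟩ := hi3
      refine hzne ?_
      rw [← hi]
      simp [zpow_mul, hexp x hxP]
    rw [← ZMod.intCast_zmod_eq_zero_iff_dvd] at h2 ⊢
    push_cast at h2 ⊢
    rwa [ZMod.pow_card] at h2
  have hza : z ^ a = z := by
    obtain ⟨r, hr⟩ := ha1
    rw [show a = (p : ℤ) * r + 1 by omega, zpow_add, zpow_mul, zpow_natCast, ← hzo, pow_orderOf_eq_one,
      one_zpow, one_mul, zpow_one]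
  change z ^ a * x ^ b = _ at hab
  rw [hza] at hab
  have hbp : ¬ (p : ℤ) ∣ b := by
    rintro ⟨r, rfl⟩
    rw [zpow_mul, zpow_natCast, hexp x hxP, one_zpow, mul_one] at hab
    exact huE (hCE u hup (mul_inv_eq_iff_eq_mul.1 hab.symm) hux)
  obtain ⟨r, s, hrs⟩ := ((Nat.prime_iff_prime_int.1 hp.out).coprime_iff_not_dvd.2 hbp)
  set k := (s % (p : ℤ)).toNat with hk
  have hk' : (k : ℤ) = s % p := Int.toNat_of_nonneg (Int.emod_nonneg _ (by exact_mod_cast hp.out.ne_zero))
  have hU1 : u ^ k * z * (u ^ k)⁻¹ = z * x := by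
    have h1 := pow_conj_shift (w := u) (z := z) (x := x ^ b) hab.symm
      (by rw [(hux.zpow_right b).eq, mul_inv_cancel_right]) k
    rw [h1, ← zpow_natCast (x ^ b), ← zpow_mul, hk', Int.emod_def, show b * (s - (p : ℤ) * (s / p)) =
      1 + (p : ℤ) * (-r - b * (s / p)) by linarith, zpow_add, zpow_mul, zpow_natCast, hexp x hxP, one_zpow,
      mul_one, zpow_one]
  have hU2 : u ^ k * x * (u ^ k)⁻¹ = x := by rw [(hux.pow_left k).eq, mul_inv_cancel_right]
  obtain ⟨hw1, hw2⟩ := weyl hzx.symm hyz hyx hU1 hU2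
  exact two_contra hD hp2 hzo (hexp y hyP) (by rw [← pow_mul, mul_comm, pow_mul, hup, one_pow]) rfl hxne
    (fun h => hxnot (h ▸ mem_zpowers z)) hw1 hw2

theorem sylow_structure (hD : Conj G) (P : Sylow p G) :
    IsCyclic P ∨ Cfsg.IsElementaryAbelian p (P : Subgroup G) ∨
      Nonempty ((P : Subgroup G) ≃* QuaternionGroup 2) := by
  by_cases hp2 : p = 2
  · subst hp2
    exact two_case hD P
  by_cases h : HasPlane p G
  · exact Or.inr (Or.inl ⟨abelian_of_exponent hD hp2 P fun c hc => exponent hD h P.2 hc,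
      fun c hc => exponent hD h P.2 hc⟩)
  · exact Or.inl ((cyclic_or_quaternion_of_not_hasPlane hp.out h P.2).resolve_right fun h' => hp2 h'.1)

end CfsgLib.FGS.EqualOrder
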