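import Cfsg.Prelude.Def_Solvable
import Mathlib.GroupTheory.Complement
import Mathlib.Tactic.Group

/-!
A fixed-point-free element on a finite normal subgroup is conjugate to every element of its coset.
-/

set_option autoImplicit false

namespace CfsgLib.FGS

open Subgroup
open scoped Pointwise

variable {G : Type*} [Group G]

theorem exists_conj_eq_mul_of_fpf (N : Subgroup G) [Finite N] [N.Normal] {h : G}
    (hfp : ∀ n ∈ N, n * h = h * n → n = 1) {n : G} (hn : n ∈ N) :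
    ∃ m ∈ N, m * h * m⁻¹ = n * h := by
  let f : N → N := fun m => ⟨m * (h * (m : G)⁻¹ * h⁻¹),
    mul_mem m.2 (Subgroup.Normal.conj_mem ‹_› _ (inv_mem m.2) h)⟩
  have hf : Function.Injective f := by
    intro a b hab
    have e : (a : G) * (h * (a : G)⁻¹ * h⁻¹) = b * (h * (b : G)⁻¹ * h⁻¹) := congrArg Subtype.val hab
    have e2 : (b : G)⁻¹ * a * h = h * ((b : G)⁻¹ * a) := by
      calc (b : G)⁻¹ * a * h = (b : G)⁻¹ * ((a : G) * (h * (a : G)⁻¹ * h⁻¹)) * h * a := by group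
        _ = (b : G)⁻¹ * (b * (h * (b : G)⁻¹ * h⁻¹)) * h * a := by rw [e]
        _ = h * ((b : G)⁻¹ * a) := by group
    exact (Subtype.ext (inv_mul_eq_one.1 (hfp _ (mul_mem (inv_mem b.2) a.2) e2))).symm
  obtain ⟨m, hm⟩ := (Finite.injective_iff_surjective.1 hf) ⟨n, hn⟩
  refine ⟨m, m.2, ?_⟩
  have e : (m : G) * (h * (m : G)⁻¹ * h⁻¹) = n := congrArg Subtype.val hm
  rw [← e]
  group

/-- Fixed-point-free complements are Frobenius complements, the normal subgroup is the kernel. -/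
theorem frobenius_of_fpf [Finite G] (N H : Subgroup G) [N.Normal] (hN : N ≠ ⊥) (hH : H ≠ ⊥)
    (hd : N ⊓ H = ⊥) (hfp : ∀ h ∈ H, h ≠ 1 → ∀ n ∈ N, n * h = h * n → n = 1) :
    Cfsg.IsFrobeniusComplement (H.subgroupOf (N ⊔ H)) ∧
      Cfsg.frobeniusKernel (H.subgroupOf (N ⊔ H)) = (N.subgroupOf (N ⊔ H) : Set ↥(N ⊔ H)) := by
  set K := N ⊔ H with hK
  have hdec : ∀ g : K, ∃ n ∈ N, ∃ h ∈ H, n * h = (g : G) := fun g =>
    Subgroup.mem_sup_of_normal_left.1 g.2
  have hmem : ∀ (g x : K), x ∈ MulAut.conj g • (H.subgroupOf K) ↔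
      (g : G)⁻¹ * (x : G) * (g : G) ∈ H := by
    intro g x
    rw [Subgroup.mem_pointwise_smul_iff_inv_smul_mem, ← map_inv, MulAut.smul_def,
      MulAut.conj_apply, inv_inv, Subgroup.mem_subgroupOf]
    rfl
  refine ⟨⟨?_, ?_, ?_⟩, ?_⟩
  · intro e
    refine hH (eq_bot_iff.2 fun h hh => ?_)
    have h' : (⟨h, le_sup_right (a := N) hh⟩ : K) ∈ H.subgroupOf K := hh
    rw [e, Subgroup.mem_bot] at h'
    exact Subgroup.mem_bot.2 (congrArg Subtype.val h')
  · intro e
    refine hN (eq_bot_iff.2 fun n hn => ?_)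
    rw [← hd]
    exact ⟨hn, show (⟨n, le_sup_left (b := H) hn⟩ : K) ∈ H.subgroupOf K from e ▸ Subgroup.mem_top _⟩
  · intro g hg
    rw [Subgroup.eq_bot_iff_forall]
    rintro ⟨x, hxK⟩ ⟨hx1, hx2⟩
    have hx1' : x ∈ H := hx1
    have hx2' := (hmem g _).1 hx2
    obtain ⟨n, hn, h, hh, hg'⟩ := hdec g
    have hy : n⁻¹ * x * n ∈ H := by
      have := mul_mem (mul_mem hh hx2') (inv_mem hh)
      rw [← hg'] at this
      convert this using 1
      group
    have hc : x⁻¹ * (n⁻¹ * x * n) ∈ N ⊓ H := by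
      refine Subgroup.mem_inf.2 ⟨?_, mul_mem (inv_mem hx1') hy⟩
      rw [show x⁻¹ * (n⁻¹ * x * n) = x⁻¹ * n⁻¹ * x * n by group]
      refine mul_mem ?_ hn
      simpa using Subgroup.Normal.conj_mem ‹N.Normal› n⁻¹ (inv_mem hn) x⁻¹
    rw [hd, Subgroup.mem_bot, inv_mul_eq_one] at hc
    refine Subtype.ext ?_
    show x = 1
    by_contra hx
    have hn1 := hfp x hx1' hx n hn (by
      nth_rw 1 [hc]
      group)
    refine hg (show (g : G) ∈ H from ?_)
    rw [← hg', hn1, one_mul]; exact hh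
  · ext ⟨x, hxK⟩
    constructor
    · rintro (h1 | h1)
      · rw [h1]; exact one_mem _
      · obtain ⟨n, hn, h, hh, hx⟩ := hdec ⟨x, hxK⟩
        show x ∈ N
        by_cases hh1 : h = 1
        · rw [show x = n by simpa [hh1] using hx.symm]; exact hn
        · obtain ⟨m, hm, hmh⟩ := exists_conj_eq_mul_of_fpf N (hfp h hh hh1) hn
          refine absurd ((hmem ⟨m, le_sup_left (b := H) hm⟩ ⟨x, hxK⟩).2 ?_) (h1 _)
          show m⁻¹ * x * m ∈ H
          rw [show x = n * h from hx.symm, ← hmh]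
          simpa [mul_assoc] using hh
    · intro hx
      have hx' : x ∈ N := hx
      refine or_iff_not_imp_left.2 fun h1 g hg => h1 ?_
      have h2 := (hmem g _).1 hg
      have h3 : (g : G)⁻¹ * x * (g : G) ∈ N ⊓ H := ⟨by
        simpa using Subgroup.Normal.conj_mem ‹N.Normal› x hx' (g : G)⁻¹, h2⟩
      rw [hd, Subgroup.mem_bot] at h3
      refine Subtype.ext ?_
      show x = 1
      calc x = (g : G) * ((g : G)⁻¹ * x * g) * (g : G)⁻¹ := by group
        _ = 1 := by rw [h3]; group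

end CfsgLib.FGS
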