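import Mathlib
import Cfsg.Agent.Lib.FGS.Class
import Cfsg.Agent.Lib.FGS.Basics
import Cfsg.Agent.Lib.Char.Burnside

/-!
# Nonsolvable groups with four automorphism orbits

Granting the solvability of groups of odd order, a nonsolvable finite group on which the
automorphism group has exactly four orbits is `A₅`.  All elements have prime order, so the
centralizers of involutions are elementary abelian and those of inverted elements are abelian;
the count of pairs of involutions then determines the order.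
-/

namespace CfsgLib.FGS.FourOrbits

open Subgroup
open scoped Classical

universe u

variable {G : Type u} [Group G] [Finite G]

/-- The working hypotheses. -/
structure Hyp (G : Type u) [Group G] [Finite G] : Prop where
  prime : ∀ g : G, g ≠ 1 → (orderOf g).Prime
  aut : ∀ g h : G, orderOf g = orderOf h → ∃ θ : MulAut G, θ g = h
  three : 3 ≤ (Nat.card G).primeFactors.card
  four : ∀ r : ℕ, r.Prime → r ∣ Nat.card G → ∀ s : ℕ, s.Prime → s ∣ Nat.card G → r ≠ 2 → s ≠ 2 →
    r ≠ s → (Nat.card G).primeFactors = {2, r, s}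
  noOddQuot : ∀ N : Subgroup G, N.Normal → IsPGroup 2 N → ¬ Odd N.index

theorem hyp_of_orbits (hFT : ∀ (K : Type u) [Group K] [Finite K], Odd (Nat.card K) →
      Group.IsSolvable K) (hns : ¬ Group.IsSolvable G)
    (h4 : Nat.card (MulAction.orbitRel.Quotient (MulAut G) G) = 4) : Hyp G := by
  set Q := MulAction.orbitRel.Quotient (MulAut G) G
  have : Finite Q := Nat.finite_of_card_ne_zero (by omega)
  let f : Q → ℕ := Quotient.lift orderOf fun a b hab => by
    obtain ⟨θ, hθ⟩ := MulAction.orbitRel_apply.1 hab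
    rw [← hθ]
    exact θ.orderOf_eq b
  have hpf : 3 ≤ (Nat.card G).primeFactors.card := by
    by_contra hlt
    apply hns
    obtain ⟨p, q, hp, hq, hsub⟩ : ∃ p q : ℕ, p.Prime ∧ q.Prime ∧
        (Nat.card G).primeFactors ⊆ {p, q} := by
      rcases Nat.lt_or_ge (Nat.card G).primeFactors.card 1 with h0 | h1
      · refine ⟨2, 2, Nat.prime_two, Nat.prime_two, ?_⟩
        rw [Finset.card_eq_zero.1 (by omega : (Nat.card G).primeFactors.card = 0)]
        exact Finset.empty_subset _
      rcases Nat.lt_or_ge (Nat.card G).primeFactors.card 2 with h2 | h2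
      · obtain ⟨p, hp⟩ := Finset.card_eq_one.1 (by omega : (Nat.card G).primeFactors.card = 1)
        have hpp : p.Prime := Nat.prime_of_mem_primeFactors (hp ▸ Finset.mem_singleton_self p)
        exact ⟨p, p, hpp, hpp, by rw [hp]; simp⟩
      · obtain ⟨p, q, -, hpq⟩ :=
          Finset.card_eq_two.1 (by omega : (Nat.card G).primeFactors.card = 2)
        exact ⟨p, q, Nat.prime_of_mem_primeFactors (hpq ▸ Finset.mem_insert_self p _),
          Nat.prime_of_mem_primeFactors
            (hpq ▸ Finset.mem_insert_of_mem (Finset.mem_singleton_self q)), hpq.le⟩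
    refine CfsgLib.Char.isSolvable_of_card_eq_pow_mul_pow hp hq
      (a := (Nat.card G).factorization p) (b := (Nat.card G).factorization q) ?_
    conv_lhs => rw [← Nat.prod_factorization_pow_eq_self (Nat.card_pos (α := G)).ne']
    rw [Finsupp.prod, Nat.support_factorization]
    refine (Finset.prod_dvd_prod_of_subset _ _ _ hsub).trans ?_
    by_cases hpq : p = q
    · subst hpq
      simp
    · rw [Finset.prod_pair hpq]
  -- the orders of elements are 1 and the prime divisors
  set T : Finset ℕ := insert 1 (Nat.card G).primeFactors with hT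
  have hTcard : 4 ≤ T.card := by
    rw [hT, Finset.card_insert_of_notMem (by simp [Nat.mem_primeFactors, Nat.not_prime_one])]
    omega
  have hTsub : (T : Set ℕ) ⊆ Set.range f := by
    intro n hn
    rcases Finset.mem_insert.1 hn with rfl | hn
    · exact ⟨Quotient.mk'' 1, orderOf_one⟩
    · have := Fact.mk (Nat.prime_of_mem_primeFactors hn)
      obtain ⟨g, hg⟩ := exists_prime_orderOf_dvd_card' n (Nat.dvd_of_mem_primeFactors hn)
      exact ⟨Quotient.mk'' g, hg⟩
  have hrcard : (Set.range f).ncard ≤ 4 := by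
    rw [← h4, ← Nat.card_coe_set_eq]
    exact Nat.card_le_card_of_surjective (Set.rangeFactorization f) Set.rangeFactorization_surjective
  have hTr : (T : Set ℕ) = Set.range f :=
    Set.eq_of_subset_of_ncard_le hTsub (by rw [Set.ncard_coe_finset]; omega) (Set.finite_range f)
  have hfinj : Function.Injective f := by
    have hbij : Function.Bijective (Set.rangeFactorization f) := by
      rw [Nat.bijective_iff_surjective_and_card]
      refine ⟨Set.rangeFactorization_surjective, ?_⟩
      have hle : (T : Set ℕ).ncard ≤ (Set.range f).ncard := by rw [hTr]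
      rw [Set.ncard_coe_finset] at hle
      rw [Nat.card_coe_set_eq]
      omega
    exact fun a b hab => hbij.1 (Subtype.ext hab)
  have hprime : ∀ g : G, g ≠ 1 → (orderOf g).Prime := fun g hg => by
    have : orderOf g ∈ (T : Set ℕ) := hTr ▸ ⟨Quotient.mk'' g, rfl⟩
    rcases Finset.mem_insert.1 this with h | h
    · exact absurd (orderOf_eq_one_iff.1 h) hg
    · exact Nat.prime_of_mem_primeFactors h
  refine ⟨hprime, fun g h hgh => ?_, hpf, ?_, fun N hN hN2 hodd => hns ?_⟩
  · obtain ⟨θ, hθ⟩ := MulAction.orbitRel_apply.1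
      (Quotient.exact' (hfinj (hgh : f (Quotient.mk'' g) = f (Quotient.mk'' h))).symm)
    exact ⟨θ, hθ⟩
  · intro r hr hrd s hs hsd hr2 hs2 hrs
    have h2 : 2 ∣ Nat.card G := by
      by_contra h2
      exact hns (hFT G (Nat.odd_iff.2 (by omega)))
    have hle : T.card ≤ 4 := by
      rw [← Set.ncard_coe_finset, hTr]; exact hrcard
    rw [hT, Finset.card_insert_of_notMem (by simp [Nat.mem_primeFactors, Nat.not_prime_one])]
      at hle
    refine (Finset.eq_of_subset_of_card_le ?_ ?_).symm
    · intro n hn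
      simp only [Finset.mem_insert, Finset.mem_singleton] at hn
      rw [Nat.mem_primeFactors]
      rcases hn with rfl | rfl | rfl
      exacts [⟨Nat.prime_two, h2, Nat.card_pos.ne'⟩, ⟨hr, hrd, Nat.card_pos.ne'⟩,
        ⟨hs, hsd, Nat.card_pos.ne'⟩]
    · rw [Finset.card_insert_of_notMem (by simp [Ne.symm hr2, Ne.symm hs2]),
        Finset.card_pair hrs]
      omega
  · have := hN
    have : Fact (Nat.Prime 2) := ⟨Nat.prime_two⟩
    have : Group.IsNilpotent N := hN2.isNilpotent
    have := hFT (G ⧸ N) (by rw [← Subgroup.index_eq_card]; exact hodd)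
    exact Group.isSolvable_of_ker_le_range N.subtype (QuotientGroup.mk' N) (by simp)

variable (H : Hyp G)

/-- The centralizer of an element. -/
abbrev C (g : G) : Subgroup G := centralizer ({g} : Set G)

omit [Finite G] in
theorem mem_C {g x : G} : x ∈ C g ↔ x * g = g * x := mem_centralizer_singleton_iff

omit [Finite G] in
theorem C_conj (g x : G) : C (g * x * g⁻¹) = (C x).map (MulAut.conj g).toMonoidHom := by
  ext z
  constructor
  · intro hz
    refine ⟨g⁻¹ * z * g, mem_C.2 ?_, by simp; group⟩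
    have h := mem_C.1 hz
    calc g⁻¹ * z * g * x = g⁻¹ * (z * (g * x * g⁻¹)) * g := by group
      _ = g⁻¹ * (g * x * g⁻¹ * z) * g := by rw [h]
      _ = x * (g⁻¹ * z * g) := by group
  · rintro ⟨w, hw, rfl⟩
    refine mem_C.2 ?_
    have h := mem_C.1 hw
    show g * w * g⁻¹ * (g * x * g⁻¹) = g * x * g⁻¹ * (g * w * g⁻¹)
    calc g * w * g⁻¹ * (g * x * g⁻¹) = g * (w * x) * g⁻¹ := by group
      _ = g * (x * w) * g⁻¹ := by rw [h]
      _ = _ := by group

omit [Finite G] in
theorem inv_eq_of_two {t : G} (ht : orderOf t = 2) : t⁻¹ = t :=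
  inv_eq_of_mul_eq_one_right (by rw [← sq, ← ht, pow_orderOf_eq_one])

omit [Finite G] in
theorem two_mul_self {t : G} (ht : orderOf t = 2) : t * t = 1 := by
  rw [← sq, ← ht, pow_orderOf_eq_one]

include H in
/-- Commuting elements of order different from 1 have the same order. -/
theorem orderOf_eq_of_commute {a b : G} (hab : Commute a b) (ha : a ≠ 1) (hb : b ≠ 1) :
    orderOf a = orderOf b := by
  by_contra hne
  have hpa := H.prime a ha
  have hpb := H.prime b hb
  have hcop : (orderOf a).Coprime (orderOf b) := (Nat.coprime_primes hpa hpb).2 hne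
  have ho := hab.orderOf_mul_eq_mul_orderOf_of_coprime hcop
  have h1 : a * b ≠ 1 := by
    intro h
    rw [h, orderOf_one] at ho
    have := hpa.one_lt
    have := hpb.one_lt
    nlinarith
  exact Nat.not_prime_mul hpa.one_lt.ne' hpb.one_lt.ne' (ho ▸ H.prime _ h1)

include H in
theorem sq_of_mem_C_invol {t x : G} (ht : orderOf t = 2) (hx : x ∈ C t) : x * x = 1 := by
  rcases eq_or_ne x 1 with rfl | hx1
  · exact one_mul 1
  refine two_mul_self ((orderOf_eq_of_commute H (mem_C.1 hx) hx1 ?_).trans ht)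
  rintro rfl
  rw [orderOf_one] at ht
  omega

include H in
theorem comm_C_invol {t x y : G} (ht : orderOf t = 2) (hx : x ∈ C t) (hy : y ∈ C t) :
    x * y = y * x := by
  have hxy := sq_of_mem_C_invol H ht (mul_mem hx hy)
  calc x * y = x * (x * y * (x * y)) * y := by rw [hxy, mul_one]
    _ = (x * x) * (y * x) * (y * y) := by group
    _ = y * x := by rw [sq_of_mem_C_invol H ht hx, sq_of_mem_C_invol H ht hy]; group

include H in
/-- The centralizer of an involution of a Sylow 2-subgroup is that subgroup. -/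
theorem C_eq_sylow (S : Sylow 2 G) {t : G} (ht : t ∈ (S : Subgroup G)) (ht1 : t ≠ 1) :
    C t = (S : Subgroup G) := by
  have : Fact (Nat.Prime 2) := ⟨Nat.prime_two⟩
  have ho : ∀ y ∈ (S : Subgroup G), y * y = 1 := fun y hy => by
    rcases eq_or_ne y 1 with rfl | hy1
    · exact one_mul 1
    obtain ⟨k, hk⟩ := (S.isPGroup'.of_injective (Subgroup.inclusion (le_refl _))
      Subtype.val_injective.of_comp) ⟨y, hy⟩
    replace hk : y ^ 2 ^ k = 1 := congrArg Subtype.val hk
    exact two_mul_self ((Nat.prime_dvd_prime_iff_eq (H.prime y hy1) Nat.prime_two).1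
      ((H.prime y hy1).dvd_of_dvd_pow (orderOf_dvd_of_pow_eq_one hk)))
  have ht2 : orderOf t = 2 := orderOf_eq_prime (by rw [sq]; exact ho t ht) ht1
  have hle : (S : Subgroup G) ≤ C t := fun y hy => mem_C.2 (by
    calc y * t = y * (y * t * (y * t)) * t := by rw [ho _ (mul_mem hy ht), mul_one]
      _ = (y * y) * (t * y) * (t * t) := by group
      _ = t * y := by rw [ho y hy, ho t ht]; group)
  refine S.is_maximal' (fun x => ⟨1, Subtype.ext ?_⟩) hle
  show (x : G) ^ 2 ^ 1 = 1
  rw [pow_one, sq]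
  exact sq_of_mem_C_invol H ht2 x.2

include H in
theorem isPGroup_C_invol {t : G} (ht : orderOf t = 2) : IsPGroup 2 (C t) := fun x =>
  ⟨1, Subtype.ext (by
    show (x : G) ^ 2 ^ 1 = 1
    rw [pow_one, sq]
    exact sq_of_mem_C_invol H ht x.2)⟩

include H in
/-- There is one class of involutions. -/
theorem invol_conj {t u : G} (ht : orderOf t = 2) (hu : orderOf u = 2) : IsConj t u := by
  have : Fact (Nat.Prime 2) := ⟨Nat.prime_two⟩
  by_contra hne
  have hcomm : ∀ g : G, g * t * g⁻¹ ∈ C u := by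
    intro g
    set w := g * t * g⁻¹ with hw
    have htw : IsConj t w := isConj_iff.2 ⟨g, hw.symm⟩
    have hwo : orderOf w = 2 := ((MulAut.conj g).orderOf_eq t).trans ht
    clear_value w
    rw [mem_C]
    by_contra hnc
    have hz1 : w * u ≠ 1 := by
      intro h
      apply hnc
      rw [mul_eq_one_iff_eq_inv.1 h, inv_eq_of_two hu]
    have hp := H.prime _ hz1
    rcases hp.eq_two_or_odd' with h2 | hodd
    · apply hnc
      calc w * u = (w * u)⁻¹ := (inv_eq_of_two h2).symm
        _ = u * w := by rw [mul_inv_rev, inv_eq_of_two hu, inv_eq_of_two hwo]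
    · obtain ⟨k, hk⟩ := hodd
      apply hne
      refine htw.trans ?_
      set z := (w * u) ^ (k + 1) with hz
      have hz2 : z * z = w * u := by
        rw [hz, ← pow_add, show k + 1 + (k + 1) = 2 * k + 1 + 1 by omega, pow_succ, ← hk,
          pow_orderOf_eq_one, one_mul]
      have hinv : w * (w * u) * w⁻¹ = (w * u)⁻¹ := by
        rw [mul_inv_rev w u, inv_eq_of_two hu, inv_eq_of_two hwo, ← mul_assoc, two_mul_self hwo,
          one_mul]
      have hwz : w * z * w⁻¹ = z⁻¹ := by rw [hz, ← conj_pow, hinv, inv_pow]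
      have h1 : IsConj w (w * u * w) := by
        refine isConj_iff.2 ⟨z, ?_⟩
        calc z * w * z⁻¹ = z * w * (w * z * w⁻¹) := by rw [hwz]
          _ = z * (w * w) * z * w⁻¹ := by group
          _ = w * u * w := by rw [two_mul_self hwo, mul_one, hz2, inv_eq_of_two hwo]
      exact h1.trans (isConj_iff.2 ⟨w, by
        calc w * (w * u * w) * w⁻¹ = (w * w) * u * (w * w⁻¹) := by group
          _ = u := by rw [two_mul_self hwo, one_mul, mul_inv_cancel, mul_one]⟩)
  set N := normalClosure ({t} : Set G) with hN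
  have hNu : N ≤ C u := by
    rw [hN, normalClosure, closure_le]
    intro w hw
    obtain ⟨a, ha, hc⟩ := Group.mem_conjugatesOfSet_iff.1 hw
    rw [Set.mem_singleton_iff] at ha
    subst ha
    obtain ⟨g, rfl⟩ := isConj_iff.1 hc
    exact hcomm g
  have htN : t ∈ N := subset_normalClosure rfl
  have hNt : ∀ n ∈ N, n ∈ C t := fun n hn => mem_C.2 (comm_C_invol H hu (hNu hn) (hNu htN))
  -- C(t) is normal
  have hnorm : (C t).Normal := ⟨fun x hx g => by
    refine mem_C.2 ?_
    have h1 : g⁻¹ * t * g ∈ N := by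
      have := (normalClosure_normal (s := ({t} : Set G))).conj_mem t htN g⁻¹
      rwa [inv_inv] at this
    have h2 := comm_C_invol H ht hx (hNt _ h1)
    calc g * x * g⁻¹ * t = g * (x * (g⁻¹ * t * g)) * g⁻¹ := by group
      _ = g * ((g⁻¹ * t * g) * x) * g⁻¹ := by rw [h2]
      _ = t * (g * x * g⁻¹) := by group⟩
  obtain ⟨S, hS⟩ := (isPGroup_C_invol H ht).exists_le_sylow
  have hSt : (S : Subgroup G) = C t :=
    (C_eq_sylow H S (hS (mem_C.2 rfl)) (by rintro rfl; rw [orderOf_one] at ht; omega)).symm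
  refine H.noOddQuot (C t) hnorm (isPGroup_C_invol H ht) ?_
  rw [← hSt, Nat.odd_iff]
  have := Sylow.not_dvd_index (p := 2) S
  omega

include H in
theorem exists_invol : ∃ t : G, orderOf t = 2 := by
  have : Fact (Nat.Prime 2) := ⟨Nat.prime_two⟩
  refine exists_prime_orderOf_dvd_card' 2 ?_
  by_contra h
  refine H.noOddQuot ⊥ inferInstance IsPGroup.of_bot ?_
  rw [index_bot, Nat.odd_iff]
  omega

/-- The order of an involution centralizer. -/
noncomputable def qv (t : G) : ℕ := Nat.card (C t)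

include H in
theorem card_C_eq {t u : G} (ht : orderOf t = 2) (hu : orderOf u = 2) :
    Nat.card (C u) = Nat.card (C t) := by
  obtain ⟨g, rfl⟩ := isConj_iff.1 (invol_conj H ht hu)
  rw [C_conj]
  exact (Nat.card_congr
    ((C t).equivMapOfInjective _ (MulAut.conj g).injective).toEquiv).symm

include H in
theorem ncard_invol {t : G} (ht : orderOf t = 2) :
    {u : G | orderOf u = 2}.ncard = (C t).index := by
  rw [CfsgLib.FGS.index_centralizer_eq_ncard]
  congr 1
  ext u
  refine ⟨fun hu => invol_conj H ht hu, fun hu => ?_⟩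
  obtain ⟨g, rfl⟩ := isConj_iff.1 hu
  exact ((MulAut.conj g).orderOf_eq t).trans ht

include H in
theorem ncard_C_invol {t : G} (ht : orderOf t = 2) :
    {u : G | orderOf u = 2 ∧ u * t = t * u}.ncard = Nat.card (C t) - 1 := by
  have : {u : G | orderOf u = 2 ∧ u * t = t * u} = ((C t : Subgroup G) : Set G) \ {1} := by
    ext u
    constructor
    · rintro ⟨hu, hc⟩
      exact ⟨mem_C.2 hc, fun h => by rw [Set.mem_singleton_iff.1 h, orderOf_one] at hu; omega⟩
    · rintro ⟨hc, hu1⟩
      exact ⟨orderOf_eq_prime (by rw [sq]; exact sq_of_mem_C_invol H ht hc) hu1, mem_C.1 hc⟩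
  rw [this, Set.ncard_sdiff_singleton_of_mem (one_mem (C t)), ← Nat.card_coe_set_eq]
  rfl

/-- `t` inverts `x`, of odd prime order. -/
def Inverts (t x : G) : Prop := orderOf t = 2 ∧ x ≠ 1 ∧ orderOf x ≠ 2 ∧ t * x * t⁻¹ = x⁻¹

include H in
theorem inverts_C {t x y : G} (h : Inverts t x) (hy : y ∈ C x) : t * y * t⁻¹ = y⁻¹ := by
  obtain ⟨ht, hx1, hx2, hinv⟩ := h
  have hmem : ∀ z ∈ C x, t * z * t⁻¹ ∈ C x := fun z hz => mem_C.2 (by
    have hc := mem_C.1 hz
    have hxt : t * x⁻¹ * t⁻¹ = x := by rw [← conj_inv, hinv, inv_inv]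
    calc t * z * t⁻¹ * x = t * z * t⁻¹ * (t * x⁻¹ * t⁻¹) := by rw [hxt]
      _ = t * (z * x⁻¹) * t⁻¹ := by group
      _ = t * (x⁻¹ * z) * t⁻¹ := by rw [(show Commute z x from hc).inv_right.eq]
      _ = (t * x⁻¹ * t⁻¹) * (t * z * t⁻¹) := by group
      _ = x * (t * z * t⁻¹) := by rw [hxt])
  let φ : C x →* C x :=
    { toFun := fun z => ⟨t * z * t⁻¹, hmem _ z.2⟩
      map_one' := Subtype.ext (by simp)
      map_mul' := fun a b => Subtype.ext (by simp [mul_assoc]) }
  have hinv2 : Function.Involutive φ := fun z => Subtype.ext (by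
    show t * (t * (z : G) * t⁻¹) * t⁻¹ = z
    calc t * (t * (z : G) * t⁻¹) * t⁻¹ = (t * t) * z * (t * t)⁻¹ := by group
      _ = z := by rw [two_mul_self ht]; group)
  have hfix : MonoidHom.FixedPointFree φ := fun z hz => by
    by_contra hz1
    have hz' : t * (z : G) * t⁻¹ = z := congrArg Subtype.val hz
    have hzne : (z : G) ≠ 1 := fun h => hz1 (Subtype.ext h)
    have e1 := orderOf_eq_of_commute H (mem_C.1 z.2 : Commute (z : G) x) hzne hx1
    have e2 := orderOf_eq_of_commute H (mul_inv_eq_iff_eq_mul.1 hz' : Commute t (z : G))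
      (by rintro rfl; rw [orderOf_one] at ht; omega) hzne
    omega
  have := congrFun (hfix.coe_eq_inv_of_involutive hinv2) ⟨y, hy⟩
  exact congrArg Subtype.val this

include H in
theorem comm_C {t x a b : G} (h : Inverts t x) (ha : a ∈ C x) (hb : b ∈ C x) : a * b = b * a := by
  have h1 := inverts_C H h ha
  have h2 := inverts_C H h hb
  have h3 := inverts_C H h (mul_mem ha hb)
  apply inv_injective
  rw [← h3, mul_inv_rev b a, ← h1, ← h2]
  group

include H in
theorem orderOf_mem_C {t x y : G} (h : Inverts t x) (hy : y ∈ C x) (hy1 : y ≠ 1) :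
    orderOf y = orderOf x := orderOf_eq_of_commute H (mem_C.1 hy) hy1 h.2.1

include H in
theorem inverts_of_mem {t x y : G} (h : Inverts t x) (hy : y ∈ C x) (hy1 : y ≠ 1) :
    Inverts t y := by
  refine ⟨h.1, hy1, ?_, inverts_C H h hy⟩
  rw [orderOf_mem_C H h hy hy1]
  exact h.2.2.1

include H in
theorem C_eq {t x y : G} (h : Inverts t x) (hy : y ∈ C x) (hy1 : y ≠ 1) : C y = C x := by
  have hy' := inverts_of_mem H h hy hy1
  have hxy : x ∈ C y := mem_C.2 (mem_C.1 hy).symm
  exact le_antisymm (fun z hz => mem_C.2 (comm_C H hy' hz hxy))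
    (fun z hz => mem_C.2 (comm_C H h hz hy))

include H in
theorem ncard_inverting {t x : G} (h : Inverts t x) :
    {u : G | orderOf u = 2 ∧ u * x * u⁻¹ = x⁻¹}.ncard = Nat.card (C x) := by
  have : {u : G | orderOf u = 2 ∧ u * x * u⁻¹ = x⁻¹} =
      (fun c => t * c) '' ((C x : Subgroup G) : Set G) := by
    ext u
    constructor
    · rintro ⟨hu, hux⟩
      refine ⟨t⁻¹ * u, mem_C.2 ?_, mul_inv_cancel_left _ _⟩
      have hux' : u * x = x⁻¹ * u := mul_inv_eq_iff_eq_mul.1 hux
      have htx' : t⁻¹ * x⁻¹ = x * t⁻¹ := by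
        rw [← h.2.2.2]; group
      calc t⁻¹ * u * x = t⁻¹ * (u * x) := mul_assoc _ _ _
        _ = t⁻¹ * x⁻¹ * u := by rw [hux', mul_assoc]
        _ = x * (t⁻¹ * u) := by rw [htx', mul_assoc]
    · rintro ⟨c, hc, rfl⟩
      have hci := inverts_C H h hc
      have hsq : t * c * (t * c) = 1 := by
        calc t * c * (t * c) = (t * c * t⁻¹) * (t * t) * c := by group
          _ = 1 := by rw [hci, two_mul_self h.1]; group
      refine ⟨orderOf_eq_prime (by rw [sq]; exact hsq) ?_, ?_⟩
      · intro hone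
        have htC : t ∈ C x := by
          rw [eq_inv_of_mul_eq_one_left hone]
          exact inv_mem hc
        have hxx : x⁻¹ = x := by
          rw [← h.2.2.2, mem_C.1 htC, mul_inv_cancel_right]
        exact h.2.2.1 (orderOf_eq_prime (by
          rw [sq]; exact eq_inv_iff_mul_eq_one.1 hxx.symm) h.2.1)
      · calc t * c * x * (t * c)⁻¹ = t * (c * x) * c⁻¹ * t⁻¹ := by group
          _ = t * (x * c) * c⁻¹ * t⁻¹ := by rw [mem_C.1 hc]
          _ = t * x * t⁻¹ := by group
          _ = x⁻¹ := h.2.2.2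
  rw [this, Set.ncard_image_of_injective _ (mul_right_injective t), ← Nat.card_coe_set_eq]
  rfl

include H in
theorem normalizer_C {t x : G} (h : Inverts t x) {g : G}
    (hg : g ∈ normalizer ((C x : Subgroup G) : Set G)) : g ∈ C x ∨ t⁻¹ * g ∈ C x := by
  have hxm : x ∈ C x := mem_C.2 rfl
  have hgi : g⁻¹ ∈ normalizer ((C x : Subgroup G) : Set G) := inv_mem hg
  have hgx : g * x * g⁻¹ ∈ C x := (Subgroup.mem_normalizer_iff.1 hg x).1 hxm
  -- k = g⁻¹tgt⁻¹ centralizes x
  set k := g⁻¹ * t * g * t⁻¹ with hk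
  have hkC : k ∈ C x := by
    rw [mem_C]
    have e1 : t * (g * x⁻¹ * g⁻¹) * t⁻¹ = g * x * g⁻¹ := by
      rw [← conj_inv, ← conj_inv, inverts_C H h hgx, inv_inv]
    have e2 : t⁻¹ * x * t = x⁻¹ := by
      rw [inv_eq_of_two h.1]
      nth_rw 2 [← inv_eq_of_two h.1]
      exact h.2.2.2
    calc k * x = g⁻¹ * t * g * (t⁻¹ * x * t) * t⁻¹ := by rw [hk]; group
      _ = g⁻¹ * (t * (g * x⁻¹ * g⁻¹) * t⁻¹) * t * g * t⁻¹ := by rw [e2]; group
      _ = x * k := by rw [e1, hk]; group
  have hodd : Odd (orderOf x) := ((H.prime x h.2.1).eq_two_or_odd').resolve_left h.2.2.1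
  obtain ⟨j, hj⟩ := hodd
  set b := k ^ (j + 1) with hb
  have hbC : b ∈ C x := pow_mem hkC _
  have hb2 : b * b = k := by
    rw [hb, ← pow_add, show j + 1 + (j + 1) = orderOf x + 1 by omega, pow_succ]
    rcases eq_or_ne k 1 with hk1 | hk1
    · rw [hk1]; simp
    · rw [← orderOf_mem_C H h hkC hk1, pow_orderOf_eq_one, one_mul]
  have hbt : b * t * b⁻¹ = g⁻¹ * t * g := by
    calc b * t * b⁻¹ = b * (t * b⁻¹ * t⁻¹) * t := by group
      _ = b * b * t := by rw [← conj_inv, inverts_C H h hbC, inv_inv]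
      _ = g⁻¹ * t * g := by rw [hb2, hk]; group
  -- g b commutes with t
  set a := g * b with ha
  have hac : a ∈ C t := by
    rw [mem_C, ha]
    calc g * b * t = g * (b * t * b⁻¹) * b := by group
      _ = t * (g * b) := by rw [hbt]; group
  have haN : a ∈ normalizer ((C x : Subgroup G) : Set G) :=
    mul_mem hg (le_normalizer hbC)
  rcases eq_or_ne a 1 with ha1 | ha1
  · left
    rw [eq_inv_of_mul_eq_one_left (ha ▸ ha1 : g * b = 1)]
    exact inv_mem hbC
  · right
    have ha2 : orderOf a = 2 :=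
      orderOf_eq_prime (by rw [sq]; exact sq_of_mem_C_invol H h.1 hac) ha1
    have hax : a * x * a⁻¹ ∈ C x := (Subgroup.mem_normalizer_iff.1 haN x).1 hxm
    -- a inverts x
    have hainv : a * x * a⁻¹ = x⁻¹ := by
      set w := a * x * a⁻¹ * x with hw
      have hwC : w ∈ C x := mul_mem hax hxm
      have hwa : a * w * a⁻¹ = w := by
        have e : a * (a * x * a⁻¹) * a⁻¹ = x := by
          calc a * (a * x * a⁻¹) * a⁻¹ = (a * a) * x * (a * a)⁻¹ := by group
            _ = x := by rw [two_mul_self ha2]; group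
        calc a * w * a⁻¹ = a * (a * x * a⁻¹) * a⁻¹ * (a * x * a⁻¹) := by rw [hw]; group
          _ = x * (a * x * a⁻¹) := by rw [e]
          _ = w := by rw [hw, comm_C H h hxm hax]
      rcases eq_or_ne w 1 with hw1 | hw1
      · exact eq_inv_of_mul_eq_one_left (hw ▸ hw1 : a * x * a⁻¹ * x = 1)
      · exfalso
        have e1 := orderOf_mem_C H h hwC hw1
        have e2 := orderOf_eq_of_commute H (mul_inv_eq_iff_eq_mul.1 hwa : Commute a w) ha1 hw1
        exact h.2.2.1 (by omega)
    obtain ⟨c, hc, hca⟩ : a ∈ (fun c => t * c) '' ((C x : Subgroup G) : Set G) := by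
      refine ⟨t⁻¹ * a, mem_C.2 ?_, mul_inv_cancel_left _ _⟩
      have hax' : a * x = x⁻¹ * a := mul_inv_eq_iff_eq_mul.1 hainv
      have htx' : t⁻¹ * x⁻¹ = x * t⁻¹ := by rw [← h.2.2.2]; group
      calc t⁻¹ * a * x = t⁻¹ * (a * x) := mul_assoc _ _ _
        _ = t⁻¹ * x⁻¹ * a := by rw [hax', mul_assoc]
        _ = x * (t⁻¹ * a) := by rw [htx', mul_assoc]
    have : t⁻¹ * g = c * b⁻¹ := by
      rw [← hca] at ha
      calc t⁻¹ * g = t⁻¹ * (g * b) * b⁻¹ := by group
        _ = t⁻¹ * (t * c) * b⁻¹ := by rw [← ha]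
        _ = c * b⁻¹ := by group
    rw [this]
    exact mul_mem hc (inv_mem hbC)

include H in
theorem card_normalizer_C {t x : G} (h : Inverts t x) :
    Nat.card (normalizer ((C x : Subgroup G) : Set G)) = 2 * Nat.card (C x) := by
  have hsub : ((normalizer ((C x : Subgroup G) : Set G) : Subgroup G) : Set G) =
      ((C x : Subgroup G) : Set G) ∪ (fun c => t * c) '' ((C x : Subgroup G) : Set G) := by
    ext g
    constructor
    · intro hg
      rcases normalizer_C H h hg with hc | hc
      · exact Or.inl hc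
      · exact Or.inr ⟨_, hc, mul_inv_cancel_left _ _⟩
    · rintro (hc | ⟨c, hc, rfl⟩)
      · exact le_normalizer hc
      · refine mul_mem ?_ (le_normalizer hc)
        rw [Subgroup.mem_normalizer_iff]
        intro z
        constructor
        · intro hz
          rw [inverts_C H h hz]
          exact inv_mem hz
        · intro hz
          have e := inverts_C H h hz
          have : z = (t * z * t⁻¹)⁻¹ := by
            rw [← e]
            calc z = (t * t) * z * (t * t)⁻¹ := by rw [two_mul_self h.1]; group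
              _ = _ := by group
          rw [this]
          exact inv_mem hz
  have hdisj : Disjoint ((C x : Subgroup G) : Set G)
      ((fun c => t * c) '' ((C x : Subgroup G) : Set G)) := by
    rw [Set.disjoint_left]
    rintro g hg ⟨c, hc, rfl⟩
    have htC : t ∈ C x := by
      have := mul_mem hg (inv_mem hc)
      rwa [mul_inv_cancel_right] at this
    have hxx : x⁻¹ = x := by rw [← h.2.2.2, mem_C.1 htC, mul_inv_cancel_right]
    exact h.2.2.1 (orderOf_eq_prime (by rw [sq]; exact eq_inv_iff_mul_eq_one.1 hxx.symm) h.2.1)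
  have h1 := congrArg Set.ncard hsub
  rw [Set.ncard_union_eq hdisj, Set.ncard_image_of_injective _ (mul_right_injective t),
    ← two_mul] at h1
  simpa only [← Nat.card_coe_set_eq, SetLike.coe_sort_coe] using h1

/-- Number of elements of order `r`. -/
noncomputable def num (G : Type u) [Group G] (r : ℕ) : ℕ := {x : G | orderOf x = r}.ncard

/-- Number of pairs of an element of order `r` and an involution inverting it. -/
noncomputable def wgt (G : Type u) [Group G] (r : ℕ) : ℕ :=
  {z : G × G | orderOf z.1 = r ∧ orderOf z.2 = 2 ∧ z.2 * z.1 * z.2⁻¹ = z.1⁻¹}.ncard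

include H in
/-- What we need to know about an odd prime whose elements are inverted. -/
theorem real_prime {r : ℕ} (hr : r.Prime) {t x : G} (h : Inverts t x) (hxr : orderOf x = r) :
    ∃ (k : ℕ), 1 ≤ k ∧ Nat.card (C x) = r ^ k ∧ r ^ k ∣ Nat.card G ∧ ¬ r ^ (k + 1) ∣ Nat.card G ∧
      wgt G r = num G r * r ^ k ∧ 2 * r ^ k * num G r + Nat.card G = Nat.card G * r ^ k := by
  have : Fact r.Prime := ⟨hr⟩
  have hp : IsPGroup r (C x) := fun y => by
    refine ⟨1, Subtype.ext ?_⟩
    show (y : G) ^ r ^ 1 = 1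
    rw [pow_one]
    rcases eq_or_ne (y : G) 1 with hy | hy
    · rw [hy, one_pow]
    · rw [← hxr, ← orderOf_mem_C H h y.2 hy, pow_orderOf_eq_one]
  obtain ⟨k, hk⟩ := IsPGroup.iff_card.1 hp
  have hk1 : 1 ≤ k := by
    by_contra h0
    rw [show k = 0 by omega, pow_zero] at hk
    exact h.2.1 (by
      have := (Subgroup.eq_bot_of_card_eq _ hk)
      exact (Subgroup.mem_bot.1 (this ▸ mem_C.2 rfl : x ∈ (⊥ : Subgroup G))))
  -- every element of order r behaves like x
  have hall : ∀ y : G, orderOf y = r → (∃ t', Inverts t' y) ∧ Nat.card (C y) = r ^ k := by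
    intro y hy
    obtain ⟨θ, rfl⟩ := H.aut x y (hxr.trans hy.symm)
    refine ⟨⟨θ t, (θ.orderOf_eq t).trans h.1, fun h1 => h.2.1 (θ.injective (by rw [h1, map_one])),
      by rw [θ.orderOf_eq]; exact h.2.2.1, by rw [← map_inv, ← map_mul, ← map_mul, h.2.2.2, map_inv]⟩,
      ?_⟩
    rw [← hk]
    have : C (θ x) = (C x).map θ.toMonoidHom := by
      ext z
      constructor
      · intro hz
        refine ⟨θ.symm z, mem_C.2 (θ.injective ?_), θ.apply_symm_apply z⟩
        rw [map_mul, map_mul, θ.apply_symm_apply]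
        exact mem_C.1 hz
      · rintro ⟨w, hw, rfl⟩
        exact mem_C.2 (show θ w * θ x = θ x * θ w by rw [← map_mul, mem_C.1 hw, map_mul])
    rw [this]
    exact Nat.card_congr (equivMapOfInjective _ _ θ.injective).toEquiv.symm
  -- Sylow r-subgroups are the centralizers
  have hsyl : ∀ (P : Sylow r G) (y : G), y ∈ (P : Subgroup G) → y ≠ 1 →
      C y = (P : Subgroup G) ∧ orderOf y = r := by
    intro P y hy hy1
    have hord : ∀ z ∈ (P : Subgroup G), z ≠ 1 → orderOf z = r := fun z hz hz1 => by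
      obtain ⟨j, hj⟩ := P.isPGroup' ⟨z, hz⟩
      replace hj : z ^ r ^ j = 1 := congrArg Subtype.val hj
      exact (Nat.prime_dvd_prime_iff_eq (H.prime z hz1) hr).1
        ((H.prime z hz1).dvd_of_dvd_pow (orderOf_dvd_of_pow_eq_one hj))
    have : Nontrivial (P : Subgroup G) := ⟨⟨⟨y, hy⟩, 1, fun he => hy1 (congrArg Subtype.val he)⟩⟩
    have hZ := P.isPGroup'.center_nontrivial
    obtain ⟨⟨⟨z, hzP⟩, hzc⟩, hz1⟩ := exists_ne (1 : center (P : Subgroup G))
    have hz1' : z ≠ 1 := fun he => hz1 (Subtype.ext (Subtype.ext he))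
    obtain ⟨⟨t', ht'⟩, hzcard⟩ := hall z (hord z hzP hz1')
    have hle : (P : Subgroup G) ≤ C z := fun w hw =>
      mem_C.2 (congrArg Subtype.val (mem_center_iff.1 hzc ⟨w, hw⟩))
    have hz : C z = (P : Subgroup G) := P.is_maximal' (IsPGroup.of_card hzcard) hle
    exact ⟨(C_eq H ht' (hz.symm ▸ hy) hy1).trans hz, hord y hy hy1⟩
  obtain ⟨P, hP⟩ := hp.exists_le_sylow
  have hPx : (P : Subgroup G) = C x := ((hsyl P x (hP (mem_C.2 rfl)) h.2.1).1).symm
  have hdvd : r ^ k ∣ Nat.card G := hk ▸ Subgroup.card_subgroup_dvd_card _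
  have hndvd : ¬ r ^ (k + 1) ∣ Nat.card G := by
    intro hd
    rw [← (P : Subgroup G).card_mul_index, hPx, hk, pow_succ] at hd
    exact P.not_dvd_index (hPx ▸ Nat.dvd_of_mul_dvd_mul_left (pow_pos hr.pos k) hd)
  -- count elements of order r
  have hnum : num G r = Nat.card (Sylow r G) * (r ^ k - 1) := by
    have := Fintype.ofFinite G
    have := Fintype.ofFinite (Sylow r G)
    have hA : ∀ Q : Sylow r G, Nat.card (Q : Subgroup G) = r ^ k := fun Q => by
      rw [← hk, ← hPx]
      exact Nat.card_congr (Q.equiv P).toEquiv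
    have hfib : ∀ Q : Sylow r G,
        ((Finset.univ : Finset G).filter fun y => orderOf y = r ∧ y ∈ (Q : Subgroup G)).card =
          r ^ k - 1 := fun Q => by
      rw [← hA Q, ← SetLike.coe_sort_coe, Nat.card_coe_set_eq, Set.ncard_eq_toFinset_card',
        ← Finset.card_erase_of_mem (a := (1 : G)) (by simp [one_mem])]
      congr 1
      ext y
      simp only [Finset.mem_filter, Finset.mem_univ, true_and, Finset.mem_erase, Set.mem_toFinset,
        SetLike.mem_coe]
      exact ⟨fun ⟨ho, hm⟩ => ⟨by rintro rfl; rw [orderOf_one] at ho; exact hr.one_lt.ne ho, hm⟩,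
        fun ⟨hy, hm⟩ => ⟨(hsyl Q y hm hy).2, hm⟩⟩
    have hpart : ((Finset.univ : Finset G).filter fun y => orderOf y = r) =
        (Finset.univ : Finset (Sylow r G)).biUnion fun Q =>
          (Finset.univ : Finset G).filter fun y => orderOf y = r ∧ y ∈ (Q : Subgroup G) := by
      ext y
      simp only [Finset.mem_filter, Finset.mem_univ, true_and, Finset.mem_biUnion]
      refine ⟨fun ho => ?_, fun ⟨Q, ho, _⟩ => ho⟩
      obtain ⟨Q, hQ⟩ := (IsPGroup.of_card (p := r) (n := 1)
        (by rw [Nat.card_zpowers, ho, pow_one]) : IsPGroup r (zpowers y)).exists_le_sylow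
      exact ⟨Q, ho, hQ (mem_zpowers y)⟩
    have hdisj : ((Finset.univ : Finset (Sylow r G)) : Set (Sylow r G)).PairwiseDisjoint fun Q =>
        (Finset.univ : Finset G).filter fun y => orderOf y = r ∧ y ∈ (Q : Subgroup G) := by
      intro Q₁ _ Q₂ _ hne
      rw [Function.onFun, Finset.disjoint_left]
      intro y hy1 hy2
      simp only [Finset.mem_filter, Finset.mem_univ, true_and] at hy1 hy2
      have hne1 : y ≠ 1 := by
        rintro rfl
        rw [orderOf_one] at hy1
        exact hr.one_lt.ne hy1.1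
      exact hne (Sylow.ext ((hsyl Q₁ y hy1.2 hne1).1.symm.trans (hsyl Q₂ y hy2.2 hne1).1))
    rw [num, Set.ncard_eq_toFinset_card', Set.toFinset_setOf, hpart, Finset.card_biUnion hdisj,
      Finset.sum_congr rfl fun Q _ => hfib Q, Finset.sum_const, Finset.card_univ,
      smul_eq_mul, ← Nat.card_eq_fintype_card]
  have hn := card_normalizer_C H h
  rw [hk] at hn
  have hidx : 2 * r ^ k * Nat.card (Sylow r G) = Nat.card G := by
    have hnn : Nat.card (normalizer ((P : Subgroup G) : Set G)) = 2 * r ^ k :=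
      (congrArg (fun K : Subgroup G => Nat.card (normalizer (K : Set G))) hPx).trans hn
    rw [P.card_eq_index_normalizer, ← hnn]
    exact Subgroup.card_mul_index _
  refine ⟨k, hk1, hk, hdvd, hndvd, ?_, ?_⟩
  · have := Fintype.ofFinite G
    rw [wgt, num, Set.ncard_eq_toFinset_card', Set.ncard_eq_toFinset_card', Set.toFinset_setOf,
      Set.toFinset_setOf]
    rw [Finset.card_eq_sum_card_fiberwise (f := Prod.fst)
      (t := (Finset.univ : Finset G).filter fun y => orderOf y = r) (fun z hz => by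
        simp only [Finset.coe_filter, Set.mem_setOf_eq, Finset.mem_univ, true_and] at hz ⊢
        exact hz.1)]
    refine Finset.sum_const_nat fun y hy => ?_
    simp only [Finset.mem_filter, Finset.mem_univ, true_and] at hy
    obtain ⟨⟨t', ht'⟩, hcard⟩ := hall y hy
    rw [← hcard, ← ncard_inverting H ht', Set.ncard_eq_toFinset_card', Set.toFinset_setOf]
    refine Finset.card_bij (fun z _ => z.2) ?_ ?_ ?_
    · intro z hz
      simp only [Finset.mem_filter, Finset.mem_univ, true_and] at hz ⊢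
      rw [← hz.2]
      exact hz.1.2
    · intro z₁ hz₁ z₂ hz₂ heq
      simp only [Finset.mem_filter, Finset.mem_univ, true_and] at hz₁ hz₂
      exact Prod.ext (hz₁.2.trans hz₂.2.symm) heq
    · intro u hu
      simp only [Finset.mem_filter, Finset.mem_univ, true_and] at hu
      exact ⟨(y, u), by simp [hy, hu], rfl⟩
  · have h1 : 1 ≤ r ^ k := Nat.one_le_pow _ _ hr.pos
    rw [hnum, ← hidx]
    obtain ⟨a, ha⟩ := Nat.exists_eq_add_of_le h1
    rw [ha, Nat.add_sub_cancel_left]
    ring

include H in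
theorem wgt_eq_zero {r : ℕ} (hr : r.Prime) (hr2 : r ≠ 2)
    (hno : ∀ t x : G, orderOf x = r → ¬ Inverts t x) : wgt G r = 0 := by
  rw [wgt, Set.ncard_eq_zero (Set.toFinite _)]
  refine Set.eq_empty_iff_forall_notMem.2 fun z hz => ?_
  refine hno z.2 z.1 hz.1 ⟨hz.2.1, ?_, hz.1 ▸ hr2, hz.2.2⟩
  intro h
  have := hz.1
  rw [h, orderOf_one] at this
  exact hr.one_lt.ne this

section counting

variable {r s : ℕ} (hpf : (Nat.card G).primeFactors = {2, r, s}) (hr2 : r ≠ 2) (hs2 : s ≠ 2)
  (hrs : r ≠ s) {t : G} (ht : orderOf t = 2)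

include H hpf in
theorem order_cases (g : G) : g = 1 ∨ orderOf g = 2 ∨ orderOf g = r ∨ orderOf g = s := by
  rcases eq_or_ne g 1 with hg | hg
  · exact Or.inl hg
  right
  have : orderOf g ∈ (Nat.card G).primeFactors :=
    Nat.mem_primeFactors.2 ⟨H.prime g hg, orderOf_dvd_natCard g, Nat.card_pos.ne'⟩
  simpa [hpf] using this

include H hpf hr2 hs2 hrs ht in
theorem card_partition : Nat.card G = 1 + (C t).index + num G r + num G s := by
  have := Fintype.ofFinite G
  rw [← ncard_invol H ht]
  simp only [num, Set.ncard_eq_toFinset_card', Set.toFinset_setOf]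
  rw [Nat.card_eq_fintype_card, ← Finset.card_univ,
    Finset.card_eq_sum_card_fiberwise (f := orderOf) (t := {1, 2, r, s}) (fun g _ => by
      simp only [Finset.coe_insert, Finset.coe_singleton, Set.mem_insert_iff, Set.mem_singleton_iff]
      rcases order_cases H hpf g with h | h
      · exact Or.inl (orderOf_eq_one_iff.2 h)
      · exact Or.inr h)]
  have hr1 : r ≠ 1 := (Nat.prime_of_mem_primeFactors (by rw [hpf]; simp) : r.Prime).ne_one
  have hs1 : s ≠ 1 := (Nat.prime_of_mem_primeFactors (by rw [hpf]; simp) : s.Prime).ne_one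
  rw [Finset.sum_insert (by simp [hr1.symm, hs1.symm]),
    Finset.sum_insert (by simp [hr2.symm, hs2.symm]),
    Finset.sum_pair hrs]
  have h1 : ((Finset.univ : Finset G).filter fun g => orderOf g = 1).card = 1 := by
    rw [Finset.card_eq_one]
    exact ⟨1, by ext g; simp [orderOf_eq_one_iff]⟩
  rw [h1]
  omega

include H hpf hr2 hs2 hrs ht in
theorem pairs : (C t).index * ((C t).index - (Nat.card (C t) - 1)) = wgt G r + wgt G s := by
  have := Fintype.ofFinite G
  set I : Finset G := (Finset.univ : Finset G).filter fun g => orderOf g = 2 with hI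
  have hIc : I.card = (C t).index := by
    rw [← ncard_invol H ht, Set.ncard_eq_toFinset_card', Set.toFinset_setOf]
  set P : Finset (G × G) := (I ×ˢ I).filter fun z => z.1 * z.2 ≠ z.2 * z.1 with hP
  have hPc : P.card = (C t).index * ((C t).index - (Nat.card (C t) - 1)) := by
    rw [Finset.card_eq_sum_card_fiberwise (f := Prod.fst) (t := I) (fun z hz => by
      rw [Finset.mem_coe, hP, Finset.mem_filter, Finset.mem_product] at hz
      exact hz.1.1)]
    rw [← hIc]
    refine Finset.sum_const_nat fun u hu => ?_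
    have hu2 : orderOf u = 2 := (Finset.mem_filter.1 hu).2
    have hsplit := Finset.card_filter_add_card_filter_not (s := I) (p := fun w => w * u = u * w)
    have hcomm : (I.filter fun w => w * u = u * w).card = Nat.card (C t) - 1 := by
      rw [← card_C_eq H ht hu2, ← ncard_C_invol H hu2, Set.ncard_eq_toFinset_card',
        Set.toFinset_setOf, hI, Finset.filter_filter]
    have hfib : (P.filter fun z => z.1 = u).card = (I.filter fun w => ¬ w * u = u * w).card := by
      refine Finset.card_bij (fun z _ => z.2) ?_ ?_ ?_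
      · intro z hz
        simp only [hP, Finset.mem_filter, Finset.mem_product] at hz ⊢
        exact ⟨hz.1.1.2, fun h => hz.1.2 (hz.2 ▸ h.symm)⟩
      · intro z₁ hz₁ z₂ hz₂ heq
        exact Prod.ext ((Finset.mem_filter.1 hz₁).2.trans (Finset.mem_filter.1 hz₂).2.symm) heq
      · intro w hw
        simp only [Finset.mem_filter] at hw
        refine ⟨(u, w), ?_, rfl⟩
        simp only [hP, Finset.mem_filter, Finset.mem_product]
        exact ⟨⟨⟨hu, hw.1⟩, fun h => hw.2 h.symm⟩, trivial⟩
    rw [hfib]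
    omega
  rw [← hPc]
  simp only [wgt, Set.ncard_eq_toFinset_card', Set.toFinset_setOf]
  rw [← Finset.card_union_of_disjoint]
  · refine Finset.card_bij (fun z _ => (z.1 * z.2, z.1)) ?_ ?_ ?_
    · intro z hz
      simp only [hP, hI, Finset.mem_filter, Finset.mem_product, Finset.mem_univ, true_and] at hz
      obtain ⟨⟨h1, h2⟩, hnc⟩ := hz
      have hinv : z.1 * (z.1 * z.2) * z.1⁻¹ = (z.1 * z.2)⁻¹ := by
        rw [mul_inv_rev, inv_eq_of_two h2, inv_eq_of_two h1, ← mul_assoc, two_mul_self h1, one_mul]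
      simp only [Finset.mem_union, Finset.mem_filter, Finset.mem_univ, true_and]
      rcases order_cases H hpf (z.1 * z.2) with h | h | h | h
      · exact absurd (by rw [mul_eq_one_iff_eq_inv.1 h, inv_eq_of_two h2]) hnc
      · refine absurd ?_ hnc
        calc z.1 * z.2 = (z.1 * z.2)⁻¹ := (inv_eq_of_two h).symm
          _ = z.2 * z.1 := by rw [mul_inv_rev, inv_eq_of_two h2, inv_eq_of_two h1]
      · exact Or.inl ⟨h, h1, hinv⟩
      · exact Or.inr ⟨h, h1, hinv⟩
    · intro z₁ _ z₂ _ h
      simp only [Prod.mk.injEq] at h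
      exact Prod.ext h.2 (mul_left_cancel (h.2 ▸ h.1))
    · intro z hz
      simp only [Finset.mem_union, Finset.mem_filter, Finset.mem_univ, true_and] at hz
      obtain ⟨ho, hu, hinv, hp⟩ : ∃ _ : orderOf z.1 ≠ 2, orderOf z.2 = 2 ∧
          z.2 * z.1 * z.2⁻¹ = z.1⁻¹ ∧ z.1 ≠ 1 := by
        have hr1 : r.Prime := Nat.prime_of_mem_primeFactors (n := Nat.card G) (by rw [hpf]; simp)
        have hs1 : s.Prime := Nat.prime_of_mem_primeFactors (n := Nat.card G) (by rw [hpf]; simp)
        rcases hz with ⟨h, h2, h3⟩ | ⟨h, h2, h3⟩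
        · exact ⟨h ▸ hr2, h2, h3, fun e => hr1.ne_one (by rw [← h, e, orderOf_one])⟩
        · exact ⟨h ▸ hs2, h2, h3, fun e => hs1.ne_one (by rw [← h, e, orderOf_one])⟩
      have hsq : z.2 * z.1 * (z.2 * z.1) = 1 := by
        calc z.2 * z.1 * (z.2 * z.1) = (z.2 * z.1 * z.2⁻¹) * (z.2 * z.2) * z.1 := by group
          _ = 1 := by rw [hinv, two_mul_self hu]; group
      have hne : z.2 * z.1 ≠ 1 := fun h => by
        have : z.1 = z.2 := by rw [eq_inv_of_mul_eq_one_right h, inv_eq_of_two hu]
        exact ho (this ▸ hu)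
      refine ⟨(z.2, z.2 * z.1), ?_, ?_⟩
      · simp only [hP, hI, Finset.mem_filter, Finset.mem_product, Finset.mem_univ, true_and]
        refine ⟨⟨hu, orderOf_eq_prime (by rw [sq]; exact hsq) hne⟩, fun hc => ho ?_⟩
        have hzc : z.1⁻¹ = z.1 := by
          rw [← hinv]
          calc z.2 * z.1 * z.2⁻¹ = z.2 * z.1 * z.2 := by rw [inv_eq_of_two hu]
            _ = z.2 * (z.2 * z.1) := hc.symm
            _ = z.1 := by rw [← mul_assoc, two_mul_self hu, one_mul]
        exact orderOf_eq_prime (by rw [sq]; exact eq_inv_iff_mul_eq_one.1 hzc.symm) hp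
      · simp [← mul_assoc, two_mul_self hu]
  · rw [Finset.disjoint_left]
    intro z h1 h2
    simp only [Finset.mem_filter, Finset.mem_univ, true_and] at h1 h2
    exact hrs (h1.1.symm.trans h2.1)

end counting

include H in
/-- `|C(t)| - 1` is the index of `C(t)` in its normalizer. -/
theorem relIndex_normalizer {t : G} (ht : orderOf t = 2) (S : Sylow 2 G)
    (htS : t ∈ (S : Subgroup G)) :
    (S : Subgroup G).relIndex (normalizer ((S : Subgroup G) : Set G)) =
      Nat.card (S : Subgroup G) - 1 := by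
  have ht1 : t ≠ 1 := by rintro rfl; rw [orderOf_one] at ht; omega
  set N := normalizer ((S : Subgroup G) : Set G) with hN
  set t' : N := ⟨t, le_normalizer htS⟩ with ht'
  have hC : (S : Subgroup G).subgroupOf N = centralizer ({t'} : Set N) := by
    ext w
    rw [Subgroup.mem_subgroupOf, mem_centralizer_singleton_iff, ← C_eq_sylow H S htS ht1, mem_C,
      Subtype.ext_iff]
    rfl
  rw [Subgroup.relIndex, hC, CfsgLib.FGS.index_centralizer_eq_ncard]
  have : {w : N | IsConj t' w} = {w : N | (w : G) ∈ (S : Subgroup G) ∧ (w : G) ≠ 1} := by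
    ext w
    constructor
    · intro hw
      obtain ⟨g, rfl⟩ := isConj_iff.1 hw
      exact ⟨(Subgroup.mem_normalizer_iff.1 g.2 t).1 htS, fun h => ht1 (conj_eq_one_iff.1 h)⟩
    · rintro ⟨hwS, hw1⟩
      have hwo : orderOf (w : G) = 2 := orderOf_eq_prime (by
        rw [sq]
        exact sq_of_mem_C_invol H ht (C_eq_sylow H S htS ht1 ▸ hwS)) hw1
      obtain ⟨g, hg⟩ := isConj_iff.1 (invol_conj H ht hwo)
      refine isConj_iff.2 ⟨⟨g, ?_⟩, Subtype.ext hg⟩
      have e : (S : Subgroup G) = (S : Subgroup G).map (MulAut.conj g).toMonoidHom := by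
        conv_lhs => rw [← C_eq_sylow H S hwS hw1]
        rw [← hg, C_conj, C_eq_sylow H S htS ht1]
      rw [Subgroup.mem_normalizer_iff]
      intro z
      constructor
      · intro hz
        rw [e]
        exact ⟨z, hz, rfl⟩
      · intro hz
        rw [e] at hz
        obtain ⟨z', hz', he⟩ := hz
        have : z' = z := (MulAut.conj g).injective he
        exact this ▸ hz'
  rw [this]
  have himg : Subtype.val '' {w : N | (w : G) ∈ (S : Subgroup G) ∧ (w : G) ≠ 1} =
      ((S : Subgroup G) : Set G) \ {1} := by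
    ext w
    constructor
    · rintro ⟨v, hv, rfl⟩; exact hv
    · rintro hv; exact ⟨⟨w, le_normalizer hv.1⟩, hv, rfl⟩
  rw [← Set.ncard_image_of_injective _ Subtype.val_injective, himg,
    Set.ncard_sdiff_singleton_of_mem (one_mem _), ← Nat.card_coe_set_eq]
  rfl

include H in
/-- An element of a Sylow normalizer of order `r`, with abelian self-normalizing Sylow. -/
theorem normal_complement (S : Sylow 2 G) {r : ℕ} [Fact r.Prime] (hr2 : r ≠ 2)
    (hreal : ∀ y : G, orderOf y = r → ∃ t', Inverts t' y)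
    (hd : r ∣ Nat.card (normalizer ((S : Subgroup G) : Set G))) :
    ∃ M : Subgroup (normalizer ((S : Subgroup G) : Set G)), M.Normal ∧
      ¬ r ∣ Nat.card M ∧ ∀ y : normalizer ((S : Subgroup G) : Set G), ¬ r ∣ orderOf y → y ∈ M := by
  have : Fact (Nat.Prime 2) := ⟨Nat.prime_two⟩
  set N := normalizer ((S : Subgroup G) : Set G) with hN
  obtain ⟨P⟩ := (inferInstance : Nonempty (Sylow r N))
  have hPnt : (P : Subgroup N) ≠ ⊥ := P.ne_bot_of_dvd_card hd
  obtain ⟨⟨x, hxP⟩, hx1⟩ := (nontrivial_iff_exists_ne (1 : (P : Subgroup N))).1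
    ((Subgroup.nontrivial_iff_ne_bot _).2 hPnt)
  have hxne : (x : G) ≠ 1 := fun h => hx1 (Subtype.ext (Subtype.ext h))
  have hord : ∀ y : N, y ∈ (P : Subgroup N) → (y : G) ≠ 1 → orderOf (y : G) = r :=
    fun y hy hy1 => by
      obtain ⟨j, hj⟩ := P.isPGroup' ⟨y, hy⟩
      replace hj : y ^ r ^ j = 1 := congrArg Subtype.val hj
      refine (Nat.prime_dvd_prime_iff_eq (H.prime _ hy1) Fact.out).1
        ((H.prime _ hy1).dvd_of_dvd_pow (n := j) (orderOf_dvd_of_pow_eq_one ?_))
      rw [← SubgroupClass.coe_pow, hj, OneMemClass.coe_one]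
  obtain ⟨t', ht'⟩ := hreal x (hord x hxP hxne)
  have hxC : (x : G) ∈ C (x : G) := mem_C.2 rfl
  -- P lies in C(x)
  have hPC : ∀ y : N, y ∈ (P : Subgroup N) → (y : G) ∈ C (x : G) := by
    intro y hy
    have : Nontrivial (P : Subgroup N) := (Subgroup.nontrivial_iff_ne_bot _).2 hPnt
    have hZ := P.isPGroup'.center_nontrivial
    obtain ⟨⟨⟨z, hzP⟩, hzc⟩, hz1⟩ := exists_ne (1 : center (P : Subgroup N))
    have hz1' : (z : G) ≠ 1 := fun he => hz1 (Subtype.ext (Subtype.ext (Subtype.ext he)))
    have hzw : ∀ w : N, w ∈ (P : Subgroup N) → (w : G) ∈ C (z : G) := fun w hw =>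
      mem_C.2 (congrArg (fun v : (P : Subgroup N) => ((v : N) : G))
        (mem_center_iff.1 hzc ⟨w, hw⟩))
    obtain ⟨t'', ht''⟩ := hreal z (hord z hzP hz1')
    rw [C_eq H ht'' (hzw x hxP) hxne]
    exact hzw y hy
  have hcle : normalizer ((P : Subgroup N) : Set N) ≤ centralizer ((P : Subgroup N) : Set N) := by
    intro g hg y hy
    apply Subtype.ext
    show (y : G) * (g : G) = (g : G) * (y : G)
    have hgx : g * x * g⁻¹ ∈ (P : Subgroup N) := (Subgroup.mem_normalizer_iff.1 hg x).1 hxP
    -- g normalizes C(x)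
    have hgN : (g : G) ∈ normalizer ((C (x : G) : Subgroup G) : Set G) := by
      have h1 : C ((g : G) * x * (g : G)⁻¹) = C (x : G) :=
        C_eq H ht' (hPC _ hgx) (fun h => hxne (conj_eq_one_iff.1 h))
      rw [C_conj] at h1
      rw [Subgroup.mem_normalizer_iff]
      intro z
      constructor
      · intro hz
        rw [← h1]
        exact ⟨z, hz, rfl⟩
      · intro hz
        rw [← h1] at hz
        obtain ⟨z', hz', he⟩ := hz
        exact (MulAut.conj (g : G)).injective he ▸ hz'
    rcases normalizer_C H ht' hgN with hc | hc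
    · exact comm_C H ht' (hPC y hy) hc
    · exfalso
      -- g is an involution in S inverting x
      set c := t'⁻¹ * (g : G) with hcdef
      have hgc : (g : G) = t' * c := (mul_inv_cancel_left _ _).symm
      have hginv : (g : G) * x * (g : G)⁻¹ = (x : G)⁻¹ := by
        calc (g : G) * x * (g : G)⁻¹ = t' * (c * x) * c⁻¹ * t'⁻¹ := by rw [hgc]; group
          _ = t' * (x * c) * c⁻¹ * t'⁻¹ := by rw [mem_C.1 hc]
          _ = t' * x * t'⁻¹ := by group
          _ = (x : G)⁻¹ := ht'.2.2.2
      have hg2 : (g : G) * g = 1 := by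
        rw [hgc]
        calc t' * c * (t' * c) = (t' * c * t'⁻¹) * (t' * t') * c := by group
          _ = 1 := by rw [inverts_C H ht' hc, two_mul_self ht'.1]; group
      have hgS : (g : G) ∈ (S : Subgroup G) := CfsgLib.FGS.mem_of_mem_normalizer S
        (((Nat.dvd_prime_pow Nat.prime_two).1 (orderOf_dvd_of_pow_eq_one
          (n := 2 ^ 1) (by rw [pow_one, sq]; exact hg2))).imp fun _ hk => hk.2) g.2
      have hxS : (g : G) * x * (g : G)⁻¹ * (x : G)⁻¹ ∈ (S : Subgroup G) := by
        have h := (Subgroup.mem_normalizer_iff.1 x.2 _).1 (inv_mem hgS)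
        have := mul_mem hgS h
        rwa [show (g : G) * ((x : G) * (g : G)⁻¹ * (x : G)⁻¹) =
          (g : G) * x * (g : G)⁻¹ * (x : G)⁻¹ by group] at this
      rw [hginv] at hxS
      obtain ⟨j, hj⟩ := S.isPGroup' ⟨_, hxS⟩
      replace hj : ((x : G)⁻¹ * (x : G)⁻¹) ^ 2 ^ j = 1 := congrArg Subtype.val hj
      rw [← sq, ← pow_mul, inv_pow, inv_eq_one] at hj
      have hdiv := orderOf_dvd_of_pow_eq_one hj
      rw [← pow_succ', hord x hxP hxne] at hdiv
      exact hr2 ((Nat.prime_dvd_prime_iff_eq Fact.out Nat.prime_two).1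
        ((Fact.out : r.Prime).dvd_of_dvd_pow hdiv))
  have hcompl := MonoidHom.ker_transferSylow_isComplement' P hcle
  have hnd : ¬ r ∣ Nat.card (MonoidHom.transferSylow P hcle).ker := by
    rw [← Subgroup.IsComplement'.index_eq_card hcompl]
    exact P.not_dvd_index
  refine ⟨(MonoidHom.transferSylow P hcle).ker, inferInstance, hnd, fun y hy => ?_⟩
  rw [MonoidHom.mem_ker, ← orderOf_eq_one_iff]
  by_contra hne
  obtain ⟨p', hp', hpd⟩ := Nat.exists_prime_and_dvd hne
  obtain ⟨j, hj⟩ := IsPGroup.iff_card.1 P.isPGroup'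
  have hdc : p' ∣ r ^ j := hj ▸ hpd.trans (orderOf_dvd_natCard _)
  have := (Nat.prime_dvd_prime_iff_eq hp' Fact.out).1 (hp'.dvd_of_dvd_pow hdc)
  subst this
  exact hy (hpd.trans (orderOf_map_dvd _ y))

include H in
theorem not_both (S : Sylow 2 G) {r s : ℕ} (hr : r.Prime) (hs : s.Prime) (hr2 : r ≠ 2)
    (hs2 : s ≠ 2) (hrs : r ≠ s) (hreal₁ : ∀ y : G, orderOf y = r → ∃ t', Inverts t' y)
    (hreal₂ : ∀ y : G, orderOf y = s → ∃ t', Inverts t' y)
    (hd₁ : r ∣ Nat.card (normalizer ((S : Subgroup G) : Set G)))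
    (hd₂ : s ∣ Nat.card (normalizer ((S : Subgroup G) : Set G))) : False := by
  set N := normalizer ((S : Subgroup G) : Set G) with hN
  have : Fact r.Prime := ⟨hr⟩
  have : Fact s.Prime := ⟨hs⟩
  obtain ⟨M₁, hn₁, hc₁, hm₁⟩ := normal_complement H S hr2 hreal₁ hd₁
  obtain ⟨M₂, hn₂, hc₂, hm₂⟩ := normal_complement H S hs2 hreal₂ hd₂
  obtain ⟨x, hx⟩ := exists_prime_orderOf_dvd_card' r hd₁
  obtain ⟨y, hy⟩ := exists_prime_orderOf_dvd_card' s hd₂
  have hx₂ : x ∈ M₂ := hm₂ x (by rw [hx, Nat.prime_dvd_prime_iff_eq hs hr]; exact hrs.symm)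
  have hy₁ : y ∈ M₁ := hm₁ y (by rw [hy, Nat.prime_dvd_prime_iff_eq hr hs]; exact hrs)
  set c := x * y * x⁻¹ * y⁻¹ with hc
  have h1 : c ∈ M₁ := mul_mem (hn₁.conj_mem y hy₁ x) (inv_mem hy₁)
  have h2 : c ∈ M₂ := by
    have := mul_mem hx₂ (hn₂.conj_mem _ (inv_mem hx₂) y)
    rwa [show x * (y * x⁻¹ * y⁻¹) = c by rw [hc]; group] at this
  have hcr : ¬ r ∣ orderOf c := fun h => hc₁ (h.trans (Subgroup.orderOf_dvd_natCard _ h1))
  have hcs : ¬ s ∣ orderOf c := fun h => hc₂ (h.trans (Subgroup.orderOf_dvd_natCard _ h2))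
  -- so c lies in S, and x, y commute modulo S
  have hcS : (c : G) ∈ (S : Subgroup G) := by
    rcases eq_or_ne (c : G) 1 with h | h
    · rw [h]; exact one_mem _
    have : Fact (Nat.Prime 2) := ⟨Nat.prime_two⟩
    have hp := H.prime _ h
    have hdvd : orderOf (c : G) ∈ (Nat.card G).primeFactors :=
      Nat.mem_primeFactors.2 ⟨hp, orderOf_dvd_natCard _, Nat.card_pos.ne'⟩
    have hdr : r ∣ Nat.card G := hd₁.trans (Subgroup.card_subgroup_dvd_card _)
    have hds : s ∣ Nat.card G := hd₂.trans (Subgroup.card_subgroup_dvd_card _)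
    rw [H.four r hr hdr s hs hds hr2 hs2 hrs, Subgroup.orderOf_coe] at hdvd
    simp only [Finset.mem_insert, Finset.mem_singleton] at hdvd
    rcases hdvd with h2' | h2' | h2'
    · exact CfsgLib.FGS.mem_of_mem_normalizer S
        ⟨1, by rw [Subgroup.orderOf_coe, h2', pow_one]⟩ c.2
    · exact absurd h2'.symm.dvd hcr
    · exact absurd h2'.symm.dvd hcs
  have : ((S : Subgroup G).subgroupOf N).Normal := Subgroup.normal_in_normalizer
  let π := QuotientGroup.mk' ((S : Subgroup G).subgroupOf N)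
  have hcomm : Commute (π x) (π y) := by
    have : π c = 1 := (QuotientGroup.eq_one_iff c).2 hcS
    rw [hc, map_mul, map_mul, map_mul, map_inv, map_inv, mul_inv_eq_one,
      mul_inv_eq_iff_eq_mul] at this
    exact this
  obtain ⟨n, hn⟩ := IsPGroup.iff_card.1 (show IsPGroup 2 (S : Subgroup G) from S.isPGroup')
  have hord : ∀ (w : N) (p : ℕ), p.Prime → p ≠ 2 → orderOf w = p → orderOf (π w) = p := by
    intro w p hp hp2 hw
    have hdvd := orderOf_map_dvd π w
    rw [hw] at hdvd
    rcases (Nat.dvd_prime hp).1 hdvd with h | h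
    · exfalso
      have hwS : (w : G) ∈ (S : Subgroup G) := (QuotientGroup.eq_one_iff w).1 (orderOf_eq_one_iff.1 h)
      have := Subgroup.orderOf_dvd_natCard _ hwS
      rw [Subgroup.orderOf_coe, hw, hn] at this
      exact hp2 ((Nat.prime_dvd_prime_iff_eq hp Nat.prime_two).1 (hp.dvd_of_dvd_pow this))
    · exact h
  have hxy : orderOf (π (x * y)) = r * s := by
    rw [map_mul, hcomm.orderOf_mul_eq_mul_orderOf_of_coprime, hord x r hr hr2 hx, hord y s hs hs2 hy]
    rw [hord x r hr hr2 hx, hord y s hs hs2 hy]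
    exact (Nat.coprime_primes hr hs).2 hrs
  have hne : ((x * y : N) : G) ≠ 1 := by
    intro h
    rw [show x * y = 1 from Subtype.ext h, map_one, orderOf_one] at hxy
    have := hr.two_le
    have := hs.two_le
    nlinarith
  have hp := H.prime _ hne
  rw [Subgroup.orderOf_coe] at hp
  have hdvd := hxy ▸ orderOf_map_dvd π (x * y)
  rcases (Nat.dvd_prime hp).1 hdvd with h | h
  · have := hr.two_le; have := hs.two_le; nlinarith
  · exact Nat.not_prime_mul hr.ne_one hs.ne_one (h ▸ hp)

/-- The arithmetic when `q - 1` divides `a`. -/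
theorem arith {q a b : ℕ} (hq : 4 ≤ q) (hb : 3 ≤ b) (heq : 2 * (a * b + 1) = q * (a + b))
    (hd : q - 1 ∣ a) (hapos : 0 < a) : a = q - 1 ∧ b = q + 1 := by
  obtain ⟨d, rfl⟩ : ∃ d, q = d + 1 := ⟨q - 1, by omega⟩
  simp only [Nat.add_sub_cancel] at hd ⊢
  obtain ⟨e, rfl⟩ := hd
  have he : 1 ≤ e := Nat.one_le_iff_ne_zero.2 (by rintro rfl; simp at hapos)
  rcases he.eq_or_lt with rfl | he2
  · refine ⟨by ring, ?_⟩
    zify at heq ⊢
    nlinarith
  · exfalso
    have hb1 : b < d + 1 := by
      by_contra hge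
      push Not at hge
      zify at heq hge he2 hq
      nlinarith [mul_le_mul_of_nonneg_left he2 (show (0 : ℤ) ≤ d by positivity)]
    -- b ≡ 2 modulo d
    have hbd : (d : ℤ) ∣ (b : ℤ) - 2 := by
      refine ⟨2 * e * b - (d + 1) * e - b, ?_⟩
      zify at heq
      linear_combination -heq
    obtain ⟨c, hc⟩ := hbd
    have hc0 : 0 < c := by nlinarith [(by exact_mod_cast hb : (3 : ℤ) ≤ b)]
    nlinarith [(by exact_mod_cast hb1 : (b : ℤ) < d + 1)]

theorem two_pow_cases {n r s i j : ℕ} (hn : 2 ≤ n) (hr : r.Prime) (hs : s.Prime) (hr2 : r ≠ 2)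
    (hs2 : s ≠ 2) (h1 : 2 ^ n - 1 = r ^ i) (h2 : 2 ^ n + 1 = s ^ j) :
    n = 2 ∨ (n = 3 ∧ s = 3) := by
  rcases Nat.even_or_odd n with ⟨k, hk⟩ | hodd
  · left
    by_contra hn2
    have hk2 : 2 ≤ k := by omega
    have h4 : 4 ≤ 2 ^ k := by
      calc 4 = 2 ^ 2 := by norm_num
        _ ≤ 2 ^ k := Nat.pow_le_pow_right (by norm_num) hk2
    have hfac : (2 ^ k - 1) * (2 ^ k + 1) = r ^ i := by
      rw [← h1, hk, pow_add]
      obtain ⟨z, hz⟩ : ∃ z, 2 ^ k = z + 1 := ⟨2 ^ k - 1, by omega⟩
      rw [hz, Nat.add_sub_cancel]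
      have : (z + 1) * (z + 1) = z * (z + 1 + 1) + 1 := by ring
      omega
    have hra : r ∣ 2 ^ k - 1 := by
      obtain ⟨p, hp, hpd⟩ := Nat.exists_prime_and_dvd (n := 2 ^ k - 1) (by omega)
      have := (Nat.prime_dvd_prime_iff_eq hp hr).1
        (hp.dvd_of_dvd_pow (hfac ▸ hpd.trans (dvd_mul_right _ _)))
      exact this ▸ hpd
    have hrb : r ∣ 2 ^ k + 1 := by
      obtain ⟨p, hp, hpd⟩ := Nat.exists_prime_and_dvd (n := 2 ^ k + 1) (by omega)
      have := (Nat.prime_dvd_prime_iff_eq hp hr).1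
        (hp.dvd_of_dvd_pow (hfac ▸ hpd.trans (dvd_mul_left _ _)))
      exact this ▸ hpd
    have h22 : r ∣ 2 := by
      have := Nat.dvd_sub hrb hra
      rwa [show 2 ^ k + 1 - (2 ^ k - 1) = 2 by omega] at this
    exact hr2 ((Nat.prime_dvd_prime_iff_eq hr Nat.prime_two).1 h22)
  · right
    have hmod : (2 ^ n + 1) % 3 = 0 := by
      obtain ⟨k, hk⟩ := hodd
      have : (2 ^ n) % 3 = 2 := by
        rw [hk, pow_succ, pow_mul, Nat.mul_mod, Nat.pow_mod]
        simp
      omega
    have hs3 : s = 3 := ((Nat.prime_dvd_prime_iff_eq Nat.prime_three hs).1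
      (Nat.prime_three.dvd_of_dvd_pow (h2 ▸ Nat.dvd_of_mod_eq_zero hmod))).symm
    subst hs3
    refine ⟨?_, rfl⟩
    rcases Nat.even_or_odd j with ⟨m, hm⟩ | ⟨m, hm⟩
    · have h3 : 1 ≤ 3 ^ m := Nat.one_le_pow _ _ (by norm_num)
      obtain ⟨z, hz⟩ : ∃ z, 3 ^ m = z + 1 := ⟨3 ^ m - 1, by omega⟩
      have hfac : z * (z + 2) = 2 ^ n := by
        rw [hm, pow_add, hz] at h2
        have : (z + 1) * (z + 1) = z * (z + 2) + 1 := by ring
        omega
      obtain ⟨a, -, ha⟩ := (Nat.dvd_prime_pow Nat.prime_two).1 (hfac ▸ dvd_mul_right z (z + 2))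
      obtain ⟨b, -, hb⟩ := (Nat.dvd_prime_pow Nat.prime_two).1 (hfac ▸ dvd_mul_left (z + 2) z)
      have ha1 : a = 1 := by
        rcases Nat.lt_or_ge a 1 with h | h
        · exfalso
          have hz1 : z = 1 := by rw [ha, show a = 0 by omega, pow_zero]
          subst hz1
          omega
        · by_contra hne
          have e1 : 4 ∣ z := ha ▸ (show 2 ^ 2 ∣ 2 ^ a from pow_dvd_pow 2 (by omega))
          have hb2 : 2 ≤ b := by
            by_contra hb'
            have : 2 ^ b ≤ 2 ^ 1 := Nat.pow_le_pow_right (by norm_num) (by omega)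
            have : 4 ≤ z := Nat.le_of_dvd (by rw [ha]; positivity) e1
            omega
          have e2 : 4 ∣ z + 2 := hb ▸ (show 2 ^ 2 ∣ 2 ^ b from pow_dvd_pow 2 hb2)
          omega
      rw [ha1, pow_one] at ha
      subst ha
      have : 2 ^ n = 2 ^ 3 := by rw [← hfac]; norm_num
      exact Nat.pow_right_injective le_rfl this
    · exfalso
      have h3 : 3 ^ j % 8 = 3 := by
        rw [hm, pow_succ, pow_mul, Nat.mul_mod, Nat.pow_mod]
        simp
      have h8 : 8 ∣ 2 ^ n := by
        obtain ⟨k, hk⟩ := hodd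
        exact (show 2 ^ 3 ∣ 2 ^ n from pow_dvd_pow 2 (by omega))
      omega

include H in
/-- In the configuration of order 504 an involution inverts too few elements of order 3. -/
theorem wgt_three_le {t : G} (ht : orderOf t = 2) :
    wgt G 3 ≤ (C t).index * (Nat.card (Sylow 2 G) - 1) := by
  have : Fact (Nat.Prime 2) := ⟨Nat.prime_two⟩
  have := Fintype.ofFinite G
  have := Fintype.ofFinite (Sylow 2 G)
  rw [← ncard_invol H ht, wgt, Set.ncard_eq_toFinset_card', Set.ncard_eq_toFinset_card',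
    Set.toFinset_setOf, Set.toFinset_setOf]
  rw [Finset.card_eq_sum_card_fiberwise (f := Prod.snd)
    (t := (Finset.univ : Finset G).filter fun g => orderOf g = 2) (fun z hz => by
      simp only [Finset.coe_filter, Set.mem_setOf_eq, Finset.mem_univ, true_and] at hz ⊢
      exact hz.2.1)]
  refine (Finset.sum_le_card_nsmul _ _ (Nat.card (Sylow 2 G) - 1) fun u hu => ?_).trans
    (le_of_eq (smul_eq_mul _ _))
  simp only [Finset.mem_filter, Finset.mem_univ, true_and] at hu
  obtain ⟨Su, hSu⟩ := (isPGroup_C_invol H hu).exists_le_sylow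
  have hu1 : u ≠ 1 := by rintro rfl; rw [orderOf_one] at hu; omega
  have hSue : C u = (Su : Subgroup G) := C_eq_sylow H Su (hSu (mem_C.2 rfl)) hu1
  -- for each x, the Sylow subgroup containing v = u x
  have hv : ∀ x : G, orderOf x = 3 → u * x * u⁻¹ = x⁻¹ →
      orderOf (u * x) = 2 ∧ u * (u * x) * u⁻¹ = (u * x) * u * (u * x)⁻¹ ∧ u * x ∉ C u := by
    intro x hx hinv
    have hsq : u * x * (u * x) = 1 := by
      calc u * x * (u * x) = (u * x * u⁻¹) * (u * u) * x := by group
        _ = 1 := by rw [hinv, two_mul_self hu]; group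
    have hne : u * x ≠ 1 := fun h => by
      have : x = u := by rw [eq_inv_of_mul_eq_one_right h, inv_eq_of_two hu]
      rw [this, hu] at hx; omega
    have ho := orderOf_eq_prime (by rw [sq]; exact hsq) hne
    refine ⟨ho, ?_, fun hc => ?_⟩
    · -- both sides reduce using x³ = 1
      have hx3 : x * x * x = 1 := by rw [← pow_three', ← hx, pow_orderOf_eq_one]
      rw [inv_eq_of_two ho]
      calc u * (u * x) * u⁻¹ = u * (u * x * u⁻¹) := by group
        _ = u * (x * x) := by rw [hinv, inv_eq_of_mul_eq_one_left hx3]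
        _ = u * x * (u * u) * x := by rw [two_mul_self hu]; group
        _ = u * x * u * (u * x) := by group
    · have h := mem_C.1 hc
      have hxx : x⁻¹ = x := by
        rw [← hinv]
        calc u * x * u⁻¹ = (u * x * u) * (u * u)⁻¹ := by group
          _ = u * (u * x) := by rw [h, two_mul_self hu]; group
          _ = x := by rw [← mul_assoc, two_mul_self hu, one_mul]
      have h3 : orderOf x ∣ 2 := orderOf_dvd_of_pow_eq_one (by
        rw [sq]; exact eq_inv_iff_mul_eq_one.1 hxx.symm)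
      rw [hx] at h3; omega
  calc ((((Finset.univ : Finset (G × G)).filter fun z =>
        orderOf z.1 = 3 ∧ orderOf z.2 = 2 ∧ z.2 * z.1 * z.2⁻¹ = z.1⁻¹).filter
          fun z => z.2 = u)).card
      ≤ ((Finset.univ : Finset (Sylow 2 G)).erase Su).card := by
        refine Finset.card_le_card_of_injOn
          (fun z => if h : IsPGroup 2 (C (u * z.1)) then h.exists_le_sylow.choose else Su) ?_ ?_
        · intro z hz
          simp only [Finset.coe_filter, Set.mem_setOf_eq, Finset.mem_filter, Finset.mem_univ,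
            true_and] at hz
          obtain ⟨⟨hx, -, hinv⟩, rfl⟩ := hz
          obtain ⟨ho, -, hnc⟩ := hv z.1 hx hinv
          simp only [Finset.coe_erase, Set.mem_sdiff, Finset.coe_univ, Set.mem_univ, true_and,
            Set.mem_singleton_iff, dif_pos (isPGroup_C_invol H ho)]
          intro he
          apply hnc
          rw [hSue, ← he]
          exact (isPGroup_C_invol H ho).exists_le_sylow.choose_spec (mem_C.2 rfl)
        · intro z₁ hz₁ z₂ hz₂ heq
          simp only [Finset.coe_filter, Set.mem_setOf_eq, Finset.mem_filter, Finset.mem_univ,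
            true_and] at hz₁ hz₂
          obtain ⟨⟨hx₁, -, hinv₁⟩, hz₁u⟩ := hz₁
          obtain ⟨⟨hx₂, -, hinv₂⟩, hz₂u⟩ := hz₂
          rw [hz₁u] at hinv₁
          rw [hz₂u] at hinv₂
          obtain ⟨ho₁, hb₁, hnc₁⟩ := hv z₁.1 hx₁ hinv₁
          obtain ⟨ho₂, hb₂, -⟩ := hv z₂.1 hx₂ hinv₂
          simp only [dif_pos (isPGroup_C_invol H ho₁), dif_pos (isPGroup_C_invol H ho₂)] at heq
          set v := u * z₁.1 with hvd
          set w := u * z₂.1 with hwd
          set T := (isPGroup_C_invol H ho₁).exists_le_sylow.choose with hTd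
          have hne1 : ∀ g : G, orderOf g = 2 → g ≠ 1 := fun g hg e => by
            rw [e, orderOf_one] at hg; omega
          have hvT : v ∈ (T : Subgroup G) :=
            (isPGroup_C_invol H ho₁).exists_le_sylow.choose_spec (mem_C.2 rfl)
          have hwT : w ∈ (T : Subgroup G) := by
            rw [heq]
            exact (isPGroup_C_invol H ho₂).exists_le_sylow.choose_spec (mem_C.2 rfl)
          have hTv := C_eq_sylow H T hvT (hne1 v ho₁)
          have hTw := C_eq_sylow H T hwT (hne1 w ho₂)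
          have hCe : C (v * u * v⁻¹) = C (w * u * w⁻¹) := by
            rw [← hb₁, ← hb₂, C_conj, C_conj u w, hTv, hTw]
          -- v w normalizes C(u)
          by_contra hzne
          have hvw : v * w ≠ 1 := fun e => hzne (Prod.ext (by
            have hh : v = w := by rw [eq_inv_of_mul_eq_one_left e, inv_eq_of_two ho₂]
            exact mul_left_cancel hh) (hz₁u.trans hz₂u.symm))
          have hvwN : v * w ∈ normalizer ((C u : Subgroup G) : Set G) := by
            have e : (C u).map (MulAut.conj (v * w)).toMonoidHom = C u := by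
              rw [← C_conj]
              have e1 : C (v * w * u * (v * w)⁻¹) = (C (w * u * w⁻¹)).map
                  (MulAut.conj v).toMonoidHom := by
                rw [← C_conj]; group
              rw [e1, ← hCe, ← C_conj]
              congr 1
              congr 1
              calc v * (v * u * v⁻¹) * v⁻¹ = (v * v) * u * (v * v)⁻¹ := by group
                _ = u := by rw [two_mul_self ho₁]; group
            rw [Subgroup.mem_normalizer_iff]
            intro g
            constructor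
            · intro hg
              rw [← e]
              exact ⟨g, hg, rfl⟩
            · intro hg
              rw [← e] at hg
              obtain ⟨g', hg', he⟩ := hg
              exact (MulAut.conj (v * w)).injective he ▸ hg'
          have hvwT : v * w ∈ (T : Subgroup G) := mul_mem hvT hwT
          have hvwS : v * w ∈ (Su : Subgroup G) := by
            rw [hSue] at hvwN
            obtain ⟨j, hj⟩ := T.isPGroup' ⟨_, hvwT⟩
            replace hj : (v * w) ^ 2 ^ j = 1 := congrArg Subtype.val hj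
            exact CfsgLib.FGS.mem_of_mem_normalizer Su
              (((Nat.dvd_prime_pow Nat.prime_two).1 (orderOf_dvd_of_pow_eq_one hj)).imp
                fun _ hk => hk.2) hvwN
          apply hnc₁
          rw [hSue, ← C_eq_sylow H Su hvwS hvw, C_eq_sylow H T hvwT hvw]
          exact hvT
    _ = Nat.card (Sylow 2 G) - 1 := by
        rw [Finset.card_erase_of_mem (Finset.mem_univ _), Finset.card_univ,
          Nat.card_eq_fintype_card]

include H in
theorem equiv_alt_five {t : G} (ht : orderOf t = 2) (h60 : Nat.card G = 60)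
    (h5 : Nat.card (Sylow 2 G) = 5) : Nonempty (G ≃* alternatingGroup (Fin 5)) := by
  have : Fact (Nat.Prime 2) := ⟨Nat.prime_two⟩
  let φ : G →* Equiv.Perm (Sylow 2 G) := MulAction.toPermHom G (Sylow 2 G)
  have hker : ∀ g ∈ φ.ker, ∀ T : Sylow 2 G, g ∈ normalizer ((T : Subgroup G) : Set G) := by
    intro g hg T
    exact Sylow.smul_eq_iff_mem_normalizer.1 (DFunLike.congr_fun (MonoidHom.mem_ker.1 hg) T)
  have hinv : ∀ g ∈ φ.ker, orderOf g = 2 → False := by
    intro g hg hg2
    have hg1 : g ≠ 1 := by rintro rfl; rw [orderOf_one] at hg2; omega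
    have hT : ∀ T : Sylow 2 G, (T : Subgroup G) = C g := fun T =>
      (C_eq_sylow H T (CfsgLib.FGS.mem_of_mem_normalizer T
        ⟨1, by rw [hg2, pow_one]⟩ (hker g hg T)) hg1).symm
    have : Subsingleton (Sylow 2 G) := ⟨fun T T' => Sylow.ext ((hT T).trans (hT T').symm)⟩
    rw [Nat.card_unique] at h5
    omega
  have hinj : Function.Injective φ := by
    rw [← MonoidHom.ker_eq_bot_iff, Subgroup.eq_bot_iff_forall]
    intro g hg
    by_contra hg1
    obtain ⟨S, hS⟩ := (isPGroup_C_invol H ht).exists_le_sylow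
    have htS : t ∈ (S : Subgroup G) := hS (mem_C.2 rfl)
    have ht1 : t ≠ 1 := by rintro rfl; rw [orderOf_one] at ht; omega
    set w := g * t * g⁻¹ * t⁻¹ with hw
    have hwS : w ∈ (S : Subgroup G) :=
      mul_mem ((Subgroup.mem_normalizer_iff.1 (hker g hg S) t).1 htS) (inv_mem htS)
    have hwK : w ∈ φ.ker := by
      have := mul_mem hg ((inferInstance : φ.ker.Normal).conj_mem _ (inv_mem hg) t)
      rwa [show g * (t * g⁻¹ * t⁻¹) = w by rw [hw]; group] at this
    rcases eq_or_ne w 1 with hw1 | hw1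
    · have hgC : g ∈ C t := by
        rw [mem_C]
        rw [hw, mul_inv_eq_one, mul_inv_eq_iff_eq_mul] at hw1
        exact hw1
      exact hinv g hg (orderOf_eq_prime (by rw [sq]; exact sq_of_mem_C_invol H ht hgC) hg1)
    · exact hinv w hwK (orderOf_eq_prime
        (by rw [sq]; exact sq_of_mem_C_invol H ht (C_eq_sylow H S htS ht1 ▸ hwS)) hw1)
  let e : Sylow 2 G ≃ Fin 5 := (Finite.equivFin _).trans (finCongr h5)
  let ψ : G →* Equiv.Perm (Fin 5) := e.permCongrHom.toMonoidHom.comp φ
  have hψ : Function.Injective ψ := e.permCongrHom.injective.comp hinj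
  have hc : Nat.card ψ.range = 60 := by
    rw [← Nat.card_congr (MonoidHom.ofInjective hψ).toEquiv, h60]
  have hidx : ψ.range.index = 2 := by
    have h := ψ.range.card_mul_index
    have h120 : Nat.card (Equiv.Perm (Fin 5)) = 120 := by
      rw [Nat.card_perm, Nat.card_fin]; decide
    rw [hc, h120] at h
    omega
  exact ⟨(MonoidHom.ofInjective hψ).trans
    (MulEquiv.subgroupCongr (Equiv.Perm.eq_alternatingGroup_of_index_eq_two hidx))⟩

set_option maxHeartbeats 1000000 in
include H in
theorem equiv_A5 : Nonempty (G ≃* alternatingGroup (Fin 5)) := by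
  have : Fact (Nat.Prime 2) := ⟨Nat.prime_two⟩
  obtain ⟨t, ht⟩ := exists_invol H
  have ht1 : t ≠ 1 := by rintro rfl; rw [orderOf_one] at ht; omega
  obtain ⟨S, hS⟩ := (isPGroup_C_invol H ht).exists_le_sylow
  have htS : t ∈ (S : Subgroup G) := hS (mem_C.2 rfl)
  have hSC : C t = (S : Subgroup G) := C_eq_sylow H S htS ht1
  obtain ⟨n, hn⟩ := IsPGroup.iff_card.1 (isPGroup_C_invol H ht)
  set m := (C t).index with hm
  set q := Nat.card (C t) with hq
  have hqm : q * m = Nat.card G := (C t).card_mul_index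
  have hmodd : Odd m := by
    rw [Nat.odd_iff]
    have := S.not_dvd_index
    rw [← hSC, ← hm] at this
    omega
  have hn1 : 1 ≤ n := by
    by_contra h0
    rw [show n = 0 by omega, pow_zero] at hn
    exact ht1 (Subgroup.mem_bot.1
      (Subgroup.eq_bot_of_card_eq _ hn ▸ mem_C.2 rfl : t ∈ (⊥ : Subgroup G)))
  have hq2 : 2 ≤ q := hn ▸ Nat.le_self_pow (by omega) 2
  -- the normalizer of S
  set N := normalizer ((S : Subgroup G) : Set G) with hN
  have hrel : (S : Subgroup G).relIndex N = q - 1 := by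
    rw [relIndex_normalizer H ht S htS, ← hSC]
  have hNidx : (q - 1) * N.index = m := by
    rw [← hrel, Subgroup.relIndex_mul_index le_normalizer, ← hSC]
  have hSyl : Nat.card (Sylow 2 G) = N.index := S.card_eq_index_normalizer
  have hNcard : Nat.card N = q * (q - 1) := by
    rw [← hrel, Subgroup.relIndex, hq, hSC,
      ← Nat.card_congr (Subgroup.subgroupOfEquivOfLe (le_normalizer : (S : Subgroup G) ≤ N)).toEquiv,
      Subgroup.card_mul_index]
  -- the odd primes
  obtain ⟨r, s, hr, hs, hrd, hsd, hr2, hs2, hrs⟩ : ∃ r s : ℕ, r.Prime ∧ s.Prime ∧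
      r ∣ Nat.card G ∧ s ∣ Nat.card G ∧ r ≠ 2 ∧ s ≠ 2 ∧ r ≠ s := by
    have h2 : 2 ≤ ((Nat.card G).primeFactors.erase 2).card := by
      have := Finset.pred_card_le_card_erase (a := 2) (s := (Nat.card G).primeFactors)
      have := H.three
      omega
    obtain ⟨r, hr, s, hs, hrs⟩ := Finset.one_lt_card.1 h2
    rw [Finset.mem_erase, Nat.mem_primeFactors] at hr hs
    exact ⟨r, s, hr.2.1, hs.2.1, hr.2.2.1, hs.2.2.1, hr.1, hs.1, hrs⟩
  have hpf := H.four r hr hrd s hs hsd hr2 hs2 hrs
  have hpair := pairs H hpf hr2 hs2 hrs ht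
  have htot := card_partition H hpf hr2 hs2 hrs ht
  rw [← hm, ← hq] at hpair
  rw [← hm] at htot
  have hqle : q - 1 ≤ m := Nat.le_of_dvd hmodd.pos (Dvd.intro N.index hNidx)
  obtain ⟨D, hD⟩ : ∃ D, m = (q - 1) + D := Nat.exists_eq_add_of_le hqle
  have hpair' : m * D = wgt G r + wgt G s := by rw [← hpair]; congr 1; omega
  have hcop2 : ∀ p k : ℕ, p.Prime → p ≠ 2 → (p ^ k).Coprime q := fun p k hp hp2 => by
    rw [hn]
    exact Nat.Coprime.pow _ _ ((Nat.coprime_primes hp Nat.prime_two).2 hp2)
  -- a single inverted prime is impossible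
  have one : ∀ r s : ℕ, r.Prime → r ≠ 2 → s.Prime → s ≠ 2 → r ≠ s → s ∣ Nat.card G →
      m * D = wgt G r → ∀ t' x : G, orderOf x = r → ¬ Inverts t' x := by
    intro r s hr hr2 hs hs2 hrs hsd hw t' x hx hinv
    obtain ⟨k, hk1, -, hkd, -, hwk, hnk⟩ := real_prime H hr hinv hx
    have hak : r ^ k ∣ m := (hcop2 r k hr hr2).dvd_of_dvd_mul_left (hqm.symm ▸ hkd)
    have hge : 3 ≤ r ^ k := le_trans (by have := hr.two_le; omega) (Nat.le_self_pow (by omega) r)
    set a := r ^ k with ha
    -- 2 D + q = q a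
    have hD2 : 2 * D + q = q * a := by
      apply Nat.eq_of_mul_eq_mul_left hmodd.pos
      rw [mul_add, mul_left_comm m 2 D, hw, hwk, ← hqm] at *
      nlinarith [hnk]
    rcases Nat.lt_or_ge q 3 with hq3 | hq3
    · -- q = 2: only two primes
      have hq' : q = 2 := by omega
      rw [hq'] at hD2 hD hqm
      have hma : m = a := by omega
      have hsd' : s ∣ 2 * a := by rw [← hma, hqm]; exact hsd
      rcases hs.dvd_mul.1 hsd' with h | h
      · exact hs2 ((Nat.prime_dvd_prime_iff_eq hs Nat.prime_two).1 h)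
      · exact hrs ((Nat.prime_dvd_prime_iff_eq hs hr).1 (hs.dvd_of_dvd_pow h)).symm
    · have hdvd : (a : ℤ) ∣ (q : ℤ) - 2 := by
        obtain ⟨c, hc⟩ := hak
        refine ⟨2 * c - q, ?_⟩
        have e1 : (m : ℤ) = (q : ℤ) - 1 + D := by omega
        have e2 : (2 * D + q : ℤ) = q * a := by exact_mod_cast hD2
        have e3 : (m : ℤ) = a * c := by exact_mod_cast hc
        linear_combination 2 * e3 - 2 * e1 - e2
      have hcd : Nat.Coprime a (q - 1) := by
        rw [Nat.coprime_iff_gcd_eq_one]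
        have g1 : ((Nat.gcd a (q - 1) : ℕ) : ℤ) ∣ (q : ℤ) - 2 :=
          (Int.natCast_dvd_natCast.2 (Nat.gcd_dvd_left _ _)).trans hdvd
        have g2 : ((Nat.gcd a (q - 1) : ℕ) : ℤ) ∣ (q : ℤ) - 1 := by
          have := Int.natCast_dvd_natCast.2 (Nat.gcd_dvd_right a (q - 1))
          rwa [Nat.cast_sub (by omega : 1 ≤ q), Nat.cast_one] at this
        have := dvd_sub g2 g1
        rw [show (q : ℤ) - 1 - ((q : ℤ) - 2) = ((1 : ℕ) : ℤ) by push_cast; ring,
          Int.natCast_dvd_natCast] at this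
        exact Nat.dvd_one.1 this
      have hle : a * (q - 1) ≤ m :=
        Nat.le_of_dvd hmodd.pos (hcd.mul_dvd_of_dvd_of_dvd hak (Dvd.intro N.index hNidx))
      obtain ⟨d, hd⟩ : ∃ d, q = d + 1 := ⟨q - 1, by omega⟩
      rw [hd, Nat.add_sub_cancel] at hle hD
      rw [hd] at hD2 hq3
      nlinarith
  by_cases hR : ∃ t' x : G, orderOf x = r ∧ Inverts t' x
  swap
  · exfalso
    push Not at hR
    have hr0 := wgt_eq_zero H hr hr2 fun t' x hx => hR t' x hx
    rw [hr0, zero_add] at hpair'
    have hs0 := one s r hs hs2 hr hr2 hrs.symm hrd hpair'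
    rw [wgt_eq_zero H hs hs2 hs0] at hpair'
    have hD0 : D = 0 := by rcases mul_eq_zero.1 hpair' with h | h
                           · exact absurd h hmodd.pos.ne'
                           · exact h
    have hi : N.index = 1 := by
      rw [hD0, add_zero] at hD
      exact Nat.eq_of_mul_eq_mul_left (by omega : 0 < q - 1) (by omega)
    have hnorm : (S : Subgroup G).Normal :=
      normalizer_eq_top_iff.1 (index_eq_one.1 hi)
    refine H.noOddQuot _ hnorm S.isPGroup' ?_
    rw [← hSC, ← hm]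
    exact hmodd
  by_cases hS' : ∃ t' x : G, orderOf x = s ∧ Inverts t' x
  swap
  · exfalso
    push Not at hS'
    rw [wgt_eq_zero H hs hs2 fun t' x hx => hS' t' x hx, add_zero] at hpair'
    obtain ⟨t', x, hx, hinv⟩ := hR
    exact one r s hr hr2 hs hs2 hrs hsd hpair' t' x hx hinv
  obtain ⟨t₁, x₁, hx₁, hinv₁⟩ := hR
  obtain ⟨t₂, x₂, hx₂, hinv₂⟩ := hS'
  obtain ⟨i, hi1, -, hid, hind, hwi, hni⟩ := real_prime H hr hinv₁ hx₁
  obtain ⟨j, hj1, -, hjd, hjnd, hwj, hnj⟩ := real_prime H hs hinv₂ hx₂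
  have hreal : ∀ {p : ℕ} {t' x : G}, Inverts t' x → orderOf x = p →
      ∀ y : G, orderOf y = p → ∃ t'', Inverts t'' y := fun {p t' x} h hx y hy => by
    obtain ⟨θ, rfl⟩ := H.aut x y (hx.trans hy.symm)
    exact ⟨θ t', (θ.orderOf_eq t').trans h.1,
      fun h1 => h.2.1 (θ.injective (by rw [h1, map_one])),
      by rw [θ.orderOf_eq]; exact h.2.2.1,
      by rw [← map_inv, ← map_mul, ← map_mul, h.2.2.2, map_inv]⟩
  set a := r ^ i with ha
  set b := s ^ j with hb
  have ha3 : 3 ≤ a := le_trans (by have := hr.two_le; omega) (Nat.le_self_pow (by omega) r)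
  have hb3 : 3 ≤ b := le_trans (by have := hs.two_le; omega) (Nat.le_self_pow (by omega) s)
  have e1 : (q * m : ℤ) = 1 + m + num G r + num G s := by exact_mod_cast hqm.trans htot
  have e2 : (m * D : ℤ) = num G r * a + num G s * b := by
    rw [hwi, hwj] at hpair'; exact_mod_cast hpair'
  have e3 : (2 * a * num G r + q * m : ℤ) = q * m * a := by
    rw [← hqm] at hni; exact_mod_cast hni
  have e4 : (2 * b * num G s + q * m : ℤ) = q * m * b := by
    rw [← hqm] at hnj; exact_mod_cast hnj
  have e5 : (m : ℤ) = q - 1 + D := by omega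
  have hab1 : (2 * (m + 1) : ℤ) = q * (a + b) := by
    have hm0 : (m : ℤ) ≠ 0 := by exact_mod_cast hmodd.pos.ne'
    apply mul_left_cancel₀ hm0
    linear_combination 2 * e2 + e3 + e4 + (2 * m : ℤ) * e5
  have hmab : m = a * b := by
    have hq0 : (q : ℤ) * (a + b) ≠ 0 := by positivity
    have : (m : ℤ) = a * b := by
      apply mul_left_cancel₀ hq0
      linear_combination (2 * a * b : ℤ) * e1 + (b : ℤ) * e3 + (a : ℤ) * e4 + (a * b : ℤ) * hab1
    exact_mod_cast this
  have heq : 2 * (a * b + 1) = q * (a + b) := by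
    rw [← hmab]; exact_mod_cast hab1
  have hq4 : 4 ≤ q := by
    rcases Nat.lt_or_ge n 2 with h | h
    · exfalso
      rw [show n = 1 by omega, pow_one] at hn
      rw [hn] at heq
      nlinarith
    · rw [hn]
      calc 4 = 2 ^ 2 := by norm_num
        _ ≤ 2 ^ n := Nat.pow_le_pow_right (by norm_num) h
  have hdab : q - 1 ∣ a * b := hmab ▸ Dvd.intro N.index hNidx
  have hnb : ¬ (r ∣ q - 1 ∧ s ∣ q - 1) := fun ⟨h1, h2⟩ =>
    not_both H S hr hs hr2 hs2 hrs (hreal hinv₁ hx₁) (hreal hinv₂ hx₂)
      (h1.trans (Dvd.intro_left q hNcard.symm)) (h2.trans (Dvd.intro_left q hNcard.symm))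
  have hn2 : 2 ≤ n := by
    by_contra h
    rw [show n = 1 by omega, pow_one] at hn
    omega
  -- the final case distinction, with q - 1 = p^k
  have final : ∀ p p' k k' : ℕ, p.Prime → p'.Prime → p ≠ 2 → p' ≠ 2 → q - 1 = p ^ k →
      q + 1 = p' ^ k' → m = p ^ k * p' ^ k' →
      wgt G p' = num G p' * p' ^ k' →
      2 * p' ^ k' * num G p' + Nat.card G = Nat.card G * p' ^ k' →
      Nonempty (G ≃* alternatingGroup (Fin 5)) := by
    intro p p' k k' hp hp' hp2 hp'2 hqa hqb hmk hw hnum
    rcases two_pow_cases hn2 hp hp' hp2 hp'2 (hn ▸ hqa) (hn ▸ hqb) with rfl | ⟨rfl, rfl⟩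
    · norm_num at hn
      rw [hn] at hqa hqb hNidx hqm
      rw [← hqa, ← hqb] at hmk
      norm_num at hmk
      rw [hmk] at hNidx hqm
      exact equiv_alt_five H ht (by omega) (hSyl.trans (by omega))
    · exfalso
      norm_num at hn
      rw [hn] at hqa hqb hNidx hqm
      rw [← hqa, ← hqb] at hmk
      rw [← hqb] at hw hnum
      norm_num at hmk
      have hle := wgt_three_le H ht
      rw [← hm, hSyl] at hle
      rw [hmk] at hNidx hqm hle
      rw [hw] at hle
      have : N.index = 9 := by omega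
      rw [this] at hle
      omega
  rcases Classical.em (s ∣ q - 1) with hsq | hsq
  · have hrq : ¬ r ∣ q - 1 := fun h => hnb ⟨h, hsq⟩
    have hdb : q - 1 ∣ b :=
      (((hr.coprime_iff_not_dvd.2 hrq).pow_left i).symm).dvd_of_dvd_mul_left hdab
    obtain ⟨hb', ha'⟩ := arith hq4 ha3 (by rw [mul_comm b a, add_comm b a]; exact heq) hdb
      (by omega)
    exact final s r j i hs hr hs2 hr2 hb'.symm ha'.symm (by rw [hmab, mul_comm]) hwi hni
  · have hda : q - 1 ∣ a :=
      (((hs.coprime_iff_not_dvd.2 hsq).pow_left j).symm).dvd_of_dvd_mul_right hdab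
    obtain ⟨ha', hb'⟩ := arith hq4 hb3 heq hda (by omega)
    exact final r s i j hr hs hr2 hs2 ha'.symm hb'.symm hmab hwj hnj

/-- A nonsolvable group with four automorphism orbits is `A₅` (granting the odd order theorem). -/
theorem equiv_A5_of_four_orbits (hFT : ∀ (K : Type u) [Group K] [Finite K], Odd (Nat.card K) →
      Group.IsSolvable K) (hns : ¬ Group.IsSolvable G)
    (h4 : Nat.card (MulAction.orbitRel.Quotient (MulAut G) G) = 4) :
    Nonempty (G ≃* alternatingGroup (Fin 5)) :=
  equiv_A5 (hyp_of_orbits hFT hns h4)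

end CfsgLib.FGS.FourOrbits
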