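import Cfsg.Agent.Lib.FGS.FrobeniusType

/-!
A group with the order type of a Frobenius group is a Frobenius group, of the same solvability.
-/

set_option autoImplicit false

open CfsgLib.OrderType
open scoped Pointwise

namespace CfsgLib.FGS

/-- A normal `π`-subgroup with a complement, no element having order mixed between `π` and its
complementary primes: the complement acts without fixed points. -/
theorem fpf_of_no_mixed {G : Type*} [Group G] [Finite G] {π : Set ℕ} {M D : Subgroup G}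
    [M.Normal] (hM : (M : Set G) = piElts π G) (hc : Subgroup.IsComplement' M D)
    (hmix : ∀ g : G, (∀ q : ℕ, q.Prime → q ∣ orderOf g → q ∈ π) ∨
      (∀ q : ℕ, q.Prime → q ∣ orderOf g → q ∉ π)) :
    ∀ a ∈ D, a ≠ 1 → M ⊓ Subgroup.centralizer {a} = ⊥ := by
  intro a ha ha1
  refine (Subgroup.eq_bot_iff_forall _).2 fun m hm => ?_
  have hcm : Commute m a := Subgroup.mem_centralizer_singleton_iff.1 hm.2
  by_contra hm1
  have hmπ : m ∈ piElts π G := hM ▸ hm.1
  have haπ : ∀ q : ℕ, q.Prime → q ∣ orderOf a → q ∉ π := by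
    intro q hq hd hqπ
    have h1 : M.index = Nat.card D := hc.symm.index_eq_card
    refine not_dvd_index_of_eq hM hq hqπ (h1 ▸ ?_)
    exact hd.trans (Subgroup.orderOf_dvd_natCard D ha)
  have hcop : (orderOf m).Coprime (orderOf a) :=
    Nat.coprime_of_dvd fun q hq h1 h2 => haπ q hq h2 (hmπ q hq h1)
  have ho := hcm.orderOf_mul_eq_mul_orderOf_of_coprime hcop
  obtain ⟨q₁, hq₁, hd₁⟩ := Nat.exists_prime_and_dvd (orderOf_eq_one_iff.not.2 hm1)
  obtain ⟨q₂, hq₂, hd₂⟩ := Nat.exists_prime_and_dvd (orderOf_eq_one_iff.not.2 ha1)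
  rcases hmix (m * a) with h | h
  · exact haπ q₂ hq₂ hd₂ (h q₂ hq₂ (ho ▸ hd₂.mul_left _))
  · exact h q₁ hq₁ (ho ▸ hd₁.mul_right _) (hmπ q₁ hq₁ hd₁)

/-- A group with the order type of a Frobenius group with nilpotent kernel is a Frobenius group,
solvable exactly when the first one is. -/
theorem frobenius_of_orderType {F G : Type*} [Group F] [Finite F] [Group G] [Finite G]
    {C : Subgroup F} (hC : Cfsg.IsFrobeniusComplement C)
    (hnil : ∀ N : Subgroup F, (N : Set F) = Cfsg.frobeniusKernel C → Group.IsNilpotent N)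
    (hT : ∀ m : ℕ, Nat.card {g : F // orderOf g = m} = Nat.card {h : G // orderOf h = m}) :
    (∃ D : Subgroup G, Cfsg.IsFrobeniusComplement D) ∧
      (Group.IsSolvable G ↔ Group.IsSolvable F) := by
  classical
  obtain ⟨N, hNk, hNn, hc⟩ := CfsgLib.Solvable.frobenius_theorem hC
  haveI := hNn
  haveI := hnil N hNk
  have hcardFG : Nat.card F = Nat.card G := card_eq_of_orderType hT
  have hN1 : N ≠ ⊥ := by
    rintro rfl
    exact hC.2.1 (by simpa using hc)
  have hfpfF := (CfsgLib.Solvable.isFrobeniusComplement_iff_fpf hc hN1 hC.1).1 hC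
  have hCN : C ≤ Subgroup.normalizer (N : Set F) := by
    rw [Subgroup.normalizer_eq_top]
    exact le_top
  have hcop := CfsgLib.Solvable.coprime_card_of_fpf hCN hfpfF
  set π : Set ℕ := ↑(Nat.card N).primeFactors with hπ
  have hmemπ : ∀ q : ℕ, q.Prime → q ∣ Nat.card N → q ∈ π := fun q hq hd =>
    Finset.mem_coe.2 (Nat.mem_primeFactors.2 ⟨hq, hd, Nat.card_pos.ne'⟩)
  have hπdvd : ∀ q ∈ π, q ∣ Nat.card N := fun q hq =>
    (Nat.mem_primeFactors.1 (Finset.mem_coe.1 hq)).2.1
  have hNpi : (N : Set F) = piElts π F := by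
    refine eq_piElts N hmemπ fun q hq hqπ hd => ?_
    rw [hc.symm.index_eq_card] at hd
    exact hq.ne_one (Nat.dvd_one.1 (hcop ▸ Nat.dvd_gcd hd (hπdvd q hqπ)))
  have hmixF : ∀ g : F, (∀ q : ℕ, q.Prime → q ∣ orderOf g → q ∈ π) ∨
      (∀ q : ℕ, q.Prime → q ∣ orderOf g → q ∉ π) := by
    intro g
    by_cases hg : g ∈ Cfsg.frobeniusKernel C
    · left
      rw [← hNk] at hg
      exact (hNpi ▸ hg : g ∈ piElts π F)
    · right
      obtain ⟨c, hgc⟩ : ∃ c : F, g ∈ MulAut.conj c • C := by
        by_contra h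
        push Not at h
        exact hg (Or.inr h)
      obtain ⟨k, hk, hkg⟩ := hgc
      intro q hq hd hqπ
      have ho : orderOf g = orderOf k := by
        rw [← hkg]
        exact MulEquiv.orderOf_eq (MulAut.conj c) k
      rw [ho] at hd
      exact hq.ne_one (Nat.dvd_one.1 (hcop ▸ Nat.dvd_gcd
        (hd.trans (Subgroup.orderOf_dvd_natCard C hk)) (hπdvd q hqπ)))
  have hmixG : ∀ g : G, (∀ q : ℕ, q.Prime → q ∣ orderOf g → q ∈ π) ∨
      (∀ q : ℕ, q.Prime → q ∣ orderOf g → q ∉ π) := by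
    have h0 := card_subtype_orderOf_eq hT (fun n => ¬ ((∀ q : ℕ, q.Prime → q ∣ n → q ∈ π) ∨
      (∀ q : ℕ, q.Prime → q ∣ n → q ∉ π)))
    intro g
    by_contra hg
    have h1 : Nat.card {g : G // ¬ ((∀ q : ℕ, q.Prime → q ∣ orderOf g → q ∈ π) ∨
      (∀ q : ℕ, q.Prime → q ∣ orderOf g → q ∉ π))} ≠ 0 :=
      Nat.card_ne_zero.2 ⟨⟨⟨g, hg⟩⟩, inferInstance⟩
    rw [← h0] at h1
    obtain ⟨⟨⟨f, hf⟩⟩, -⟩ := Nat.card_ne_zero.1 h1
    exact hf (hmixF f)
  have hprime : ∀ p ∈ (Nat.card N).primeFactors, p.Prime := fun p hp =>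
    Nat.prime_of_mem_primeFactors hp
  have hbot : IsPiClosedG (∅ : Set ℕ) G := by
    refine ⟨⊥, Set.ext fun g => ⟨fun hg q hq hd => ?_, fun hg => ?_⟩⟩
    · rw [SetLike.mem_coe, Subgroup.mem_bot] at hg
      rw [hg, orderOf_one] at hd
      exact absurd (Nat.dvd_one.1 hd) hq.ne_one
    · rw [SetLike.mem_coe, Subgroup.mem_bot, ← orderOf_eq_one_iff]
      by_contra hne
      obtain ⟨q, hq, hd⟩ := Nat.exists_prime_and_dvd hne
      exact hg q hq hd
  have hsingle : ∀ p ∈ (Nat.card N).primeFactors, IsPiClosedG {p} G := by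
    intro p hp
    have hpp := hprime p hp
    haveI := Fact.mk hpp
    obtain ⟨P⟩ : Nonempty (Sylow p N) := inferInstance
    haveI : (P : Subgroup N).Normal :=
      ((Group.isNilpotent_of_finite_tfae (G := N)).out 0 3 rfl rfl).1 inferInstance p inferInstance P
    have hFc : IsPiClosedG (insert p ∅) F := by
      refine ⟨(P : Subgroup N).map N.subtype, Set.ext fun x => ⟨?_, fun hx => ?_⟩⟩
      · rintro ⟨y, hy, rfl⟩ q hq hd
        obtain ⟨k, hk⟩ := P.isPGroup'.exists_card_eq
        have hd' : q ∣ p ^ k := by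
          refine hd.trans ?_
          rw [Subgroup.subtype_apply, Subgroup.orderOf_coe, ← hk]
          exact Subgroup.orderOf_dvd_natCard _ hy
        exact (Nat.prime_dvd_prime_iff_eq hq hpp).1 (hq.dvd_of_dvd_pow hd') ▸ Set.mem_insert _ _
      · have hxN : x ∈ N := by
          rw [← SetLike.mem_coe, hNpi]
          intro q hq hd
          rcases Set.mem_insert_iff.1 (hx q hq hd) with rfl | h
          · exact Finset.mem_coe.2 hp
          · exact absurd h (Set.notMem_empty q)
        refine ⟨⟨x, hxN⟩, ?_, rfl⟩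
        have hp1 : IsPGroup p (Subgroup.zpowers (⟨x, hxN⟩ : N)) := IsPGroup.of_card
          (Nat.eq_prime_pow_of_unique_prime_dvd Nat.card_pos.ne' fun {d} hd hdd => by
            rw [Nat.card_zpowers, ← Subgroup.orderOf_coe] at hdd
            rcases Set.mem_insert_iff.1 (hx d hd hdd) with rfl | h
            · rfl
            · exact absurd h (Set.notMem_empty d))
        obtain ⟨Q, hQ⟩ := hp1.exists_le_sylow
        haveI := Sylow.unique_of_normal P inferInstance
        rw [Subsingleton.elim P Q]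
        exact hQ (Subgroup.mem_zpowers _)
    obtain ⟨K, L, -, -, hL, -⟩ :=
      isPiClosedG_insert hT p hpp (Set.notMem_empty p) hFc hbot
    exact ⟨L, by rw [hL, insert_empty_eq]⟩
  obtain ⟨M, hM, hMs⟩ := exists_solvable_piElts_finset (Nat.card N).primeFactors hprime hsingle
  rw [← hπ] at hM
  haveI := normal_of_eq_piElts hM
  have hMcard : Nat.card M = Nat.card N := by
    have h := card_subtype_orderOf_eq hT (fun n => ∀ q : ℕ, q.Prime → q ∣ n → q ∈ π)
    have e1 : Nat.card N = Nat.card (piElts π F) :=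
      Nat.card_congr (Equiv.setCongr hNpi)
    have e2 : Nat.card M = Nat.card (piElts π G) := Nat.card_congr (Equiv.setCongr hM)
    rw [e1, e2]
    exact h.symm
  have hcop' : (Nat.card M).Coprime M.index := by
    refine Nat.coprime_of_dvd fun q hq h1 h2 => ?_
    exact not_dvd_index_of_eq hM hq (prime_dvd_card_of_eq hM hq h1) h2
  obtain ⟨D, hD⟩ := Subgroup.exists_right_complement'_of_coprime hcop'
  have hM1 : M ≠ ⊥ := by
    intro h
    rw [h, Subgroup.card_bot] at hMcard
    exact hN1 (Subgroup.eq_bot_of_card_eq N hMcard.symm)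
  have hD1 : D ≠ ⊥ := by
    intro h
    have h1 := hD.card_mul
    rw [h, Subgroup.card_bot, mul_one, hMcard, ← hcardFG] at h1
    refine hC.1 (Subgroup.eq_bot_of_card_eq C ?_)
    have h2 := hc.card_mul
    exact Nat.eq_of_mul_eq_mul_left (Nat.card_pos (α := N)) (by rw [mul_one]; exact h2.trans h1.symm)
  have hfpfG := fpf_of_no_mixed hM hD hmixG
  refine ⟨⟨D, (CfsgLib.Solvable.isFrobeniusComplement_iff_fpf hD hM1 hD1).2 hfpfG⟩, ?_, ?_⟩
  · intro hG
    have hNs : Group.IsSolvable N := inferInstance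
    exact isSolvable_of_orderType_tower (fun m => (hT m).symm) π N hNpi hNs
      (isPiClosedG_union_large hM hD hM1 hfpfG hG)
  · intro hF
    exact isSolvable_of_orderType_tower hT π M hM hMs
      (isPiClosedG_union_large hNpi hc hN1 hfpfF hF)

end CfsgLib.FGS
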