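import Cfsg.Agent.Lib.OrderType.Basic
import Cfsg.Agent.Lib.Solvable.FrobeniusTheorem
import Cfsg.Agent.Lib.Solvable.FrobeniusComplement
import Cfsg.Agent.Lib.Solvable.UniqueSubgroup
import Cfsg.Agent.Lib.Solvable.MinimalNormal
import Cfsg.Agent.Lib.Char.Burnside
import Cfsg.Agent.Lib.FGS.FPFConj

/-!
Groups with the order type of a Frobenius group: the large primes of a solvable group with small
Sylow subgroups form a tower, and solvability is an order type invariant of Frobenius groups.
-/

set_option autoImplicit false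

open CfsgLib.OrderType

namespace CfsgLib.FGS

/-- All Sylow subgroups are cyclic, except that for `p = 2` a cyclic subgroup of index two suffices. -/
def HasSmallSylows (X : Type*) [Group X] : Prop :=
  ∀ p : ℕ, p.Prime → ∀ P : Sylow p X, ∃ g ∈ (P : Subgroup X),
    (p ≠ 2 → ∀ x ∈ (P : Subgroup X), x ∈ Subgroup.zpowers g) ∧
    ∀ x ∈ (P : Subgroup X), ∀ y ∈ (P : Subgroup X),
      x ∈ Subgroup.zpowers g ∨ y ∈ Subgroup.zpowers g ∨ x * y ∈ Subgroup.zpowers g

theorem hasSmallSylows_of_surjective {X Y : Type*} [Group X] [Group Y] [Finite X]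
    (f : X →* Y) (hf : Function.Surjective f) (h : HasSmallSylows X) : HasSmallSylows Y := by
  intro p hp P'
  haveI := Fact.mk hp
  haveI : Finite Y := Finite.of_surjective f hf
  obtain ⟨P, rfl⟩ := Sylow.mapSurjective_surjective hf p P'
  obtain ⟨g, hg, h1, h2⟩ := h p hp P
  have hz : ∀ x, x ∈ Subgroup.zpowers g → f x ∈ Subgroup.zpowers (f g) := by
    intro x hx
    rw [← MonoidHom.map_zpowers]
    exact Subgroup.mem_map_of_mem f hx
  rw [Sylow.coe_mapSurjective]
  refine ⟨f g, Subgroup.mem_map_of_mem f hg, fun hp2 => ?_, ?_⟩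
  · rintro _ ⟨x, hx, rfl⟩
    exact hz x (h1 hp2 x hx)
  · rintro _ ⟨x, hx, rfl⟩ _ ⟨y, hy, rfl⟩
    rw [← map_mul]
    exact (h2 x hx y hy).imp (hz x) (Or.imp (hz y) (hz _))

theorem exponent_cyclic_card_dvd {X : Type*} [Group X] (M : Subgroup X) [IsCyclic M] (s : ℕ)
    (he : ∀ x ∈ M, x ^ s = 1) : Nat.card M ∣ s := by
  obtain ⟨z, hz⟩ := IsCyclic.exists_ofOrder_eq_natCard (α := M)
  rw [← hz]
  exact orderOf_dvd_of_pow_eq_one (Subtype.ext (he z z.2))

/-- A minimal normal elementary abelian subgroup of a group with small Sylow subgroups is small. -/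
theorem card_le_of_hasSmallSylows {X : Type*} [Group X] [Finite X] (h : HasSmallSylows X)
    {s : ℕ} (hs : s.Prime) (N : Subgroup X) (he : ∀ x ∈ N, x ^ s = 1) :
    Nat.card N ≤ max s 4 := by
  classical
  haveI := Fact.mk hs
  obtain ⟨P, hP⟩ := (IsPGroup.iff_orderOf.2 fun x : N => by
    have hd : orderOf x ∣ s ^ 1 := by
      rw [pow_one]; exact orderOf_dvd_of_pow_eq_one (Subtype.ext (he x x.2))
    obtain ⟨i, -, hi⟩ := (Nat.dvd_prime_pow hs).1 hd
    exact ⟨i, hi⟩).exists_le_sylow
  obtain ⟨g, hg, h1, h2⟩ := h s hs P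
  set M := N ⊓ Subgroup.zpowers g with hM
  haveI : IsCyclic M := Subgroup.isCyclic_of_le inf_le_right
  have hMc : Nat.card M ≤ s :=
    Nat.le_of_dvd hs.pos (exponent_cyclic_card_dvd M s fun x hx => he x hx.1)
  by_cases hs2 : s = 2
  · subst hs2
    by_cases hsub : N ≤ Subgroup.zpowers g
    · have : M = N := inf_eq_left.2 hsub
      rw [← this]; omega
    obtain ⟨x₀, hx₀, hx₀g⟩ := SetLike.not_le_iff_exists.1 hsub
    have hmem : ∀ x ∈ N, x ∉ Subgroup.zpowers g → x₀ * x ∈ M := fun x hx hxg =>
      Subgroup.mem_inf.2 ⟨mul_mem hx₀ hx,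
        ((h2 x₀ (hP hx₀) x (hP hx)).resolve_left hx₀g).resolve_left hxg⟩
    let j : N → Bool × M := fun x => if hx : (x : X) ∈ Subgroup.zpowers g
      then (false, ⟨x, Subgroup.mem_inf.2 ⟨x.2, hx⟩⟩)
      else (true, ⟨x₀ * x, hmem x x.2 hx⟩)
    have hj : Function.Injective j := by
      intro x y hxy
      simp only [j] at hxy
      split_ifs at hxy
      · simp only [Prod.mk.injEq, Subtype.mk.injEq, true_and] at hxy
        exact Subtype.ext hxy
      · simp at hxy
      · simp at hxy
      · simp only [Prod.mk.injEq, Subtype.mk.injEq, true_and, mul_right_inj] at hxy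
        exact Subtype.ext hxy
    have := Nat.card_le_card_of_injective j hj
    rw [Nat.card_prod] at this
    have hb : Nat.card Bool = 2 := by simp
    rw [hb] at this
    omega
  · have : M = N := inf_eq_left.2 fun x hx => h1 hs2 x (hP hx)
    rw [← this]; omega

/-- In a solvable group with small Sylow subgroups the elements built from primes at least `r`
form a subgroup, for every `r ≥ 5`. -/
theorem isPiClosedG_large_aux : ∀ (n : ℕ) {X : Type*} [Group X] [Finite X],
    Nat.card X = n → Group.IsSolvable X → HasSmallSylows X → ∀ r : ℕ, 5 ≤ r →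
      IsPiClosedG {q | r ≤ q} X := by
  intro n
  induction n using Nat.strong_induction_on with
  | _ n ih =>
    intro X _ _ hn hsolv hsm r hr
    haveI := hsolv
    rcases subsingleton_or_nontrivial X with hX | hX
    · refine ⟨⊥, Set.ext fun x => ⟨fun _ q hq hd => ?_, fun _ => Subsingleton.elim x 1 ▸ one_mem _⟩⟩
      rw [Subsingleton.elim x 1, orderOf_one] at hd
      exact absurd (Nat.dvd_one.1 hd) hq.ne_one
    obtain ⟨N, hNn, hN1, hmin⟩ := CfsgLib.Solvable.exists_minimal_normal (G := X)
    haveI := hNn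
    obtain ⟨s, hs, he⟩ :=
      CfsgLib.Solvable.exists_prime_pow_eq_one_of_minimal_normal N hN1 hmin inferInstance
    have hsmall := card_le_of_hasSmallSylows hsm hs N he
    have hlt : Nat.card (X ⧸ N) < n := hn ▸ CfsgLib.Solvable.card_quotient_lt N hN1
    obtain ⟨Kb, hKb⟩ := ih _ hlt (X := X ⧸ N) rfl inferInstance
      (hasSmallSylows_of_surjective _ (QuotientGroup.mk'_surjective N) hsm) r hr
    set E := Kb.comap (QuotientGroup.mk' N) with hE
    haveI : Kb.Normal := normal_of_eq_piElts hKb
    have hNprimes : ∀ q : ℕ, q.Prime → q ∣ Nat.card N → q = s := by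
      intro q hq hd
      haveI := Fact.mk hq
      obtain ⟨x, hx⟩ := exists_prime_orderOf_dvd_card' q hd
      refine (Nat.prime_dvd_prime_iff_eq hq hs).1 (hx ▸ orderOf_dvd_of_pow_eq_one ?_)
      exact Subtype.ext (he x x.2)
    have hEidx : ∀ q : ℕ, q.Prime → q ∈ {q : ℕ | r ≤ q} → ¬ q ∣ E.index := by
      intro q hq hqr
      rw [hE, Subgroup.index_comap_of_surjective _ (QuotientGroup.mk'_surjective N)]
      exact not_dvd_index_of_eq hKb hq hqr
    have hEcard : Nat.card E = Nat.card Kb * Nat.card N := by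
      rw [hE, CfsgLib.Solvable.card_comap_mk', mul_comm]
    by_cases hsr : r ≤ s
    · refine ⟨E, eq_piElts E (fun q hq hd => ?_) hEidx⟩
      rw [hEcard] at hd
      rcases hq.dvd_mul.1 hd with hd | hd
      · exact prime_dvd_card_of_eq hKb hq hd
      · rw [hNprimes q hq hd]; exact hsr
    · have hNr : Nat.card N < r := by omega
      have hcent : ∀ x : X, x ∈ piElts {q | r ≤ q} X → ∀ m ∈ N, x * m = m * x := by
        intro x hx m hm
        let φ : MulAut N →* Equiv.Perm N :=
          { toFun := MulEquiv.toEquiv, map_one' := rfl, map_mul' := fun _ _ => rfl }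
        have h1 : orderOf (φ (MulAut.conjNormal x)) ∣ (Nat.card N).factorial :=
          Nat.card_perm (α := N) ▸ orderOf_dvd_natCard _
        have h2 : orderOf (φ (MulAut.conjNormal x)) ∣ orderOf x :=
          orderOf_map_dvd (φ.comp MulAut.conjNormal) x
        have h3 : φ (MulAut.conjNormal x) = 1 := by
          rw [← orderOf_eq_one_iff]
          by_contra hne
          obtain ⟨q, hq, hd⟩ := Nat.exists_prime_and_dvd hne
          have := (Nat.Prime.dvd_factorial hq).1 (hd.trans h1)
          have : r ≤ q := hx q hq (hd.trans h2)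
          omega
        have h4 := congrArg Subtype.val (Equiv.ext_iff.1 h3 ⟨m, hm⟩)
        change x * m * x⁻¹ = m at h4
        calc x * m = x * m * x⁻¹ * x := by group
          _ = m * x := by rw [h4]
      have hNE : N ≤ E := fun m hm => by
        rw [hE, Subgroup.mem_comap, QuotientGroup.mk'_apply, (QuotientGroup.eq_one_iff m).2 hm]
        exact one_mem _
      have hNE' : Nat.card (N.subgroupOf E) = Nat.card N :=
        Nat.card_congr (Subgroup.subgroupOfEquivOfLe hNE).toEquiv
      have hidx : (N.subgroupOf E).index = Nat.card Kb := by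
        have h := Subgroup.card_mul_index (N.subgroupOf E)
        rw [hNE', hEcard, mul_comm (Nat.card Kb)] at h
        exact Nat.eq_of_mul_eq_mul_left Nat.card_pos h
      obtain ⟨H, hH⟩ := Subgroup.exists_right_complement'_of_coprime (N := N.subgroupOf E) (by
        rw [hNE', hidx]
        refine Nat.coprime_of_dvd fun q hq h1 h2 => ?_
        have : r ≤ q := prime_dvd_card_of_eq hKb hq h2
        have := Nat.le_of_dvd Nat.card_pos h1
        omega)
      have hHc : Nat.card H = Nat.card Kb := by
        have h := hH.card_mul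
        rw [hNE', hEcard, mul_comm (Nat.card Kb)] at h
        exact Nat.eq_of_mul_eq_mul_left Nat.card_pos h
      have hHpi : ∀ h : E, h ∈ H → (h : X) ∈ piElts {q | r ≤ q} X := by
        intro h hh q hq hd
        rw [Subgroup.orderOf_coe] at hd
        exact prime_dvd_card_of_eq hKb hq
          (hHc ▸ hd.trans (Subgroup.orderOf_dvd_natCard H hh))
      refine ⟨H.map E.subtype, Set.ext fun x => ⟨?_, fun hx => ?_⟩⟩
      · rintro ⟨h, hh, rfl⟩
        exact hHpi h hh
      · have hxE : x ∈ E := by
          have : QuotientGroup.mk' N x ∈ (Kb : Set (X ⧸ N)) := by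
            rw [hKb]
            exact fun q hq hd => hx q hq (hd.trans (orderOf_map_dvd _ x))
          exact this
        obtain ⟨⟨⟨m, hm⟩, ⟨h, hh⟩⟩, hmh⟩ := hH.2 ⟨x, hxE⟩
        have hmh' : (m : X) * h = x := congrArg Subtype.val hmh
        have hc : (h : X) * m = m * h := hcent _ (hHpi h hh) _ hm
        have hm1 : (m : X) = 1 := by
          rw [← orderOf_eq_one_iff]
          by_contra hne
          obtain ⟨q, hq, hd⟩ := Nat.exists_prime_and_dvd hne
          have hqN : q ≤ Nat.card N :=
            Nat.le_of_dvd Nat.card_pos (hd.trans (Subgroup.orderOf_dvd_natCard N hm))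
          have e : (m : X) = x * (h : X)⁻¹ := by rw [← hmh']; group
          have hcomm : Commute x (h : X)⁻¹ := by
            refine Commute.inv_right ?_
            rw [← hmh']
            exact Commute.mul_left hc.symm (Commute.refl _)
          rw [e] at hd
          have hd' := hd.trans (hcomm.orderOf_mul_dvd_lcm.trans (Nat.lcm_dvd_mul _ _))
          rw [orderOf_inv] at hd'
          rcases hq.dvd_mul.1 hd' with h' | h'
          · have : r ≤ q := hx q hq h'
            omega
          · have : r ≤ q := hHpi h hh q hq h'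
            omega
        refine ⟨h, hh, ?_⟩
        rw [← hmh', hm1, one_mul]
        rfl

theorem isPiClosedG_large {X : Type*} [Group X] [Finite X] (hsolv : Group.IsSolvable X)
    (hsm : HasSmallSylows X) (r : ℕ) (hr : 5 ≤ r) : IsPiClosedG {q | r ≤ q} X :=
  isPiClosedG_large_aux _ rfl hsolv hsm r hr

/-- Sylow subgroups of a fixed-point-free group of automorphisms are small. -/
theorem hasSmallSylows_of_fpf {G : Type*} [Group G] [Finite G] {H K : Subgroup G} (hK : K ≠ ⊥)
    (hHK : H ≤ Subgroup.normalizer (K : Set G))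
    (hfpf : ∀ a ∈ H, a ≠ 1 → K ⊓ Subgroup.centralizer {a} = ⊥) : HasSmallSylows H := by
  intro p hp P
  haveI := Fact.mk hp
  set P' : Subgroup G := (P : Subgroup H).map H.subtype with hP'
  let e : (P : Subgroup H) ≃* P' :=
    (P : Subgroup H).equivMapOfInjective _ (Subgroup.subtype_injective H)
  have hle : P' ≤ H := Subgroup.map_subtype_le _
  have hu : ∀ x y : (P : Subgroup H), orderOf x = p → orderOf y = p → x ∈ Subgroup.zpowers y := by
    intro x y hx hy
    obtain ⟨i, hi⟩ := CfsgLib.Solvable.mem_zpowers_of_fpf_pGroup (P := P') hK (hle.trans hHK)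
      (CfsgLib.Solvable.fpf_mono hle hfpf) (P.isPGroup'.map _) (x := e x) (y := e y)
      (by rw [MulEquiv.orderOf_eq, hx]) (by rw [MulEquiv.orderOf_eq, hy])
    refine ⟨i, e.injective ?_⟩
    simpa using hi
  rcases CfsgLib.Solvable.isCyclic_or_quaternion P.isPGroup' hu with hc | ⟨rfl, n, ⟨q⟩⟩
  · obtain ⟨g, hg⟩ := hc
    have hall : ∀ x ∈ (P : Subgroup H), x ∈ Subgroup.zpowers (g : H) := fun x hx => by
      obtain ⟨i, hi⟩ := hg ⟨x, hx⟩
      exact ⟨i, congrArg Subtype.val hi⟩
    exact ⟨g, g.2, fun _ => hall, fun x hx y _ => Or.inl (hall x hx)⟩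
  · haveI : NeZero (2 ^ n) := ⟨by positivity⟩
    set g := q.symm (QuaternionGroup.a 1) with hg
    have ha : ∀ i, ((q.symm (QuaternionGroup.a i) : (P : Subgroup H)) : H) ∈ Subgroup.zpowers (g : H) := by
      intro i
      refine ⟨(i.val : ℤ), ?_⟩
      simp only [zpow_natCast, hg, ← SubmonoidClass.coe_pow, ← map_pow, QuaternionGroup.a_one_pow,
        ZMod.natCast_zmod_val]
    refine ⟨g, g.2, fun h => absurd rfl h, fun x hx y hy => ?_⟩
    rcases hqx : q ⟨x, hx⟩ with i | i
    · left
      have := ha i
      rwa [← hqx, q.symm_apply_apply] at this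
    rcases hqy : q ⟨y, hy⟩ with j | j
    · right; left
      have := ha j
      rwa [← hqy, q.symm_apply_apply] at this
    · right; right
      have hxy : q (⟨x, hx⟩ * ⟨y, hy⟩) = QuaternionGroup.a (((2 ^ n : ℕ) : ZMod (2 * 2 ^ n)) + j - i) := by
        rw [map_mul, hqx, hqy, QuaternionGroup.xa_mul_xa]
      have := ha (((2 ^ n : ℕ) : ZMod (2 * 2 ^ n)) + j - i)
      rwa [← hxy, q.symm_apply_apply] at this

/-- The tower of a solvable group with a fixed-point-free complement. -/
theorem isPiClosedG_union_large {F : Type*} [Group F] [Finite F] {π : Set ℕ} {N H : Subgroup F}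
    [N.Normal] (hN : (N : Set F) = piElts π F) (hc : Subgroup.IsComplement' N H) (hN1 : N ≠ ⊥)
    (hfpf : ∀ a ∈ H, a ≠ 1 → N ⊓ Subgroup.centralizer {a} = ⊥) (hsolv : Group.IsSolvable F)
    (r : ℕ) (hr : 5 ≤ r) : IsPiClosedG (π ∪ {q | r ≤ q}) F := by
  haveI := hsolv
  have hHN : H ≤ Subgroup.normalizer (N : Set F) := by
    rw [Subgroup.normalizer_eq_top]
    exact le_top
  have hsm : HasSmallSylows (F ⧸ N) :=
    hasSmallSylows_of_surjective ((QuotientGroup.mk' N).comp H.subtype) (fun x => by
      obtain ⟨g, rfl⟩ := QuotientGroup.mk'_surjective N x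
      obtain ⟨⟨⟨k, hk⟩, ⟨h, hh⟩⟩, hkh⟩ := hc.2 g
      refine ⟨⟨h, hh⟩, ?_⟩
      rw [← (show k * h = g from hkh), map_mul, QuotientGroup.mk'_apply N k,
        (QuotientGroup.eq_one_iff k).2 hk, one_mul]
      rfl) (hasSmallSylows_of_fpf hN1 hHN hfpf)
  obtain ⟨K, hK⟩ := isPiClosedG_large (X := F ⧸ N) inferInstance hsm r hr
  haveI := normal_of_eq_piElts hK
  refine ⟨K.comap (QuotientGroup.mk' N), eq_piElts _ (fun q hq hd => ?_) fun q hq hqr hd => ?_⟩
  · rw [CfsgLib.Solvable.card_comap_mk'] at hd
    rcases hq.dvd_mul.1 hd with h | h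
    · exact Or.inl (prime_dvd_card_of_eq hN hq h)
    · exact Or.inr (prime_dvd_card_of_eq hK hq h)
  · have hle : N ≤ K.comap (QuotientGroup.mk' N) := fun m hm => by
      rw [Subgroup.mem_comap, QuotientGroup.mk'_apply, (QuotientGroup.eq_one_iff m).2 hm]
      exact one_mem _
    rcases hqr with h | h
    · exact not_dvd_index_of_eq hN hq h (hd.trans (Subgroup.index_dvd_of_le hle))
    · rw [Subgroup.index_comap_of_surjective _ (QuotientGroup.mk'_surjective N)] at hd
      exact not_dvd_index_of_eq hK hq h hd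

theorem piElts_union_congr {G : Type*} [Group G] {π : Set ℕ} {r : ℕ}
    (h : ¬ (r.Prime ∧ r ∉ π)) :
    piElts (π ∪ {q | r ≤ q}) G = piElts (π ∪ {q | r + 1 ≤ q}) G := by
  ext g
  refine ⟨fun hg q hq hd => ?_, fun hg q hq hd => ?_⟩
  · rcases hg q hq hd with h' | h'
    · exact Or.inl h'
    · rcases (Set.mem_setOf.1 h').eq_or_lt with rfl | h'
      · exact Or.inl (by_contra fun hn => h ⟨hq, hn⟩)
      · exact Or.inr h'
  · exact (hg q hq hd).imp id fun h' => Set.mem_setOf.2 (by simp at h'; omega)

/-- Solvability from the order type and the tower. -/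
theorem isSolvable_of_orderType_tower {F G : Type*} [Group F] [Group G] [Finite F] [Finite G]
    (hT : ∀ m : ℕ, Nat.card {g : F // orderOf g = m} = Nat.card {h : G // orderOf h = m})
    (π : Set ℕ) (M : Subgroup G) (hM : (M : Set G) = piElts π G) (hMs : Group.IsSolvable M)
    (hF : ∀ r : ℕ, 5 ≤ r → IsPiClosedG (π ∪ {q | r ≤ q}) F) : Group.IsSolvable G := by
  have step : ∀ j r : ℕ, 5 ≤ r → r + j = Nat.card G + 5 →
      ∃ K : Subgroup G, (K : Set G) = piElts (π ∪ {q | r ≤ q}) G ∧ Group.IsSolvable K := by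
    intro j
    induction j with
    | zero =>
      intro r _ hr
      refine ⟨M, hM.trans (Set.ext fun g => ⟨fun hg q hq hd => Or.inl (hg q hq hd),
        fun hg q hq hd => ?_⟩), hMs⟩
      rcases hg q hq hd with h | h
      · exact h
      · have := Nat.le_of_dvd Nat.card_pos (hd.trans (orderOf_dvd_natCard g))
        simp only [Set.mem_setOf_eq] at h
        omega
    | succ j ih =>
      intro r hr hrj
      obtain ⟨K, hK, hKs⟩ := ih (r + 1) (by omega) (by omega)
      by_cases hc : r.Prime ∧ r ∉ π
      · have hins : insert r (π ∪ {q | r + 1 ≤ q}) = π ∪ {q | r ≤ q} := by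
          ext q
          simp only [Set.mem_insert_iff, Set.mem_union, Set.mem_setOf_eq]
          constructor
          · rintro (rfl | h | h)
            · exact Or.inr le_rfl
            · exact Or.inl h
            · exact Or.inr (by omega)
          · rintro (h | h)
            · exact Or.inr (Or.inl h)
            · by_cases e : q = r
              · exact Or.inl e
              · exact Or.inr (Or.inr (by omega))
        obtain ⟨K', L, -, hK', hL, Q, hQ, hLQ⟩ := isPiClosedG_insert hT r hc.1
          (π := π ∪ {q | r + 1 ≤ q}) (by simp [hc.2]) (by rw [hins]; exact hF r hr) ⟨K, hK⟩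
        obtain rfl : K' = K := SetLike.coe_injective (hK'.trans hK.symm)
        haveI := normal_of_eq_piElts hK
        haveI := Fact.mk hc.1
        refine ⟨L, by rw [hL, hins], ?_⟩
        subst hLQ
        exact isSolvable_sup_pGroup _ Q hKs hQ
      · exact ⟨K, hK.trans (piElts_union_congr hc).symm, hKs⟩
  obtain ⟨K, hK, hKs⟩ := step (Nat.card G) 5 le_rfl (by omega)
  haveI := normal_of_eq_piElts hK
  have hq : Group.IsSolvable (G ⧸ K) := by
    refine CfsgLib.Char.isSolvable_of_card_eq_pow_mul_pow Nat.prime_two Nat.prime_three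
      (a := K.index) (b := K.index) ?_
    rw [← Subgroup.index_eq_card]
    refine (Nat.dvd_iff_prime_pow_dvd_dvd _ _).2 fun q k hq hqk => ?_
    rcases Nat.eq_zero_or_pos k with rfl | hk
    · simp
    have h5 : q < 5 := by
      by_contra h
      exact not_dvd_index_of_eq hK hq (Or.inr (by simp; omega))
        ((dvd_pow_self q (by omega)).trans hqk)
    have hkle : k ≤ K.index :=
      ((Nat.lt_pow_self hq.one_lt).le.trans (Nat.le_of_dvd (Nat.pos_of_ne_zero Subgroup.index_ne_zero_of_finite) hqk))
    have h23 : q = 2 ∨ q = 3 := by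
      have := hq.two_le
      interval_cases q
      · exact Or.inl rfl
      · exact Or.inr rfl
      · exact absurd hq (by decide)
    rcases h23 with rfl | rfl
    · exact dvd_mul_of_dvd_left (pow_dvd_pow 2 hkle) _
    · exact dvd_mul_of_dvd_right (pow_dvd_pow 3 hkle) _
  exact Group.isSolvable_of_ker_le_range K.subtype (QuotientGroup.mk' K) (by simp)

/-- If each single prime of `s` is closed then so is `s`, with a solvable subgroup. -/
theorem exists_solvable_piElts_finset {G : Type*} [Group G] [Finite G] (s : Finset ℕ)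
    (hs : ∀ p ∈ s, p.Prime) (h : ∀ p ∈ s, IsPiClosedG {p} G) :
    ∃ M : Subgroup G, (M : Set G) = piElts (↑s : Set ℕ) G ∧ Group.IsSolvable M := by
  classical
  induction s using Finset.induction with
  | empty =>
    refine ⟨⊥, Set.ext fun g => ⟨?_, fun hg => ?_⟩, inferInstance⟩
    · intro hg q hq hd
      rw [SetLike.mem_coe, Subgroup.mem_bot] at hg
      rw [hg, orderOf_one] at hd
      exact absurd (Nat.dvd_one.1 hd) hq.ne_one
    · rw [SetLike.mem_coe, Subgroup.mem_bot, ← orderOf_eq_one_iff]
      by_contra hne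
      obtain ⟨q, hq, hd⟩ := Nat.exists_prime_and_dvd hne
      simpa using hg q hq hd
  | insert p s hps ih =>
    obtain ⟨M, hM, hMs⟩ := ih (fun q hq => hs q (Finset.mem_insert_of_mem hq))
      fun q hq => h q (Finset.mem_insert_of_mem hq)
    obtain ⟨P, hP⟩ := h p (Finset.mem_insert_self _ _)
    haveI := Fact.mk (hs p (Finset.mem_insert_self _ _))
    haveI := normal_of_eq_piElts hM
    haveI := normal_of_eq_piElts hP
    have hPp : IsPGroup p P := IsPGroup.of_card
      (Nat.eq_prime_pow_of_unique_prime_dvd Nat.card_pos.ne' fun {d} hd hdd =>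
        prime_dvd_card_of_eq hP hd hdd)
    refine ⟨M ⊔ P, eq_piElts _ (fun q hq hd => ?_) (fun q hq hqs hd => ?_),
      isSolvable_sup_pGroup M P hMs hPp⟩
    · have hd' : q ∣ Nat.card M * Nat.card P :=
        hd.trans (by
          rw [← Subgroup.relIndex_bot_left, ← Subgroup.relIndex_mul_relIndex ⊥ M (M ⊔ P) bot_le le_sup_left,
            Subgroup.relIndex_bot_left, Subgroup.relIndex_sup_left]
          exact Nat.mul_dvd_mul_left _ (Subgroup.relIndex_dvd_card _ _))
      rcases hq.dvd_mul.1 hd' with h' | h'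
      · exact Finset.mem_coe.2 (Finset.mem_insert_of_mem (Finset.mem_coe.1 (prime_dvd_card_of_eq hM hq h')))
      · rw [Set.mem_singleton_iff.1 (prime_dvd_card_of_eq hP hq h')]
        exact Finset.mem_coe.2 (Finset.mem_insert_self _ _)
    · rcases Finset.mem_insert.1 (Finset.mem_coe.1 hqs) with rfl | h'
      · exact not_dvd_index_of_eq hP hq (Set.mem_singleton _) (hd.trans (Subgroup.index_dvd_of_le le_sup_right))
      · exact not_dvd_index_of_eq hM hq (Finset.mem_coe.2 h') (hd.trans (Subgroup.index_dvd_of_le le_sup_left))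

end CfsgLib.FGS
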