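import Mathlib

/-!
The derived length of an iterated wreath product of cyclic groups of order `p`.
-/

set_option autoImplicit false

open scoped commutatorElement

namespace CfsgLib.FGS.SymmSylowLength

theorem map_subtype_derivedSeries_le {G : Type*} [Group G] (S : Subgroup G)
    (hS : S ≤ derivedSeries G 1) :
    ∀ i, (derivedSeries ↥S i).map S.subtype ≤ derivedSeries G (i + 1) := by
  intro i
  induction i with
  | zero => simpa [← MonoidHom.range_eq_map] using hS
  | succ i ih =>
    rw [derivedSeries_succ, derivedSeries_succ, Subgroup.map_commutator]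
    exact Subgroup.commutator_mono ih ih

/-- Wreathing with a nontrivial group raises the derived length. -/
theorem derivedSeries_wreath_ne_bot {D Q : Type*} [Group D] [Group Q] [Nontrivial Q] (i : ℕ)
    (h : derivedSeries D i ≠ ⊥) : derivedSeries (D ≀ᵣ Q) (i + 1) ≠ ⊥ := by
  classical
  let S : Subgroup (D ≀ᵣ Q) := derivedSeries (D ≀ᵣ Q) 1 ⊓ (RegularWreathProduct.rightHom).ker
  have hright : ∀ x : S, (x : D ≀ᵣ Q).right = 1 := fun x => x.2.2
  let ev : S →* D :=
    { toFun := fun x => (x : D ≀ᵣ Q).left 1
      map_one' := rfl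
      map_mul' := fun a b => by
        show ((a : D ≀ᵣ Q) * b).left 1 = _
        rw [RegularWreathProduct.mul_left, Pi.mul_apply, hright a, inv_one, one_mul] }
  obtain ⟨σ, hσ⟩ := exists_ne (1 : Q)
  have hev : Function.Surjective ev := by
    intro d
    let b : D ≀ᵣ Q := ⟨Function.update 1 1 d, 1⟩
    let s : D ≀ᵣ Q := RegularWreathProduct.inl σ
    have hmem : ⁅b, s⁆ ∈ S := by
      refine Subgroup.mem_inf.2 ⟨?_, ?_⟩
      · rw [derivedSeries_succ, derivedSeries_zero]
        exact Subgroup.commutator_mem_commutator (Subgroup.mem_top _) (Subgroup.mem_top _)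
      · rw [MonoidHom.mem_ker]
        show (⁅b, s⁆ : D ≀ᵣ Q).right = 1
        rw [commutatorElement_def]
        simp [b, s]
    refine ⟨⟨_, hmem⟩, ?_⟩
    show (⁅b, s⁆ : D ≀ᵣ Q).left 1 = d
    rw [commutatorElement_def]
    simp [b, s, Function.update_self, Function.update_of_ne, inv_ne_one.2 hσ]
  intro hbot
  apply h
  rw [← map_derivedSeries_eq hev i]
  have hS := map_subtype_derivedSeries_le S inf_le_left i
  rw [hbot, le_bot_iff, Subgroup.map_eq_bot_iff, Subgroup.ker_subtype, le_bot_iff] at hS
  rw [hS, Subgroup.map_bot]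

theorem derivedSeries_iterated_ne_bot (G : Type*) [Group G] [Nontrivial G] :
    ∀ k, derivedSeries (IteratedWreathProduct G (k + 1)) k ≠ ⊥ := by
  intro k
  induction k with
  | zero =>
    rw [derivedSeries_zero]
    obtain ⟨σ, hσ⟩ := exists_ne (1 : G)
    intro h
    have h1 : (RegularWreathProduct.inl σ : PUnit ≀ᵣ G) ∈
        (⊤ : Subgroup (IteratedWreathProduct G 1)) := Subgroup.mem_top _
    exact hσ (congrArg RegularWreathProduct.right (Subgroup.mem_bot.1 (h.le h1)))
  | succ k ih => exact derivedSeries_wreath_ne_bot (D := IteratedWreathProduct G (k + 1)) k ih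

end CfsgLib.FGS.SymmSylowLength
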