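import Cfsg.Agent.Lib.FGS.LinearPGroupLength
import Cfsg.Agent.Lib.FGS.SymmSylowLength

/-!
# Derived length of Sylow subgroups of `GL n F` in coprime characteristic
-/

set_option autoImplicit false
set_option linter.style.haveILetI false

namespace Cfsg.Agent.GLSylowLength

open CfsgLib.FGS.LinearPLength

section Upper

variable {P K V : Type*} [Group P] [Field K] [IsAlgClosed K] [AddCommGroup V] [Module K V]

/-- A p-group of linear maps commuting with a `q`-semilinear map has derived length at most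
`log_p (n / ord_p q) + 1`. -/
theorem derivedSeries_eq_bot_of_semilinear {p q : ℕ} [hp : Fact p.Prime] (hpK : (p : K) ≠ 0)
    [Finite P] (hP : IsPGroup p P) [FiniteDimensional K V] (f : P →* Module.End K V)
    (hf : Function.Injective f) {n : ℕ} (hn : Module.finrank K V ≤ n)
    (hpq : ¬ p ∣ q) (hen : orderOf (q : ZMod p) ≤ n) (σ : V → V)
    (hσ0 : ∀ v, σ v = 0 → v = 0) (hσf : ∀ g v, f g (σ v) = σ (f g v))
    (hσs : ∀ (c : K) v, σ (c • v) = c ^ q • σ v) :
    derivedSeries P (Nat.log p (n / orderOf (q : ZMod p)) + 1) = ⊥ := by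
  have := hP.isNilpotent
  obtain ⟨A, hAn, hAc, hAC⟩ :=
    CfsgLib.OddLocal.exists_selfCentralizing_abelian_normal (G := P)
  let φ : A → Module.End K V := fun a => f a
  have hcomm : ∀ a b : A, Commute (φ a) (φ b) := fun a b => by
    show f a * f b = f b * f a
    rw [← map_mul, ← map_mul]
    exact congrArg f (congrArg Subtype.val (hAc.is_comm.comm a b))
  obtain ⟨m, hm⟩ := IsPGroup.iff_card.1 hP
  have hNK : ((Nat.card P : ℕ) : K) ≠ 0 := by rw [hm, Nat.cast_pow]; exact pow_ne_zero _ hpK
  have hsemi : ∀ a : A, (φ a).IsSemisimple := by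
    intro a
    refine Module.End.isSemisimple_of_squarefree_aeval_eq_zero
      (p := Polynomial.X ^ Nat.card P - Polynomial.C 1)
      (Polynomial.separable_X_pow_sub_C _ hNK one_ne_zero).squarefree ?_
    rw [map_sub, map_pow, Polynomial.aeval_X, Polynomial.aeval_C, map_one, sub_eq_zero, ← map_pow,
      pow_card_eq_one', map_one]
  let E : (A → K) → Submodule K V := fun μ => ⨅ a, (φ a).eigenspace (μ a)
  have heig : ∀ μ : A → K, (⨅ a, (φ a).maxGenEigenspace (μ a)) = E μ := fun μ =>
    iInf_congr fun a =>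
      (Module.End.isFinitelySemisimple_iff_isSemisimple.mpr (hsemi a)).maxGenEigenspace_eq_eigenspace _
  have htop : ⨆ μ, E μ = ⊤ := by
    simp only [← heig]
    exact Module.End.iSup_iInf_maxGenEigenspace_eq_top_of_iSup_maxGenEigenspace_eq_top_of_commute φ
      (fun a b _ => hcomm a b) fun a => Module.End.iSup_maxGenEigenspace_eq_top (φ a)
  have hindep : iSupIndep E := by
    have h := Module.End.independent_iInf_maxGenEigenspace_of_forall_mapsTo φ (fun i j c =>
      Module.End.mapsTo_maxGenEigenspace_of_comm (hcomm j i) c)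
    simpa only [heig] using h
  haveI : Fintype {μ // E μ ≠ ⊥} := hindep.fintypeNeBotOfFiniteDimensional
  have hWcard : Nat.card {μ // E μ ≠ ⊥} ≤ n := by
    rw [Nat.card_eq_fintype_card]
    exact hindep.subtype_ne_bot_le_finrank.trans hn
  -- conjugation
  let cj : P → A → A := fun g a => ⟨g⁻¹ * a * g, by simpa using hAn.conj_mem a a.2 g⁻¹⟩
  have hmove : ∀ (g : P) (μ : A → K) (v : V), v ∈ E μ → f g v ∈ E (μ ∘ cj g) := by
    intro g μ v hv
    rw [Submodule.mem_iInf] at hv ⊢
    intro a
    rw [Module.End.mem_eigenspace_iff]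
    have h1 := Module.End.mem_eigenspace_iff.1 (hv (cj g a))
    show f a (f g v) = μ (cj g a) • f g v
    rw [← map_smul, ← h1]
    show f a (f g v) = f g (f (g⁻¹ * a * g) v)
    rw [← Module.End.mul_apply, ← Module.End.mul_apply, ← map_mul, ← map_mul]
    congr 2
    group
  have hmove' : ∀ (g : P) (μ : A → K), E μ ≠ ⊥ → E (μ ∘ cj g) ≠ ⊥ := by
    intro g μ hμ hbot
    obtain ⟨v, hv, hv0⟩ := Submodule.exists_mem_ne_zero_of_ne_bot hμ
    have h1 := hmove g μ v hv
    rw [hbot, Submodule.mem_bot] at h1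
    exact hv0 (by rw [← inv_apply_apply f g v, h1, map_zero])
  have hcjmul : ∀ (g h : P) (a : A), cj (g * h) a = cj h (cj g a) := fun g h a =>
    Subtype.ext (by simp only [cj]; group)
  have hcj1 : ∀ a : A, cj 1 a = a := fun a => Subtype.ext (by simp [cj])
  let St : (A → K) → Subgroup P := fun μ =>
    { carrier := {g | ∀ a, μ (cj g a) = μ a}
      one_mem' := fun a => by rw [hcj1]
      mul_mem' := fun {g h} hg hh a => by rw [hcjmul, hh, hg]
      inv_mem' := fun {g} hg a => by
        rw [← hg (cj g⁻¹ a), ← hcjmul, inv_mul_cancel, hcj1] }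
  set e := orderOf (q : ZMod p) with he
  have hq0 : (q : ZMod p) ≠ 0 := fun h => hpq ((ZMod.natCast_eq_zero_iff _ _).1 h)
  have he1 : 0 < e := by
    rw [he]
    exact orderOf_pos_iff.2 (isOfFinOrder_iff_pow_eq_one.2
      ⟨p - 1, by have := hp.out.two_le; omega, ZMod.pow_card_sub_one_eq_one hq0⟩)
  have hep : e.Coprime (Nat.card P) := by
    rw [hm]
    refine Nat.Coprime.pow_right _ (Nat.Coprime.symm ?_)
    refine (hp.out.coprime_iff_not_dvd).2 fun hd => ?_
    have h1 : e ∣ p - 1 := orderOf_dvd_of_pow_eq_one (ZMod.pow_card_sub_one_eq_one hq0)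
    have := hp.out.two_le
    have := Nat.le_of_dvd (by omega) (hd.trans h1)
    omega
  have hqN : ∀ i, (q ^ i).Coprime (Nat.card P) := by
    intro i
    rw [hm]
    exact Nat.Coprime.pow _ _ ((hp.out.coprime_iff_not_dvd.2 hpq).symm)
  have hroot : ∀ μ, E μ ≠ ⊥ → ∀ a, μ a ^ Nat.card P = 1 := by
    intro μ hμ a
    obtain ⟨v, hv, hv0⟩ := Submodule.exists_mem_ne_zero_of_ne_bot hμ
    rw [Submodule.mem_iInf] at hv
    have h1 : ((φ a) ^ Nat.card P) v = μ a ^ Nat.card P • v :=
      (Module.End.HasEigenvector.pow_apply ⟨hv a, hv0⟩ _)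
    have h2 : (φ a) ^ Nat.card P = 1 := by
      show f a ^ Nat.card P = 1
      rw [← map_pow, pow_card_eq_one', map_one]
    rw [h2, Module.End.one_apply] at h1
    by_contra hne
    have h3 : (μ a ^ Nat.card P - 1) • v = 0 := by rw [sub_smul, one_smul, ← h1, sub_self]
    rcases smul_eq_zero.1 h3 with h | h
    · exact hne (sub_eq_zero.1 h)
    · exact hv0 h
  have hfrob : ∀ μ, E μ ≠ ⊥ → E (fun a => μ a ^ q) ≠ ⊥ := by
    intro μ hμ hbot
    obtain ⟨v, hv, hv0⟩ := Submodule.exists_mem_ne_zero_of_ne_bot hμ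
    have : σ v ∈ E (fun a => μ a ^ q) := by
      rw [Submodule.mem_iInf] at hv ⊢
      intro a
      rw [Module.End.mem_eigenspace_iff]
      show f a (σ v) = μ a ^ q • σ v
      rw [hσf, show f a v = μ a • v from Module.End.mem_eigenspace_iff.1 (hv a), hσs]
    rw [hbot, Submodule.mem_bot] at this
    exact hv0 (hσ0 v this)
  have hfrobi : ∀ μ, E μ ≠ ⊥ → ∀ i, E (fun a => μ a ^ q ^ i) ≠ ⊥ := by
    intro μ hμ i
    induction i with
    | zero => simpa using hμ
    | succ i ih =>
      have h1 := hfrob _ ih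
      simpa [← pow_mul, ← pow_succ] using h1
  have hpowinj : ∀ (i : ℕ) (z w : K), z ^ Nat.card P = 1 → w ^ Nat.card P = 1 →
      z ^ q ^ i = w ^ q ^ i → z = w := by
    intro i z w hz hw hzw
    have hw0 : w ≠ 0 := fun h => by simp [h, zero_pow Nat.card_pos.ne'] at hw
    have h1 : (z / w) ^ Nat.card P = 1 := by rw [div_pow, hz, hw, div_one]
    have h2 : (z / w) ^ q ^ i = 1 := by rw [div_pow, hzw, div_self (pow_ne_zero _ hw0)]
    have h3 := pow_gcd_eq_one.2 ⟨h2, h1⟩
    rw [hqN i, pow_one, div_eq_one_iff_eq hw0] at h3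
    exact h3
  have horbit : ∀ μ, E μ ≠ ⊥ → ∀ a₀, μ a₀ ≠ 1 → ∀ (g : P) (i : ℕ),
      (∀ a, μ (cj g a) = μ a ^ q ^ i) → e ∣ i := by
    intro μ hμ a₀ ha₀ g i hg
    have hiter : ∀ (t : ℕ) (a : A), μ (cj (g ^ t) a) = μ a ^ q ^ (i * t) := by
      intro t
      induction t with
      | zero => intro a; rw [pow_zero, hcj1, mul_zero, pow_zero, pow_one]
      | succ t ih =>
        intro a
        rw [pow_succ', hcjmul, ih, hg, ← pow_mul, ← pow_add, Nat.mul_succ, Nat.add_comm]
    set z := μ a₀ with hz
    set N := Nat.card P with hN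
    have hzq : z ^ q ^ (i * N) = z := by
      rw [hz, ← hiter, hN, pow_card_eq_one', hcj1]
    have hz0 : z ≠ 0 := fun h => by
      have := hroot μ hμ a₀
      rw [← hz, h, zero_pow Nat.card_pos.ne'] at this
      exact one_ne_zero this.symm
    have hq1 : 1 ≤ q ^ (i * N) := Nat.one_le_pow _ _ (Nat.pos_of_ne_zero fun h => hpq (h ▸ dvd_zero p))
    have h1 : z ^ (q ^ (i * N) - 1) = 1 := by
      have : z ^ (q ^ (i * N) - 1) * z = 1 * z := by
        rw [← pow_succ, Nat.sub_add_cancel hq1, hzq, one_mul]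
      exact mul_right_cancel₀ hz0 this
    have h2 := pow_gcd_eq_one.2 ⟨h1, hroot μ hμ a₀⟩
    have hpd : p ∣ q ^ (i * N) - 1 := by
      by_contra hnd
      have hc : (q ^ (i * N) - 1).Coprime (p ^ m) :=
        Nat.Coprime.pow_right _ (hp.out.coprime_iff_not_dvd.2 hnd).symm
      rw [← hm] at hc
      rw [hc.gcd_eq_one, pow_one] at h2
      exact ha₀ h2
    have h3 : (q : ZMod p) ^ (i * N) = 1 := by
      have h4 := (ZMod.natCast_eq_zero_iff _ p).2 hpd
      rw [Nat.cast_sub hq1, Nat.cast_one, sub_eq_zero, Nat.cast_pow] at h4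
      exact h4
    exact hep.dvd_of_dvd_mul_right (orderOf_dvd_of_pow_eq_one h3)
  have hidx : ∀ μ, E μ ≠ ⊥ → (St μ).index ≤ n / e := by
    intro μ hμ
    by_cases htriv : ∀ a, μ a = 1
    · have : St μ = ⊤ := by
        rw [eq_top_iff]
        intro g _ a
        rw [htriv, htriv]
      rw [this, Subgroup.index_top]
      exact (Nat.one_le_div_iff he1).2 hen
    push Not at htriv
    obtain ⟨a₀, ha₀⟩ := htriv
    rw [Nat.le_div_iff_mul_le he1]
    refine le_trans ?_ hWcard
    rw [Subgroup.index_eq_card, ← Nat.card_fin e, ← Nat.card_prod]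
    let w : P → Fin e → {μ // E μ ≠ ⊥} := fun g i =>
      ⟨fun a => μ (cj g a) ^ q ^ (i : ℕ), hfrobi _ (hmove' g μ hμ) i⟩
    refine Nat.card_le_card_of_injective
      (fun x : (P ⧸ St μ) × Fin e => Quotient.liftOn' x.1 (fun g => w g x.2) (fun x y hxy => ?_)) ?_
    · rw [QuotientGroup.leftRel_apply] at hxy
      refine Subtype.ext (funext fun a => ?_)
      show μ (cj x a) ^ _ = μ (cj y a) ^ _
      rw [show cj y a = cj (x⁻¹ * y) (cj x a) by rw [← hcjmul, mul_inv_cancel_left]]
      rw [(hxy (cj x a))]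
    · rintro ⟨q₁, i⟩ ⟨q₂, j⟩
      induction q₁ using Quotient.inductionOn' with
      | h x =>
        induction q₂ using Quotient.inductionOn' with
        | h y =>
          intro h
          have h' : ∀ a, μ (cj x a) ^ q ^ (i : ℕ) = μ (cj y a) ^ q ^ (j : ℕ) := fun a =>
            congrFun (congrArg Subtype.val h) a
          have key : ∀ (x y : P) (i j : ℕ), i ≤ j → j < e →
              (∀ a, μ (cj x a) ^ q ^ i = μ (cj y a) ^ q ^ j) → i = j ∧ x⁻¹ * y ∈ St μ := by
            intro x y i j hij hje hxy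
            obtain ⟨d, rfl⟩ := Nat.exists_eq_add_of_le hij
            have h1 : ∀ a, μ (cj x a) = μ (cj y a) ^ q ^ d := fun a => by
              refine hpowinj i _ _ (hroot μ hμ _) ?_ ?_
              · rw [← pow_mul, mul_comm, pow_mul, hroot μ hμ, one_pow]
              · rw [hxy, ← pow_mul, ← pow_add, Nat.add_comm]
            have h2 : ∀ a, μ (cj (y⁻¹ * x) a) = μ a ^ q ^ d := fun a => by
              rw [hcjmul, h1, ← hcjmul, inv_mul_cancel, hcj1]
            have hd : d = 0 := Nat.eq_zero_of_dvd_of_lt (horbit μ hμ a₀ ha₀ _ d h2) (by omega)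
            subst hd
            refine ⟨rfl, ?_⟩
            have : y⁻¹ * x ∈ St μ := fun a => by rw [h2, pow_zero, pow_one]
            simpa using (St μ).inv_mem this
          rcases le_total (i : ℕ) (j : ℕ) with hle | hle
          · obtain ⟨h1, h2⟩ := key x y i j hle j.2 h'
            exact Prod.ext (Quotient.sound' (QuotientGroup.leftRel_apply.2 h2)) (Fin.ext h1)
          · obtain ⟨h1, h2⟩ := key y x j i hle i.2 (fun a => (h' a).symm)
            refine Prod.ext (Quotient.sound' (QuotientGroup.leftRel_apply.2 ?_)) (Fin.ext h1.symm)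
            simpa using (St μ).inv_mem h2
  rw [eq_bot_iff, derivedSeries_succ]
  have hDA : derivedSeries P (Nat.log p (n / e)) ≤ A := by
    intro g hg
    rw [← hAC, Subgroup.mem_centralizer_iff]
    intro a ha
    have key : f (cj g ⟨a, ha⟩) = f a := by
      refine LinearMap.ext fun v => ?_
      have hv : v ∈ ⨆ μ, E μ := htop ▸ Submodule.mem_top
      induction hv using Submodule.iSup_induction' with
      | mem μ w hw =>
        rcases eq_or_ne (E μ) ⊥ with h | h
        · rw [h, Submodule.mem_bot] at hw; simp [hw]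
        · have hst : g ∈ St μ := derivedSeries_le_of_index_le hP (St μ) (hidx μ h) hg
          rw [Submodule.mem_iInf] at hw
          show φ (cj g ⟨a, ha⟩) w = φ ⟨a, ha⟩ w
          rw [Module.End.mem_eigenspace_iff.1 (hw _), Module.End.mem_eigenspace_iff.1 (hw _),
            hst ⟨a, ha⟩]
      | zero => simp
      | add x y _ _ hx hy => simp [hx, hy]
    have h3 : g⁻¹ * a * g = a := hf key
    calc a * g = g * (g⁻¹ * a * g) := by group
      _ = g * a := by rw [h3]
  refine (Subgroup.commutator_mono hDA hDA).trans ?_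
  exact (Subgroup.commutator_eq_bot_iff_le_centralizer.2 hAC.ge).le

end Upper

section Lower

/-- Block monomial embedding of a wreath product. -/
theorem exists_wreath_end {D Q F : Type*} [Group D] [Group Q] [Finite Q] [Field F] {m : ℕ}
    (hm : 0 < m) (ρ : D →* Module.End F (Fin m → F)) (hρ : Function.Injective ρ) :
    ∃ f : D ≀ᵣ Q →* Module.End F (Fin (Nat.card Q * m) → F), Function.Injective f := by
  classical
  let ψ : D ≀ᵣ Q →* Module.End F (Q → Fin m → F) :=
    { toFun := fun w => LinearMap.pi fun i => (ρ (w.left i)).comp (LinearMap.proj (w.right⁻¹ * i))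
      map_one' := by ext x i; simp
      map_mul' := fun a b => by
        refine LinearMap.ext fun x => funext fun i => ?_
        simp [RegularWreathProduct.mul_left, RegularWreathProduct.mul_right, mul_assoc] }
  have hψ : Function.Injective ψ := by
    rw [injective_iff_map_eq_one]
    intro w hw
    have h : ∀ (x : Q → Fin m → F) (i : Q), ρ (w.left i) (x (w.right⁻¹ * i)) = x i := fun x i =>
      congrFun (LinearMap.congr_fun hw x) i
    have hr : w.right = 1 := by
      by_contra hne
      haveI : NeZero m := ⟨hm.ne'⟩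
      have h1 := h (Pi.single 1 1) 1
      have hne' : w.right⁻¹ * 1 ≠ 1 := by simpa using hne
      rw [Pi.single_eq_of_ne hne', Pi.single_eq_same, map_zero] at h1
      exact one_ne_zero (α := F) (congrFun h1 0).symm
    refine RegularWreathProduct.ext (funext fun i => hρ ?_) hr
    refine LinearMap.ext fun v => ?_
    have h1 := h (fun _ => v) i
    simpa using h1
  have hfin : Module.finrank F (Q → Fin m → F) = Nat.card Q * m := by
    haveI := Fintype.ofFinite Q
    rw [Module.finrank_pi_fintype]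
    simp [Nat.card_eq_fintype_card]
  let L : (Q → Fin m → F) ≃ₗ[F] (Fin (Nat.card Q * m) → F) :=
    LinearEquiv.ofFinrankEq _ _ (by rw [hfin, Module.finrank_fin_fun])
  exact ⟨L.conjRingEquiv.toMonoidHom.comp ψ, L.conjRingEquiv.injective.comp hψ⟩

theorem exists_iterated_end {C F : Type*} [Group C] [Finite C] [Field F] {e : ℕ} (he : 0 < e)
    (ρ : C →* Module.End F (Fin e → F)) (hρ : Function.Injective ρ) :
    ∀ k, ∃ f : IteratedWreathProduct C (k + 1) →*
      Module.End F (Fin (Nat.card C ^ k * e) → F), Function.Injective f := by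
  intro k
  induction k with
  | zero =>
    have hinj : Function.Injective (RegularWreathProduct.rightHom (D := PUnit) (Q := C)) :=
      fun a b h => RegularWreathProduct.ext (funext fun _ => rfl) h
    rw [pow_zero, one_mul]
    exact ⟨ρ.comp RegularWreathProduct.rightHom, hρ.comp hinj⟩
  | succ k ih =>
    obtain ⟨f, hf⟩ := ih
    obtain ⟨g, hg⟩ := exists_wreath_end (Q := C) (Nat.mul_pos (pow_pos Nat.card_pos k) he) f hf
    rw [pow_succ', mul_assoc]
    exact ⟨g, hg⟩

theorem exists_pad {G F : Type*} [Group G] [Field F] {m n : ℕ} (hmn : m ≤ n)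
    (f : G →* Module.End F (Fin m → F)) (hf : Function.Injective f) :
    ∃ g : G →* Module.End F (Fin n → F), Function.Injective g := by
  let L : ((Fin m → F) × (Fin (n - m) → F)) ≃ₗ[F] (Fin n → F) :=
    LinearEquiv.ofFinrankEq _ _ (by simp [Module.finrank_prod]; omega)
  let pad : G →* Module.End F ((Fin m → F) × (Fin (n - m) → F)) :=
    { toFun := fun x => LinearMap.prodMap (f x) 1
      map_one' := by ext <;> simp
      map_mul' := fun a b => by ext <;> simp }
  refine ⟨L.conjRingEquiv.toMonoidHom.comp pad, L.conjRingEquiv.injective.comp fun a b h => hf ?_⟩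
  refine LinearMap.ext fun v => ?_
  exact congrArg Prod.fst (LinearMap.congr_fun h (v, 0))

end Lower

end Cfsg.Agent.GLSylowLength
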