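import Mathlib

/-!
# Half-transitive groups with a regular normal subgroup

If the stabiliser `H` acts on the nonidentity elements of the regular normal subgroup `N` with
orbits of one size and not freely, then every stabiliser fixes the whole `N`-class of each of its
fixed points, so `N` is abelian, and no proper nontrivial subgroup of `N` is `H`-invariant.
-/

set_option autoImplicit false

namespace CfsgLib.FGS.HalfTransitive

open Subgroup

variable {G : Type*} [Group G] [Finite G]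

/-- The abstract setting. -/
structure Setting (N H : Subgroup G) : Prop where
  normal : N.Normal
  card_eq : ∀ x ∈ N, ∀ y ∈ N, x ≠ 1 → y ≠ 1 →
    Nat.card (H ⊓ centralizer ({x} : Set G) : Subgroup G) =
      Nat.card (H ⊓ centralizer ({y} : Set G) : Subgroup G)
  ne_bot : ∀ x ∈ N, x ≠ 1 → (H ⊓ centralizer ({x} : Set G) : Subgroup G) ≠ ⊥
  faithful : ∀ h ∈ H, (∀ n ∈ N, h * n = n * h) → h = 1

/-- The setting from a permutation group. -/
theorem setting_of_action {Ω : Type*} [MulAction G Ω] [FaithfulSMul G Ω] [Finite Ω]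
    (hhalf : ∀ a b c : Ω, b ≠ a → c ≠ a →
      Nat.card (MulAction.orbit (MulAction.stabilizer G a) b) =
        Nat.card (MulAction.orbit (MulAction.stabilizer G a) c))
    (N : Subgroup G) [hN : N.Normal] (hNt : MulAction.IsPretransitive N Ω)
    (hNr : ∀ a : Ω, MulAction.stabilizer N a = ⊥) {a₀ b₀ : Ω} (hab : a₀ ≠ b₀)
    (hst : MulAction.stabilizer G a₀ ⊓ MulAction.stabilizer G b₀ ≠ ⊥) :
    Setting N (MulAction.stabilizer G a₀) := by
  set H := MulAction.stabilizer G a₀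
  have hinj : ∀ x ∈ N, x • a₀ = a₀ → x = 1 := fun x hx h => by
    have : (⟨x, hx⟩ : N) ∈ MulAction.stabilizer N a₀ := h
    rw [hNr, mem_bot] at this
    exact congrArg Subtype.val this
  have hfix : ∀ x ∈ N, ∀ h ∈ H, (h • (x • a₀) = x • a₀ ↔ h * x = x * h) := by
    intro x hx h hh
    constructor
    · intro he
      have h1 : (x⁻¹ * (h * x * h⁻¹)) • a₀ = a₀ := by
        rw [mul_smul, mul_smul, mul_smul, MulAction.mem_stabilizer_iff.mp (inv_mem hh), he,
          inv_smul_smul]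
      have h2 := hinj _ (mul_mem (inv_mem hx) (hN.conj_mem x hx h)) h1
      rw [inv_mul_eq_one] at h2
      exact (mul_inv_eq_iff_eq_mul.mp h2.symm)
    · intro he
      rw [← mul_smul, he, mul_smul, MulAction.mem_stabilizer_iff.mp hh]
  have hsurj : ∀ b : Ω, ∃ x ∈ N, x • a₀ = b := fun b => by
    obtain ⟨n, hn⟩ := hNt.exists_smul_eq a₀ b
    exact ⟨n, n.2, hn⟩
  have hne : ∀ x ∈ N, x ≠ 1 → x • a₀ ≠ a₀ := fun x hx hx1 h => hx1 (hinj x hx h)
  -- orbit times stabiliser
  have hcount : ∀ x ∈ N, Nat.card (MulAction.orbit H (x • a₀)) *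
      Nat.card (H ⊓ centralizer ({x} : Set G) : Subgroup G) = Nat.card H := by
    intro x hx
    have h1 : Nat.card (MulAction.stabilizer H (x • a₀)) =
        Nat.card (H ⊓ centralizer ({x} : Set G) : Subgroup G) := Nat.card_congr
      { toFun := fun h => ⟨h.1, mem_inf.mpr ⟨h.1.2, mem_centralizer_singleton_iff.mpr
          ((hfix x hx _ h.1.2).mp h.2)⟩⟩
        invFun := fun h => ⟨⟨h.1, (mem_inf.mp h.2).1⟩, (hfix x hx _ (mem_inf.mp h.2).1).mpr
          (mem_centralizer_singleton_iff.mp (mem_inf.mp h.2).2)⟩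
        left_inv := fun h => rfl
        right_inv := fun h => rfl }
    rw [← h1, Nat.card_coe_set_eq, ← MulAction.index_stabilizer, index_mul_card]
  have hcard : ∀ x ∈ N, ∀ y ∈ N, x ≠ 1 → y ≠ 1 →
      Nat.card (H ⊓ centralizer ({x} : Set G) : Subgroup G) =
        Nat.card (H ⊓ centralizer ({y} : Set G) : Subgroup G) := by
    intro x hx y hy hx1 hy1
    have h1 := hcount x hx
    rw [hhalf a₀ _ _ (hne x hx hx1) (hne y hy hy1), ← hcount y hy] at h1
    refine Nat.eq_of_mul_eq_mul_left ?_ h1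
    have : Nonempty (MulAction.orbit H (y • a₀)) := ⟨⟨_, MulAction.mem_orbit_self _⟩⟩
    exact Nat.card_pos
  refine ⟨hN, hcard, fun x hx hx1 hbot => ?_, fun h hh hc => ?_⟩
  · obtain ⟨y, hy, rfl⟩ := hsurj b₀
    have hy1 : y ≠ 1 := fun e => hab (by rw [e, one_smul])
    have h1 := hcard x hx y hy hx1 hy1
    rw [hbot, card_bot, eq_comm, card_eq_one] at h1
    refine hst (eq_bot_iff.mpr fun g hg => ?_)
    rw [← h1]
    exact mem_inf.mpr ⟨(mem_inf.mp hg).1, mem_centralizer_singleton_iff.mpr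
      ((hfix y hy g (mem_inf.mp hg).1).mp (mem_inf.mp hg).2)⟩
  · refine eq_of_smul_eq_smul (α := Ω) fun b => ?_
    obtain ⟨n, hn, rfl⟩ := hsurj b
    rw [one_smul]
    exact (hfix n hn h hh).mpr (hc n hn)

namespace Setting

variable {N H : Subgroup G}

/-- A set with its full stabilisers inside `L`, of cardinality prime to the orbit length, is
fixed pointwise by `L`. -/
theorem fixed_of_coprime (S : Setting N H) {C : Set G} (hCN : ∀ c ∈ C, c ∈ N ∧ c ≠ 1)
    {L : Subgroup G} (hLH : L ≤ H) (hinv : ∀ l ∈ L, ∀ c ∈ C, l * c * l⁻¹ ∈ C)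
    (hsub : ∀ c ∈ C, H ⊓ centralizer ({c} : Set G) ≤ L)
    (hco : ∀ c ∈ C, ((H ⊓ centralizer ({c} : Set G)).relIndex H).Coprime (Nat.card C)) :
    ∀ l ∈ L, ∀ c ∈ C, l * c = c * l := by
  classical
  intro l hl c₀ hc₀
  letI : MulAction L C :=
    { smul := fun l c => ⟨l * c * (l : G)⁻¹, hinv l l.2 c c.2⟩
      one_smul := fun c => Subtype.ext (by show ((1 : L) : G) * c * ((1 : L) : G)⁻¹ = c; simp)
      mul_smul := fun a b c => Subtype.ext (by
        show ((a * b : L) : G) * c * ((a * b : L) : G)⁻¹ = a * (b * c * (b : G)⁻¹) * (a : G)⁻¹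
        rw [Subgroup.coe_mul]; group) }
  have hstab : ∀ c : C, MulAction.stabilizer L c =
      (H ⊓ centralizer ({(c : G)} : Set G)).subgroupOf L := by
    intro c
    ext l
    rw [MulAction.mem_stabilizer_iff, mem_subgroupOf, mem_inf, mem_centralizer_singleton_iff,
      and_iff_right (hLH l.2)]
    show (⟨(l : G) * c * (l : G)⁻¹, _⟩ : C) = c ↔ _
    rw [Subtype.ext_iff, mul_inv_eq_iff_eq_mul]
  set t := (H ⊓ centralizer ({c₀} : Set G)).relIndex L with htdef
  have hcardL : ∀ c ∈ C, Nat.card (H ⊓ centralizer ({c} : Set G) : Subgroup G) *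
      (H ⊓ centralizer ({c} : Set G)).relIndex L = Nat.card L := fun c hc => by
    rw [← relIndex_bot_left, ← relIndex_bot_left,
      relIndex_mul_relIndex _ _ _ bot_le (hsub c hc)]
  have hrel : ∀ c ∈ C, (H ⊓ centralizer ({c} : Set G)).relIndex L = t := fun c hc => by
    refine Nat.eq_of_mul_eq_mul_left Nat.card_pos
      ((hcardL c hc).trans ?_)
    rw [S.card_eq c (hCN c hc).1 c₀ (hCN _ hc₀).1 (hCN c hc).2 (hCN _ hc₀).2, hcardL c₀ hc₀]
  have hC : t ∣ Nat.card C := by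
    rw [Nat.card_congr (MulAction.selfEquivSigmaOrbits L C)]
    haveI := Fintype.ofFinite (MulAction.orbitRel.Quotient L C)
    rw [Nat.card_sigma]
    refine Finset.dvd_sum fun q _ => ?_
    rw [Nat.card_coe_set_eq, ← MulAction.index_stabilizer, hstab]
    exact (hrel _ (Quotient.out q).2).symm.dvd
  have ht : t = 1 := Nat.eq_one_of_dvd_coprimes (hco c₀ hc₀)
    (Dvd.intro _ (relIndex_mul_relIndex _ L H (hsub c₀ hc₀) hLH)) hC
  exact mem_centralizer_singleton_iff.mp (mem_inf.mp (relIndex_eq_one.mp ht hl)).2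

/-- The index of a point stabiliser is prime to the order of an invariant subgroup. -/
theorem coprime_card (S : Setting N H) {M : Subgroup G} (hMN : M ≤ N)
    (hMi : ∀ h ∈ H, ∀ m ∈ M, h * m * h⁻¹ ∈ M) {x : G} (hx : x ∈ N) (hx1 : x ≠ 1) :
    ((H ⊓ centralizer ({x} : Set G)).relIndex H).Coprime (Nat.card M) := by
  classical
  set k := (H ⊓ centralizer ({x} : Set G)).relIndex H
  let C : Set G := {m | m ∈ M ∧ m ≠ 1}
  letI : MulAction H C :=
    { smul := fun h c => ⟨h * c * (h : G)⁻¹, hMi h h.2 c c.2.1, by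
        rw [Ne, conj_eq_one_iff]; exact c.2.2⟩
      one_smul := fun c => Subtype.ext (by show ((1 : H) : G) * c * ((1 : H) : G)⁻¹ = c; simp)
      mul_smul := fun a b c => Subtype.ext (by
        show ((a * b : H) : G) * c * ((a * b : H) : G)⁻¹ = a * (b * c * (b : G)⁻¹) * (a : G)⁻¹
        rw [Subgroup.coe_mul]; group) }
  have hstab : ∀ c : C, MulAction.stabilizer H c =
      (H ⊓ centralizer ({(c : G)} : Set G)).subgroupOf H := by
    intro c
    ext h
    rw [MulAction.mem_stabilizer_iff, mem_subgroupOf, mem_inf, mem_centralizer_singleton_iff,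
      and_iff_right h.2]
    show (⟨(h : G) * c * (h : G)⁻¹, _⟩ : C) = c ↔ _
    rw [Subtype.ext_iff, mul_inv_eq_iff_eq_mul]
  have hrel : ∀ c ∈ N, c ≠ 1 → (H ⊓ centralizer ({c} : Set G)).relIndex H = k := fun c hc hc1 => by
    refine Nat.eq_of_mul_eq_mul_left (n := Nat.card (H ⊓ centralizer ({c} : Set G) : Subgroup G))
      Nat.card_pos ?_
    conv_rhs => rw [S.card_eq c hc x hx hc1 hx1]
    rw [← relIndex_bot_left, ← relIndex_bot_left, relIndex_mul_relIndex _ _ _ bot_le inf_le_left,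
      relIndex_mul_relIndex _ _ _ bot_le inf_le_left]
  have hC : k ∣ Nat.card C := by
    rw [Nat.card_congr (MulAction.selfEquivSigmaOrbits H C)]
    haveI := Fintype.ofFinite (MulAction.orbitRel.Quotient H C)
    rw [Nat.card_sigma]
    refine Finset.dvd_sum fun q _ => ?_
    rw [Nat.card_coe_set_eq, ← MulAction.index_stabilizer, hstab]
    exact (hrel _ (hMN (Quotient.out q).2.1) (Quotient.out q).2.2).symm.dvd
  have hcard : Nat.card C + 1 = Nat.card M := by
    have h1 : C = (M : Set G) \ {1} := rfl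
    rw [Nat.card_coe_set_eq, h1, Set.ncard_diff_singleton_of_mem (one_mem M)]
    have h2 : (M : Set G).ncard = Nat.card M := (Nat.card_coe_set_eq (M : Set G)).symm
    have h3 : 0 < Nat.card M := Nat.card_pos
    omega
  rw [← hcard]
  exact Nat.Coprime.coprime_dvd_left hC (Nat.coprime_self_add_right.mpr (Nat.coprime_one_right _))

/-- A stabiliser fixes the whole `N`-class. -/
theorem fix_class (S : Setting N H) {x n : G} (hx : x ∈ N) (hx1 : x ≠ 1) (hn : n ∈ N) :
    H ⊓ centralizer ({x} : Set G) ≤ H ⊓ centralizer ({n * x * n⁻¹} : Set G) := by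
  have := S.normal
  let C : Set G := {c | ∃ a ∈ N, c = a * x * a⁻¹}
  let L : Subgroup G :=
    { carrier := {l | l ∈ H ∧ l * x * l⁻¹ ∈ C}
      one_mem' := ⟨one_mem H, 1, one_mem N, by simp⟩
      mul_mem' := fun {a b} ha hb => by
        obtain ⟨haH, u, hu, hau⟩ := ha
        obtain ⟨hbH, v, hv, hbv⟩ := hb
        refine ⟨mul_mem haH hbH, a * v * a⁻¹ * u, mul_mem (Normal.conj_mem inferInstance v hv a) hu, ?_⟩
        calc a * b * x * (a * b)⁻¹ = a * (b * x * b⁻¹) * a⁻¹ := by group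
          _ = (a * v * a⁻¹) * (a * x * a⁻¹) * (a * v * a⁻¹)⁻¹ := by rw [hbv]; group
          _ = _ := by rw [hau]; group
      inv_mem' := fun {a} ha => by
        obtain ⟨haH, u, hu, hau⟩ := ha
        refine ⟨inv_mem haH, a⁻¹ * u⁻¹ * a, by
          simpa using Normal.conj_mem inferInstance u⁻¹ (inv_mem hu) a⁻¹, ?_⟩
        calc a⁻¹ * x * a⁻¹⁻¹ = (a⁻¹ * u⁻¹ * a) * (a⁻¹ * (u * x * u⁻¹) * a) * (a⁻¹ * u⁻¹ * a)⁻¹ := by
              group
          _ = _ := by rw [← hau]; group }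
  have hCi : ∀ l ∈ L, ∀ c ∈ C, l * c * l⁻¹ ∈ C := by
    rintro l ⟨-, u, hu, hlu⟩ _ ⟨a, ha, rfl⟩
    refine ⟨l * a * l⁻¹ * u, mul_mem (Normal.conj_mem inferInstance a ha l) hu, ?_⟩
    calc l * (a * x * a⁻¹) * l⁻¹ = (l * a * l⁻¹) * (l * x * l⁻¹) * (l * a * l⁻¹)⁻¹ := by group
      _ = _ := by rw [hlu]; group
  have hsub : ∀ c ∈ C, H ⊓ centralizer ({c} : Set G) ≤ L := by
    rintro _ ⟨a, ha, rfl⟩ l hl
    refine ⟨(mem_inf.mp hl).1, (l * a * l⁻¹)⁻¹ * a,
      mul_mem (inv_mem (Normal.conj_mem inferInstance a ha l)) ha, ?_⟩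
    have h1 := mem_centralizer_singleton_iff.mp (mem_inf.mp hl).2
    calc l * x * l⁻¹ = (l * a * l⁻¹)⁻¹ * (l * (a * x * a⁻¹) * l⁻¹) * (l * a * l⁻¹) := by group
      _ = _ := by rw [h1]; group
  have hCN : ∀ c ∈ C, c ∈ N ∧ c ≠ 1 := by
    rintro _ ⟨a, ha, rfl⟩
    exact ⟨mul_mem (mul_mem ha hx) (inv_mem ha), by rw [Ne, conj_eq_one_iff]; exact hx1⟩
  have hCdvd : Nat.card C ∣ Nat.card N := by
    have h1 : Nat.card C = Nat.card (MulAction.orbit (ConjAct N) (⟨x, hx⟩ : N)) := by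
      refine Nat.card_congr (Equiv.ofBijective (fun c => ⟨⟨c.1, (hCN c.1 c.2).1⟩, ?_⟩) ⟨?_, ?_⟩)
      · obtain ⟨a, ha, hc⟩ := c.2
        exact ⟨ConjAct.toConjAct ⟨a, ha⟩, Subtype.ext (by rw [hc]; rfl)⟩
      · intro c d e
        exact Subtype.ext (congrArg (fun z : MulAction.orbit (ConjAct N) (⟨x, hx⟩ : N) => ((z : N) : G)) e :)
      · rintro ⟨y, g, rfl⟩
        exact ⟨⟨_, (ConjAct.ofConjAct g : N), (ConjAct.ofConjAct g).2, rfl⟩, rfl⟩
    rw [h1, Nat.card_coe_set_eq, ← MulAction.index_stabilizer]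
    refine (index_dvd_card _).trans ?_
    exact (Nat.card_congr ConjAct.ofConjAct.toEquiv).dvd
  intro l hl
  refine mem_inf.mpr ⟨(mem_inf.mp hl).1, mem_centralizer_singleton_iff.mpr
    (S.fixed_of_coprime (L := L) hCN (fun z hz => hz.1) hCi hsub (fun c hc => ?_) l
      (hsub x ⟨1, one_mem N, by simp⟩ hl) _ ⟨n, hn, rfl⟩)⟩
  exact Nat.Coprime.coprime_dvd_right hCdvd (S.coprime_card le_rfl
    (fun h _ m hm => Normal.conj_mem inferInstance m hm h) (hCN c hc).1 (hCN c hc).2)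

/-- `N` is abelian. -/
theorem commutative (S : Setting N H) : ∀ x ∈ N, ∀ y ∈ N, x * y = y * x := by
  have := S.normal
  by_contra hno
  push Not at hno
  obtain ⟨a, ha, b, hb, hab⟩ := hno
  have heq : ∀ x ∈ N, x ≠ 1 → ∀ n ∈ N, x * n * x⁻¹ * n⁻¹ ≠ 1 →
      H ⊓ centralizer ({x} : Set G) = H ⊓ centralizer ({x * n * x⁻¹ * n⁻¹} : Set G) := by
    intro x hx hx1 n hn hc
    have hcN : x * n * x⁻¹ * n⁻¹ ∈ N :=
      mul_mem (mul_mem (mul_mem hx hn) (inv_mem hx)) (inv_mem hn)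
    refine eq_of_le_of_card_ge (fun l hl => ?_) (S.card_eq x hx _ hcN hx1 hc).ge
    have h1 := fix_class S hx hx1 hn hl
    simp only [mem_inf, mem_centralizer_singleton_iff] at hl h1 ⊢
    refine ⟨hl.1, ?_⟩
    rw [show x * n * x⁻¹ * n⁻¹ = x * (n * x * n⁻¹)⁻¹ by group]
    exact ((show Commute l x from hl.2).mul_right (show Commute l (n * x * n⁻¹) from h1.2).inv_right)
  have hpair : ∀ x ∈ N, ∀ y ∈ N, x * y ≠ y * x →
      H ⊓ centralizer ({x} : Set G) = H ⊓ centralizer ({y} : Set G) := by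
    intro x hx y hy hxy
    have hx1 : x ≠ 1 := fun e => hxy (by simp [e])
    have hy1 : y ≠ 1 := fun e => hxy (by simp [e])
    have hc : x * y * x⁻¹ * y⁻¹ ≠ 1 := fun e => hxy (by
      rw [mul_inv_eq_one, mul_inv_eq_iff_eq_mul] at e; exact e)
    have hc' : y * x * y⁻¹ * x⁻¹ ≠ 1 := fun e => hxy (by
      rw [mul_inv_eq_one, mul_inv_eq_iff_eq_mul] at e; exact e.symm)
    rw [heq x hx hx1 y hy hc, heq y hy hy1 x hx hc']
    ext l
    simp only [mem_inf, mem_centralizer_singleton_iff]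
    rw [show y * x * y⁻¹ * x⁻¹ = (x * y * x⁻¹ * y⁻¹)⁻¹ by group]
    exact and_congr_right fun _ => (Commute.inv_right_iff (a := l)).symm
  -- every element of `N` is fixed by the stabiliser of `a`
  have ha1 : a ≠ 1 := fun e => hab (by simp [e])
  refine S.ne_bot a ha ha1 (eq_bot_iff.mpr fun h hh => ?_)
  have hnc : ∀ y ∈ N, (∃ z ∈ N, y * z ≠ z * y) → h * y = y * h := by
    rintro y hy ⟨z, hz, hyz⟩
    suffices H ⊓ centralizer ({a} : Set G) = H ⊓ centralizer ({y} : Set G) from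
      mem_centralizer_singleton_iff.mp (mem_inf.mp (this ▸ hh)).2
    by_cases h1 : a * y = y * a
    swap
    · exact hpair a ha y hy h1
    by_cases h2 : a * z = z * a
    swap
    · exact (hpair a ha z hz h2).trans (hpair y hy z hz hyz).symm
    by_cases h3 : y * b = b * y
    swap
    · exact (hpair a ha b hb hab).trans (hpair y hy b hb h3).symm
    -- `b * z` commutes with neither
    have h4 : a * (b * z) ≠ b * z * a := fun e => hab (by
      refine mul_right_cancel (b := z) ?_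
      rw [mul_assoc, e, mul_assoc, ← h2, ← mul_assoc])
    have h5 : y * (b * z) ≠ b * z * y := fun e => hyz (by
      refine mul_left_cancel (a := b) ?_
      rw [← mul_assoc, ← h3, mul_assoc, e, mul_assoc])
    exact (hpair a ha _ (mul_mem hb hz) h4).trans (hpair y hy _ (mul_mem hb hz) h5).symm
  refine mem_bot.mpr (S.faithful h (mem_inf.mp hh).1 fun n hn => ?_)
  by_cases hcn : ∃ z ∈ N, n * z ≠ z * n
  · exact hnc n hn hcn
  push Not at hcn
  have h1 : a * n * b ≠ b * (a * n) := fun e => hab (by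
    refine mul_right_cancel (b := n) ?_
    rw [mul_assoc a b n, ← hcn b hb, ← mul_assoc, e, mul_assoc])
  have h2 := hnc (a * n) (mul_mem ha hn) ⟨b, hb, h1⟩
  have h3 : Commute h a := hnc a ha ⟨b, hb, hab⟩
  have h4 : Commute h (a⁻¹ * (a * n)) := h3.inv_right.mul_right h2
  rwa [inv_mul_cancel_left] at h4

/-- No proper nontrivial subgroup of `N` is invariant under `H`. -/
theorem eq_of_invariant (S : Setting N H) {M : Subgroup G} (hMN : M ≤ N)
    (hMi : ∀ h ∈ H, ∀ m ∈ M, h * m * h⁻¹ ∈ M) (hM1 : M ≠ ⊥) : M = N := by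
  by_contra hne
  obtain ⟨y, hyN, hyM⟩ := SetLike.exists_of_lt (lt_of_le_of_ne hMN hne)
  -- the stabiliser of a point outside `M` fixes `M`
  have houtside : ∀ z ∈ N, z ∉ M → ∀ m ∈ M, m ≠ 1 →
      H ⊓ centralizer ({z} : Set G) = H ⊓ centralizer ({m} : Set G) := by
    intro z hz hzM m hm hm1
    have hz1 : z ≠ 1 := fun e => hzM (e ▸ one_mem M)
    let C : Set G := {c | z⁻¹ * c ∈ M}
    let L : Subgroup G :=
      { carrier := {l | l ∈ H ∧ z⁻¹ * (l * z * l⁻¹) ∈ M}
        one_mem' := ⟨one_mem H, by simp [one_mem]⟩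
        mul_mem' := fun {a b} ha hb => by
          refine ⟨mul_mem ha.1 hb.1, ?_⟩
          rw [show z⁻¹ * (a * b * z * (a * b)⁻¹) = (z⁻¹ * (a * z * a⁻¹)) *
            (a * (z⁻¹ * (b * z * b⁻¹)) * a⁻¹) by group]
          exact mul_mem ha.2 (hMi a ha.1 _ hb.2)
        inv_mem' := fun {a} ha => by
          refine ⟨inv_mem ha.1, ?_⟩
          rw [show z⁻¹ * (a⁻¹ * z * a⁻¹⁻¹) = a⁻¹ * (z⁻¹ * (a * z * a⁻¹))⁻¹ * a⁻¹⁻¹ by group]
          exact hMi _ (inv_mem ha.1) _ (inv_mem ha.2) }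
    have hCN : ∀ c ∈ C, c ∈ N ∧ c ≠ 1 := by
      intro c hc
      refine ⟨?_, fun e => hzM ?_⟩
      · simpa using mul_mem hz (hMN hc)
      · have hc' : z⁻¹ * c ∈ M := hc
        rw [e, mul_one, inv_mem_iff] at hc'
        exact hc'
    have hCi : ∀ l ∈ L, ∀ c ∈ C, l * c * l⁻¹ ∈ C := by
      rintro l ⟨hlH, hl⟩ c hc
      show z⁻¹ * (l * c * l⁻¹) ∈ M
      rw [show z⁻¹ * (l * c * l⁻¹) = (z⁻¹ * (l * z * l⁻¹)) * (l * (z⁻¹ * c) * l⁻¹) by group]
      exact mul_mem hl (hMi l hlH _ hc)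
    have hsub : ∀ c ∈ C, H ⊓ centralizer ({c} : Set G) ≤ L := by
      intro c hc l hl
      obtain ⟨hlH, hlc⟩ := mem_inf.mp hl
      refine ⟨hlH, ?_⟩
      rw [show z⁻¹ * (l * z * l⁻¹) = (z⁻¹ * c) * (c⁻¹ * (l * c * l⁻¹)) *
        (l * (z⁻¹ * c)⁻¹ * l⁻¹) by group, mul_inv_eq_iff_eq_mul.mpr
        (mem_centralizer_singleton_iff.mp hlc), inv_mul_cancel, mul_one]
      exact mul_mem hc (hMi l hlH _ (inv_mem hc))
    have hcard : Nat.card C = Nat.card M := Nat.card_congr
      { toFun := fun c => ⟨z⁻¹ * c, c.2⟩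
        invFun := fun m => ⟨z * m, by show z⁻¹ * (z * m) ∈ M; rw [inv_mul_cancel_left]; exact m.2⟩
        left_inv := fun c => Subtype.ext (mul_inv_cancel_left z c)
        right_inv := fun m => Subtype.ext (inv_mul_cancel_left z m) }
    have hfix := S.fixed_of_coprime (L := L) hCN (fun l hl => hl.1) hCi hsub fun c hc => by
      rw [hcard]; exact S.coprime_card hMN hMi (hCN c hc).1 (hCN c hc).2
    refine eq_of_le_of_card_ge (fun l hl => ?_) (S.card_eq z hz m (hMN hm) hz1 hm1).ge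
    have hzC : z ∈ C := by show z⁻¹ * z ∈ M; rw [inv_mul_cancel]; exact one_mem M
    have hlL := hsub z hzC hl
    have h1 : Commute l z := hfix l hlL z hzC
    have h2 : Commute l (z * m) := hfix l hlL (z * m)
      (by show z⁻¹ * (z * m) ∈ M; rw [inv_mul_cancel_left]; exact hm)
    have h3 := h1.inv_right.mul_right h2
    rw [inv_mul_cancel_left] at h3
    exact mem_inf.mpr ⟨(mem_inf.mp hl).1, mem_centralizer_singleton_iff.mpr h3⟩
  obtain ⟨m, hm, hm1⟩ := (bot_or_exists_ne_one M).resolve_left hM1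
  refine S.ne_bot m (hMN hm) hm1 (eq_bot_iff.mpr fun h hh => ?_)
  refine mem_bot.mpr (S.faithful h (mem_inf.mp hh).1 fun n hn => ?_)
  by_cases hn1 : n = 1
  · simp [hn1]
  refine mem_centralizer_singleton_iff.mp (mem_inf.mp (?_ : h ∈ H ⊓ centralizer ({n} : Set G))).2
  by_cases hnM : n ∈ M
  · rwa [← houtside y hyN hyM n hnM hn1, houtside y hyN hyM m hm hm1]
  · rwa [houtside n hn hnM m hm hm1]

/-- Wielandt: `N` is elementary abelian. -/
theorem elementary (S : Setting N H) (hN1 : N ≠ ⊥) :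
    ∃ p : ℕ, p.Prime ∧ IsMulCommutative N ∧ ∀ x ∈ N, x ^ p = 1 := by
  have := S.normal
  obtain ⟨p, hp, hpN⟩ := Nat.exists_prime_and_dvd fun e => hN1 (card_eq_one.mp e)
  have := Fact.mk hp
  obtain ⟨x, hx⟩ := exists_prime_orderOf_dvd_card' (G := N) p hpN
  let M : Subgroup G :=
    { carrier := {y | y ∈ N ∧ y ^ p = 1}
      one_mem' := ⟨one_mem N, one_pow p⟩
      mul_mem' := fun {a b} ha hb => ⟨mul_mem ha.1 hb.1, by
        rw [(show Commute a b from S.commutative a ha.1 b hb.1).mul_pow, ha.2, hb.2, one_mul]⟩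
      inv_mem' := fun {a} ha => ⟨inv_mem ha.1, by rw [inv_pow, ha.2, inv_one]⟩ }
  have hMN : M = N := by
    refine S.eq_of_invariant (fun y hy => hy.1) (fun h _ m hm =>
      ⟨Normal.conj_mem inferInstance m hm.1 h, by rw [conj_pow, hm.2, mul_one, mul_inv_cancel]⟩)
      fun e => ?_
    have hxM : (x : G) ∈ M := ⟨x.2, by rw [← SubgroupClass.coe_pow, ← hx, pow_orderOf_eq_one]; rfl⟩
    rw [e, mem_bot, OneMemClass.coe_eq_one] at hxM
    rw [hxM, orderOf_one] at hx
    exact hp.ne_one hx.symm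
  exact ⟨p, hp, ⟨⟨fun a b => Subtype.ext (S.commutative a a.2 b b.2)⟩⟩,
    fun y hy => (hMN.ge hy).2⟩

end Setting

/-- Wielandt's theorem for half-transitive groups with a regular normal subgroup. -/
theorem regular_normal_structure {Ω : Type*} [MulAction G Ω] [FaithfulSMul G Ω] [Finite Ω]
    (hhalf : ∀ a b c : Ω, b ≠ a → c ≠ a →
      Nat.card (MulAction.orbit (MulAction.stabilizer G a) b) =
        Nat.card (MulAction.orbit (MulAction.stabilizer G a) c))
    (N : Subgroup G) [hN : N.Normal] (hNt : MulAction.IsPretransitive N Ω)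
    (hNr : ∀ a : Ω, MulAction.stabilizer N a = ⊥)
    (hnotF : ∃ a b : Ω, a ≠ b ∧ MulAction.stabilizer G a ⊓ MulAction.stabilizer G b ≠ ⊥) :
    (∃ p : ℕ, p.Prime ∧ IsMulCommutative N ∧ ∀ x ∈ N, x ^ p = 1) ∧
      ∀ M : Subgroup G, M.Normal → M ≠ ⊥ → N ≤ M := by
  obtain ⟨a₀, b₀, hab, hst⟩ := hnotF
  have S := setting_of_action hhalf N hNt hNr hab hst
  have hN1 : N ≠ ⊥ := fun e => by
    obtain ⟨n, hn⟩ := hNt.exists_smul_eq a₀ b₀
    obtain ⟨n, hn'⟩ := n
    rw [e, mem_bot] at hn'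
    exact hab (by rw [← hn]; show a₀ = n • a₀; rw [hn', one_smul])
  refine ⟨S.elementary hN1, fun M hM hM1 => ?_⟩
  by_cases hMN : M ⊓ N = ⊥
  swap
  · exact (S.eq_of_invariant inf_le_right
      (fun h _ m hm => (Normal.conj_mem inferInstance m hm h : _ ∈ M ⊓ N)) hMN).symm.le.trans inf_le_left
  exfalso
  -- `M` centralises `N`, hence lies in it
  refine hM1 (eq_bot_iff.mpr fun g hg => ?_)
  obtain ⟨n, hn⟩ := hNt.exists_smul_eq a₀ (g • a₀)
  have hn' : (n : G) • a₀ = g • a₀ := hn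
  have hcomm : ∀ x ∈ N, g * x = x * g := fun x hx =>
    commute_of_normal_of_disjoint M N hM hN (disjoint_iff.mpr hMN) g x hg hx
  have hh : (n : G)⁻¹ * g = 1 := by
    refine S.faithful _ ?_ fun x hx => ?_
    · show ((n : G)⁻¹ * g) • a₀ = a₀
      rw [mul_smul, ← hn', inv_smul_smul]
    · exact ((show Commute (n : G) x from S.commutative n n.2 x hx).inv_left.mul_left
        (show Commute g x from hcomm x hx)).eq
  rw [inv_mul_eq_one] at hh
  rw [mem_bot, ← mem_bot, ← hMN]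
  exact ⟨hg, hh ▸ n.2⟩

end CfsgLib.FGS.HalfTransitive
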