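import Cfsg.Agent.Lib.Solvable.SchurZassenhaus
import Cfsg.Agent.Lib.PGroup.CoprimeHall

/-!
The class of groups with one conjugacy class of Hall π-subgroups is closed under extensions,
given that groups of odd order are solvable.
-/

set_option autoImplicit false

open scoped Pointwise

namespace CfsgLib.FGS.HallExtension

open Subgroup

universe u

variable {G : Type u} [Group G] [Finite G] {π : Set ℕ} {A : Subgroup G} [A.Normal]

theorem isPiHall_inf {X : Subgroup G} (hX : Cfsg.IsPiHall π X) :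
    Cfsg.IsPiHall π (X.subgroupOf A) := by
  refine ⟨fun p hp h => hX.1 p hp ?_, fun p hp hpπ h => hX.2 p hp hpπ ?_⟩
  · refine h.trans ?_
    rw [← card_map_of_injective A.subtype_injective, subgroupOf_map_subtype]
    exact card_dvd_of_le inf_le_left
  · have h' : p ∣ X.relIndex A := h
    rw [← CfsgLib.PGroup.relIndex_normalizing_sup (le_normalizer_of_normal (H := A))] at h'
    exact h'.trans ⟨_, (relIndex_mul_index le_sup_right).symm⟩

theorem isPiHall_map {X : Subgroup G} (hX : Cfsg.IsPiHall π X) :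
    Cfsg.IsPiHall π (X.map (QuotientGroup.mk' A)) :=
  ⟨fun p hp h => hX.1 p hp (h.trans (card_map_dvd X _)),
    fun p hp hpπ h => hX.2 p hp hpπ (h.trans (index_map_dvd X (QuotientGroup.mk'_surjective A)))⟩

theorem isPiHall_conj {X : Subgroup G} (hX : Cfsg.IsPiHall π X) (g : G) :
    Cfsg.IsPiHall π (MulAut.conj g • X) := by
  have h : (MulAut.conj g • X).index = X.index := by
    rw [CfsgLib.Solvable.conj_smul_eq_map]
    exact index_map_equiv X (MulAut.conj g)
  exact ⟨fun p hp hd => hX.1 p hp (by rwa [CfsgLib.Solvable.card_conj_smul] at hd),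
    fun p hp hpπ hd => hX.2 p hp hpπ (h ▸ hd)⟩

omit [A.Normal] in
theorem coprime_of_pi {m n : ℕ} (hm : ∀ p : ℕ, p.Prime → p ∣ m → p ∈ π)
    (hn : ∀ p : ℕ, p.Prime → p ∈ π → ¬ p ∣ n) : m.Coprime n :=
  Nat.coprime_of_dvd fun p hp h1 h2 => hn p hp (hm p hp h1) h2

/-- Existence. -/
theorem exists_hall (hA : Cfsg.IsCPiGroup π ↥A) (hQ : Cfsg.IsEPiGroup π (G ⧸ A)) :
    Cfsg.IsEPiGroup π G := by
  obtain ⟨H₀, hH₀⟩ := hA.1
  obtain ⟨K, hK⟩ := hQ
  set H := H₀.map A.subtype with hHdef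
  set ρ := QuotientGroup.mk' A
  have hcH : Nat.card H = Nat.card H₀ := card_map_of_injective A.subtype_injective
  -- Frattini
  have hfrat : ∀ g : G, ∃ a ∈ A, a * g ∈ normalizer (H : Set G) := by
    intro g
    let c : MulAut A := MulAut.conjNormal g
    have hc : Cfsg.IsPiHall π (H₀.map c.toMonoidHom) := by
      refine ⟨fun p hp hd => hH₀.1 p hp (by rwa [card_map_of_injective (f := c.toMonoidHom) c.injective] at hd),
        fun p hp hpπ hd => hH₀.2 p hp hpπ ?_⟩
      rwa [show (H₀.map c.toMonoidHom).index = H₀.index from index_map_equiv H₀ c] at hd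
    obtain ⟨a, ha⟩ := hA.2 _ _ hc hH₀
    refine ⟨a, a.2, CfsgLib.Solvable.mem_normalizer_of_conj_mem ?_⟩
    rintro _ ⟨h, hh, rfl⟩
    have : (MulAut.conj a) (c h) ∈ H₀ := ha.ge ⟨_, ⟨h, hh, rfl⟩, rfl⟩
    refine ⟨_, this, ?_⟩
    simp [c, mul_assoc]
  set N := normalizer (H : Set G) ⊓ K.comap ρ with hN
  have hHA : H ≤ A := map_subtype_le _
  have hAK : A ≤ K.comap ρ := fun a ha => by
    rw [mem_comap, show ρ a = 1 from (QuotientGroup.eq_one_iff a).2 ha]; exact one_mem _
  have hHN : H ≤ N := le_inf le_normalizer (hHA.trans hAK)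
  have hmapN : N.map ρ = K := by
    refine le_antisymm (map_le_iff_le_comap.2 inf_le_right) fun q hq => ?_
    obtain ⟨g, rfl⟩ := QuotientGroup.mk'_surjective A q
    obtain ⟨a, ha, hn⟩ := hfrat g
    have e : ρ (a * g) = ρ g := by
      rw [map_mul, show ρ a = 1 from (QuotientGroup.eq_one_iff a).2 ha, one_mul]
    exact ⟨a * g, ⟨hn, by show ρ (a * g) ∈ K; rw [e]; exact hq⟩, e⟩
  haveI : (H.subgroupOf N).Normal := normal_subgroupOf_of_le_normalizer inf_le_left
  set M := A.subgroupOf N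
  set σ := QuotientGroup.mk' (H.subgroupOf N)
  have hHM : H.subgroupOf N ≤ M := fun x hx => hHA hx
  have hMbar : Nat.card (M.map σ) = (H.subgroupOf N).relIndex M := by
    have h := relIndex_map_map_of_injective (H.subgroupOf N) M (f := MonoidHom.id N) Function.injective_id
    rw [← relIndex_bot_left, ← map_bot σ, relIndex_map_map, QuotientGroup.ker_mk', bot_sup_eq,
      sup_eq_left.2 hHM]
  have hMbar' : Nat.card (M.map σ) ∣ H₀.index := by
    rw [hMbar]
    show (H.subgroupOf N).relIndex (A.subgroupOf N) ∣ _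
    rw [← inf_subgroupOf_right A, relIndex_subgroupOf inf_le_right,
      show H₀.index = H.relIndex A by rw [hHdef, relIndex, subgroupOf, comap_map_eq_self_of_injective A.subtype_injective]]
    exact ⟨_, (relIndex_mul_relIndex H (A ⊓ N) A (le_inf hHA hHN) inf_le_left).symm⟩
  have hMidx : (M.map σ).index = Nat.card K := by
    rw [index_map_eq _ (QuotientGroup.mk'_surjective _) (by rw [QuotientGroup.ker_mk']; exact hHM)]
    show A.relIndex N = _
    rw [← hmapN, ← relIndex_bot_left, ← map_bot ρ, relIndex_map_map, QuotientGroup.ker_mk', bot_sup_eq,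
      sup_comm]
    exact (CfsgLib.PGroup.relIndex_normalized_sup (le_normalizer_of_normal (H := A))).symm
  obtain ⟨C, hC⟩ := exists_right_complement'_of_coprime (N := M.map σ) (by
    rw [hMidx]
    exact ((coprime_of_pi hK.1 fun p hp hpπ hd => hH₀.2 p hp hpπ (hd.trans hMbar'))).symm)
  set X := (C.comap σ).map N.subtype
  have hcX : Nat.card X = Nat.card H * Nat.card K := by
    rw [card_map_of_injective N.subtype_injective, ← hMidx, hC.symm.index_eq_card]
    have e : H.subgroupOf N ≤ C.comap σ := fun x hx => by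
      rw [mem_comap, show σ x = 1 from (QuotientGroup.eq_one_iff x).2 hx]; exact one_mem _
    rw [← card_mul_index ((H.subgroupOf N).subgroupOf (C.comap σ)),
      Nat.card_congr (subgroupOfEquivOfLe e).toEquiv, Nat.card_congr (subgroupOfEquivOfLe hHN).toEquiv]
    congr 1
    show (H.subgroupOf N).relIndex (C.comap σ) = _
    conv_rhs => rw [← map_comap_eq_self_of_surjective (QuotientGroup.mk'_surjective _) C]
    rw [← relIndex_bot_left, ← map_bot σ, relIndex_map_map, QuotientGroup.ker_mk', bot_sup_eq,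
      sup_eq_left.2 e]
  refine ⟨X, fun p hp hd => ?_, fun p hp hpπ hd => ?_⟩
  · rw [hcX, hcH] at hd
    exact (hp.dvd_mul.1 hd).elim (hH₀.1 p hp) (hK.1 p hp)
  · have e : X.index = H₀.index * K.index := by
      refine Nat.eq_of_mul_eq_mul_left (Nat.card_pos (α := X)) ?_
      rw [X.card_mul_index, card_eq_card_quotient_mul_card_subgroup A, hcX, hcH, ← K.card_mul_index,
        ← H₀.card_mul_index]
      ring
    rw [e] at hd
    exact (hp.dvd_mul.1 hd).elim (hH₀.2 p hp hpπ) (hK.2 p hp hpπ)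

/-- Conjugacy of two Hall subgroups with the same image and the same trace on `A`. -/
theorem exists_conj_of_same
    (hFT : ∀ (K : Type u) [Group K] [Finite K], Odd (Nat.card K) → Group.IsSolvable K)
    {X Y : Subgroup G} (hX : Cfsg.IsPiHall π X) (hY : Cfsg.IsPiHall π Y)
    (hA' : X ⊔ A = Y ⊔ A) (hH : X ⊓ A = Y ⊓ A) : ∃ g : G, MulAut.conj g • Y = X := by
  set H := X ⊓ A with hHdef
  have hnX : X ≤ normalizer (H : Set G) := fun x hx =>
    CfsgLib.Solvable.mem_normalizer_of_conj_mem fun h hh =>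
      mem_inf.2 ⟨mul_mem (mul_mem hx (mem_inf.1 hh).1) (inv_mem hx), ‹A.Normal›.conj_mem h (mem_inf.1 hh).2 x⟩
  have hnY : Y ≤ normalizer (H : Set G) := by
    rw [hH]
    exact fun x hx => CfsgLib.Solvable.mem_normalizer_of_conj_mem fun h hh =>
      mem_inf.2 ⟨mul_mem (mul_mem hx (mem_inf.1 hh).1) (inv_mem hx), ‹A.Normal›.conj_mem h (mem_inf.1 hh).2 x⟩
  set N := normalizer (H : Set G) ⊓ (X ⊔ A)
  have hXN : X ≤ N := le_inf hnX le_sup_left
  have hYN : Y ≤ N := le_inf hnY (hA' ▸ le_sup_left)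
  have hHN : H ≤ N := inf_le_left.trans hXN
  haveI : (H.subgroupOf N).Normal := normal_subgroupOf_of_le_normalizer inf_le_left
  set σ := QuotientGroup.mk' (H.subgroupOf N)
  set M := (A.subgroupOf N).map σ
  haveI : M.Normal := (inferInstance : (A.subgroupOf N).Normal).map σ (QuotientGroup.mk'_surjective _)
  set Xb := (X.subgroupOf N).map σ with hXb
  set Yb := (Y.subgroupOf N).map σ with hYb
  have hd : M ⊓ Xb = ⊥ := by
    rw [eq_bot_iff]
    rintro _ ⟨⟨a, ha, rfl⟩, x, hx, hxa⟩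
    rw [mem_bot]
    refine (QuotientGroup.eq_one_iff a).2 ?_
    have h1 : x⁻¹ * a ∈ H.subgroupOf N := QuotientGroup.eq.1 hxa
    have h2 : ((x : G))⁻¹ * a ∈ H := h1
    have hxA : (x : G) ∈ A := by
      have := mul_mem (show (a : G) ∈ A from ha) (inv_mem h2.2)
      simpa [mul_inv_rev] using this
    show (a : G) ∈ H
    have := mul_mem (⟨hx, hxA⟩ : (x : G) ∈ H) h2
    rwa [mul_inv_cancel_left] at this
  have htop : M ⊔ Xb = ⊤ := by
    refine eq_top_iff.2 fun q _ => ?_
    obtain ⟨n, rfl⟩ := QuotientGroup.mk'_surjective _ q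
    obtain ⟨x, hx, a, ha, he⟩ := CfsgLib.Solvable.exists_mul_of_mem_sup (le_normalizer_of_normal (H := A))
      (show (n : G) ∈ A ⊔ X from sup_comm X A ▸ n.2.2)
    have hxN : x ∈ N := by
      have e : x = (n : G) * a⁻¹ := by rw [he, mul_inv_cancel_right]
      rw [e]; exact mul_mem n.2 (inv_mem (hXN ha))
    have e : n = (⟨x, hxN⟩ : N) * ⟨a, hXN ha⟩ := Subtype.ext he
    rw [e, map_mul]
    exact mul_mem (mem_sup_left ⟨⟨x, hxN⟩, hx, rfl⟩) (mem_sup_right ⟨⟨a, hXN ha⟩, ha, rfl⟩)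
  have hcop : (Nat.card M).Coprime (Nat.card Yb) := by
    refine (coprime_of_pi (π := π) (fun p hp hd => hY.1 p hp ?_) fun p hp hpπ hd => hX.2 p hp hpπ ?_).symm
    · refine hd.trans ((card_map_dvd _ _).trans ?_)
      rw [Nat.card_congr (subgroupOfEquivOfLe hYN).toEquiv]
    · have h1 : Nat.card M = (H.subgroupOf N).relIndex (A.subgroupOf N) := by
        rw [← relIndex_bot_left, ← map_bot σ, relIndex_map_map, QuotientGroup.ker_mk', bot_sup_eq,
          sup_eq_left.2 (fun x (hx : x ∈ H.subgroupOf N) => (hx : (x : G) ∈ H).2)]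
      rw [h1, ← inf_subgroupOf_right A, relIndex_subgroupOf inf_le_right] at hd
      refine hd.trans (dvd_trans ⟨_, (relIndex_mul_relIndex H (A ⊓ N) A (le_inf inf_le_right hHN) inf_le_left).symm⟩ ?_)
      rw [hHdef, inf_relIndex_right, ← CfsgLib.PGroup.relIndex_normalizing_sup (le_normalizer_of_normal (H := A))]
      exact ⟨_, (relIndex_mul_index le_sup_right).symm⟩
  have hs : Group.IsSolvable M ∨ Group.IsSolvable Yb := by
    rcases Nat.even_or_odd (Nat.card M) with h | h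
    · refine Or.inr (hFT Yb (Nat.not_even_iff_odd.1 fun hg => ?_))
      exact Nat.not_coprime_of_dvd_of_dvd (by norm_num : 1 < 2) h.two_dvd hg.two_dvd hcop
    · exact Or.inl (hFT M h)
  obtain ⟨k, -, hk⟩ := CfsgLib.Solvable.exists_conj_le M Xb Yb (le_normalizer_of_normal (H := M)) hd
    (by rw [htop]; exact le_top) hcop hs
  obtain ⟨n, rfl⟩ := QuotientGroup.mk'_surjective _ k
  refine ⟨(n : G), Subgroup.eq_of_le_of_card_ge (CfsgLib.Solvable.conj_smul_le_iff.2 fun y hy => ?_) ?_⟩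
  · have h1 := CfsgLib.Solvable.conj_smul_le_iff.1 hk (σ ⟨y, hYN hy⟩) ⟨_, hy, rfl⟩
    obtain ⟨x, hx, hxy⟩ := h1
    have h2 : x⁻¹ * (n * ⟨y, hYN hy⟩ * n⁻¹) ∈ H.subgroupOf N := QuotientGroup.eq.1 (by
      rw [← QuotientGroup.mk'_apply, hxy]; simp [σ])
    have h3 : (x : G)⁻¹ * ((n : G) * y * (n : G)⁻¹) ∈ H := h2
    have := mul_mem (show (x : G) ∈ X from hx) h3.1
    rwa [mul_inv_cancel_left] at this
  · rw [CfsgLib.Solvable.card_conj_smul]
    refine le_of_eq ?_
    have h1 := X.card_mul_index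
    have hXd : Nat.card X ∣ Nat.card Y :=
      (coprime_of_pi hX.1 hY.2).dvd_of_dvd_mul_right (Y.card_mul_index ▸ card_subgroup_dvd_card X)
    have hYd : Nat.card Y ∣ Nat.card X :=
      (coprime_of_pi hY.1 hX.2).dvd_of_dvd_mul_right (h1 ▸ card_subgroup_dvd_card Y)
    exact Nat.dvd_antisymm hXd hYd

theorem isCPiGroup (hFT : ∀ (K : Type u) [Group K] [Finite K], Odd (Nat.card K) → Group.IsSolvable K)
    (hA : Cfsg.IsCPiGroup π ↥A) (hQ : Cfsg.IsCPiGroup π (G ⧸ A)) : Cfsg.IsCPiGroup π G := by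
  refine ⟨exists_hall hA hQ.1, fun X Y hX hY => ?_⟩
  set ρ := QuotientGroup.mk' A
  obtain ⟨g, hg⟩ := hQ.2 _ _ (isPiHall_map (A := A) hX) (isPiHall_map (A := A) hY)
  obtain ⟨g, rfl⟩ := QuotientGroup.mk'_surjective A g
  have hXA : (MulAut.conj g • X) ⊔ A = Y ⊔ A := by
    refine le_antisymm (sup_le ?_ le_sup_right) (sup_le ?_ le_sup_right)
    · refine CfsgLib.Solvable.conj_smul_le_iff.2 fun x hx => ?_
      obtain ⟨y, hy, he⟩ := hg.ge ⟨ρ x, ⟨x, hx, rfl⟩, rfl⟩
      have h1 : y⁻¹ * (g * x * g⁻¹) ∈ A := QuotientGroup.eq.1 (by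
        rw [← QuotientGroup.mk'_apply, he]; simp [ρ])
      have := mul_mem (mem_sup_left (T := A) hy) (mem_sup_right h1)
      rwa [mul_inv_cancel_left] at this
    · intro y hy
      obtain ⟨_, ⟨x, hx, rfl⟩, he⟩ := hg.le ⟨y, hy, rfl⟩
      have h1 : (g * x * g⁻¹)⁻¹ * y ∈ A := QuotientGroup.eq.1 (by
        show ρ (g * x * g⁻¹) = ρ y
        rw [← he]; simp [ρ])
      have hm : g * x * g⁻¹ ∈ MulAut.conj g • X := by
        rw [CfsgLib.Solvable.conj_smul_eq_map]; exact ⟨x, hx, rfl⟩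
      have := mul_mem (mem_sup_left (T := A) hm) (mem_sup_right h1)
      rwa [mul_inv_cancel_left] at this
  have hX1 := isPiHall_conj hX g
  obtain ⟨a, ha⟩ := hA.2 _ _ (isPiHall_inf (A := A) hX1) (isPiHall_inf (A := A) hY)
  set X2 := MulAut.conj (a : G) • MulAut.conj g • X with hX2
  have hX2A : X2 ⊔ A = Y ⊔ A := by
    rw [← hXA]
    refine le_antisymm (sup_le ?_ le_sup_right) (sup_le (fun x hx => ?_) le_sup_right)
    · exact CfsgLib.Solvable.conj_smul_le_iff.2 fun x hx =>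
        mul_mem (mul_mem (mem_sup_right a.2) (mem_sup_left hx)) (inv_mem (mem_sup_right a.2))
    · have hm : (a : G) * x * (a : G)⁻¹ ∈ X2 := by
        rw [hX2, CfsgLib.Solvable.conj_smul_eq_map (g := (a : G))]; exact ⟨x, hx, rfl⟩
      have := mul_mem (mul_mem (mem_sup_right (S := X2) (inv_mem a.2)) (mem_sup_left hm)) (mem_sup_right a.2)
      simpa [mul_assoc] using this
  have hX2i : X2 ⊓ A = Y ⊓ A := by
    rw [← subgroupOf_map_subtype Y A, ha]
    ext z
    constructor
    · rintro ⟨hz, hzA⟩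
      rw [hX2, CfsgLib.Solvable.conj_smul_eq_map (g := (a : G))] at hz
      obtain ⟨x, hx, rfl⟩ := hz
      have hxA : x ∈ A := by simpa [mul_assoc] using mul_mem (mul_mem (inv_mem a.2) hzA) a.2
      exact ⟨_, ⟨⟨x, hxA⟩, hx, rfl⟩, rfl⟩
    · rintro ⟨_, ⟨x, hx, rfl⟩, rfl⟩
      refine ⟨?_, SetLike.coe_mem _⟩
      rw [hX2, CfsgLib.Solvable.conj_smul_eq_map (g := (a : G))]
      exact ⟨_, hx, rfl⟩
  obtain ⟨k, hk⟩ := exists_conj_of_same hFT (isPiHall_conj hX1 a) hY hX2A hX2i
  refine ⟨k⁻¹ * (a : G) * g, ?_⟩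
  rw [← CfsgLib.Solvable.conj_smul_eq_map, mul_assoc, ← CfsgLib.Solvable.conj_smul_conj_smul,
    ← CfsgLib.Solvable.conj_smul_conj_smul, ← hk, CfsgLib.Solvable.conj_smul_conj_smul,
    inv_mul_cancel, map_one, one_smul]

end CfsgLib.FGS.HallExtension
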