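import Cfsg.Agent.Lib.FGS.InvMaxTwo
import Cfsg.Agent.Lib.PStab.Complement
import Cfsg.Agent.Lib.FGS.ThompsonKernel
import Cfsg.Agent.Lib.Transfer.CentralHall

/-!
A finite group with a coprime solvable group of operators and a nilpotent maximal invariant subgroup
whose Sylow 2-subgroups have class at most two is solvable.
-/

set_option autoImplicit false

open scoped commutatorElement

namespace CfsgLib.FGS.InvMaxSolvable

open Subgroup CfsgLib.FGS.NilpotentMaximal

universe u v

variable {A : Type u} [Group A]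

/-- The invariant core. -/
theorem inv_normalCore {G : Type v} [Group G] {φ : A →* MulAut G} {M : Subgroup G} (hi : Inv φ M) :
    Inv φ M.normalCore := by
  intro a x hx g
  have h := hi a _ (hx ((φ a)⁻¹ g))
  rwa [map_mul, map_mul, map_inv, show φ a ((φ a)⁻¹ g) = g from MulAut.apply_inv_self _ _ _] at h

/-- The normalizer of a normal `p`-subgroup is a Sylow normalizer: the Sylow subgroup of `M` is one
of `G`. -/
theorem sylow_of_normalizer {G : Type v} [Group G] [Finite G] {M P0 : Subgroup G} {p : ℕ}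
    [Fact p.Prime] (hP0 : IsPGroup p P0) (hN : normalizer (P0 : Set G) ≤ M)
    (hmax : ∀ u ∈ M, (∃ k : ℕ, orderOf u = p ^ k) → u ∈ P0) :
    ∃ P : Sylow p G, (P : Subgroup G) = P0 := by
  obtain ⟨P, hP⟩ := hP0.exists_le_sylow
  refine ⟨P, le_antisymm ?_ hP⟩
  by_contra hle
  have hlt : P0.subgroupOf (P : Subgroup G) < ⊤ := lt_top_iff_ne_top.2
    (fun h => hle (subgroupOf_eq_top.1 h))
  have : Group.IsNilpotent (P : Subgroup G) := P.2.isNilpotent
  obtain ⟨⟨g, hgP⟩, hgN, hgnot⟩ := SetLike.exists_of_lt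
    (Group.normalizerCondition_of_isNilpotent _ hlt)
  have hgn : g ∈ normalizer (P0 : Set G) := by
    refine CfsgLib.Solvable.mem_normalizer_of_conj_mem fun x hx => ?_
    exact (Subgroup.mem_normalizer_iff.1 hgN ⟨x, hP hx⟩).1 hx
  obtain ⟨k, hk⟩ := IsPGroup.iff_orderOf.1 P.2 ⟨g, hgP⟩
  rw [orderOf_mk] at hk
  exact hgnot (hmax g (hN hgn) ⟨k, hk⟩)

theorem solvable_of_core_bot {G : Type v} [Group G] [Finite G] [Finite A] [Group.IsSolvable A]
    (hA : 2 ∣ Nat.card G → Odd (Nat.card A))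
    (φ : A →* MulAut G) (hcop : (Nat.card A).Coprime (Nat.card G)) (M : Subgroup G) (hMi : Inv φ M)
    (hMt : M ≠ ⊤)
    (hmax : ∀ H : Subgroup G, M ≤ H → H ≠ ⊤ → Inv φ H → H = M)
    (hnil : Group.IsNilpotent M) (h2 : ∀ S : Sylow 2 M, Group.nilpotencyClass (S : Subgroup M) ≤ 2)
    (hM1 : M ≠ ⊥) (hcore : M.normalCore = ⊥) : Group.IsSolvable G := by
  classical
  have hloc : ∀ X : Subgroup G, X ≠ ⊥ → X ≤ M → M ≤ normalizer (X : Set G) → Inv φ X →
      normalizer (X : Set G) = M := by
    intro X hX hXM hle hXi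
    refine hmax _ hle (fun h => hX ?_) (inv_normalizer hXi)
    haveI := normalizer_eq_top_iff.1 h
    exact le_bot_iff.1 (hcore ▸ normal_le_normalCore.2 hXM)
  have hsyl : ∀ (p : ℕ) [Fact p.Prime], p ∣ Nat.card M →
      ¬ p ∣ M.index ∧ Cfsg.HasNormalPComplement p G := by
    intro p _ hp
    obtain ⟨Q⟩ := (inferInstance : Nonempty (Sylow p M))
    have hQn : (Q : Subgroup M).Normal := Sylow.normal_of_normalizerCondition
      Group.normalizerCondition_of_isNilpotent Q
    set P0 := (Q : Subgroup M).map M.subtype with hP0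
    have hP0M : P0 ≤ M := map_subtype_le _
    have hP0p : IsPGroup p P0 := Q.isPGroup'.map _
    have hP0n : M ≤ normalizer (P0 : Set G) := by
      refine CfsgLib.Solvable.le_normalizer_of_conj_mem fun m hm x hx => ?_
      obtain ⟨y, hy, rfl⟩ := hx
      exact ⟨⟨m, hm⟩ * y * ⟨m, hm⟩⁻¹, hQn.conj_mem y hy _, rfl⟩
    have hmem : ∀ u ∈ M, (∃ k : ℕ, orderOf u = p ^ k) → u ∈ P0 := by
      rintro u hu ⟨k, hk⟩
      have h1 : IsPGroup p ↥((Q : Subgroup M) ⊔ zpowers (⟨u, hu⟩ : M)) :=
        Q.2.to_sup_of_normal_left (CfsgLib.FGS.isPGroup_zpowers (k := k) (by rw [orderOf_mk, hk]))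
      exact ⟨⟨u, hu⟩, (Q.3 h1 le_sup_left).le (mem_sup_right (mem_zpowers _)), rfl⟩
    have hP0ne : P0 ≠ ⊥ := by
      rw [hP0, Ne, map_eq_bot_iff_of_injective _ M.subtype_injective]
      exact Q.ne_bot_of_dvd_card hp
    have hP0i : Inv φ P0 := by
      intro a x hx
      refine hmem _ (hMi a x (hP0M hx)) ?_
      obtain ⟨k, hk⟩ := IsPGroup.iff_orderOf.1 hP0p ⟨x, hx⟩
      rw [orderOf_mk] at hk
      exact ⟨k, ((φ a).orderOf_eq x).trans hk⟩
    have hN := hloc P0 hP0ne hP0M hP0n hP0i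
    obtain ⟨P, hPe⟩ := sylow_of_normalizer hP0p hN.le hmem
    refine ⟨fun hidx => P.not_dvd_index (hidx.trans (index_dvd_of_le (hPe.le.trans hP0M))), ?_⟩
    by_cases hp2 : p = 2
    · subst hp2
      refine InvMaxTwo.hasNormalPComplement (P := P)
        ⟨hPe.le.trans hP0M, hnil, hPe ▸ hP0i, by rw [hPe]; exact hN, hloc, ?_⟩ hMi
        (hA (hp.trans (card_subgroup_dvd_card M)))
      rw [hPe]
      rintro _ ⟨a, ha, rfl⟩ _ ⟨b, hb, rfl⟩ _ ⟨c, hc, rfl⟩
      haveI := hnil
      have h0 : (⊤ : Subgroup (Q : Subgroup M)).lowerCentralSeries 2 = ⊥ :=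
        Subgroup.lowerCentralSeries_eq_bot_iff_nilpotencyClass_le.2 (h2 Q)
      have h1 : ⁅⁅(⟨a, ha⟩ : (Q : Subgroup M)), (⟨b, hb⟩ : (Q : Subgroup M))⁆, (⟨c, hc⟩ : (Q : Subgroup M))⁆ ∈
          (⊤ : Subgroup (Q : Subgroup M)).lowerCentralSeries 2 := by
        rw [Subgroup.lowerCentralSeries_succ, Subgroup.lowerCentralSeries_succ,
          Subgroup.lowerCentralSeries_zero]
        exact commutator_mem_commutator (commutator_mem_commutator (mem_top _) (mem_top _)) (mem_top _)
      rw [h0, mem_bot, commutatorElement_eq_one_iff_mul_comm] at h1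
      have h3 := congrArg (fun z : (Q : Subgroup M) => M.subtype (z : M)) h1
      exact h3.symm
    · refine CfsgLib.PStab.hasNormalPComplement_of_normalizer_zjGen hp2 (e := 0) (Or.inl rfl) P
        (D := (P : Subgroup G)) ⟨le_rfl, fun _ _ g hg => hg⟩ ?_
      set Z := CfsgLib.PStab.zjGen 0 (P : Subgroup G) with hZ
      have hPne : (P : Subgroup G) ≠ ⊥ := hPe ▸ hP0ne
      have hZb : Z ≠ ⊥ := CfsgLib.PStab.zjGen_ne_bot (Or.inl rfl) P.2 hPne
      have hPi : Inv φ (P : Subgroup G) := hPe ▸ hP0i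
      have hZi : Inv φ Z := fun a x hx => by
        have h1 := CfsgLib.PStab.zjGen_map (e := 0) (f := (φ a).toMonoidHom) (φ a).injective (P : Subgroup G)
        rw [inv_map hPi a] at h1
        exact h1.ge ⟨x, hx, rfl⟩
      rw [hloc Z hZb ((CfsgLib.PStab.zjGen_le _ _).trans (hPe.le.trans hP0M))
        (le_trans (hPe ▸ hP0n) (CfsgLib.PStab.normalizer_le_normalizer_zjGen _ _)) hZi]
      exact CfsgLib.FGS.hasNormalPComplement_of_isNilpotent M
  -- a prime not dividing the order of `M`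
  obtain ⟨r, hr, hrG, hrM⟩ : ∃ r : ℕ, r.Prime ∧ r ∣ Nat.card G ∧ ¬ r ∣ Nat.card M := by
    by_contra hall
    push Not at hall
    obtain ⟨d, hd, hdi⟩ := Nat.exists_prime_and_dvd fun h => hMt (index_eq_one.1 h)
    have : Fact d.Prime := ⟨hd⟩
    exact (hsyl d (hall d hd (hdi.trans (index_dvd_card M)))).1 hdi
  haveI : Fact r.Prime := ⟨hr⟩
  have hK : ∀ p : (Nat.card M).primeFactors, ∃ N : Subgroup G, N.Normal ∧
      (Nat.card N).Coprime (p : ℕ) ∧ ∃ k, N.index = (p : ℕ) ^ k := fun p => by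
    have : Fact (p : ℕ).Prime := ⟨Nat.prime_of_mem_primeFactors p.2⟩
    exact CfsgLib.Transfer.hasNormalPComplement_iff.1
      (hsyl _ (Nat.dvd_of_mem_primeFactors p.2)).2
  choose F hFn hFc hFi using hK
  set K : Subgroup G := ⨅ p, F p with hKdef
  haveI : K.Normal := normal_iInf_normal hFn
  have hKi : Inv φ K := by
    intro a x hx
    rw [hKdef, mem_iInf] at hx ⊢
    intro p
    haveI : Fact (p : ℕ).Prime := ⟨Nat.prime_of_mem_primeFactors p.2⟩
    haveI := hFn p
    obtain ⟨k, hk⟩ := hFi p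
    rw [CfsgLib.Transfer.mem_iff_coprime_orderOf (hFc p) hk, MulEquiv.orderOf_eq]
    exact (CfsgLib.Transfer.mem_iff_coprime_orderOf (hFc p) hk x).1 (hx p)
  have hMK : (Nat.card M).Coprime (Nat.card K) := by
    refine Nat.coprime_of_dvd fun d hd hdM hdK => ?_
    have hc := hFc ⟨d, Nat.mem_primeFactors.2 ⟨hd, hdM, Nat.card_pos.ne'⟩⟩
    exact hd.not_dvd_one (hc ▸ Nat.dvd_gcd (hdK.trans (card_dvd_of_le (iInf_le F _))) dvd_rfl)
  have hrK : r ∣ Nat.card K := by
    obtain ⟨x, hx⟩ := exists_prime_orderOf_dvd_card' r hrG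
    have hxK : x ∈ K := by
      rw [hKdef, mem_iInf]
      intro p
      haveI : Fact (p : ℕ).Prime := ⟨Nat.prime_of_mem_primeFactors p.2⟩
      haveI := hFn p
      obtain ⟨k, hk⟩ := hFi p
      rw [CfsgLib.Transfer.mem_iff_coprime_orderOf (hFc p) hk, hx,
        Nat.coprime_primes hr (Nat.prime_of_mem_primeFactors p.2)]
      exact fun h => hrM (h ▸ Nat.dvd_of_mem_primeFactors p.2)
    exact hx ▸ orderOf_dvd_natCard K hxK
  -- the operators `M ⋊ A` on `K`
  let ψ : A →* MulAut M :=
    { toFun := fun a => ((φ a).subgroupMap M).trans (MulEquiv.subgroupCongr (inv_map hMi a))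
      map_one' := MulEquiv.ext fun x => Subtype.ext (by show φ 1 (x : G) = x; rw [map_one]; rfl)
      map_mul' := fun a b => MulEquiv.ext fun x => Subtype.ext (by
        show φ (a * b) (x : G) = φ a (φ b x); rw [map_mul]; rfl) }
  let χA : A →* MulAut K :=
    { toFun := fun a => ((φ a).subgroupMap K).trans (MulEquiv.subgroupCongr (inv_map hKi a))
      map_one' := MulEquiv.ext fun x => Subtype.ext (by show φ 1 (x : G) = x; rw [map_one]; rfl)
      map_mul' := fun a b => MulEquiv.ext fun x => Subtype.ext (by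
        show φ (a * b) (x : G) = φ a (φ b x); rw [map_mul]; rfl) }
  let χM : M →* MulAut K := MulAut.conjNormal.comp M.subtype
  let χ : M ⋊[ψ] A →* MulAut K := SemidirectProduct.lift χM χA (fun a => by
    refine MonoidHom.ext fun m => MulEquiv.ext fun x => Subtype.ext ?_
    show φ a (m : G) * x * (φ a (m : G))⁻¹ = φ a ((m : G) * (((φ a).subgroupMap K).trans
      (MulEquiv.subgroupCongr (inv_map hKi a))).symm x * (m : G)⁻¹)
    rw [map_mul, map_mul, map_inv]
    congr 2
    exact (congrArg Subtype.val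
      ((((φ a).subgroupMap K).trans (MulEquiv.subgroupCongr (inv_map hKi a))).apply_symm_apply x)).symm)
  haveI : Finite (M ⋊[ψ] A) := Finite.of_equiv _ SemidirectProduct.equivProd.symm
  haveI : Group.IsSolvable (M ⋊[ψ] A) :=
    Group.isSolvable_of_ker_le_range (SemidirectProduct.inl : M →* M ⋊[ψ] A) SemidirectProduct.rightHom
      (by rw [SemidirectProduct.range_inl_eq_ker_rightHom])
  obtain ⟨R, hR⟩ := exists_invariant_sylow χ
    (by
      rw [SemidirectProduct.card]
      exact Nat.Coprime.mul_left hMK (hcop.coprime_dvd_right (card_subgroup_dvd_card K)))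
    (Or.inl inferInstance) r
  set R0 := (R : Subgroup K).map K.subtype with hR0
  have hR0ne : R0 ≠ ⊥ := by
    rw [hR0, Ne, map_eq_bot_iff_of_injective _ K.subtype_injective]
    exact R.ne_bot_of_dvd_card hrK
  have hR0i : Inv φ R0 := by
    intro a x hx
    obtain ⟨y, hy, rfl⟩ := hx
    refine ⟨χ (SemidirectProduct.inr a) y, hR _ y hy, ?_⟩
    show ((χ (SemidirectProduct.inr a) y : K) : G) = φ a (y : G)
    rw [SemidirectProduct.lift_inr]
    rfl
  have hR0M : M ≤ normalizer (R0 : Set G) := by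
    refine CfsgLib.Solvable.le_normalizer_of_conj_mem fun m hm x hx => ?_
    obtain ⟨y, hy, rfl⟩ := hx
    refine ⟨χ (SemidirectProduct.inl ⟨m, hm⟩) y, hR _ y hy, ?_⟩
    show ((χ (SemidirectProduct.inl ⟨m, hm⟩) y : K) : G) = m * y * m⁻¹
    rw [SemidirectProduct.lift_inl]
    rfl
  have hRn : R0.Normal := by
    rw [← normalizer_eq_top_iff]
    by_contra h
    have hNM := hmax _ hR0M h (inv_normalizer hR0i)
    refine hR0ne (eq_bot_of_card_eq _ (Nat.eq_one_of_dvd_coprimes hMK
      (card_dvd_of_le ?_) (card_dvd_of_le (map_subtype_le _))))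
    exact le_normalizer.trans hNM.le
  have htop : M ⊔ R0 = ⊤ := by
    by_contra h
    have hi : Inv φ (M ⊔ R0) := by
      intro a
      have : M ⊔ R0 ≤ (M ⊔ R0).comap (φ a).toMonoidHom :=
        sup_le (fun x hx => mem_sup_left (hMi a x hx)) (fun x hx => mem_sup_right (hR0i a x hx))
      exact fun x hx => this hx
    have h1 := hmax _ le_sup_left h hi
    refine hR0ne (eq_bot_of_card_eq _ (Nat.eq_one_of_dvd_coprimes hMK
      (card_dvd_of_le (le_sup_right.trans h1.le)) (card_dvd_of_le (map_subtype_le _))))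
  haveI : Group.IsNilpotent R0 := (R.isPGroup'.map K.subtype).isNilpotent
  have hsur : Function.Surjective ((QuotientGroup.mk' R0).comp M.subtype) := by
    intro y
    obtain ⟨g, rfl⟩ := QuotientGroup.mk_surjective y
    obtain ⟨a, ha, b, hb, rfl⟩ := mem_sup_of_normal_right.1 (htop ▸ mem_top g : g ∈ M ⊔ R0)
    refine ⟨⟨a, ha⟩, ?_⟩
    show (QuotientGroup.mk a : G ⧸ R0) = QuotientGroup.mk (a * b)
    rw [QuotientGroup.mk_mul, (QuotientGroup.eq_one_iff b).2 hb, mul_one]
  haveI := hnil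
  have : Group.IsNilpotent (G ⧸ R0) := Group.nilpotent_of_surjective _ hsur
  exact Group.isSolvable_of_ker_le_range R0.subtype (QuotientGroup.mk' R0) (by simp)

theorem main_aux [Finite A] [Group.IsSolvable A] : ∀ (n : ℕ) (G : Type v) [Group G] [Finite G]
    (φ : A →* MulAut G), Nat.card G = n → (Nat.card A).Coprime (Nat.card G) →
    (2 ∣ Nat.card G → Odd (Nat.card A)) → ∀ M : Subgroup G, Inv φ M → M ≠ ⊤ →
    (∀ H : Subgroup G, M ≤ H → H ≠ ⊤ → Inv φ H → H = M) → Group.IsNilpotent M →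
    (∀ S : Sylow 2 M, Group.nilpotencyClass (S : Subgroup M) ≤ 2) → Group.IsSolvable G := by
  intro n
  induction n using Nat.strong_induction_on with
  | _ n ih =>
  intro G _ _ φ hn hcop hA M hMi hMt hmax hnil h2
  rcases eq_or_ne M ⊥ with rfl | hM1
  · -- no proper invariant subgroups
    obtain ⟨p, hp, hpG⟩ := Nat.exists_prime_and_dvd (n := Nat.card G) fun h => hMt (by
      haveI := (Nat.card_eq_one_iff_unique.1 h).1
      exact Subsingleton.elim _ _)
    haveI := Fact.mk hp
    obtain ⟨P, hP⟩ := exists_invariant_sylow φ hcop (Or.inl inferInstance) p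
    have hPt : (P : Subgroup G) = ⊤ := by
      by_contra h
      exact P.ne_bot_of_dvd_card hpG (hmax _ bot_le h hP)
    haveI : Group.IsNilpotent G := (IsPGroup.of_card (G := G) (p := p)
      (n := (Nat.card G).factorization p) (by
        rw [← P.card_eq_multiplicity, hPt, card_top])).isNilpotent
    infer_instance
  by_cases hcore : M.normalCore = ⊥
  · exact solvable_of_core_bot hA φ hcop M hMi hMt hmax hnil h2 hM1 hcore
  set N := M.normalCore with hNdef
  have hNM : N ≤ M := normalCore_le M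
  have hNi : Inv φ N := inv_normalCore hMi
  have hsurj := QuotientGroup.mk'_surjective N
  have hcomap : (M.map (QuotientGroup.mk' N)).comap (QuotientGroup.mk' N) = M := by
    rw [comap_map_eq, QuotientGroup.ker_mk', sup_eq_left.2 hNM]
  haveI := hnil
  have hcop' : (Nat.card A).Coprime (Nat.card (G ⧸ N)) :=
    hcop.coprime_dvd_right (card_quotient_dvd_card N)
  haveI hsolQ : Group.IsSolvable (G ⧸ N) := by
    have hlt : Nat.card (G ⧸ N) < n := lt_of_lt_of_eq (CfsgLib.Solvable.card_quotient_lt N hcore) hn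
    refine ih _ hlt (G ⧸ N) (quotAction φ N hNi) rfl
      hcop' (fun h => hA (h.trans (card_quotient_dvd_card N))) (M.map (QuotientGroup.mk' N)) ?_ ?_ ?_
      (Group.nilpotent_of_surjective _ ((QuotientGroup.mk' N).subgroupMap_surjective M)) ?_
    · rintro a _ ⟨x, hx, rfl⟩
      exact ⟨φ a x, hMi a x hx, (quotAction_mk φ N hNi a x).symm⟩
    · exact fun h => hMt (by rw [← hcomap, h, comap_top])
    · intro H hMH hHt hHi
      have h1 := hmax (H.comap (QuotientGroup.mk' N)) (le_of_eq_of_le hcomap.symm (comap_mono hMH))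
        (fun h => hHt (by rw [← map_comap_eq_self_of_surjective hsurj H, h, map_top_of_surjective _ hsurj]))
        (fun a x hx => by
          rw [mem_comap] at hx ⊢
          rw [← quotAction_mk φ N hNi]
          exact hHi a _ hx)
      rw [← map_comap_eq_self_of_surjective hsurj H, h1]
    · intro S
      haveI : Fact (Nat.Prime 2) := ⟨Nat.prime_two⟩
      obtain ⟨T, rfl⟩ := Sylow.mapSurjective_surjective
        ((QuotientGroup.mk' N).subgroupMap_surjective M) 2 S
      haveI : Group.IsNilpotent (T : Subgroup M) := T.2.isNilpotent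
      exact le_trans (Group.nilpotencyClass_le_of_surjective _
        (((QuotientGroup.mk' N).subgroupMap M).subgroupMap_surjective (T : Subgroup M))) (h2 T)
  haveI : Group.IsNilpotent N := Group.nilpotent_of_mulEquiv (subgroupOfEquivOfLe hNM)
  exact Group.isSolvable_of_ker_le_range N.subtype (QuotientGroup.mk' N) (by simp)

/-- The statement with solvability of odd order groups as a hypothesis. -/
theorem isSolvable {G : Type v} [Group G] [Finite G] [Finite A]
    (hftA : Odd (Nat.card A) → Group.IsSolvable A) (hftG : Odd (Nat.card G) → Group.IsSolvable G)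
    (φ : A →* MulAut G) (hcop : (Nat.card A).Coprime (Nat.card G))
    (M : Subgroup G) (hMt : M ≠ ⊤) (hMi : ∀ a : A, ∀ m : G, m ∈ M → φ a m ∈ M)
    (hmax : ∀ H : Subgroup G, M ≤ H → H ≠ ⊤ → (∀ a : A, ∀ h : G, h ∈ H → φ a h ∈ H) → H = M)
    (hnil : Group.IsNilpotent M)
    (h2 : ∀ S : Sylow 2 M, Group.nilpotencyClass (S : Subgroup M) ≤ 2) : Group.IsSolvable G := by
  rcases Nat.even_or_odd (Nat.card G) with h | h
  · have hA : Odd (Nat.card A) := Nat.not_even_iff_odd.1 fun hA =>
      Nat.not_coprime_of_dvd_of_dvd one_lt_two hA.two_dvd h.two_dvd hcop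
    haveI := hftA hA
    exact main_aux _ G φ rfl hcop (fun _ => hA) M hMi hMt hmax hnil h2
  · exact hftG h

end CfsgLib.FGS.InvMaxSolvable
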