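import Cfsg.Agent.Lib.FGS.Basics
import Cfsg.Agent.Lib.Classical.QuadBinary
import Cfsg.Prelude.Def_Transfer

/-!
Groups whose p-closed subgroups with cyclic quotient are restricted.
-/

set_option autoImplicit false

namespace CfsgLib.FGS.PByCyclic

variable {G : Type*} [Group G] {p : ℕ}

theorem sup_zpowers_card_dvd [Finite G] (S0 : Subgroup G) {y : G}
    (hy : y ∈ Subgroup.normalizer (S0 : Set G)) :
    ∀ (H : Subgroup G), H = S0 ⊔ Subgroup.zpowers y →
      (S0.subgroupOf H).Normal ∧ (S0.subgroupOf H).index ∣ orderOf y ∧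
      ∀ [(S0.subgroupOf H).Normal], IsCyclic (↥H ⧸ S0.subgroupOf H) := by
  intro H hH
  have hSH : S0 ≤ H := hH ▸ le_sup_left
  have hHN : H ≤ Subgroup.normalizer (S0 : Set G) :=
    hH ▸ sup_le Subgroup.le_normalizer (Subgroup.zpowers_le.2 hy)
  have hn : (S0.subgroupOf H).Normal := Subgroup.normal_subgroupOf_of_le_normalizer hHN
  have hyH : y ∈ H := hH ▸ Subgroup.mem_sup_right (Subgroup.mem_zpowers y)
  haveI := hn
  set π := QuotientGroup.mk' (S0.subgroupOf H)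
  have hgen : Subgroup.zpowers (π ⟨y, hyH⟩) = ⊤ := by
    rw [eq_top_iff]
    intro q _
    obtain ⟨⟨x, hx⟩, rfl⟩ := QuotientGroup.mk'_surjective _ q
    let L : Subgroup G := ((Subgroup.zpowers (π ⟨y, hyH⟩)).comap π).map H.subtype
    have h1 : S0 ≤ L := fun s hs => ⟨⟨s, hSH hs⟩, by
      rw [SetLike.mem_coe, Subgroup.mem_comap,
        show π ⟨s, hSH hs⟩ = 1 from (QuotientGroup.eq_one_iff _).2 hs]
      exact Subgroup.one_mem _, rfl⟩
    have h2 : y ∈ L := ⟨⟨y, hyH⟩, by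
      rw [SetLike.mem_coe, Subgroup.mem_comap]; exact Subgroup.mem_zpowers _, rfl⟩
    obtain ⟨⟨x', hx'⟩, hx'm, rfl⟩ := (sup_le h1 (Subgroup.zpowers_le.2 h2)) (hH ▸ hx)
    exact hx'm
  refine ⟨hn, ?_, fun {_} => ⟨⟨π ⟨y, hyH⟩, fun q => hgen.ge (Subgroup.mem_top q)⟩⟩⟩
  rw [Subgroup.index_eq_card, ← Subgroup.card_top, ← hgen, Nat.card_zpowers]
  exact (orderOf_map_dvd π _).trans (by rw [Subgroup.orderOf_mk])

/-- The subgroup generated by a p-group and a normalising p'-element satisfies the hypotheses. -/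
theorem pClosed_sup_zpowers [Finite G] [Fact p.Prime] (S0 : Subgroup G) (hS0 : IsPGroup p S0)
    {y : G} (hy : y ∈ Subgroup.normalizer (S0 : Set G)) (hyp : (orderOf y).Coprime p)
    (H : Subgroup G) (hH : H = S0 ⊔ Subgroup.zpowers y) :
    (∀ S : Sylow p ↥H, (S : Subgroup ↥H).Normal) ∧
      ∀ (S : Sylow p ↥H) [(S : Subgroup ↥H).Normal], IsCyclic (↥H ⧸ (S : Subgroup ↥H)) := by
  obtain ⟨hn, hdvd, hcyc⟩ := sup_zpowers_card_dvd S0 hy H hH
  have hp : IsPGroup p (S0.subgroupOf H) := hS0.comap_of_injective H.subtype H.subtype_injective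
  have hidx : ¬ p ∣ (S0.subgroupOf H).index := fun h =>
    (Fact.out : p.Prime).ne_one (Nat.eq_one_of_dvd_coprimes hyp (h.trans hdvd) dvd_rfl)
  let T : Sylow p H := hp.toSylow hidx
  haveI : (T : Subgroup H).Normal := hn
  letI := Sylow.unique_of_normal T hn
  constructor
  · intro S
    rw [Subsingleton.elim S T]
    exact hn
  · intro S hS
    obtain rfl := Subsingleton.elim S T
    exact hcyc

/-- An automorphism of order prime to `p` of a cyclic p-group fixing the elements of order `p`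
is trivial. -/
theorem commute_of_fix_omega [Finite G] [hp : Fact p.Prime] (S : Subgroup G) (hS : IsPGroup p S)
    (hc : IsCyclic S) {y : G} (hy : y ∈ Subgroup.normalizer (S : Set G))
    (hyp : (orderOf y).Coprime p) {q : G} (hq : q ∈ S) (hqo : orderOf q = p)
    (hfix : y * q * y⁻¹ = q) : ∀ s ∈ S, y * s = s * y := by
  obtain ⟨⟨a, ha⟩, hgen⟩ := hc.exists_generator
  have hgen' : ∀ s ∈ S, ∃ k : ℕ, a ^ k = s := fun s hs => by
    obtain ⟨k, hk⟩ := (mem_powers_iff_mem_zpowers.2 (hgen ⟨s, hs⟩))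
    exact ⟨k, congrArg Subtype.val hk⟩
  obtain ⟨n, hn⟩ := IsPGroup.iff_orderOf.1 hS ⟨a, ha⟩
  rw [Subgroup.orderOf_mk] at hn
  obtain ⟨k, hk⟩ := hgen' _ ((Subgroup.mem_normalizer_iff.1 hy a).1 ha)
  obtain ⟨i, hi⟩ := hgen' q hq
  -- `k ≡ 1 mod p`
  have hkp : (p : ℤ) ∣ (k : ℤ) - 1 := by
    have h1 : y * q * y⁻¹ = q ^ k := by
      rw [← hi, ← conj_pow, ← hk, ← pow_mul, ← pow_mul, mul_comm]
    rw [hfix, eq_comm] at h1
    have h2 : q ^ k = q ^ 1 := by rw [h1, pow_one]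
    rw [pow_eq_pow_iff_modEq, hqo] at h2
    exact Nat.modEq_iff_dvd.1 h2.symm
  have hiter : ∀ m : ℕ, y ^ m * a * (y ^ m)⁻¹ = a ^ (k ^ m) := by
    intro m
    induction m with
    | zero => simp
    | succ m ih =>
      calc y ^ (m + 1) * a * (y ^ (m + 1))⁻¹ = y ^ m * (y * a * y⁻¹) * (y ^ m)⁻¹ := by
            rw [pow_succ]; group
        _ = y ^ m * a ^ k * (y ^ m)⁻¹ := by rw [hk]
        _ = (y ^ m * a * (y ^ m)⁻¹) ^ k := conj_pow.symm
        _ = a ^ (k ^ (m + 1)) := by rw [ih, ← pow_mul, pow_succ]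
  have hpn : a ^ (k ^ (p ^ n)) = a := by
    have h1 := dvd_sub_pow_of_dvd_sub hkp n
    rw [one_pow] at h1
    have h2 : ((p ^ n : ℕ) : ℤ) ∣ ((k ^ (p ^ n) : ℕ) : ℤ) - ((1 : ℕ) : ℤ) := by
      push_cast
      exact (pow_dvd_pow _ (Nat.le_succ n)).trans h1
    conv_rhs => rw [← pow_one a]
    rw [pow_eq_pow_iff_modEq, hn]
    exact (Nat.modEq_iff_dvd.2 h2).symm
  have hcomm : Commute (y ^ (p ^ n)) a := by
    have := hiter (p ^ n)
    rw [hpn, mul_inv_eq_iff_eq_mul] at this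
    exact this
  obtain ⟨m, hm⟩ := exists_pow_eq_self_of_coprime (hyp.symm.pow_left n) (x := y)
  intro s hs
  obtain ⟨j, rfl⟩ := hgen' s hs
  rw [← hm]
  exact ((hcomm.pow_left m).pow_right j).eq

theorem mem_normalizer_of_conj [Finite G] {S : Subgroup G} {x : G}
    (h : ∀ s ∈ S, x * s * x⁻¹ ∈ S) : x ∈ Subgroup.normalizer (S : Set G) := by
  have hmap : S.map (MulAut.conj x).toMonoidHom = S :=
    Subgroup.eq_of_le_of_card_ge (by rintro _ ⟨s, hs, rfl⟩; exact h s hs)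
      (by rw [Subgroup.card_map_of_injective (MulAut.conj x).injective])
  rw [Subgroup.mem_normalizer_iff]
  refine fun z => ⟨h z, fun hz => ?_⟩
  rw [← hmap] at hz
  obtain ⟨z', hz', he⟩ := hz
  exact (MulAut.conj x).injective he ▸ hz'

/-- A subgroup of a normalised cyclic group is normalised. -/
theorem conj_mem_zpowers_of_cyclic (S : Subgroup G) (hc : IsCyclic S) {y q : G}
    (hy : y ∈ Subgroup.normalizer (S : Set G)) (hq : q ∈ S) :
    y * q * y⁻¹ ∈ Subgroup.zpowers q := by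
  obtain ⟨⟨a, ha⟩, hgen⟩ := hc.exists_generator
  obtain ⟨i, hi⟩ := Subgroup.mem_zpowers_iff.1 (hgen ⟨q, hq⟩)
  obtain ⟨k, hk⟩ := Subgroup.mem_zpowers_iff.1
    (hgen ⟨_, (Subgroup.mem_normalizer_iff.1 hy a).1 ha⟩)
  have hi' : a ^ i = q := by simpa using congrArg Subtype.val hi
  have hk' : a ^ k = y * a * y⁻¹ := by simpa using congrArg Subtype.val hk
  refine Subgroup.mem_zpowers_iff.2 ⟨k, ?_⟩
  rw [← hi', ← conj_zpow, ← hk', ← zpow_mul, ← zpow_mul, mul_comm]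

/-- Frattini argument inside a normalised subgroup containing a Sylow subgroup. -/
theorem exists_mul_mem_normalizer [Finite G] [Fact p.Prime] (P : Sylow p G) {K : Subgroup G}
    (hPK : (P : Subgroup G) ≤ K) {a : G} (ha : a ∈ Subgroup.normalizer (K : Set G)) :
    ∃ c ∈ K, c * a ∈ Subgroup.normalizer ((P : Subgroup G) : Set G) := by
  have hPK' : ((a • P : Sylow p G) : Subgroup G) ≤ K := by
    rintro _ ⟨x, hx, rfl⟩
    exact (Subgroup.mem_normalizer_iff.1 ha x).1 (hPK hx)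
  obtain ⟨c, hc⟩ := MulAction.exists_smul_eq K ((a • P).subtype hPK') (P.subtype hPK)
  refine ⟨c, c.2, ?_⟩
  refine Sylow.smul_eq_iff_mem_normalizer.1 ?_
  rw [mul_smul]
  rw [Sylow.smul_subtype] at hc
  exact Sylow.subtype_injective hc

theorem ne_inv_of_orderOf_eq [hp : Fact p.Prime] (hp2 : p ≠ 2) {q : G} (hq : orderOf q = p) :
    q ≠ q⁻¹ := by
  intro h
  have h2 : q ^ 2 = 1 := by rw [pow_two]; nth_rewrite 2 [h]; exact mul_inv_cancel q
  have := orderOf_dvd_of_pow_eq_one h2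
  rw [hq] at this
  exact hp2 ((Nat.prime_dvd_prime_iff_eq hp.out Nat.prime_two).1 this)

/-- In a dihedral group of order `2 p ^ n`, a `p'`-element either centralises a given normalised
p-subgroup or is an involution inverting it. -/
theorem commute_or_invert [Finite G] [hp : Fact p.Prime] (hp2 : p ≠ 2)
    (hR : ∀ H : Subgroup G, (∀ S : Sylow p ↥H, (S : Subgroup ↥H).Normal) →
        (∀ (S : Sylow p ↥H) [(S : Subgroup ↥H).Normal], IsCyclic (↥H ⧸ (S : Subgroup ↥H))) →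
        IsCyclic H ∨ (∃ n : ℕ, Nonempty (H ≃* DihedralGroup (p ^ n))))
    (S0 : Subgroup G) (hS0 : IsPGroup p S0) {y : G} (hy : y ∈ Subgroup.normalizer (S0 : Set G))
    (hyp : (orderOf y).Coprime p) :
    (∀ s ∈ S0, y * s = s * y) ∨ (orderOf y = 2 ∧ ∀ s ∈ S0, y * s * y⁻¹ = s⁻¹) := by
  set H := S0 ⊔ Subgroup.zpowers y with hH
  obtain ⟨h1, h2⟩ := pClosed_sup_zpowers S0 hS0 hy hyp H hH
  have hyH : y ∈ H := Subgroup.mem_sup_right (Subgroup.mem_zpowers y)
  rcases hR H h1 h2 with hc | ⟨n, ⟨e⟩⟩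
  · left
    intro s hs
    exact congrArg Subtype.val
      ((IsCyclic.commGroup (α := H)).mul_comm ⟨y, hyH⟩ ⟨s, Subgroup.mem_sup_left hs⟩)
  haveI : NeZero (p ^ n) := ⟨pow_ne_zero _ hp.out.ne_zero⟩
  have hrot : ∀ s (hs : s ∈ S0), ∃ i, e ⟨s, Subgroup.mem_sup_left hs⟩ = DihedralGroup.r i := by
    intro s hs
    rcases hes : e ⟨s, Subgroup.mem_sup_left hs⟩ with i | i
    · exact ⟨i, rfl⟩
    · exfalso
      have ho : orderOf s = 2 := by
        have := DihedralGroup.orderOf_sr i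
        rwa [← hes, MulEquiv.orderOf_eq, Subgroup.orderOf_mk] at this
      obtain ⟨k, hk⟩ := IsPGroup.iff_orderOf.1 hS0 ⟨s, hs⟩
      rw [Subgroup.orderOf_mk, ho] at hk
      rcases k with _ | k
      · simp at hk
      · exact hp2 ((Nat.prime_dvd_prime_iff_eq hp.out Nat.prime_two).1 ⟨p ^ k, by rw [hk, pow_succ']⟩)
  rcases hey : e ⟨y, hyH⟩ with i | i
  · left
    intro s hs
    obtain ⟨j, hj⟩ := hrot s hs
    refine congrArg Subtype.val (e.injective (a₁ := ⟨y, hyH⟩ * ⟨s, Subgroup.mem_sup_left hs⟩)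
      (a₂ := ⟨s, Subgroup.mem_sup_left hs⟩ * ⟨y, hyH⟩) ?_)
    rw [map_mul, map_mul, hey, hj, DihedralGroup.r_mul_r, DihedralGroup.r_mul_r, add_comm]
  · right
    refine ⟨by rw [← Subgroup.orderOf_mk y hyH, ← MulEquiv.orderOf_eq e, hey, DihedralGroup.orderOf_sr],
      fun s hs => ?_⟩
    obtain ⟨j, hj⟩ := hrot s hs
    refine congrArg Subtype.val (e.injective
      (a₁ := ⟨y, hyH⟩ * ⟨s, Subgroup.mem_sup_left hs⟩ * ⟨y, hyH⟩⁻¹)
      (a₂ := ⟨s, Subgroup.mem_sup_left hs⟩⁻¹) ?_)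
    rw [map_mul, map_mul, map_inv, map_inv, hey, hj, DihedralGroup.inv_sr, DihedralGroup.inv_r,
      DihedralGroup.sr_mul_r, DihedralGroup.sr_mul_sr]
    congr 1
    ring

/-- A p-group is not dihedral of order `2 p ^ n` for odd `p`. -/
theorem isCyclic_of_pGroup [Finite G] [hp : Fact p.Prime] (hp2 : p ≠ 2)
    (hR : ∀ H : Subgroup G, (∀ S : Sylow p ↥H, (S : Subgroup ↥H).Normal) →
        (∀ (S : Sylow p ↥H) [(S : Subgroup ↥H).Normal], IsCyclic (↥H ⧸ (S : Subgroup ↥H))) →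
        IsCyclic H ∨ (∃ n : ℕ, Nonempty (H ≃* DihedralGroup (p ^ n))))
    (S0 : Subgroup G) (hS0 : IsPGroup p S0) : IsCyclic S0 := by
  obtain ⟨h1, h2⟩ := pClosed_sup_zpowers S0 hS0 (y := 1) (Subgroup.one_mem _) (by simp) S0
    (by simp)
  refine (hR S0 h1 h2).resolve_right ?_
  rintro ⟨n, ⟨e⟩⟩
  obtain ⟨k, hk⟩ := IsPGroup.iff_card.1 hS0
  rw [Nat.card_congr e.toEquiv, DihedralGroup.nat_card] at hk
  exact hp2 ((Nat.prime_dvd_prime_iff_eq Nat.prime_two hp.out).1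
    (Nat.prime_two.dvd_of_dvd_pow (hk ▸ dvd_mul_right 2 _))).symm

/-- A group generated by a cyclic p-subgroup and a commuting p'-element is cyclic. -/
theorem isCyclic_sup_zpowers [Finite G] [hp : Fact p.Prime] (S : Subgroup G) (hS : IsPGroup p S)
    (hc : IsCyclic S) {y : G} (hyp : (orderOf y).Coprime p) (hcomm : ∀ s ∈ S, y * s = s * y) :
    IsCyclic ↥(S ⊔ Subgroup.zpowers y) := by
  obtain ⟨⟨a, ha⟩, hgen⟩ := hc.exists_generator
  obtain ⟨n, hn⟩ := IsPGroup.iff_orderOf.1 hS ⟨a, ha⟩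
  rw [Subgroup.orderOf_mk] at hn
  have hay : Commute a y := (hcomm a ha).symm
  have hcop : (orderOf a).Coprime (orderOf y) := by
    rw [hn]; exact (hyp.symm).pow_left n
  refine (Subgroup.isCyclic_iff_exists_zpowers_eq_top _).2 ⟨a * y, ?_⟩
  refine le_antisymm (Subgroup.zpowers_le.2 (mul_mem (Subgroup.mem_sup_left ha)
    (Subgroup.mem_sup_right (Subgroup.mem_zpowers y)))) (sup_le ?_ ?_)
  · have h1 : a ∈ Subgroup.zpowers (a * y) := by
      obtain ⟨m, hm⟩ := exists_pow_eq_self_of_coprime (x := a) hcop.symm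
      have e : ((a * y) ^ orderOf y) ^ m = a := by
        rw [hay.mul_pow, pow_orderOf_eq_one, mul_one, hm]
      have h2 := Subgroup.pow_mem _ (Subgroup.pow_mem _ (Subgroup.mem_zpowers (a * y)) (orderOf y)) m
      rwa [e] at h2
    intro s hs
    obtain ⟨i, hi⟩ := Subgroup.mem_zpowers_iff.1 (hgen ⟨s, hs⟩)
    rw [← show a ^ i = s from by simpa using congrArg Subtype.val hi]
    exact Subgroup.zpow_mem _ h1 i
  · obtain ⟨m, hm⟩ := exists_pow_eq_self_of_coprime (x := y) hcop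
    rw [Subgroup.zpowers_le]
    have e : ((a * y) ^ orderOf a) ^ m = y := by
      rw [hay.mul_pow, pow_orderOf_eq_one, one_mul, hm]
    have h2 := Subgroup.pow_mem _ (Subgroup.pow_mem _ (Subgroup.mem_zpowers (a * y)) (orderOf a)) m
    rwa [e] at h2

/-- A group generated by a cyclic p-subgroup and an inverting involution is dihedral. -/
theorem dihedral_sup_zpowers [Finite G] [hp : Fact p.Prime] (hp2 : p ≠ 2) (S : Subgroup G)
    (hS : IsPGroup p S) (hc : IsCyclic S) {y : G} (hy2 : orderOf y = 2)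
    (hinv : ∀ s ∈ S, y * s * y⁻¹ = s⁻¹) :
    ∃ n : ℕ, Nonempty (↥(S ⊔ Subgroup.zpowers y) ≃* DihedralGroup (p ^ n)) := by
  obtain ⟨⟨a, ha⟩, hgen⟩ := hc.exists_generator
  obtain ⟨n, hn⟩ := IsPGroup.iff_orderOf.1 hS ⟨a, ha⟩
  rw [Subgroup.orderOf_mk] at hn
  have hSa : S = Subgroup.zpowers a := by
    refine le_antisymm (fun s hs => ?_) (Subgroup.zpowers_le.2 ha)
    obtain ⟨i, hi⟩ := Subgroup.mem_zpowers_iff.1 (hgen ⟨s, hs⟩)
    exact Subgroup.mem_zpowers_iff.2 ⟨i, by simpa using congrArg Subtype.val hi⟩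
  refine ⟨n, ?_⟩
  set H := S ⊔ Subgroup.zpowers y with hH
  have hyy : y * y = 1 := by rw [← pow_two, ← hy2, pow_orderOf_eq_one]
  have hyS : y ∉ S := by
    intro h
    obtain ⟨k, hk⟩ := IsPGroup.iff_orderOf.1 hS ⟨y, h⟩
    rw [Subgroup.orderOf_mk, hy2] at hk
    exact hp2 ((Nat.prime_dvd_prime_iff_eq Nat.prime_two hp.out).1
      (Nat.prime_two.dvd_of_dvd_pow (dvd_of_eq hk))).symm
  have hyN : y ∈ Subgroup.normalizer (S : Set G) := by
    rw [Subgroup.mem_normalizer_iff]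
    have hyi : y⁻¹ = y := inv_eq_of_mul_eq_one_right hyy
    refine fun s => ⟨fun hs => by rw [hinv s hs]; exact S.inv_mem hs, fun hs => ?_⟩
    have h := hinv _ hs
    rw [hyi] at h
    have h' : s = (y * s * y⁻¹)⁻¹ := by
      rw [hyi, ← h]
      calc s = (y * y) * s * (y * y) := by rw [hyy]; simp
        _ = y * (y * s * y) * y := by group
    rw [h']
    exact S.inv_mem hs
  have hyH : y ∈ H := Subgroup.mem_sup_right (Subgroup.mem_zpowers y)
  have haH : a ∈ H := Subgroup.mem_sup_left ha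
  have hcard : Nat.card H = 2 * p ^ n := by
    obtain ⟨hnorm, hdvd, -⟩ := sup_zpowers_card_dvd S hyN H hH
    have hmul := (S.subgroupOf H).card_mul_index
    rw [Nat.card_congr (Subgroup.subgroupOfEquivOfLe (le_sup_left : S ≤ H)).toEquiv, hSa,
      Nat.card_zpowers, hn] at hmul
    rw [hy2] at hdvd
    rw [← hSa] at hmul
    rcases (Nat.dvd_prime Nat.prime_two).1 hdvd with h | h
    · exfalso
      rw [Subgroup.index_eq_one] at h
      have : (⟨y, hyH⟩ : H) ∈ S.subgroupOf H := h ▸ Subgroup.mem_top _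
      exact hyS this
    · rw [← hmul, h]; ring
  refine CfsgLib.Classical.dihedral_of_rotation (pow_pos hp.out.pos n) (r := (⟨a, haH⟩ : H))
    (s := ⟨y, hyH⟩) (by rw [Subgroup.orderOf_mk, hn]) (Subtype.ext hyy) (Subtype.ext ?_) ?_ hcard
  · have h := hinv a ha
    rw [inv_eq_of_mul_eq_one_right hyy] at h
    simpa using h
  · intro h
    obtain ⟨i, hi⟩ := Subgroup.mem_zpowers_iff.1 h
    exact hyS (hSa ▸ Subgroup.mem_zpowers_iff.2 ⟨i, by simpa using congrArg Subtype.val hi⟩)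

end CfsgLib.FGS.PByCyclic
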