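import Cfsg.Agent.Lib.FGS.CoprimeNilpotentMaximal
import Cfsg.Agent.Lib.FGS.PByCyclic
import Cfsg.Agent.Lib.Solvable.Generation
import Cfsg.Agent.Lib.Techniques.Functor.CentralGlobal
import Cfsg.Agent.Lib.Transfer.AlperinTame
import Cfsg.Agent.Lib.Transfer.Frobenius
import Cfsg.Agent.Lib.OddLocal.Basic

/-!
A nilpotent maximal invariant subgroup, containing a Sylow 2-subgroup of class at most two, under a
group of operators of odd order: the group has a normal 2-complement.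

The main point: a subgroup `D` of index 2 in the Sylow subgroup with normalizer not inside `M` has at
most one partner `D'` in which its critical central subgroup is not contained, and the partnership is
symmetric; so an orbit of odd length contains no pair of partners and its intersection is normalized
by too much.
-/

set_option autoImplicit false

open scoped commutatorElement Pointwise

namespace CfsgLib.FGS.InvMaxTwo

open Subgroup CfsgLib.FGS.NilpotentMaximal

variable {A : Type*} [Group A] {G : Type*} [Group G]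

/-- The situation: `M` is nilpotent, contains the Sylow 2-subgroup `P`, and is the normalizer of every
nontrivial invariant subgroup of `M` which it normalizes. -/
structure Ctx (φ : A →* MulAut G) (M : Subgroup G) (P : Sylow 2 G) : Prop where
  hPM : (P : Subgroup G) ≤ M
  hnil : Group.IsNilpotent M
  hPi : Inv φ (P : Subgroup G)
  hNP : normalizer ((P : Subgroup G) : Set G) = M
  hloc : ∀ X : Subgroup G, X ≠ ⊥ → X ≤ M → M ≤ normalizer (X : Set G) → Inv φ X →
    normalizer (X : Set G) = M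
  hcl : ∀ a ∈ (P : Subgroup G), ∀ b ∈ (P : Subgroup G), ∀ c ∈ (P : Subgroup G),
    c * ⁅a, b⁆ = ⁅a, b⁆ * c

variable {φ : A →* MulAut G} {M : Subgroup G} {P : Sylow 2 G}

theorem pow_conj_of_comm {y d e : G} (h : y * d * y⁻¹ = e * d) (hye : y * e = e * y) :
    ∀ n : ℕ, y ^ n * d * (y ^ n)⁻¹ = e ^ n * d := by
  intro n
  induction n with
  | zero => simp
  | succ n ih =>
    calc y ^ (n + 1) * d * (y ^ (n + 1))⁻¹ = y * (y ^ n * d * (y ^ n)⁻¹) * y⁻¹ := by
          rw [pow_succ']; group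
      _ = (y * e ^ n * y⁻¹) * (y * d * y⁻¹) := by rw [ih]; group
      _ = e ^ n * (e * d) := by
          rw [h, ((show Commute y e from hye).pow_right n).eq, mul_inv_cancel_right]
      _ = e ^ (n + 1) * d := by rw [← mul_assoc, ← pow_succ]

/-- An element of odd order moving `d` by a fixed 2-element fixes `d`. -/
theorem commute_of_stab [Finite G] {y d : G} (hy : (orderOf y).Coprime 2) {k : ℕ}
    (he : ⁅y, d⁆ ^ 2 ^ k = 1) (hye : y * ⁅y, d⁆ = ⁅y, d⁆ * y) : y * d = d * y := by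
  have h := pow_conj_of_comm (y := y) (d := d) (e := ⁅y, d⁆)
    (by rw [commutatorElement_def]; group) hye (orderOf y)
  rw [pow_orderOf_eq_one, one_mul, inv_one, mul_one, right_eq_mul] at h
  have h1 : ⁅y, d⁆ = 1 := orderOf_eq_one_iff.1 (Nat.eq_one_of_dvd_coprimes (hy.pow_right k)
    (orderOf_dvd_of_pow_eq_one h) (orderOf_dvd_of_pow_eq_one he))
  exact commutatorElement_eq_one_iff_mul_comm.1 h1

theorem exists_two_pow (C : Ctx φ M P) {x : G} (hx : x ∈ (P : Subgroup G)) :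
    ∃ k : ℕ, x ^ 2 ^ k = 1 := by
  obtain ⟨k, hk⟩ := P.2 ⟨x, hx⟩
  exact ⟨k, congrArg Subtype.val hk⟩

/-- Elements of odd order fixing the involutions of an abelian normalised 2-group fix it. -/
theorem fix_omega [Finite G] {y : G} (hy : (orderOf y).Coprime 2) {F : Subgroup G}
    (hF : ∀ a ∈ F, ∀ b ∈ F, a * b = b * a) (hyF : y ∈ normalizer (F : Set G))
    (hfix : ∀ v ∈ F, v * v = 1 → y * v = v * y) :
    ∀ (k : ℕ), ∀ v ∈ F, v ^ 2 ^ k = 1 → y * v = v * y := by
  intro k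
  induction k with
  | zero => intro v _ hv; simp_all
  | succ k ih =>
    intro v hv hvk
    have h2 : y * (v * v) = v * v * y := ih _ (mul_mem hv hv) (by
      rw [← pow_two, ← pow_mul, ← pow_succ']; exact hvk)
    have heF : ⁅y, v⁆ ∈ F := by
      rw [commutatorElement_def]
      exact mul_mem ((mem_normalizer_iff.1 hyF v).1 hv) (inv_mem hv)
    have he2 : ⁅y, v⁆ * ⁅y, v⁆ = 1 := by
      have hv' : y * v * y⁻¹ ∈ F := (mem_normalizer_iff.1 hyF v).1 hv
      calc ⁅y, v⁆ * ⁅y, v⁆ = (y * v * y⁻¹) * (v⁻¹ * (y * v * y⁻¹)) * v⁻¹ := by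
            rw [commutatorElement_def]; group
        _ = (y * v * y⁻¹) * ((y * v * y⁻¹) * v⁻¹) * v⁻¹ := by rw [hF _ (inv_mem hv) _ hv']
        _ = y * (v * v) * y⁻¹ * (v⁻¹ * v⁻¹) := by group
        _ = v * v * y * y⁻¹ * (v⁻¹ * v⁻¹) := by rw [h2]
        _ = 1 := by group
    exact commute_of_stab hy (k := 1) (by rw [pow_one, pow_two]; exact he2)
      (hfix _ heF he2)

/-- The centre of `P`, as a subgroup of `G`. -/
def zS (P : Sylow 2 G) : Subgroup G := (P : Subgroup G) ⊓ centralizer ((P : Subgroup G) : Set G)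

theorem comm_mem_zS (C : Ctx φ M P) {a b : G} (ha : a ∈ (P : Subgroup G))
    (hb : b ∈ (P : Subgroup G)) : ⁅a, b⁆ ∈ zS P := by
  refine mem_inf.2 ⟨?_, mem_centralizer_iff.2 fun c hc => C.hcl a ha b hb c hc⟩
  rw [commutatorElement_def]
  exact mul_mem (mul_mem (mul_mem ha hb) (inv_mem ha)) (inv_mem hb)

theorem derived_le_zS (C : Ctx φ M P) {D : Subgroup G} (hD : D ≤ (P : Subgroup G)) :
    ⁅D, D⁆ ≤ zS P :=
  commutator_le.2 fun _ ha _ hb => comm_mem_zS C (hD ha) (hD hb)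

theorem two_mem [Finite G] (C : Ctx φ M P) {u : G} (hu : u ∈ M) {k : ℕ} (hk : orderOf u = 2 ^ k) :
    u ∈ (P : Subgroup G) := by
  have h1 : IsPGroup 2 ↥((P : Subgroup G) ⊔ zpowers u) :=
    P.2.to_sup_of_normal_left' (CfsgLib.FGS.isPGroup_zpowers hk)
      (zpowers_le.2 (C.hNP.symm ▸ hu))
  exact (P.3 h1 le_sup_left).le (mem_sup_right (mem_zpowers u))

theorem odd_comm [Finite G] (C : Ctx φ M P) {y : G} (hy : y ∈ M) (hyo : (orderOf y).Coprime 2)
    {s : G} (hs : s ∈ (P : Subgroup G)) : y * s = s * y := by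
  haveI := C.hnil
  obtain ⟨k, hk⟩ := exists_two_pow C hs
  have h := CfsgLib.OddLocal.commute_of_coprime_orderOf (⟨y, hy⟩ : M) ⟨s, C.hPM hs⟩ (by
    rw [orderOf_mk, orderOf_mk]
    exact (hyo.pow_right k).coprime_dvd_right (orderOf_dvd_of_pow_eq_one hk))
  exact congrArg Subtype.val h

theorem decomp [Finite G] (C : Ctx φ M P) {x : G} (hx : x ∈ M) :
    ∃ u ∈ (P : Subgroup G), ∃ y ∈ M, (orderOf y).Coprime 2 ∧ u * y = x := by
  obtain ⟨i, j, hi, hj, hij, -⟩ := CfsgLib.FGS.exists_p_parts 2 x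
  obtain ⟨k, hk⟩ := hi
  exact ⟨_, two_mem C (pow_mem hx i) hk, _, pow_mem hx j, hj, hij⟩

/-- Everything between the centre of `P` and `P` is normalised by `M`. -/
theorem M_le_normalizer [Finite G] (C : Ctx φ M P) {X : Subgroup G} (hZ : zS P ≤ X)
    (hX : X ≤ (P : Subgroup G)) : M ≤ normalizer (X : Set G) := by
  intro x hx
  obtain ⟨u, hu, y, hy, hyo, rfl⟩ := decomp C hx
  refine mul_mem (CfsgLib.Solvable.mem_normalizer_of_conj_mem fun d hd => ?_)
    (CfsgLib.Solvable.mem_normalizer_of_conj_mem fun d hd => ?_)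
  · have h := mul_mem (hZ (comm_mem_zS C hu (hX hd))) hd
    rwa [commutatorElement_def, inv_mul_cancel_right] at h
  · rw [odd_comm C hy hyo (hX hd), mul_inv_cancel_right]
    exact hd

/-- Frattini: a subgroup normalised by `L` containing `P` and the odd part of `M` contains `L`. -/
theorem top_of_normal [Finite G] (C : Ctx φ M P) {L K : Subgroup G} (hML : M ≤ L) (hKL : K ≤ L)
    (hLK : L ≤ normalizer (K : Set G)) (hPK : (P : Subgroup G) ≤ K)
    (hodd : ∀ y ∈ M, (orderOf y).Coprime 2 → y ∈ K) : L ≤ K := by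
  have hMK : M ≤ K := fun x hx => by
    obtain ⟨u, hu, y, hy, hyo, rfl⟩ := decomp C hx
    exact mul_mem (hPK hu) (hodd y hy hyo)
  intro x hx
  obtain ⟨c, hc, hcx⟩ := PByCyclic.exists_mul_mem_normalizer P hPK (hLK hx)
  rw [C.hNP] at hcx
  exact (mul_mem_cancel_left hc).1 (hMK hcx)

/-- If `P` acts trivially on `D` modulo `W` then so does every subgroup over `M` normalising both. -/
theorem triv_all [Finite G] (C : Ctx φ M P) {L D W : Subgroup G} (hML : M ≤ L)
    (hLD : L ≤ normalizer (D : Set G)) (hLW : L ≤ normalizer (W : Set G))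
    (hDP : D ≤ (P : Subgroup G))
    (h : ∀ s ∈ (P : Subgroup G), ∀ d ∈ D, ⁅s, d⁆ ∈ W) : ∀ x ∈ L, ∀ d ∈ D, ⁅x, d⁆ ∈ W := by
  let K : Subgroup G :=
    { carrier := {x | x ∈ L ∧ ∀ d ∈ D, ⁅x, d⁆ ∈ W}
      one_mem' := ⟨L.one_mem, fun d _ => by rw [commutatorElement_one_left]; exact W.one_mem⟩
      mul_mem' := fun {a b} ha hb => ⟨mul_mem ha.1 hb.1, fun d hd => by
        have e : ⁅a * b, d⁆ = a * ⁅b, d⁆ * a⁻¹ * ⁅a, d⁆ := by
          simp only [commutatorElement_def]; group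
        rw [e]
        exact mul_mem ((mem_normalizer_iff.1 (hLW ha.1) _).1 (hb.2 d hd)) (ha.2 d hd)⟩
      inv_mem' := fun {a} ha => ⟨inv_mem ha.1, fun d hd => by
        have e : ⁅a⁻¹, d⁆ = a⁻¹ * ⁅a, d⁆⁻¹ * a⁻¹⁻¹ := by
          simp only [commutatorElement_def]; group
        rw [e]
        exact (mem_normalizer_iff.1 (hLW (inv_mem ha.1)) _).1 (inv_mem (ha.2 d hd))⟩ }
  have hle : L ≤ K := top_of_normal C hML (fun x hx => hx.1)
    (CfsgLib.Solvable.le_normalizer_of_conj_mem fun l hl x hx =>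
      ⟨mul_mem (mul_mem hl hx.1) (inv_mem hl), fun d hd => by
        have hd' : l⁻¹ * d * l ∈ D := by
          have := (mem_normalizer_iff.1 (hLD (inv_mem hl)) d).1 hd
          rwa [inv_inv] at this
        have e : ⁅l * x * l⁻¹, d⁆ = l * ⁅x, l⁻¹ * d * l⁆ * l⁻¹ := by
          simp only [commutatorElement_def]; group
        rw [e]
        exact (mem_normalizer_iff.1 (hLW hl) _).1 (hx.2 _ hd')⟩)
    (fun s hs => ⟨hML (C.hPM hs), h s hs⟩)
    (fun y hy hyo => ⟨hML hy, fun d hd => by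
      rw [commutatorElement_eq_one_iff_mul_comm.2 (odd_comm C hy hyo (hDP hd))]
      exact W.one_mem⟩)
  exact fun x hx => (hle hx).2

/-- A subgroup over `P` whose elements of odd order lie in `M` lies in `M`. -/
theorem le_M [Finite G] (C : Ctx φ M P) {H : Subgroup G} (hPH : (P : Subgroup G) ≤ H)
    (hodd : ∀ y ∈ H, (orderOf y).Coprime 2 → y ∈ M) : H ≤ M := by
  rw [← subgroupOf_eq_top, ← index_eq_one]
  by_contra hne
  obtain ⟨q, hq, hqd⟩ := Nat.exists_prime_and_dvd hne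
  haveI := Fact.mk hq
  obtain ⟨R, hRM, hR⟩ : ∃ R : Subgroup H, R ≤ M.subgroupOf H ∧ ¬ q ∣ R.index := by
    by_cases hq2 : q = 2
    · subst hq2
      exact ⟨((P.subtype hPH : Sylow 2 H) : Subgroup H), fun x hx => C.hPM hx,
        (P.subtype hPH).not_dvd_index⟩
    · obtain ⟨R⟩ := (inferInstance : Nonempty (Sylow q H))
      refine ⟨R, fun x hx => hodd _ x.2 ?_, R.not_dvd_index⟩
      obtain ⟨k, hk⟩ := IsPGroup.iff_orderOf.1 R.2 ⟨x, hx⟩
      rw [orderOf_mk] at hk
      show (orderOf ((x : H) : G)).Coprime 2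
      rw [orderOf_coe, hk]
      exact ((Nat.coprime_primes hq Nat.prime_two).2 hq2).pow_left k
  exact hR (hqd.trans (index_dvd_of_le hRM))

theorem mem_M_of_fix [Finite G] (C : Ctx φ M P) (hne : ⁅(P : Subgroup G), (P : Subgroup G)⁆ ≠ ⊥)
    {y : G} (hy : ∀ d ∈ zS P, y * d = d * y) : y ∈ M := by
  have hdle := derived_le_zS C (le_refl (P : Subgroup G))
  have hPi' : Inv φ ⁅(P : Subgroup G), (P : Subgroup G)⁆ := by
    intro a x hx
    have h1 : φ a x ∈ (⁅(P : Subgroup G), (P : Subgroup G)⁆).map (φ a).toMonoidHom := ⟨x, hx, rfl⟩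
    rw [map_commutator] at h1
    exact commutator_mono (by rintro _ ⟨z, hz, rfl⟩; exact C.hPi a z hz)
      (by rintro _ ⟨z, hz, rfl⟩; exact C.hPi a z hz) h1
  have hMN : M ≤ normalizer ((⁅(P : Subgroup G), (P : Subgroup G)⁆ : Subgroup G) : Set G) := by
    intro x hx
    obtain ⟨u, hu, z, hz, hzo, rfl⟩ := decomp C hx
    refine mul_mem ?_ ?_ <;> refine CfsgLib.Solvable.mem_normalizer_of_conj_mem fun d hd => ?_
    · rw [(mem_centralizer_iff.1 (hdle hd).2 u hu), mul_inv_cancel_right]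
      exact hd
    · rw [odd_comm C hz hzo (hdle hd).1, mul_inv_cancel_right]
      exact hd
  rw [← C.hloc _ hne ((hdle.trans inf_le_left).trans C.hPM) hMN hPi']
  refine CfsgLib.Solvable.mem_normalizer_of_conj_mem fun d hd => ?_
  rw [hy d (hdle hd), mul_inv_cancel_right]
  exact hd

/-- The critical family. -/
def Fam (φ : A →* MulAut G) (M : Subgroup G) (P : Sylow 2 G) (X : Subgroup G) : Prop :=
  zS P ≤ X ∧ X ≤ (P : Subgroup G) ∧ normalizer (X : Set G) ≠ M

theorem Fam.inv [Finite G] (C : Ctx φ M P) (hMi : Inv φ M) {X : Subgroup G} (hX : Fam φ M P X)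
    (a : A) : Fam φ M P (X.map (φ a).toMonoidHom) := by
  have hP : (P : Subgroup G).map (φ a).toMonoidHom = (P : Subgroup G) := inv_map C.hPi a
  refine ⟨fun z hz => ?_, hP ▸ Subgroup.map_mono hX.2.1, fun hN => hX.2.2 ?_⟩
  · obtain ⟨hzP, hzC⟩ := mem_inf.1 hz
    rw [← hP] at hzP
    obtain ⟨w, hw, rfl⟩ := hzP
    refine ⟨w, hX.1 (mem_inf.2 ⟨hw, mem_centralizer_iff.2 fun d hd => (φ a).injective ?_⟩), rfl⟩
    rw [map_mul, map_mul]
    exact mem_centralizer_iff.1 hzC _ (C.hPi a d hd)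
  · have hM' : M.map (φ a).toMonoidHom = M := inv_map hMi a
    refine map_injective (f := (φ a).toMonoidHom) (φ a).injective ?_
    rw [hM']
    refine Eq.trans ?_ hN
    exact map_equiv_normalizer_eq X (φ a)

/-- A critical subgroup of index two, with squares inside. -/
theorem exists_index_two [Finite G] (C : Ctx φ M P)
    (hne : ⁅(P : Subgroup G), (P : Subgroup G)⁆ ≠ ⊥) (hex : ∃ X, Fam φ M P X) :
    ∃ D, Fam φ M P D ∧ ∀ a ∈ (P : Subgroup G), ∀ b ∈ (P : Subgroup G), a ∉ D → b ∉ D →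
      a⁻¹ * b ∈ D := by
  classical
  obtain ⟨X, hX, hmax⟩ := Set.Finite.exists_maximal (s := {X | Fam φ M P X}) (Set.toFinite _) hex
  obtain ⟨hZX, hXP, hXN⟩ := hX
  refine ⟨X, ⟨hZX, hXP, hXN⟩, ?_⟩
  set L := normalizer (X : Set G) with hL
  have hML : M ≤ L := M_le_normalizer C hZX hXP
  have hup : ∀ Y : Subgroup G, X < Y → Y ≤ (P : Subgroup G) → normalizer (Y : Set G) = M := by
    intro Y hY hYP
    by_contra h
    exact hY.not_ge (hmax ⟨hZX.trans hY.le, hYP, h⟩ hY.le)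
  let V : Set G := {v | v ∈ X ∧ (∀ d ∈ X, v * d = d * v) ∧ v * v = 1}
  have hVL : ∀ l ∈ L, ∀ v ∈ V, l * v * l⁻¹ ∈ V := by
    rintro l hl v ⟨hv, hvc, hv2⟩
    refine ⟨(mem_normalizer_iff.1 hl v).1 hv, fun d hd => ?_, ?_⟩
    · have h := hvc (l⁻¹ * d * l⁻¹⁻¹) ((mem_normalizer_iff.1 (inv_mem hl) d).1 hd)
      calc l * v * l⁻¹ * d = l * (v * (l⁻¹ * d * l⁻¹⁻¹)) * l⁻¹ := by group
        _ = l * ((l⁻¹ * d * l⁻¹⁻¹) * v) * l⁻¹ := by rw [h]
        _ = d * (l * v * l⁻¹) := by group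
    · calc l * v * l⁻¹ * (l * v * l⁻¹) = l * (v * v) * l⁻¹ := by group
        _ = 1 := by rw [hv2]; group
  let C1 : Subgroup G := L ⊓ centralizer V
  have hC1odd : ∀ y ∈ C1, (orderOf y).Coprime 2 → y ∈ M := by
    intro y hy hyo
    obtain ⟨hyL, hyV⟩ := mem_inf.1 hy
    refine mem_M_of_fix C hne fun d hd => ?_
    obtain ⟨k, hk⟩ := exists_two_pow C (mem_inf.1 hd).1
    have hdF : d ∈ X ⊓ centralizer (X : Set G) :=
      mem_inf.2 ⟨hZX hd, mem_centralizer_iff.2 fun x hx =>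
        mem_centralizer_iff.1 (mem_inf.1 hd).2 x (hXP hx)⟩
    refine fix_omega hyo (F := X ⊓ centralizer (X : Set G))
      (fun a ha b hb => (mem_centralizer_iff.1 (mem_inf.1 hb).2 a (mem_inf.1 ha).1))
      (CfsgLib.Solvable.mem_normalizer_of_conj_mem fun v hv => ?_)
      (fun v hv hv2 => (mem_centralizer_iff.1 hyV v ⟨(mem_inf.1 hv).1, fun e he =>
        (mem_centralizer_iff.1 (mem_inf.1 hv).2 e he).symm, hv2⟩).symm) k d hdF hk
    obtain ⟨hv1, hv2⟩ := mem_inf.1 hv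
    refine mem_inf.2 ⟨(mem_normalizer_iff.1 hyL v).1 hv1, mem_centralizer_iff.2 fun e he => ?_⟩
    have h := mem_centralizer_iff.1 hv2 (y⁻¹ * e * y⁻¹⁻¹) ((mem_normalizer_iff.1 (inv_mem hyL) e).1 he)
    calc e * (y * v * y⁻¹) = y * ((y⁻¹ * e * y⁻¹⁻¹) * v) * y⁻¹ := by group
      _ = y * (v * (y⁻¹ * e * y⁻¹⁻¹)) * y⁻¹ := by rw [h]
      _ = (y * v * y⁻¹) * e := by group
  have hLC1 : L ≤ normalizer (C1 : Set G) :=
    CfsgLib.Solvable.le_normalizer_of_conj_mem fun l hl c hc => by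
      obtain ⟨hc1, hc2⟩ := mem_inf.1 hc
      refine mem_inf.2 ⟨mul_mem (mul_mem hl hc1) (inv_mem hl), mem_centralizer_iff.2 fun v hv => ?_⟩
      have h := mem_centralizer_iff.1 hc2 (l⁻¹ * v * l⁻¹⁻¹) (hVL l⁻¹ (inv_mem hl) v hv)
      calc v * (l * c * l⁻¹) = l * ((l⁻¹ * v * l⁻¹⁻¹) * c) * l⁻¹ := by group
        _ = l * (c * (l⁻¹ * v * l⁻¹⁻¹)) * l⁻¹ := by rw [h]
        _ = (l * c * l⁻¹) * v := by group
  have hC1M : C1 ≤ M := by
    have hPN : (P : Subgroup G) ≤ normalizer (C1 : Set G) := C.hPM.trans (hML.trans hLC1)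
    refine le_trans le_sup_left (le_M C (H := C1 ⊔ (P : Subgroup G)) le_sup_right ?_)
    intro y hy hyo
    obtain ⟨c, hc, s, hs, hcs⟩ : ∃ c ∈ C1, ∃ s ∈ (P : Subgroup G), c * s = y := by
      rw [← SetLike.mem_coe, coe_mul_of_right_le_normalizer_left C1 (P : Subgroup G) hPN] at hy
      exact Set.mem_mul.1 hy
    have key : ∀ n : ℕ, (c * s) ^ n * (s ^ n)⁻¹ ∈ C1 := by
      intro n
      induction n with
      | zero => simp
      | succ n ih =>
        have e : (c * s) ^ (n + 1) * (s ^ (n + 1))⁻¹ =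
            c * (s * ((c * s) ^ n * (s ^ n)⁻¹) * s⁻¹) := by
          rw [pow_succ', pow_succ']; group
        rw [e]
        exact mul_mem hc ((mem_normalizer_iff.1 (hPN hs) _).1 ih)
    obtain ⟨k, hk⟩ := exists_two_pow C hs
    have h1 := key (2 ^ k)
    rw [hk, inv_one, mul_one, hcs] at h1
    obtain ⟨m, hm⟩ := exists_pow_eq_self_of_coprime (hyo.symm.pow_left k) (x := y)
    exact hC1odd y (hm ▸ pow_mem h1 m) hyo
  have hcl1 : ∀ x ∈ (P : Subgroup G), (∀ v ∈ V, x * v = v * x) → x ∈ X := by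
    intro x hx hxV
    set X1 := (P : Subgroup G) ⊓ centralizer V with hX1
    have hx1 : x ∈ X1 := mem_inf.2 ⟨hx, mem_centralizer_iff.2 fun v hv => (hxV v hv).symm⟩
    have hXX1 : X ≤ X1 := fun d hd => mem_inf.2 ⟨hXP hd, mem_centralizer_iff.2 fun v hv => hv.2.1 d hd⟩
    by_contra hxX
    have hlt : X < X1 := lt_of_le_of_ne hXX1 fun h => hxX (h ▸ hx1)
    have hN := hup X1 hlt inf_le_left
    apply hXN
    refine le_antisymm ?_ hML
    rw [← hN]
    refine CfsgLib.Solvable.le_normalizer_of_conj_mem fun l hl d hd => ?_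
    obtain ⟨hdP, hdV⟩ := mem_inf.1 hd
    have h1 : l * d * l⁻¹ ∈ C1 :=
      (mem_normalizer_iff.1 (hLC1 hl) d).1 (mem_inf.2 ⟨hML (C.hPM hdP), hdV⟩)
    refine mem_inf.2 ⟨?_, (mem_inf.1 h1).2⟩
    obtain ⟨k, hk⟩ := IsPGroup.iff_orderOf.1 P.2 ⟨d, hdP⟩
    rw [orderOf_mk] at hk
    refine two_mem C (hC1M h1) (k := k) ?_
    exact ((MulAut.conj l).orderOf_eq d).trans hk
  have hsq : ∀ s ∈ (P : Subgroup G), s * s ∈ X := by
    intro s hs
    refine hcl1 _ (mul_mem hs hs) fun v hv => ?_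
    have hvP : v ∈ (P : Subgroup G) := hXP hv.1
    have hc := comm_mem_zS C hs hvP
    have hcs : s * ⁅s, v⁆ = ⁅s, v⁆ * s := mem_centralizer_iff.1 (mem_inf.1 hc).2 s hs
    have hcv : v * ⁅s, v⁆ = ⁅s, v⁆ * v := mem_centralizer_iff.1 (mem_inf.1 hc).2 v hvP
    have e1 : ⁅s * s, v⁆ = ⁅s, v⁆ * ⁅s, v⁆ := by
      calc ⁅s * s, v⁆ = s * ⁅s, v⁆ * s⁻¹ * ⁅s, v⁆ := by simp only [commutatorElement_def]; group
        _ = _ := by rw [hcs, mul_inv_cancel_right]
    have e2 : ⁅s, v * v⁆ = ⁅s, v⁆ * ⁅s, v⁆ := by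
      calc ⁅s, v * v⁆ = ⁅s, v⁆ * (v * ⁅s, v⁆ * v⁻¹) := by simp only [commutatorElement_def]; group
        _ = _ := by rw [hcv, mul_inv_cancel_right]
    rw [hv.2.2, commutatorElement_one_right] at e2
    rw [← e2] at e1
    exact commutatorElement_eq_one_iff_mul_comm.1 e1
  intro a ha b hb haX hbX
  by_contra habX
  -- the image of `P` in `N(X)/X` is noncyclic of exponent two
  apply hXN
  refine le_antisymm ?_ hML
  set X' : Subgroup L := X.subgroupOf L with hX'
  haveI : X'.Normal := normal_in_normalizer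
  have hPL : (P : Subgroup G) ≤ L := C.hPM.trans hML
  let PL : Sylow 2 L := P.subtype hPL
  let π := QuotientGroup.mk' X'
  let T : Sylow 2 (L ⧸ X') := PL.mapSurjective (QuotientGroup.mk'_surjective X')
  have hTmem : ∀ z, z ∈ (T : Subgroup (L ⧸ X')) ↔ ∃ s, ∃ hs : s ∈ (P : Subgroup G), π ⟨s, hPL hs⟩ = z := by
    intro z
    constructor
    · rintro ⟨w, hw, rfl⟩
      exact ⟨w, hw, rfl⟩
    · rintro ⟨s, hs, rfl⟩
      exact ⟨⟨s, hPL hs⟩, hs, rfl⟩
  have heq : ∀ x y : L, π x = π y ↔ (x : G)⁻¹ * y ∈ X := by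
    intro x y
    exact QuotientGroup.eq
  have hTc : ∀ x ∈ (T : Subgroup (L ⧸ X')), ∀ y ∈ (T : Subgroup (L ⧸ X')), x * y = y * x := by
    intro x hx y hy
    obtain ⟨s, hs, rfl⟩ := (hTmem x).1 hx
    obtain ⟨t, ht, rfl⟩ := (hTmem y).1 hy
    rw [← map_mul, ← map_mul, heq]
    have h := hZX (comm_mem_zS C (inv_mem ht) (inv_mem hs))
    rw [commutatorElement_def, inv_inv, inv_inv] at h
    simpa [mul_assoc] using h
  have hnc : ¬ IsCyclic (T : Subgroup (L ⧸ X')) := by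
    intro hc
    have hexp : Monoid.exponent (T : Subgroup (L ⧸ X')) ∣ 2 := by
      refine Monoid.exponent_dvd_of_forall_pow_eq_one fun z => ?_
      obtain ⟨s, hs, hsz⟩ := (hTmem z).1 z.2
      refine Subtype.ext ?_
      rw [coe_pow, ← hsz, ← map_pow, coe_one, pow_two]
      exact (QuotientGroup.eq_one_iff _).2 (hsq s hs)
    rw [IsCyclic.exponent_eq_card] at hexp
    have h3 : ∀ x y z : (T : Subgroup (L ⧸ X')), x = y ∨ x = z ∨ y = z := by
      intro x y z
      by_contra h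
      push Not at h
      have hcard : 3 ≤ Nat.card (T : Subgroup (L ⧸ X')) := by
        haveI := Fintype.ofFinite (T : Subgroup (L ⧸ X'))
        classical
        rw [Nat.card_eq_fintype_card]
        exact le_trans (by simp [h.1, h.2.1, h.2.2]) (Finset.card_le_univ {x, y, z})
      have := Nat.le_of_dvd two_pos hexp
      omega
    rcases h3 1 ⟨_, (hTmem _).2 ⟨a, ha, rfl⟩⟩ ⟨_, (hTmem _).2 ⟨b, hb, rfl⟩⟩ with h | h | h
    · exact haX ((QuotientGroup.eq_one_iff (N := X') ⟨a, hPL ha⟩).1 (congrArg Subtype.val h).symm)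
    · exact hbX ((QuotientGroup.eq_one_iff (N := X') ⟨b, hPL hb⟩).1 (congrArg Subtype.val h).symm)
    · exact habX ((heq _ _).1 (congrArg Subtype.val h))
  let Mb : Subgroup (L ⧸ X') := (M.subgroupOf L).map π
  have hfrom : ∀ x : L, π x ∈ Mb → (x : G) ∈ M := by
    rintro x ⟨m, hm, he⟩
    have h := mul_mem (show (m : G) ∈ M from hm) (C.hPM (hXP ((heq m x).1 he)))
    rwa [mul_inv_cancel_left] at h
  have hMbT : ∀ z ∈ Mb, ∀ t ∈ (T : Subgroup (L ⧸ X')), t * z = z * t := by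
    rintro _ ⟨m, hm, rfl⟩ t ht
    obtain ⟨s, hs, rfl⟩ := (hTmem t).1 ht
    obtain ⟨u, hu, y, hy, hyo, huy⟩ := decomp C (show (m : G) ∈ M from hm)
    have hm' : m = ⟨u, hPL hu⟩ * ⟨y, hML hy⟩ := Subtype.ext huy.symm
    have h1 : π ⟨y, hML hy⟩ * π ⟨s, hPL hs⟩ = π ⟨s, hPL hs⟩ * π ⟨y, hML hy⟩ := by
      rw [← map_mul, ← map_mul]
      exact congrArg π (Subtype.ext (odd_comm C hy hyo hs))
    rw [hm', map_mul, ← mul_assoc, hTc _ ((hTmem _).2 ⟨s, hs, rfl⟩) _ ((hTmem _).2 ⟨u, hu, rfl⟩),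
      mul_assoc, ← h1, ← mul_assoc]
  have hNT : ∀ z ∈ normalizer ((T : Subgroup (L ⧸ X')) : Set (L ⧸ X')), z ∈ Mb := by
    intro z hz
    obtain ⟨x, rfl⟩ := QuotientGroup.mk'_surjective X' z
    refine ⟨x, ?_, rfl⟩
    show (x : G) ∈ M
    rw [← C.hNP]
    refine CfsgLib.Solvable.mem_normalizer_of_conj_mem fun d hd => ?_
    have h := (mem_normalizer_iff.1 hz (π ⟨d, hPL hd⟩)).1 ((hTmem _).2 ⟨d, hd, rfl⟩)
    rw [← map_inv, ← map_mul, ← map_mul] at h
    obtain ⟨s, hs, he⟩ := (hTmem _).1 h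
    have h2 := mul_mem hs (hXP ((heq _ _).1 he))
    rwa [mul_inv_cancel_left] at h2
  obtain ⟨R, K, hKn, hK⟩ := CfsgLib.Transfer.hasNormalPComplement_of_normalizer_le_centralizer T
    (fun z hz => mem_centralizer_iff.2 fun t ht => hMbT z (hNT z hz) t ht)
  haveI := hKn
  have hcard : Nat.card (T : Subgroup (L ⧸ X')) = Nat.card (R : Subgroup (L ⧸ X')) := by
    rw [Sylow.card_eq_multiplicity, Sylow.card_eq_multiplicity]
  have hcop : (Nat.card (T : Subgroup (L ⧸ X'))).Coprime (Nat.card K) := by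
    rw [hcard, ← hK.index_eq_card]
    exact R.card_coprime_index
  have hKMb : K ≤ Mb := by
    rw [← CfsgLib.Solvable.iSup_centralizer_eq hTc hnc le_normalizer_of_normal hcop]
    refine iSup₂_le fun t ht z hz => ?_
    obtain ⟨htT, ht1⟩ := ht
    obtain ⟨s, hs, rfl⟩ := (hTmem t).1 htT
    obtain ⟨x, rfl⟩ := QuotientGroup.mk'_surjective X' z
    refine ⟨x, ?_, rfl⟩
    show (x : G) ∈ M
    have hsX : s ∉ X := fun h => ht1 ((QuotientGroup.eq_one_iff _).2 h)
    have hlt : X < X ⊔ zpowers s :=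
      lt_of_le_of_ne le_sup_left fun h => hsX (h ▸ mem_sup_right (mem_zpowers s))
    rw [← hup _ hlt (sup_le hXP (zpowers_le.2 hs))]
    refine CfsgLib.Solvable.mem_normalizer_of_conj_mem fun d hd => ?_
    have hle : X ⊔ zpowers s ≤ (X ⊔ zpowers s).comap (MulAut.conj (x : G)).toMonoidHom := by
      refine sup_le (fun e he => mem_sup_left ((mem_normalizer_iff.1 x.2 e).1 he)) (zpowers_le.2 ?_)
      have hc : π x * π ⟨s, hPL hs⟩ = π ⟨s, hPL hs⟩ * π x :=
        mem_centralizer_singleton_iff.1 (mem_inf.1 hz).2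
      have h1 : π ⟨s, hPL hs⟩ = π (x * ⟨s, hPL hs⟩ * x⁻¹) := by
        rw [map_mul, map_mul, map_inv, hc, mul_inv_cancel_right]
      have h2 := mul_mem (mem_sup_right (S := X) (mem_zpowers s)) (mem_sup_left (T := zpowers s) ((heq _ _).1 h1))
      rwa [mul_inv_cancel_left] at h2
    exact hle hd
  intro x hx
  have hTMb : (T : Subgroup (L ⧸ X')) ≤ Mb := fun t ht => by
    obtain ⟨s, hs, rfl⟩ := (hTmem t).1 ht
    exact ⟨⟨s, hPL hs⟩, C.hPM hs, rfl⟩
  have htop : K ⊔ (T : Subgroup (L ⧸ X')) = ⊤ := by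
    refine (isComplement'_of_coprime ?_ hcop.symm).sup_eq_top
    rw [hcard]
    exact hK.card_mul
  exact hfrom ⟨x, hx⟩ ((sup_le hKMb hTMb) (htop ▸ mem_top _))

section Good

variable (φ M P)

/-- A critical subgroup of index two. -/
def Good (D : Subgroup G) : Prop :=
  Fam φ M P D ∧ ∀ a ∈ (P : Subgroup G), ∀ b ∈ (P : Subgroup G), a ∉ D → b ∉ D → a⁻¹ * b ∈ D

variable {φ M P}

theorem Good.sq (C : Ctx φ M P) {D : Subgroup G} (h : Good φ M P D) {s : G}
    (hs : s ∈ (P : Subgroup G)) : s * s ∈ D := by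
  by_cases hsD : s ∈ D
  · exact mul_mem hsD hsD
  · have h1 := h.2 _ (inv_mem hs) _ hs (fun h' => hsD (inv_mem_iff.1 h')) hsD
    rwa [inv_inv] at h1

/-- The central elements of `D` with square in the derived subgroup of `D`. -/
def wSub (D : Subgroup G) : Subgroup G where
  carrier := {x | x ∈ D ∧ (∀ d ∈ D, x * d = d * x) ∧ x * x ∈ ⁅D, D⁆}
  one_mem' := ⟨D.one_mem, by simp, by simp⟩
  mul_mem' := fun {a b} ha hb => ⟨mul_mem ha.1 hb.1,
    fun d hd => by rw [mul_assoc, hb.2.1 d hd, ← mul_assoc, ha.2.1 d hd, mul_assoc], by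
      have h := mul_mem ha.2.2 hb.2.2
      rwa [show a * b * (a * b) = a * a * (b * b) by
        rw [mul_assoc a b, ← mul_assoc b a b, hb.2.1 a ha.1, mul_assoc a b b, ← mul_assoc]]⟩
  inv_mem' := fun {a} ha => ⟨inv_mem ha.1,
    fun d hd => (Commute.inv_left (ha.2.1 d hd)).eq, by
      have h := inv_mem ha.2.2
      rwa [mul_inv_rev] at h⟩

theorem wSub_le (D : Subgroup G) : wSub D ≤ D := fun _ hx => hx.1

theorem derived_le_self (C : Ctx φ M P) {D : Subgroup G} (h : Good φ M P D) :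
    ⁅(P : Subgroup G), (P : Subgroup G)⁆ ≤ D :=
  (derived_le_zS C le_rfl).trans h.1.1

theorem wSub_normal [Finite G] {D : Subgroup G} :
    normalizer (D : Set G) ≤ normalizer (wSub D : Set G) := by
  refine CfsgLib.Solvable.le_normalizer_of_conj_mem fun l hl x hx => ⟨(mem_normalizer_iff.1 hl x).1 hx.1,
    fun d hd => ?_, ?_⟩
  · have h := hx.2.1 (l⁻¹ * d * l⁻¹⁻¹) ((mem_normalizer_iff.1 (inv_mem hl) d).1 hd)
    calc l * x * l⁻¹ * d = l * (x * (l⁻¹ * d * l⁻¹⁻¹)) * l⁻¹ := by group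
      _ = l * ((l⁻¹ * d * l⁻¹⁻¹) * x) * l⁻¹ := by rw [h]
      _ = d * (l * x * l⁻¹) := by group
  · have hmap : (⁅D, D⁆ : Subgroup G).map (MulAut.conj l).toMonoidHom ≤ ⁅D, D⁆ := by
      rw [map_commutator]
      exact commutator_mono (by rintro _ ⟨d, hd, rfl⟩; exact (mem_normalizer_iff.1 hl d).1 hd)
        (by rintro _ ⟨d, hd, rfl⟩; exact (mem_normalizer_iff.1 hl d).1 hd)
    have h := hmap ⟨x * x, hx.2.2, rfl⟩
    rwa [show (MulAut.conj l).toMonoidHom (x * x) = l * x * l⁻¹ * (l * x * l⁻¹) by simp] at h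

/-- `[P, D] ≤ W(D)`. -/
theorem comm_mem_wSub (C : Ctx φ M P) {D : Subgroup G} (h : Good φ M P D) {s d : G}
    (hs : s ∈ (P : Subgroup G)) (hd : d ∈ D) : ⁅s, d⁆ ∈ wSub D := by
  have hdP := h.1.2.1 hd
  have hc := comm_mem_zS C hs hdP
  refine ⟨h.1.1 hc, fun e he => (mem_centralizer_iff.1 (mem_inf.1 hc).2 e (h.1.2.1 he)).symm, ?_⟩
  have hcs : s * ⁅s, d⁆ = ⁅s, d⁆ * s := mem_centralizer_iff.1 (mem_inf.1 hc).2 s hs
  have e1 : ⁅s * s, d⁆ = ⁅s, d⁆ * ⁅s, d⁆ := by
    calc ⁅s * s, d⁆ = s * ⁅s, d⁆ * s⁻¹ * ⁅s, d⁆ := by simp only [commutatorElement_def]; group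
      _ = _ := by rw [hcs, mul_inv_cancel_right]
  rw [← e1]
  exact commutator_mem_commutator (h.sq C hs) hd

theorem fix_derived [Finite G] (C : Ctx φ M P) {D : Subgroup G} (h : Good φ M P D) {x c : G}
    (hx : x ∈ normalizer (D : Set G)) (hc : c ∈ ⁅D, D⁆) : x * c = c * x := by
  have hML := M_le_normalizer C h.1.1 h.1.2.1
  have hN : normalizer (D : Set G) ≤ normalizer ((⁅D, D⁆ : Subgroup G) : Set G) := by
    refine CfsgLib.Solvable.le_normalizer_of_conj_mem fun l hl z hz => ?_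
    have hmap : (⁅D, D⁆ : Subgroup G).map (MulAut.conj l).toMonoidHom ≤ ⁅D, D⁆ := by
      rw [map_commutator]
      exact commutator_mono (by rintro _ ⟨d, hd, rfl⟩; exact (mem_normalizer_iff.1 hl d).1 hd)
        (by rintro _ ⟨d, hd, rfl⟩; exact (mem_normalizer_iff.1 hl d).1 hd)
    exact hmap ⟨z, hz, rfl⟩
  have hle := derived_le_zS C h.1.2.1
  have h1 := triv_all C hML hN (W := ⊥) (fun l _ => by rw [Subgroup.normalizer_eq_top]; trivial)
    (hle.trans inf_le_left) (fun s hs d hd => by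
      rw [mem_bot, commutatorElement_eq_one_iff_mul_comm]
      exact mem_centralizer_iff.1 (mem_inf.1 (hle hd)).2 s hs) x hx c hc
  rwa [mem_bot, commutatorElement_eq_one_iff_mul_comm] at h1

theorem triv_wSub [Finite G] (C : Ctx φ M P) {D : Subgroup G} (h : Good φ M P D) :
    ∀ x ∈ normalizer (D : Set G), ∀ d ∈ D, ⁅x, d⁆ ∈ wSub D :=
  triv_all C (M_le_normalizer C h.1.1 h.1.2.1) le_rfl wSub_normal h.1.2.1
    fun _ hs _ hd => comm_mem_wSub C h hs hd

/-- Not every element of `N(D)` of odd order fixes `W(D)`. -/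
theorem not_fix_wSub [Finite G] (C : Ctx φ M P)
    (hne : ⁅(P : Subgroup G), (P : Subgroup G)⁆ ≠ ⊥) {D : Subgroup G} (h : Good φ M P D)
    (hfix : ∀ y ∈ normalizer (D : Set G), (orderOf y).Coprime 2 → ∀ w ∈ wSub D, y * w = w * y) :
    False := by
  have hML := M_le_normalizer C h.1.1 h.1.2.1
  refine h.1.2.2 (le_antisymm (le_M C (C.hPM.trans hML) fun y hy hyo => ?_) hML)
  refine mem_M_of_fix C hne fun d hd => ?_
  have hdD := h.1.1 hd
  have he := triv_wSub C h y hy d hdD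
  obtain ⟨k, hk⟩ := exists_two_pow C (h.1.2.1 (wSub_le D he))
  exact commute_of_stab hyo hk (hfix y hy hyo _ he)

/-- A noncentral element of `W(D)`. -/
theorem exists_noncentral [Finite G] (C : Ctx φ M P)
    (hne : ⁅(P : Subgroup G), (P : Subgroup G)⁆ ≠ ⊥) {D : Subgroup G} (h : Good φ M P D) :
    ∃ w ∈ wSub D, w ∉ zS P := by
  by_contra hc
  push Not at hc
  refine not_fix_wSub C hne h fun y hy _ w hw => ?_
  have hWP : wSub D ≤ (P : Subgroup G) := (wSub_le D).trans h.1.2.1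
  have h1 := triv_all C (M_le_normalizer C h.1.1 h.1.2.1) wSub_normal (W := ⊥)
    (fun l _ => by rw [Subgroup.normalizer_eq_top]; trivial) hWP (fun s hs d hd => by
      rw [mem_bot, commutatorElement_eq_one_iff_mul_comm]
      exact mem_centralizer_iff.1 (mem_inf.1 (hc d hd)).2 s hs) y hy w hw
  rwa [mem_bot, commutatorElement_eq_one_iff_mul_comm] at h1

/-- `c` generates `[P, W(D)]`: then some element of `N(D)` moves it. -/
theorem not_fix_gen [Finite G] (C : Ctx φ M P)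
    (hne : ⁅(P : Subgroup G), (P : Subgroup G)⁆ ≠ ⊥) {D : Subgroup G} (h : Good φ M P D) {c : G}
    (hcW : c ∈ wSub D) (hgen : ∀ s ∈ (P : Subgroup G), ∀ v ∈ wSub D, ⁅s, v⁆ ∈ zpowers c)
    (hfix : ∀ x ∈ normalizer (D : Set G), x * c = c * x) : False := by
  refine not_fix_wSub C hne h fun y hy hyo w hw => ?_
  have hWP : wSub D ≤ (P : Subgroup G) := (wSub_le D).trans h.1.2.1
  have hN : normalizer (D : Set G) ≤ normalizer ((zpowers c : Subgroup G) : Set G) :=
    CfsgLib.Solvable.le_normalizer_of_conj_mem fun l hl z hz => by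
      obtain ⟨i, rfl⟩ := mem_zpowers_iff.1 hz
      rw [((show Commute l c from hfix l hl).zpow_right i).eq, mul_inv_cancel_right]
      exact Subgroup.zpow_mem _ (mem_zpowers c) i
  have h1 := triv_all C (M_le_normalizer C h.1.1 h.1.2.1) wSub_normal hN hWP hgen y hy w hw
  obtain ⟨i, hi⟩ := mem_zpowers_iff.1 h1
  obtain ⟨k, hk⟩ := exists_two_pow C (hWP (hi ▸ Subgroup.zpow_mem _ hcW i : ⁅y, w⁆ ∈ wSub D))
  refine commute_of_stab hyo hk ?_
  rw [← hi]
  exact ((show Commute y c from hfix y hy).zpow_right i).eq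

/-- Partners: the critical central subgroup of one sticks out of the other. -/
def Bad (D D' : Subgroup G) : Prop := ¬ wSub D ≤ D'

variable {D D' D'' : Subgroup G}

/-- Elements of `P` outside `D'` that commute with `D` determine `D`. -/
theorem mem_or (h : Good φ M P D') {w x : G} (hw : w ∈ (P : Subgroup G)) (hx : x ∈ (P : Subgroup G))
    (hwD : w ∉ D') : x ∈ D' ∨ w⁻¹ * x ∈ D' := by
  by_cases hxD : x ∈ D'
  · exact Or.inl hxD
  · exact Or.inr (h.2 w hw x hx hwD hxD)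

theorem Bad.witness [Finite G] (C : Ctx φ M P)
    (hne : ⁅(P : Subgroup G), (P : Subgroup G)⁆ ≠ ⊥) (hD : Good φ M P D) (hD' : Good φ M P D')
    (hb : Bad D D') :
    ∃ w ∈ wSub D, ∃ u ∈ wSub D', w ∉ D' ∧ u ∉ D ∧ ⁅u, w⁆ ≠ 1 := by
  obtain ⟨w, hw, hwD'⟩ := SetLike.not_le_iff_exists.1 hb
  obtain ⟨u, hu, huZ⟩ := exists_noncentral C hne hD'
  have hwP := hD.1.2.1 hw.1
  have huP := hD'.1.2.1 hu.1
  have hnc : ⁅u, w⁆ ≠ 1 := by
    intro h1
    rw [commutatorElement_eq_one_iff_mul_comm] at h1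
    refine huZ (mem_inf.2 ⟨huP, mem_centralizer_iff.2 fun x hx => ?_⟩)
    rcases mem_or hD' hwP hx hwD' with h2 | h2
    · exact (hu.2.1 x h2).symm
    · calc x * u = w * (w⁻¹ * x * u) := by group
        _ = w * (u * (w⁻¹ * x)) := by rw [← hu.2.1 _ h2]
        _ = u * x := by rw [← mul_assoc, ← h1]; group
  refine ⟨w, hw, u, hu, hwD', fun huD => hnc ?_, hnc⟩
  rw [commutatorElement_eq_one_iff_mul_comm]
  exact (hw.2.1 u huD).symm

theorem Bad.symm [Finite G] (C : Ctx φ M P)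
    (hne : ⁅(P : Subgroup G), (P : Subgroup G)⁆ ≠ ⊥) (hD : Good φ M P D) (hD' : Good φ M P D')
    (hb : Bad D D') : Bad D' D := by
  obtain ⟨w, hw, u, hu, -, huD, -⟩ := hb.witness C hne hD hD'
  exact fun h => huD (h hu)

theorem Bad.unique [Finite G] (C : Ctx φ M P)
    (hne : ⁅(P : Subgroup G), (P : Subgroup G)⁆ ≠ ⊥) (hD : Good φ M P D) (hD' : Good φ M P D')
    (hD'' : Good φ M P D'') (hb' : Bad D D') (hb'' : Bad D D'') : D' = D'' := by
  obtain ⟨w, hw, u, hu, hwD', huD, hnc⟩ := hb'.witness C hne hD hD'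
  obtain ⟨w', hw', v, hv, hwD'', hvD, -⟩ := hb''.witness C hne hD hD''
  have hwP := hD.1.2.1 hw.1
  have huP := hD'.1.2.1 hu.1
  have hvP := hD''.1.2.1 hv.1
  have hw'P := hD.1.2.1 hw'.1
  have hDP : D ≤ (P : Subgroup G) := hD.1.2.1
  set c := ⁅u, w⁆ with hc
  have hcent : ∀ a ∈ (P : Subgroup G), ∀ b ∈ (P : Subgroup G), ∀ x ∈ (P : Subgroup G),
      x * ⁅a, b⁆ = ⁅a, b⁆ * x := C.hcl
  -- additivity in the right argument
  have hadd : ∀ a ∈ (P : Subgroup G), ∀ x ∈ (P : Subgroup G), ∀ y ∈ (P : Subgroup G),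
      ⁅a, x * y⁆ = ⁅a, x⁆ * ⁅a, y⁆ := by
    intro a ha x hx y hy
    calc ⁅a, x * y⁆ = ⁅a, x⁆ * (x * ⁅a, y⁆ * x⁻¹) := by simp only [commutatorElement_def]; group
      _ = _ := by rw [hcent a ha y hy x hx, mul_inv_cancel_right]
  have hadd' : ∀ a ∈ (P : Subgroup G), ∀ b ∈ (P : Subgroup G), ∀ x ∈ (P : Subgroup G),
      ⁅a * b, x⁆ = ⁅a, x⁆ * ⁅b, x⁆ := by
    intro a ha b hb x hx
    calc ⁅a * b, x⁆ = a * ⁅b, x⁆ * a⁻¹ * ⁅a, x⁆ := by simp only [commutatorElement_def]; group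
      _ = ⁅b, x⁆ * ⁅a, x⁆ := by rw [hcent b hb x hx a ha, mul_inv_cancel_right]
      _ = _ := by
          rw [hcent a ha x hx ⁅b, x⁆ (mem_inf.1 (comm_mem_zS C hb hx)).1]
  have hcgen : ∀ s ∈ (P : Subgroup G), ∀ z ∈ wSub D, ⁅s, z⁆ ∈ zpowers c := by
    intro s hs z hz
    have hzP := hDP hz.1
    -- write `s` over `D` and `z` over `D'`
    rcases mem_or hD huP hs huD with h1 | h1
    · rw [commutatorElement_eq_one_iff_mul_comm.2 (hz.2.1 s h1).symm]
      exact one_mem _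
    · have e : ⁅s, z⁆ = ⁅u, z⁆ * ⁅u⁻¹ * s, z⁆ := by
        rw [← hadd' u huP _ (hDP h1) z hzP, mul_inv_cancel_left]
      rw [e, commutatorElement_eq_one_iff_mul_comm.2 (hz.2.1 _ h1).symm, mul_one]
      rcases mem_or hD' hwP hzP hwD' with h2 | h2
      · rw [commutatorElement_eq_one_iff_mul_comm.2 (hu.2.1 z h2)]
        exact one_mem _
      · rw [show z = w * (w⁻¹ * z) by group, hadd u huP w hwP _ (hD'.1.2.1 h2),
          commutatorElement_eq_one_iff_mul_comm.2 (hu.2.1 _ h2), mul_one]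
        exact mem_zpowers c
  have hcW : c ∈ wSub D := comm_mem_wSub C hD huP hw.1
  -- `c` is not a commutator in `D`
  have hcD : c ∉ ⁅D, D⁆ := fun h =>
    not_fix_gen C hne hD hcW hcgen fun x hx => fix_derived C hD hx h
  set d := u⁻¹ * v with hd
  have hdD : d ∈ D := hD.2 u huP v hvP huD hvD
  have hvud : v = u * d := by rw [hd]; group
  have hvw : ⁅v, w⁆ = c := by
    rw [hvud, hadd' u huP d (hDP hdD) w hwP,
      commutatorElement_eq_one_iff_mul_comm.2 (hw.2.1 d hdD).symm, mul_one]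
  have hwD''2 : w ∉ D'' := fun h => by
    have := hv.2.1 w h
    rw [← commutatorElement_eq_one_iff_mul_comm, hvw] at this
    exact hnc this
  -- `D ∩ D' ≤ D''`
  have hint : ∀ x ∈ D, x ∈ D' → x ∈ D'' := by
    intro x hx hx'
    rcases mem_or hD'' hwP (hDP hx) hwD''2 with h1 | h1
    · exact h1
    · exfalso
      apply hcD
      have e1 : ⁅v, x⁆ = c := by
        rw [show x = w * (w⁻¹ * x) by group, hadd v hvP w hwP _ (hD''.1.2.1 h1),
          commutatorElement_eq_one_iff_mul_comm.2 (hv.2.1 _ h1), mul_one, hvw]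
      have e2 : ⁅v, x⁆ = ⁅d, x⁆ := by
        rw [hvud, hadd' u huP d (hDP hdD) x (hDP hx),
          commutatorElement_eq_one_iff_mul_comm.2 (hu.2.1 x hx'), one_mul]
      rw [← e1, e2]
      exact commutator_mem_commutator hdD hx
  have hint' : ∀ x ∈ D, x ∈ D'' → x ∈ D' := by
    intro x hx hx''
    rcases mem_or hD' hwP (hDP hx) hwD' with h1 | h1
    · exact h1
    · exfalso
      have h2 := hint _ (mul_mem (inv_mem hw.1) hx) h1
      have h3 := mul_mem hx'' (inv_mem h2)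
      rw [mul_inv_rev, inv_inv, mul_inv_cancel_left] at h3
      exact hwD''2 h3
  have hsub : ∀ x ∈ D, x ∈ D' → ∀ y ∈ D, y ∈ D' → ⁅x, y⁆ ∈ ⁅D, D⁆ :=
    fun x hx _ y hy _ => commutator_mem_commutator hx hy
  by_contra hne'
  -- squares of `u`, `v`, `w` are fixed
  have hsqD' : ∀ {E : Subgroup G} {z : G}, Good φ M P E → z ∈ wSub E → z ∉ D →
      (∀ x ∈ D, x ∈ E → x ∈ D') → (∀ x ∈ D, x ∈ D' → x ∈ E) → z * z ∈ ⁅D, D⁆ := by
    intro E z hE hz hzD h1 h2
    have hEP : E ≤ (P : Subgroup G) := hE.1.2.1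
    have hzP := hEP hz.1
    have hle : ⁅E, E⁆ ≤ ⁅D, D⁆ := by
      rw [commutator_le]
      intro a ha b hb
      have key : ∀ e ∈ E, ∃ e' ∈ E, e' ∈ D ∧ ∀ f ∈ E, ⁅e, f⁆ = ⁅e', f⁆ ∧ ⁅f, e⁆ = ⁅f, e'⁆ := by
        intro e he
        rcases mem_or hD hzP (hEP he) hzD with h3 | h3
        · exact ⟨e, he, h3, fun f _ => ⟨rfl, rfl⟩⟩
        · refine ⟨z⁻¹ * e, mul_mem (inv_mem hz.1) he, h3, fun f hf => ⟨?_, ?_⟩⟩
          · conv_lhs => rw [show e = z * (z⁻¹ * e) by group]
            rw [hadd' z hzP _ (hEP (mul_mem (inv_mem hz.1) he)) f (hEP hf),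
              commutatorElement_eq_one_iff_mul_comm.2 (hz.2.1 f hf), one_mul]
          · conv_lhs => rw [show e = z * (z⁻¹ * e) by group]
            rw [hadd f (hEP hf) z hzP _ (hEP (mul_mem (inv_mem hz.1) he)),
              commutatorElement_eq_one_iff_mul_comm.2 (hz.2.1 f hf).symm, one_mul]
      obtain ⟨a', ha', haD, hae⟩ := key a ha
      obtain ⟨b', hb', hbD, hbe⟩ := key b hb
      rw [(hae b hb).1, (hbe a' ha').2]
      exact commutator_mem_commutator haD hbD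
    exact hle hz.2.2
  have hu2 : u * u ∈ ⁅D, D⁆ := hsqD' hD' hu huD (fun x _ h => h) (fun x _ h => h)
  have hv2 : v * v ∈ ⁅D, D⁆ := hsqD' hD'' hv hvD hint' hint
  -- `d = w r`
  have hdD' : d ∉ D' := by
    intro hdD'
    apply hne'
    have hvD' : v ∈ D' := hvud ▸ mul_mem hu.1 hdD'
    ext x
    constructor
    · intro hx
      rcases mem_or hD huP (hD'.1.2.1 hx) huD with h1 | h1
      · exact hint x h1 hx
      · have h2 := hint _ h1 (mul_mem (inv_mem hu.1) hx)
        have h3 : d ∈ D'' := hint d hdD hdD'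
        have h4 := mul_mem (mul_mem hv.1 (inv_mem h3)) h2
        rw [show v * d⁻¹ * (u⁻¹ * x) = x by rw [hvud]; group] at h4
        exact h4
    · intro hx
      rcases mem_or hD hvP (hD''.1.2.1 hx) hvD with h1 | h1
      · exact hint' x h1 hx
      · have h2 := hint' _ h1 (mul_mem (inv_mem hv.1) hx)
        have h4 := mul_mem hvD' h2
        rwa [mul_inv_cancel_left] at h4
  set r := w⁻¹ * d with hr
  have hrD : r ∈ D := mul_mem (inv_mem hw.1) hdD
  have hrD' : r ∈ D' := hD'.2 w hwP d (hDP hdD) hwD' hdD'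
  have hrD'' : r ∈ D'' := hint r hrD hrD'
  have hdw : d = w * r := by rw [hr]; group
  -- `r` is central in `P`
  have hrR : ∀ x ∈ D, x ∈ D' → r * x = x * r := by
    intro x hx hx'
    have h1 : v * x = x * v := hv.2.1 x (hint x hx hx')
    have h2 : d * x = x * d := by
      have h3 : u * x = x * u := hu.2.1 x hx'
      calc d * x = u⁻¹ * (v * x) := by rw [hd]; group
        _ = u⁻¹ * (x * v) := by rw [h1]
        _ = u⁻¹ * (x * u) * d := by rw [hvud]; group
        _ = u⁻¹ * (u * x) * d := by rw [h3]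
        _ = x * d := by group
    calc r * x = w⁻¹ * (d * x) := by rw [hr]; group
      _ = w⁻¹ * (x * d) := by rw [h2]
      _ = x * (w⁻¹ * d) := by
          rw [← mul_assoc, ((show Commute w x from hw.2.1 x hx).inv_left).eq, mul_assoc]
  have hrD_c : ∀ x ∈ D, r * x = x * r := by
    intro x hx
    rcases mem_or hD' hwP (hDP hx) hwD' with h1 | h1
    · exact hrR x hx h1
    · have h2 := hrR _ (mul_mem (inv_mem hw.1) hx) h1
      have h3 : w * r = r * w := hw.2.1 r hrD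
      calc r * x = r * w * (w⁻¹ * x) := by group
        _ = w * r * (w⁻¹ * x) := by rw [h3]
        _ = w * (r * (w⁻¹ * x)) := by group
        _ = w * (w⁻¹ * x * r) := by rw [h2]
        _ = x * r := by group
  have hrP : r ∈ (P : Subgroup G) := hDP hrD
  have hrZ : r ∈ zS P := by
    refine mem_inf.2 ⟨hrP, mem_centralizer_iff.2 fun x hx => ?_⟩
    have hur : u * r = r * u := hu.2.1 r hrD'
    rcases mem_or hD huP hx huD with h1 | h1
    · exact (hrD_c x h1).symm
    · calc x * r = u * ((u⁻¹ * x) * r) := by group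
        _ = u * (r * (u⁻¹ * x)) := by rw [hrD_c _ h1]
        _ = (u * r) * (u⁻¹ * x) := by group
        _ = (r * u) * (u⁻¹ * x) := by rw [hur]
        _ = r * x := by group
  -- `r * r` is fixed by `N(D)`
  have hfixr : ∀ x ∈ normalizer (D : Set G), x * (r * r) = r * r * x := by
    intro x hx
    let F2 : Subgroup G :=
      { carrier := {z | ∃ f ∈ D, (∀ e ∈ D, f * e = e * f) ∧ f * f = z}
        one_mem' := ⟨1, D.one_mem, by simp, by simp⟩
        mul_mem' := by
          rintro a b ⟨f, hf, hfc, rfl⟩ ⟨g, hg, hgc, rfl⟩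
          refine ⟨f * g, mul_mem hf hg, fun e he => by
            rw [mul_assoc, hgc e he, ← mul_assoc, hfc e he, mul_assoc], ?_⟩
          rw [mul_assoc f g, ← mul_assoc g f g, hgc f hf, mul_assoc f g g, ← mul_assoc]
        inv_mem' := by
          rintro a ⟨f, hf, hfc, rfl⟩
          exact ⟨f⁻¹, inv_mem hf, fun e he => (Commute.inv_left (hfc e he)).eq, by rw [mul_inv_rev]⟩ }
    have hF2N : normalizer (D : Set G) ≤ normalizer (F2 : Set G) :=
      CfsgLib.Solvable.le_normalizer_of_conj_mem fun l hl z hz => by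
        obtain ⟨f, hf, hfc, rfl⟩ := hz
        refine ⟨l * f * l⁻¹, (mem_normalizer_iff.1 hl f).1 hf, fun e he => ?_, by group⟩
        have h := hfc (l⁻¹ * e * l⁻¹⁻¹) ((mem_normalizer_iff.1 (inv_mem hl) e).1 he)
        calc l * f * l⁻¹ * e = l * (f * (l⁻¹ * e * l⁻¹⁻¹)) * l⁻¹ := by group
          _ = l * ((l⁻¹ * e * l⁻¹⁻¹) * f) * l⁻¹ := by rw [h]
          _ = e * (l * f * l⁻¹) := by group
    have hF2P : F2 ≤ (P : Subgroup G) := by
      rintro z ⟨f, hf, -, rfl⟩
      exact hDP (mul_mem hf hf)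
    have h1 := triv_all C (M_le_normalizer C hD.1.1 hD.1.2.1) hF2N (W := ⊥)
      (fun l _ => by rw [Subgroup.normalizer_eq_top]; trivial) hF2P (fun s hs z hz => by
        obtain ⟨f, hf, hfc, rfl⟩ := hz
        rw [mem_bot, hadd s hs f (hDP hf) f (hDP hf), ← hadd' s hs s hs f (hDP hf),
          commutatorElement_eq_one_iff_mul_comm]
        exact (hfc _ (hD.sq C hs)).symm) x hx (r * r) ⟨r, hrD, hrD_c, rfl⟩
    rwa [mem_bot, commutatorElement_eq_one_iff_mul_comm] at h1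
  -- the contradiction
  refine not_fix_gen C hne hD hcW hcgen fun x hx => ?_
  have hur : u * r = r * u := hu.2.1 r hrD'
  have hwr : w * r = r * w := hw.2.1 r hrD
  have huw : u * w = c * (w * u) := by rw [hc, commutatorElement_def]; group
  have hcz := mem_inf.1 (comm_mem_zS C huP hwP)
  have hwc : w * c = c * w := mem_centralizer_iff.1 hcz.2 w hwP
  have huz : u * (w * w) = (w * w) * u :=
    (mem_centralizer_iff.1 (mem_inf.1 (derived_le_zS C hDP hw.2.2)).2 u huP)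
  have hveq : v * v = c * (w * w) * (u * u) * (r * r) := by
    have hrc : r * w = w * r := hwr.symm
    calc v * v = u * w * (r * u) * w * r := by rw [hvud, hdw]; group
      _ = u * w * (u * r) * w * r := by rw [hur]
      _ = u * w * u * (r * w) * r := by group
      _ = u * w * u * (w * r) * r := by rw [hrc]
      _ = (u * w) * (u * w) * (r * r) := by group
      _ = (c * (w * u)) * (u * w) * (r * r) := by rw [← huw]
      _ = c * w * ((u * u) * w) * (r * r) := by group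
      _ = c * w * (w * (u * u)) * (r * r) := by
          rw [mem_centralizer_iff.1 (mem_inf.1 (derived_le_zS C hDP hu2)).2 w hwP]
      _ = c * (w * w) * (u * u) * (r * r) := by group
  have hfA : ∀ z ∈ ⁅D, D⁆, x * z = z * x := fun z hz => fix_derived C hD hx hz
  have hceq : c = v * v * (r * r)⁻¹ * (u * u)⁻¹ * (w * w)⁻¹ := by rw [hveq]; group
  rw [hceq]
  exact ((((show Commute x (v * v) from hfA _ hv2).mul_right
    (Commute.inv_right (hfixr x hx))).mul_right (Commute.inv_right (hfA _ hu2))).mul_right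
    (Commute.inv_right (hfA _ hw.2.2))).eq

end Good

/-- The normal 2-complement. -/
theorem no_fam [Finite A] [Finite G] (C : Ctx φ M P) (hMi : Inv φ M) (hA : Odd (Nat.card A))
    (hne : ⁅(P : Subgroup G), (P : Subgroup G)⁆ ≠ ⊥) : ¬ ∃ X, Fam φ M P X := by
  intro hex
  obtain ⟨D, hD⟩ := exists_index_two C hne hex
  have hgood : ∀ a, Good φ M P (D.map (φ a).toMonoidHom) := by
    intro a
    refine ⟨Fam.inv C hMi hD.1 a, ?_⟩
    intro s hs t ht hsD htD
    rw [← inv_map C.hPi a] at hs ht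
    obtain ⟨s', hs', rfl⟩ := hs
    obtain ⟨t', ht', rfl⟩ := ht
    exact ⟨s'⁻¹ * t', hD.2 s' hs' t' ht' (fun h => hsD ⟨s', h, rfl⟩) (fun h => htD ⟨t', h, rfl⟩),
      by simp⟩
  have hW : ∀ a, wSub D ≤ D.map (φ a).toMonoidHom := by
    intro a
    by_contra hb
    have hb' : Bad (D.map (φ a).toMonoidHom) D :=
      Bad.symm C hne hD (hgood a) hb
    have hb'' : Bad (D.map (φ a).toMonoidHom) (D.map (φ (a * a)).toMonoidHom) := by
      intro h
      refine hb fun w hw => ?_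
      have hwa : φ a w ∈ wSub (D.map (φ a).toMonoidHom) := by
        refine ⟨⟨w, hw.1, rfl⟩, ?_, ?_⟩
        · rintro _ ⟨d, hd, rfl⟩
          show φ a w * φ a d = φ a d * φ a w
          rw [← map_mul, ← map_mul, hw.2.1 d hd]
        · rw [← map_commutator, ← map_mul]
          exact ⟨w * w, hw.2.2, rfl⟩
      obtain ⟨d, hd, he⟩ := h hwa
      refine ⟨d, hd, (φ a).injective ?_⟩
      rw [← he]
      show φ a (φ a d) = φ (a * a) d
      rw [map_mul, MulAut.mul_apply]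
    have heq : D = D.map (φ (a * a)).toMonoidHom :=
      Bad.unique C hne (hgood a) hD (hgood _) hb' hb''
    have hiter : ∀ n : ℕ, D.map (φ ((a * a) ^ n)).toMonoidHom = D := by
      intro n
      induction n with
      | zero =>
        rw [pow_zero, map_one]
        exact D.map_id
      | succ n ih =>
        have : (φ ((a * a) ^ (n + 1))).toMonoidHom =
            (φ ((a * a) ^ n)).toMonoidHom.comp (φ (a * a)).toMonoidHom := by
          ext g
          show φ ((a * a) ^ (n + 1)) g = φ ((a * a) ^ n) (φ (a * a) g)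
          rw [pow_succ, map_mul, MulAut.mul_apply]
        rw [this, ← Subgroup.map_map, ← heq, ih]
    obtain ⟨n, hn⟩ := exists_pow_eq_self_of_coprime (x := a) (n := 2)
      (hA.coprime_two_left.coprime_dvd_right (orderOf_dvd_natCard a))
    have hfix := hiter n
    rw [← pow_two, hn] at hfix
    exact hb (hfix.symm ▸ wSub_le D)
  set R : Subgroup G := ⨅ a, D.map (φ a).toMonoidHom with hR
  have hR1 : ⁅(P : Subgroup G), (P : Subgroup G)⁆ ≤ R :=
    le_iInf fun a => (derived_le_zS C le_rfl).trans (hgood a).1.1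
  have hRD : R ≤ D := by
    refine (iInf_le _ (1 : A)).trans ?_
    rw [map_one]
    exact le_of_eq D.map_id
  have hRi : Inv φ R := by
    intro b x hx
    rw [hR, mem_iInf] at hx ⊢
    intro a
    obtain ⟨d, hd, he⟩ := hx (b⁻¹ * a)
    refine ⟨d, hd, ?_⟩
    rw [← he]
    show φ a d = φ b (φ (b⁻¹ * a) d)
    rw [← MulAut.mul_apply, ← map_mul, mul_inv_cancel_left]
  have hMR : M ≤ normalizer (R : Set G) :=
    M_le_normalizer C (le_iInf fun a => (hgood a).1.1) (hRD.trans hD.1.2.1)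
  have hN : normalizer (R : Set G) = M :=
    C.hloc R (fun h => hne (le_bot_iff.1 (h ▸ hR1))) ((hRD.trans hD.1.2.1).trans C.hPM) hMR hRi
  refine hD.1.2.2 (le_antisymm ?_ (M_le_normalizer C hD.1.1 hD.1.2.1))
  intro x hx
  rw [← hN]
  refine CfsgLib.Solvable.mem_normalizer_of_conj_mem fun d hd => ?_
  have h1 : ⁅x, d⁆ ∈ R := (le_iInf hW : wSub D ≤ R) (triv_wSub C hD x hx d (hRD hd))
  have h2 := mul_mem h1 hd
  rwa [commutatorElement_def, inv_mul_cancel_right] at h2

/-- The normal 2-complement. -/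
theorem hasNormalPComplement [Finite A] [Finite G] (C : Ctx φ M P) (hMi : Inv φ M)
    (hA : Odd (Nat.card A)) : Cfsg.HasNormalPComplement 2 G := by
  by_cases hne : ⁅(P : Subgroup G), (P : Subgroup G)⁆ = ⊥
  · refine CfsgLib.Transfer.hasNormalPComplement_of_normalizer_le_centralizer P fun x hx => ?_
    have hx : x ∈ M := C.hNP ▸ hx
    obtain ⟨u, hu, y, hy, hyo, rfl⟩ := decomp C hx
    refine mem_centralizer_iff.2 fun s hs => ?_
    have h1 : s * u = u * s := by
      rw [← commutatorElement_eq_one_iff_mul_comm, ← mem_bot, ← hne]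
      exact commutator_mem_commutator hs hu
    rw [← mul_assoc, h1, mul_assoc, ← odd_comm C hy hyo hs, ← mul_assoc]
  refine CfsgLib.Transfer.hasNormalPComplement_of_frobeniusCond fun D hD g hg hgcop => ?_
  obtain ⟨T, hDT, hTfull⟩ := CfsgLib.Transfer.exists_sylow_full (p := 2) (X := D) (D := D) hD
    le_normalizer
  obtain ⟨u, hu⟩ := MulAction.exists_smul_eq G T P
  have hPu : (P : Subgroup G) = CfsgLib.Fusion.conjSub u (T : Subgroup G) := by
    rw [← hu, Sylow.coe_subgroup_smul]; exact CfsgLib.Solvable.conj_smul_eq_map _ _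
  set D' := CfsgLib.Fusion.conjSub u D with hD'
  have hD'P : D' ≤ (P : Subgroup G) := hPu ▸ CfsgLib.Fusion.conjSub_mono u hDT
  have hfull : CfsgLib.Techniques.Functor.Full 2 (P : Subgroup G) D' :=
    hPu ▸ CfsgLib.Transfer.full_conjSub hTfull u
  suffices h : u * g * u⁻¹ ∈ centralizer (D' : Set G) by
    rw [mem_centralizer_iff] at h ⊢
    intro d hd
    have h1 := h (u * d * u⁻¹) (CfsgLib.Fusion.conj_mem_conjSub hd)
    calc d * g = u⁻¹ * (u * d * u⁻¹ * (u * g * u⁻¹)) * u := by group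
      _ = u⁻¹ * (u * g * u⁻¹ * (u * d * u⁻¹)) * u := by rw [h1]
      _ = g * d := by group
  set x := u * g * u⁻¹ with hx
  have hxN : x ∈ normalizer (D' : Set G) := by
    rw [← CfsgLib.Fusion.conjSub_eq_iff_mem_normalizer, hD', CfsgLib.Fusion.conjSub_conjSub,
      show x * u = u * g by rw [hx]; group, ← CfsgLib.Fusion.conjSub_conjSub,
      CfsgLib.Fusion.conjSub_eq_iff_mem_normalizer.2 hg]
  obtain ⟨m, hm, hagree⟩ := CfsgLib.Techniques.Functor.exists_extension P hfull hxN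
  set Ds := D' ⊔ ((P : Subgroup G) ⊓ centralizer (D' : Set G)) with hDs
  have hDsP : Ds ≤ (P : Subgroup G) := sup_le hD'P inf_le_left
  have hZDs : zS P ≤ Ds := fun z hz => mem_sup_right (mem_inf.2 ⟨(mem_inf.1 hz).1,
    mem_centralizer_iff.2 fun d hd => mem_centralizer_iff.1 (mem_inf.1 hz).2 d (hD'P hd)⟩)
  have hNDs : normalizer (Ds : Set G) = M := by
    by_contra h
    exact no_fam C hMi hA hne ⟨Ds, hZDs, hDsP, h⟩
  rw [hNDs] at hm
  obtain ⟨e, he, y, hy, hyo, hey⟩ := decomp C hm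
  have hxcop : (orderOf x).Coprime 2 := by
    have : orderOf x = orderOf g := (MulAut.conj u).orderOf_eq g
    rwa [this]
  obtain ⟨k, hk⟩ := exists_two_pow C he
  have hxe : ∀ (n : ℕ) (d : G), d ∈ D' → x ^ n * d * (x ^ n)⁻¹ = e ^ n * d * (e ^ n)⁻¹ := by
    intro n
    induction n with
    | zero => intro d _; simp
    | succ n ih =>
      intro d hd
      have h1 : x * d * x⁻¹ = e * d * e⁻¹ := by
        rw [← hagree d hd, ← hey,
          show e * y * d * (e * y)⁻¹ = e * (y * d * y⁻¹) * e⁻¹ by group,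
          odd_comm C hy hyo (hD'P hd), mul_inv_cancel_right]
      have hxd : x * d * x⁻¹ ∈ D' := (mem_normalizer_iff.1 hxN d).1 hd
      calc x ^ (n + 1) * d * (x ^ (n + 1))⁻¹ = x ^ n * (x * d * x⁻¹) * (x ^ n)⁻¹ := by
            rw [pow_succ]; group
        _ = e ^ n * (x * d * x⁻¹) * (e ^ n)⁻¹ := ih _ hxd
        _ = e ^ n * (e * d * e⁻¹) * (e ^ n)⁻¹ := by rw [h1]
        _ = e ^ (n + 1) * d * (e ^ (n + 1))⁻¹ := by rw [pow_succ]; group
  have hxq : x ^ 2 ^ k ∈ centralizer (D' : Set G) := mem_centralizer_iff.2 fun d hd => by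
    have h1 := hxe (2 ^ k) d hd
    rw [hk, one_mul, inv_one, mul_one, mul_inv_eq_iff_eq_mul] at h1
    exact h1.symm
  obtain ⟨n, hn⟩ := exists_pow_eq_self_of_coprime (hxcop.symm.pow_left k) (x := x)
  exact hn ▸ pow_mem hxq n

end CfsgLib.FGS.InvMaxTwo
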