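import Mathlib.GroupTheory.Sylow
import Mathlib.GroupTheory.GroupAction.Quotient
import Mathlib.GroupTheory.SpecificGroups.Cyclic
import Mathlib.Data.ZMod.Basic
import Mathlib.Algebra.Group.Action.Pointwise.Finset
import Mathlib.Tactic.Ring

/-!
The number of subgroups of a given prime power order is congruent to `1` modulo the prime.
-/

namespace CfsgLib.FGS

open Subgroup
open scoped Pointwise

/-- Wielandt's count of the subsets of size `p ^ β`. -/
theorem card_subgroups_mul_modEq {G : Type*} [Group G] [Finite G] {p β m : ℕ} (hp : p.Prime)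
    (hG : Nat.card G = p ^ β * m) :
    Nat.choose (p ^ β * m) (p ^ β) ≡ Nat.card {H : Subgroup G // Nat.card H = p ^ β} * m
      [MOD p * m] := by
  classical
  haveI := Fintype.ofFinite G
  set t := p ^ β with ht
  have ht0 : 0 < t := pow_pos hp.pos β
  let X := {s : Finset G // s.card = t}
  letI act : MulAction G X :=
    { smul := fun g s => ⟨g • s.1, by rw [Finset.card_smul_finset]; exact s.2⟩
      one_smul := fun s => Subtype.ext (one_smul G s.1)
      mul_smul := fun g h s => Subtype.ext (mul_smul g h s.1) }
  have hX : Nat.card X = Nat.choose (t * m) t := by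
    rw [Nat.card_eq_fintype_card, Fintype.card_finset_len, ← Nat.card_eq_fintype_card, hG]
  have hmem : ∀ (s : X) (g : G), g ∈ MulAction.stabilizer G s → ∀ x ∈ s.1, g * x ∈ s.1 := by
    intro s g hg x hx
    have h1 : g • s.1 = s.1 := congrArg Subtype.val (MulAction.mem_stabilizer_iff.1 hg)
    rw [← h1]
    exact Finset.smul_mem_smul_finset hx
  -- the stabilizer order divides `t`
  have hstab : ∀ s : X, Nat.card (MulAction.stabilizer G s) ∣ t := by
    intro s
    set H := MulAction.stabilizer G s
    letI : MulAction H s.1 :=
      { smul := fun h x => ⟨(h : G) * x, hmem s h h.2 x x.2⟩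
        one_smul := fun x => Subtype.ext (one_mul _)
        mul_smul := fun a b x => Subtype.ext (mul_assoc (a : G) b x) }
    rw [← s.2, ← Fintype.card_coe, ← Nat.card_eq_fintype_card,
      Nat.card_congr (MulAction.selfEquivSigmaOrbits H s.1), Nat.card_sigma]
    refine Finset.dvd_sum fun ω _ => ?_
    refine dvd_of_eq (Nat.card_eq_of_bijective (fun h : H => ⟨h • ω.out, ⟨h, rfl⟩⟩) ⟨?_, ?_⟩)
    · intro a b h
      have h' := congrArg (fun z : MulAction.orbit H ω.out => ((z.1 : s.1) : G)) h
      exact Subtype.ext (mul_right_cancel h')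
    · rintro ⟨_, h, rfl⟩
      exact ⟨h, rfl⟩
  let good : X → Prop := fun s => Nat.card (MulAction.stabilizer G s) = t
  -- bad sets
  have hbad : p * m ∣ Nat.card {s : X // ¬ good s} := by
    let B := {s : X // ¬ good s}
    have hinv : ∀ (g : G) (s : X), Nat.card (MulAction.stabilizer G (g • s)) =
        Nat.card (MulAction.stabilizer G s) := fun g s =>
      Nat.card_congr (MulAction.stabilizerEquivStabilizer (g := g) (a := s) rfl).toEquiv.symm
    letI : MulAction G B :=
      { smul := fun g s => ⟨g • s.1, fun h => s.2 ((hinv g s.1).symm.trans h)⟩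
        one_smul := fun s => Subtype.ext (one_smul G s.1)
        mul_smul := fun g h s => Subtype.ext (mul_smul g h s.1) }
    rw [Nat.card_congr (MulAction.selfEquivSigmaOrbits G B), Nat.card_sigma]
    refine Finset.dvd_sum fun ω _ => ?_
    set b := ω.out
    have hst : MulAction.stabilizer G b = MulAction.stabilizer G b.1 := by
      ext g
      exact ⟨fun h => congrArg Subtype.val h, fun h => Subtype.ext h⟩
    have horb : Nat.card (MulAction.orbit G b) * Nat.card (MulAction.stabilizer G b.1) = t * m := by
      rw [← hst, Nat.card_coe_set_eq, ← MulAction.index_stabilizer, index_mul_card, hG]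
    obtain ⟨i, hi, hi'⟩ := (Nat.dvd_prime_pow hp).1 (hstab b.1)
    have hlt : i < β := lt_of_le_of_ne hi fun h => b.2 (by show Nat.card _ = t; rw [hi', h])
    refine ⟨p ^ (β - i - 1), Nat.eq_of_mul_eq_mul_right (pow_pos hp.pos i) ?_⟩
    rw [← hi', horb, ht, hi']
    calc p ^ β * m = p ^ ((β - i - 1) + 1 + i) * m := by congr 2; omega
      _ = p * m * p ^ (β - i - 1) * p ^ i := by rw [pow_add, pow_succ]; ring
  -- good sets
  have hgood : Nat.card {s : X // good s} =
      Nat.card {H : Subgroup G // Nat.card H = t} * m := by
    let f : {s : X // good s} → {H : Subgroup G // Nat.card H = t} :=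
      fun s => ⟨MulAction.stabilizer G s.1, s.2⟩
    haveI := Fintype.ofFinite {H : Subgroup G // Nat.card H = t}
    rw [Nat.card_congr (Equiv.sigmaFiberEquiv f).symm, Nat.card_sigma]
    have hfib : ∀ H : {H : Subgroup G // Nat.card H = t}, Nat.card {s // f s = H} = m := by
      rintro ⟨H, hH⟩
      -- every element lies in exactly one member of the fibre
      have e : ((s : {s // f s = ⟨H, hH⟩}) × {x // x ∈ s.1.1.1}) ≃ G := by
        refine Equiv.ofBijective (fun z => z.2.1) ⟨?_, ?_⟩
        · rintro ⟨⟨⟨⟨s, hs⟩, hgs⟩, hfs⟩, x, hx⟩ ⟨⟨⟨⟨s', hs'⟩, hgs'⟩, hfs'⟩, x', hx'⟩ h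
          simp only at h
          subst h
          have hHs : MulAction.stabilizer G (⟨s, hs⟩ : X) = H := congrArg Subtype.val hfs
          have hHs' : MulAction.stabilizer G (⟨s', hs'⟩ : X) = H := congrArg Subtype.val hfs'
          let img : Finset G := Finset.univ.filter (fun y => y * x⁻¹ ∈ H)
          have hcard : img.card = t := by
            rw [← hH, Nat.card_eq_fintype_card, Fintype.card_subtype]
            refine Finset.card_bij (fun y _ => y * x⁻¹) ?_ ?_ ?_
            · intro y hy; simpa [img] using hy
            · intro a _ b _ h; exact mul_right_cancel h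
            · intro b hb; exact ⟨b * x, by simpa [img] using hb, by simp⟩
          have h1 : ∀ (u : Finset G) (hu : u.card = t), MulAction.stabilizer G (⟨u, hu⟩ : X) = H →
              x ∈ u → u = img := by
            intro u hu hHu hxu
            refine (Finset.eq_of_subset_of_card_le (fun y hy => ?_) (by omega)).symm
            have hy' := (Finset.mem_filter.1 hy).2
            have := hmem ⟨u, hu⟩ (y * x⁻¹) (hHu ▸ hy') x hxu
            rwa [inv_mul_cancel_right] at this
          obtain rfl : s = s' := (h1 s hs hHs hx).trans (h1 s' hs' hHs' hx').symm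
          rfl
        · intro x
          let img : Finset G := Finset.univ.filter (fun y => y * x⁻¹ ∈ H)
          have hcard : img.card = t := by
            rw [← hH, Nat.card_eq_fintype_card, Fintype.card_subtype]
            refine Finset.card_bij (fun y _ => y * x⁻¹) ?_ ?_ ?_
            · intro y hy; simpa [img] using hy
            · intro a _ b _ h; exact mul_right_cancel h
            · intro b hb; exact ⟨b * x, by simpa [img] using hb, by simp⟩
          have hst : MulAction.stabilizer G (⟨img, hcard⟩ : X) = H := by
            ext g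
            rw [MulAction.mem_stabilizer_iff]
            constructor
            · intro h
              have hx1 : x ∈ img := by simp [img]
              have : g * x ∈ img := by
                have h' : g • img = img := congrArg Subtype.val h
                rw [← h']; exact Finset.smul_mem_smul_finset hx1
              simpa [img] using this
            · intro hg
              refine Subtype.ext (Finset.eq_of_subset_of_card_le (fun y hy => ?_) ?_)
              · obtain ⟨z, hz, rfl⟩ := Finset.mem_smul_finset.1 hy
                simp only [img, Finset.mem_filter, Finset.mem_univ, true_and] at hz ⊢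
                rw [smul_eq_mul, mul_assoc]
                exact mul_mem hg hz
              · exact le_of_eq (Finset.card_smul_finset g img).symm
          exact ⟨⟨⟨⟨⟨img, hcard⟩, by show Nat.card _ = t; rw [hst, hH]⟩, Subtype.ext hst⟩,
            x, by simp [img]⟩, rfl⟩
      haveI := Fintype.ofFinite {s // f s = (⟨H, hH⟩ : {H : Subgroup G // Nat.card H = t})}
      have := Nat.card_congr e
      rw [Nat.card_sigma, Finset.sum_congr rfl (g := fun _ => t) (fun s _ => by
        rw [Nat.card_eq_fintype_card, Fintype.card_coe, s.1.1.2]), Finset.sum_const, smul_eq_mul,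
        Finset.card_univ, ← Nat.card_eq_fintype_card, hG, mul_comm] at this
      exact Nat.eq_of_mul_eq_mul_left ht0 this
    rw [Finset.sum_congr rfl (fun H _ => hfib H), Finset.sum_const, smul_eq_mul, Finset.card_univ,
      Nat.card_eq_fintype_card]
  have hsum : Nat.card X = Nat.card {s : X // good s} + Nat.card {s : X // ¬ good s} := by
    rw [← Nat.card_sum]
    exact Nat.card_congr (Equiv.sumCompl good).symm
  rw [← hX, hsum, hgood]
  calc _ ≡ Nat.card {H : Subgroup G // Nat.card H = t} * m + 0 [MOD p * m] :=
        Nat.ModEq.add_left _ (Nat.modEq_zero_iff_dvd.2 hbad)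
    _ = _ := add_zero _

/-- The number of subgroups of prime power order `p ^ β` is `1` modulo `p`. -/
theorem card_subgroups_modEq_one {G : Type*} [Group G] [Finite G] {p β : ℕ} (hp : p.Prime)
    (hdiv : p ^ β ∣ Nat.card G) :
    Nat.card {H : Subgroup G // Nat.card H = p ^ β} ≡ 1 [MOD p] := by
  classical
  obtain ⟨m, hm⟩ := hdiv
  have hn0 : p ^ β * m ≠ 0 := hm ▸ Nat.card_pos.ne'
  haveI : NeZero (p ^ β * m) := ⟨hn0⟩
  let C := Multiplicative (ZMod (p ^ β * m))
  have hC : Nat.card C = p ^ β * m := by
    rw [Nat.card_eq_fintype_card, Fintype.card_multiplicative, ZMod.card]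
  have h1 : Nat.card {H : Subgroup C // Nat.card H = p ^ β} = 1 := by
    rw [Nat.card_eq_one_iff_unique]
    refine ⟨⟨fun A B => ?_⟩, ?_⟩
    · have key : ∀ A : {H : Subgroup C // Nat.card H = p ^ β},
          (A.1 : Set C) = {x | x ^ (p ^ β) = 1} := by
        intro A
        refine Set.eq_of_subset_of_ncard_le (fun x hx => ?_) ?_ (Set.toFinite _)
        · have h := pow_card_eq_one' (G := A.1) (x := ⟨x, hx⟩)
          rw [A.2] at h
          exact congrArg Subtype.val h
        · rw [← Nat.card_coe_set_eq (A.1 : Set C), SetLike.coe_sort_coe, A.2]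
          refine le_trans (le_of_eq ?_) (IsCyclic.card_pow_eq_one_le (α := C) (pow_pos hp.pos β))
          rw [← Set.ncard_coe_finset, Finset.coe_filter]
          simp
      exact Subtype.ext (SetLike.ext' ((key A).trans (key B).symm))
    · haveI := Fact.mk hp
      obtain ⟨H, hH⟩ := Sylow.exists_subgroup_card_pow_prime (G := C) p (hC ▸ Dvd.intro m rfl)
      exact ⟨⟨H, hH⟩⟩
  have e1 := card_subgroups_mul_modEq hp hm
  have e2 := card_subgroups_mul_modEq (G := C) hp hC
  rw [h1] at e2
  exact Nat.ModEq.mul_right_cancel' (right_ne_zero_of_mul hn0) (e1.symm.trans e2)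

end CfsgLib.FGS
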