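import Cfsg.Agent.Lib.FGS.Basics
import Cfsg.Agent.Lib.FGS.SubgroupCount
import Cfsg.Agent.Lib.Transfer.CyclicMaximal
import Cfsg.Agent.Lib.Transfer.MaximalClass

/-!
Kulakoff's congruence for the number of elements of a given prime power order, `p` odd.
-/

namespace CfsgLib.FGS

open Subgroup
open scoped Pointwise commutatorElement

theorem modEq_of_eq {n a b : ℕ} (h : a = b) : a ≡ b [MOD n] := h ▸ Nat.ModEq.refl a

variable {p : ℕ} [hp : Fact p.Prime]

/-- The number of elements of order `p ^ s`. -/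
noncomputable def numOrd (p s : ℕ) (G : Type*) [Group G] : ℕ := Nat.card {x : G // orderOf x = p ^ s}

/-- The number of cyclic subgroups of order `p ^ s`. -/
noncomputable def numCyc (p s : ℕ) (G : Type*) [Group G] : ℕ :=
  Nat.card {C : Subgroup G // IsCyclic C ∧ Nat.card C = p ^ s}

omit hp in
theorem card_generators {G : Type*} [Group G] [Finite G] {C : Subgroup G} {k : ℕ} (hC : IsCyclic C)
    (hk : Nat.card C = k) : Nat.card {x : G // zpowers x = C} = Nat.totient k := by
  classical
  haveI := Fintype.ofFinite C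
  have hdvd : k ∣ Fintype.card C := by rw [← Nat.card_eq_fintype_card, hk]
  rw [← IsCyclic.card_orderOf_eq_totient (α := C) hdvd]
  rw [← Fintype.card_subtype, ← Nat.card_eq_fintype_card]
  refine Nat.card_congr
    { toFun := fun x => ⟨⟨x.1, x.2.le (mem_zpowers _)⟩, by
        rw [orderOf_mk, ← Nat.card_zpowers, show zpowers (x.1) = C from x.2, hk]⟩
      invFun := fun x => ⟨x.1, eq_of_le_of_card_ge (zpowers_le.2 x.1.2) (by
        rw [Nat.card_zpowers, orderOf_coe, x.2, hk])⟩
      left_inv := fun x => Subtype.ext rfl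
      right_inv := fun x => Subtype.ext rfl }

theorem numOrd_eq (s : ℕ) (G : Type*) [Group G] [Finite G] :
    numOrd p s G = Nat.totient (p ^ s) * numCyc p s G := by
  classical
  haveI := Fintype.ofFinite {C : Subgroup G // IsCyclic C ∧ Nat.card C = p ^ s}
  rw [numOrd, ← Nat.card_congr (Equiv.sigmaFiberEquiv (fun x : {x : G // orderOf x = p ^ s} =>
    (⟨zpowers x.1, inferInstance, by rw [Nat.card_zpowers, x.2]⟩ :
      {C : Subgroup G // IsCyclic C ∧ Nat.card C = p ^ s}))), Nat.card_sigma]
  rw [Finset.sum_const_nat (m := Nat.totient (p ^ s)) ?_, Finset.card_univ, numCyc,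
    Nat.card_eq_fintype_card, mul_comm]
  intro C _
  rw [← card_generators C.2.1 C.2.2]
  exact Nat.card_congr
    { toFun := fun x => ⟨x.1.1, congrArg Subtype.val x.2⟩
      invFun := fun x => ⟨⟨x.1, by rw [← Nat.card_zpowers, x.2, C.2.2]⟩, Subtype.ext x.2⟩
      left_inv := fun x => rfl
      right_inv := fun x => rfl }

theorem dvd_numOrd_iff {s : ℕ} (hs : 1 ≤ s) (G : Type*) [Group G] [Finite G] :
    p ^ s ∣ numOrd p s G ↔ p ∣ numCyc p s G := by
  rw [numOrd_eq, Nat.totient_prime_pow hp.out hs, mul_assoc,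
    show p ^ s = p ^ (s - 1) * p by rw [← pow_succ, Nat.sub_add_cancel hs],
    Nat.mul_dvd_mul_iff_left (pow_pos hp.out.pos _)]
  refine ⟨fun h => ?_, fun h => h.mul_left _⟩
  refine ((hp.out.dvd_mul).1 h).resolve_left fun h1 => ?_
  have := hp.out.two_le
  have := Nat.le_of_dvd (by omega) h1
  omega

/-- The base case: a cyclic maximal subgroup. -/
theorem dvd_numOrd_of_cyclic_index {P : Type*} [Group P] [Finite P] (hP : IsPGroup p P) (hp2 : p ≠ 2)
    (hnc : ¬ IsCyclic P) {a : P} (ha : (zpowers a).index = p) {s : ℕ} (hs : 2 ≤ s) :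
    p ^ s ∣ numOrd p s P := by
  classical
  obtain ⟨m, hm⟩ := IsPGroup.iff_orderOf.1 hP a
  have hcard : Nat.card P = p ^ (m + 1) := by
    rw [← (zpowers a).card_mul_index, ha, Nat.card_zpowers, hm, pow_succ]
  haveI hn : (zpowers a).Normal := by
    apply CfsgLib.PGroup.normal_of_isCoatom hP
    refine ⟨fun h => ?_, fun K hK => ?_⟩
    · rw [h, index_top] at ha; exact hp.out.ne_one ha.symm
    · have h1 := CfsgLib.Transfer.prime_mul_card_le hP hK
      exact eq_top_of_le_card _ (by rw [hcard, Nat.card_zpowers, hm, ← pow_succ'] at *; exact h1)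
  have hadd : ∀ x y : P, (x * y) ^ p = x ^ p * y ^ p := fun x y => by
    obtain ⟨h1, h2⟩ := CfsgLib.Transfer.commutator_central_of_cyclic_index hP hp2 ha y x
    obtain ⟨j, hj⟩ := CfsgLib.Transfer.dvd_choose_two (p := p) hp2
    rw [CfsgLib.PGroup.mul_pow_of_comm_mem_center h1, hj, pow_mul, h2, one_pow, mul_one]
  have hadd' : ∀ (j : ℕ) (x y : P), (x * y) ^ p ^ j = x ^ p ^ j * y ^ p ^ j := by
    intro j
    induction j with
    | zero => simp
    | succ j ih => intro x y; rw [pow_succ, pow_mul, ih, hadd, ← pow_mul, ← pow_mul]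
  let φ : ℕ → (P →* P) := fun j => MonoidHom.mk' (fun x => x ^ p ^ j) (hadd' j)
  have hpow : ∀ x : P, x ^ p ∈ zpowers (a ^ p) := by
    intro x
    have hx : x ^ p ∈ zpowers a := by
      have := pow_index_mem (zpowers a) x
      rwa [ha] at this
    obtain ⟨k, hk⟩ := hx
    by_cases hpk : (p : ℤ) ∣ k
    · obtain ⟨e, rfl⟩ := hpk
      exact ⟨e, by show (a ^ p) ^ e = x ^ p; rw [← zpow_natCast a p, ← zpow_mul]; exact hk⟩
    · exfalso
      refine hnc (isCyclic_of_orderOf_eq_card x ?_)
      have hxp : orderOf (x ^ p) = p ^ m := by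
        rw [← hk, ← hm]
        refine Nat.dvd_antisymm (orderOf_dvd_of_pow_eq_one ?_) ?_
        · show (a ^ k) ^ orderOf a = 1
          rw [← zpow_natCast, ← zpow_mul, mul_comm, zpow_mul, zpow_natCast, pow_orderOf_eq_one, one_zpow]
        · have h1 : (orderOf a : ℤ) ∣ k * orderOf (a ^ k) := orderOf_dvd_iff_zpow_eq_one.2 (by
            rw [zpow_mul, zpow_natCast, pow_orderOf_eq_one])
          have h2 : IsCoprime (orderOf a : ℤ) k := by
            rw [hm, Nat.cast_pow]
            exact IsCoprime.pow_left ((Nat.prime_iff_prime_int.1 hp.out).coprime_iff_not_dvd.2 hpk)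
          exact Int.natCast_dvd_natCast.1 (h2.dvd_of_dvd_mul_left h1)
      rw [hcard]
      rcases Nat.eq_zero_or_pos m with h0 | h0
      · exfalso
        rw [h0, zero_add, pow_one] at hcard
        exact hnc (isCyclic_of_prime_card hcard)
      obtain ⟨i, hi⟩ := IsPGroup.iff_orderOf.1 hP x
      rcases Nat.eq_zero_or_pos i with hi0 | hi0
      · rw [hi0, pow_zero, orderOf_eq_one_iff] at hi
        rw [hi, one_pow, orderOf_one] at hxp
        exact absurd hxp (Nat.one_lt_pow h0.ne' hp.out.one_lt).ne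
      rw [orderOf_pow' _ hp.out.ne_zero, hi, Nat.gcd_eq_right (dvd_pow_self p hi0.ne'),
        show p ^ i = p * p ^ (i - 1) by rw [← pow_succ', Nat.sub_add_cancel hi0],
        Nat.mul_div_cancel_left _ hp.out.pos] at hxp
      rw [hi]
      congr 1
      have := Nat.pow_right_injective hp.out.two_le hxp
      omega
  have hker : ∀ j, 1 ≤ j → j ≤ m → Nat.card (φ j).ker = p ^ (j + 1) := by
    intro j hj hjm
    have hrange : (φ j).range = zpowers (a ^ p ^ j) := by
      refine le_antisymm ?_ (zpowers_le.2 ⟨a, rfl⟩)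
      rintro _ ⟨x, rfl⟩
      obtain ⟨e, he⟩ := hpow x
      have he' : (a ^ p) ^ e = x ^ p := he
      refine ⟨e, ?_⟩
      show (a ^ p ^ j) ^ e = x ^ p ^ j
      rw [show p ^ j = p * p ^ (j - 1) by rw [← pow_succ', Nat.sub_add_cancel hj], pow_mul x, ← he',
        pow_mul, ← zpow_natCast ((a ^ p) ^ e), ← zpow_natCast (a ^ p), ← zpow_mul, ← zpow_mul, mul_comm e]
    have h1 := (φ j).ker.card_mul_index
    rw [index_ker, hrange, Nat.card_zpowers, hcard, orderOf_pow' _ (pow_ne_zero _ hp.out.ne_zero), hm,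
      Nat.gcd_eq_right (pow_dvd_pow p hjm), Nat.pow_div hjm hp.out.pos,
      show p ^ (m + 1) = p ^ (j + 1) * p ^ (m - j) by rw [← pow_add]; congr 1; omega] at h1
    exact Nat.eq_of_mul_eq_mul_right (pow_pos hp.out.pos _) h1
  by_cases hsm : s ≤ m
  · have hsplit : numOrd p s P + Nat.card (φ (s - 1)).ker = Nat.card (φ s).ker := by
      show Set.ncard {x : P | orderOf x = p ^ s} + Set.ncard {x : P | x ^ p ^ (s - 1) = 1} =
        Set.ncard {x : P | x ^ p ^ s = 1}
      rw [← Set.ncard_union_eq]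
      · congr 1
        ext x
        simp only [Set.mem_union, Set.mem_setOf_eq]
        constructor
        · rintro (h | h)
          · rw [← h, pow_orderOf_eq_one]
          · rw [show p ^ s = p ^ (s - 1) * p by rw [← pow_succ, Nat.sub_add_cancel (by omega : 1 ≤ s)],
              pow_mul, h, one_pow]
        · intro h
          obtain ⟨i, hi, hi'⟩ := (Nat.dvd_prime_pow hp.out).1 (orderOf_dvd_of_pow_eq_one h)
          rcases Nat.lt_or_ge i s with hlt | hge
          · exact Or.inr (orderOf_dvd_iff_pow_eq_one.1 (hi'.dvd.trans (pow_dvd_pow p (by omega))))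
          · exact Or.inl (by rw [hi', le_antisymm hi hge])
      · rw [Set.disjoint_left]
        intro x (h : orderOf x = p ^ s) (h' : x ^ p ^ (s - 1) = 1)
        have := Nat.le_of_dvd (pow_pos hp.out.pos _) (orderOf_dvd_of_pow_eq_one h')
        rw [h, Nat.pow_le_pow_iff_right hp.out.one_lt] at this
        omega
    rw [hker s (by omega) hsm, hker (s - 1) (by omega) (by omega), Nat.sub_add_cancel (by omega)] at hsplit
    refine (Nat.dvd_add_left dvd_rfl).1 ?_
    rw [hsplit]
    exact pow_dvd_pow p (Nat.le_succ s)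
  · rw [numOrd]
    have : IsEmpty {x : P // orderOf x = p ^ s} := ⟨fun ⟨x, hx⟩ => by
      have h2 : orderOf x ∣ p ^ (m + 1) := hcard ▸ orderOf_dvd_natCard x
      rw [hx] at h2
      have h3 := (Nat.pow_dvd_pow_iff_le_right hp.out.one_lt).1 h2
      refine hnc (isCyclic_of_orderOf_eq_card x ?_)
      rw [hcard, hx, show s = m + 1 by omega]⟩
    simp

/-- Kulakoff's theorem for a `p`-group. -/
theorem dvd_numOrd_pGroup (hp2 : p ≠ 2) {s : ℕ} (hs : 2 ≤ s) :
    ∀ (n : ℕ) (P : Type*) [Group P] [Finite P], Nat.card P = p ^ n → ¬ IsCyclic P →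
      p ^ s ∣ numOrd p s P := by
  intro n
  induction n using Nat.strong_induction_on with
  | _ n ih =>
  intro P _ _ hcard hnc
  classical
  have hP : IsPGroup p P := IsPGroup.of_card hcard
  by_cases hmax : ∃ a : P, (zpowers a).index = p
  · obtain ⟨a, ha⟩ := hmax
    exact dvd_numOrd_of_cyclic_index hP hp2 hnc ha hs
  have hn1 : 1 ≤ n := by
    by_contra h
    rw [show n = 0 by omega, pow_zero] at hcard
    exact hnc (@isCyclic_of_subsingleton _ _ (Nat.card_eq_one_iff_unique.1 hcard).1)
  -- maximal subgroups through a given element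
  have hcover : ∀ x : P, Nat.card {M : Subgroup P // M.index = p ∧ x ∈ M} ≡ 1 [MOD p] := by
    intro x
    set N := zpowers x ⊔ frattini P
    haveI hNn : N.Normal := ⟨fun y hy g => by
      rw [show g * y * g⁻¹ = ⁅g, y⁆ * y by rw [commutatorElement_def]; group]
      exact mul_mem (le_sup_right (a := zpowers x) (CfsgLib.PGroup.commutator_le_frattini hP
        (commutator_mem_commutator (mem_top g) (mem_top y)))) hy⟩
    have hN : N ≠ ⊤ := fun h => hnc ⟨⟨x, fun y => by
      exact (CfsgLib.PGroup.eq_top_of_sup_frattini (H := zpowers x) h).ge (mem_top y)⟩⟩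
    obtain ⟨k, hk⟩ := IsPGroup.iff_card.1 (hP.to_quotient N)
    have hk1 : 1 ≤ k := by
      by_contra h
      rw [show k = 0 by omega, pow_zero, ← index_eq_card, index_eq_one] at hk
      exact hN hk
    have h1 := card_subgroups_modEq_one (G := P ⧸ N) (p := p) (β := k - 1) hp.out
      (hk ▸ pow_dvd_pow p (Nat.sub_le k 1))
    refine Nat.ModEq.trans (modEq_of_eq ?_) h1
    refine Nat.card_congr
      { toFun := fun M => ⟨M.1.map (QuotientGroup.mk' N), ?_⟩
        invFun := fun H => ⟨H.1.comap (QuotientGroup.mk' N), ?_, ?_⟩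
        left_inv := fun M => Subtype.ext ?_
        right_inv := fun H => Subtype.ext
          (map_comap_eq_self_of_surjective (QuotientGroup.mk'_surjective N) _) }
    · have hle : N ≤ M.1 := sup_le (zpowers_le.2 M.2.2) (frattini_le_coatom ⟨fun h => by
        have := M.2.1
        rw [h, index_top] at this
        exact hp.out.ne_one this.symm, fun K hK => by
        have h1 := CfsgLib.Transfer.prime_mul_card_le hP hK
        have h2 := M.1.card_mul_index
        rw [M.2.1, mul_comm] at h2
        exact eq_top_of_le_card _ (h2 ▸ h1)⟩)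
      have hidx : (M.1.map (QuotientGroup.mk' N)).index = p := by
        rw [index_map_eq _ (QuotientGroup.mk'_surjective N) (by rwa [QuotientGroup.ker_mk']), M.2.1]
      have h2 := (M.1.map (QuotientGroup.mk' N)).card_mul_index
      rw [hidx, hk, show p ^ k = p ^ (k - 1) * p by rw [← pow_succ, Nat.sub_add_cancel hk1]] at h2
      exact Nat.eq_of_mul_eq_mul_right hp.out.pos h2
    · rw [index_comap_of_surjective _ (QuotientGroup.mk'_surjective N)]
      have h2 := H.1.card_mul_index
      rw [H.2, hk, show p ^ k = p ^ (k - 1) * p by rw [← pow_succ, Nat.sub_add_cancel hk1]] at h2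
      exact Nat.eq_of_mul_eq_mul_left (pow_pos hp.out.pos _) h2
    · show QuotientGroup.mk' N x ∈ H.1
      rw [show QuotientGroup.mk' N x = 1 from (QuotientGroup.eq_one_iff x).2 (mem_sup_left (mem_zpowers x))]
      exact one_mem _
    · show (M.1.map (QuotientGroup.mk' N)).comap (QuotientGroup.mk' N) = M.1
      refine comap_map_eq_self ?_
      rw [QuotientGroup.ker_mk']
      exact sup_le (zpowers_le.2 M.2.2) (frattini_le_coatom ⟨fun h => by
        have := M.2.1
        rw [h, index_top] at this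
        exact hp.out.ne_one this.symm, fun K hK => by
        have h1 := CfsgLib.Transfer.prime_mul_card_le hP hK
        have h2 := M.1.card_mul_index
        rw [M.2.1, mul_comm] at h2
        exact eq_top_of_le_card _ (h2 ▸ h1)⟩)
  have hsub : ∀ M : Subgroup P, M.index = p → p ^ s ∣ numOrd p s M := by
    intro M hM
    have hMc : Nat.card M = p ^ (n - 1) := by
      have h2 := M.card_mul_index
      rw [hM, hcard, show p ^ n = p ^ (n - 1) * p by rw [← pow_succ, Nat.sub_add_cancel hn1]] at h2
      exact Nat.eq_of_mul_eq_mul_right hp.out.pos h2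
    refine ih (n - 1) (by omega) M hMc fun hcyc => hmax ?_
    obtain ⟨a, ha⟩ := isCyclic_iff_exists_zpowers_eq_top.1 hcyc
    refine ⟨(a : P), ?_⟩
    rw [show zpowers (a : P) = M by
      rw [← M.coe_subtype, ← MonoidHom.map_zpowers, ha, ← MonoidHom.range_eq_map, range_subtype]]
    exact hM
  haveI := Fintype.ofFinite P
  haveI := Fintype.ofFinite {M : Subgroup P // M.index = p}
  haveI := Fintype.ofFinite {C : Subgroup P // IsCyclic C ∧ Nat.card C = p ^ s}
  have hcount : Nat.card ((M : {M : Subgroup P // M.index = p}) ×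
      {C : Subgroup P // IsCyclic C ∧ Nat.card C = p ^ s ∧ C ≤ M.1}) ≡ numCyc p s P [MOD p] := by
    rw [Nat.card_congr
      { toFun := fun z => (⟨⟨z.2.1, z.2.2.1, z.2.2.2.1⟩, ⟨z.1.1, z.1.2, z.2.2.2.2⟩⟩ :
          (C : {C : Subgroup P // IsCyclic C ∧ Nat.card C = p ^ s}) ×
            {M : Subgroup P // M.index = p ∧ C.1 ≤ M})
        invFun := fun z => ⟨⟨z.2.1, z.2.2.1⟩, ⟨z.1.1, z.1.2.1, z.1.2.2, z.2.2.2⟩⟩
        left_inv := fun z => rfl
        right_inv := fun z => rfl }, Nat.card_sigma]
    rw [numCyc, Nat.card_eq_fintype_card, ← Finset.card_univ, Finset.card_eq_sum_ones]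
    refine Nat.ModEq.sum fun C _ => ?_
    obtain ⟨c, hc⟩ := isCyclic_iff_exists_zpowers_eq_top.1 C.2.1
    have hcC : zpowers (c : P) = C.1 := by
      rw [← C.1.coe_subtype, ← MonoidHom.map_zpowers, hc, ← MonoidHom.range_eq_map, range_subtype]
    refine Nat.ModEq.trans (modEq_of_eq (Nat.card_congr
      (Equiv.subtypeEquivRight fun M => and_congr_right fun _ =>
        ⟨fun h => h (hcC.le (mem_zpowers _)), fun h => hcC.ge.trans (zpowers_le.2 h)⟩))) (hcover (c : P))
  have hM : p ∣ Nat.card ((M : {M : Subgroup P // M.index = p}) ×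
      {C : Subgroup P // IsCyclic C ∧ Nat.card C = p ^ s ∧ C ≤ M.1}) := by
    rw [Nat.card_sigma]
    refine Finset.dvd_sum fun M _ => ?_
    have h1 := (dvd_numOrd_iff (by omega) M.1).1 (hsub M.1 M.2)
    refine h1.trans (dvd_of_eq (Nat.card_congr ?_))
    exact
      { toFun := fun C => ⟨C.1.map M.1.subtype,
          (C.1.equivMapOfInjective _ M.1.subtype_injective).isCyclic.1 C.2.1,
          by rw [card_map_of_injective M.1.subtype_injective, C.2.2], map_subtype_le _⟩
        invFun := fun C => ⟨C.1.subgroupOf M.1, (subgroupOfEquivOfLe C.2.2.2).isCyclic.2 C.2.1,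
          by rw [Nat.card_congr (subgroupOfEquivOfLe C.2.2.2).toEquiv, C.2.2.1]⟩
        left_inv := fun C => Subtype.ext (comap_map_eq_self_of_injective M.1.subtype_injective _)
        right_inv := fun C => Subtype.ext (by
          show (C.1.subgroupOf M.1).map M.1.subtype = C.1
          rw [subgroupOf_map_subtype, inf_eq_left.2 C.2.2.2]) }
  rw [dvd_numOrd_iff (by omega)]
  exact Nat.modEq_zero_iff_dvd.1 (hcount.symm.trans (Nat.modEq_zero_iff_dvd.2 hM))

/-- The number of elements of order `p ^ s * m` when the Sylow `p`-subgroups are not cyclic. -/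
theorem dvd_card_orderOf_eq {G : Type*} [Group G] [Finite G] (hp2 : p ≠ 2) (P : Sylow p G)
    (hP : ¬ IsCyclic (P : Subgroup G)) {s m : ℕ} (hs : 2 ≤ s) (hm : p.Coprime m) :
    p ^ s ∣ Nat.card {g : G // orderOf g = p ^ s * m} := by
  classical
  set Pg : Subgroup G := (P : Subgroup G) with hPg
  have hcop : (p ^ s).Coprime m := hm.pow_left s
  haveI := Fintype.ofFinite {y : G // orderOf y = m}
  -- split into the two parts
  have e : Nat.card {g : G // orderOf g = p ^ s * m} =
      ∑ y : {y : G // orderOf y = m}, numOrd p s (centralizer ({y.1} : Set G)) := by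
    obtain ⟨E, F, hE1, hEr, hF1, hFq, hEF⟩ := exists_idempotent_exponents hcop
    simp only [numOrd]
    rw [← Nat.card_sigma]
    let f : ((y : {y : G // orderOf y = m}) × {x : centralizer ({y.1} : Set G) // orderOf x = p ^ s}) →
        {g : G // orderOf g = p ^ s * m} := fun z => ⟨(z.2.1 : G) * z.1.1, by
      rw [Commute.orderOf_mul_eq_mul_orderOf_of_coprime (mem_centralizer_singleton_iff.1 z.2.1.2)
        (by rw [orderOf_coe, z.2.2, z.1.2]; exact hcop), orderOf_coe, z.2.2, z.1.2]⟩
    refine (Nat.card_eq_of_bijective f ⟨?_, ?_⟩).symm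
    · rintro ⟨⟨y, hy⟩, ⟨⟨x, hxc⟩, hx⟩⟩ ⟨⟨y', hy'⟩, ⟨⟨x', hxc'⟩, hx'⟩⟩ h
      rw [orderOf_mk] at hx hx'
      have h' : x * y = x' * y' := congrArg Subtype.val h
      have hxx : x = x' := by
        have := congrArg (fun t => t ^ E) h'
        have e1 : x ^ p ^ s = 1 := by rw [← hx, pow_orderOf_eq_one]
        have e2 : x' ^ p ^ s = 1 := by rw [← hx', pow_orderOf_eq_one]
        have e3 : y ^ m = 1 := by rw [← hy, pow_orderOf_eq_one]
        have e4 : y' ^ m = 1 := by rw [← hy', pow_orderOf_eq_one]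
        simpa [(show Commute x y from mem_centralizer_singleton_iff.1 hxc).mul_pow,
          (show Commute x' y' from mem_centralizer_singleton_iff.1 hxc').mul_pow,
          pow_eq_self_of_modEq e1 hE1, pow_eq_self_of_modEq e2 hE1,
          pow_eq_one_of_dvd' e3 hEr, pow_eq_one_of_dvd' e4 hEr] using this
      subst hxx
      obtain rfl := mul_left_cancel h'
      rfl
    · rintro ⟨g, hg⟩
      have hgm : g ^ (p ^ s * m) = 1 := hg ▸ pow_orderOf_eq_one g
      have hc : Commute (g ^ E) (g ^ F) := (Commute.refl g).pow_pow E F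
      have hprod : g ^ E * g ^ F = g := by rw [← pow_add]; exact pow_eq_self_of_modEq hgm hEF
      have hx : orderOf (g ^ E) ∣ p ^ s := orderOf_dvd_of_pow_eq_one (by
        rw [← pow_mul]; exact pow_eq_one_of_dvd' hgm (mul_comm (p ^ s) m ▸ Nat.mul_dvd_mul hEr dvd_rfl))
      have hy : orderOf (g ^ F) ∣ m := orderOf_dvd_of_pow_eq_one (by
        rw [← pow_mul]; exact pow_eq_one_of_dvd' hgm (Nat.mul_dvd_mul hFq dvd_rfl))
      have hmul := hc.orderOf_mul_eq_mul_orderOf_of_coprime
        ((hcop.coprime_dvd_left hx).coprime_dvd_right hy)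
      rw [hprod, hg] at hmul
      have hm0 : 0 < m := by
        rcases Nat.eq_zero_or_pos m with h0 | h0
        · exfalso; rw [h0, mul_zero] at hg; exact (orderOf_pos g).ne' hg
        · exact h0
      have hxe : orderOf (g ^ E) = p ^ s := by
        refine Nat.dvd_antisymm hx ?_
        exact (Nat.mul_dvd_mul_iff_right hm0).1 (hmul ▸ Nat.mul_dvd_mul_left _ hy)
      have hye : orderOf (g ^ F) = m := by
        rw [hxe] at hmul
        exact (Nat.eq_of_mul_eq_mul_left (pow_pos hp.out.pos s) hmul).symm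
      exact ⟨⟨⟨g ^ F, hye⟩, ⟨⟨g ^ E, mem_centralizer_singleton_iff.2 hc.eq⟩, by rw [orderOf_mk]; exact hxe⟩⟩,
        Subtype.ext hprod⟩
  rw [e]
  simp only [numOrd_eq]
  rw [← Finset.mul_sum, Nat.totient_prime_pow hp.out (by omega),
    show p ^ s = p ^ (s - 1) * p by rw [← pow_succ, Nat.sub_add_cancel (by omega : 1 ≤ s)], mul_assoc]
  refine Nat.mul_dvd_mul_left _ (Dvd.dvd.mul_left ?_ _)
  -- the `P`-action on pairs
  let Z := {z : G × Subgroup G // orderOf z.1 = m ∧ IsCyclic z.2 ∧ Nat.card z.2 = p ^ s ∧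
    z.2 ≤ centralizer ({z.1} : Set G)}
  have hZ : Nat.card Z = ∑ y : {y : G // orderOf y = m}, numCyc p s (centralizer ({y.1} : Set G)) := by
    simp only [numCyc]
    rw [← Nat.card_sigma]
    exact Nat.card_congr
      { toFun := fun z => ⟨⟨z.1.1, z.2.1⟩, ⟨z.1.2.subgroupOf _,
          (subgroupOfEquivOfLe z.2.2.2.2).isCyclic.2 z.2.2.1,
          by rw [Nat.card_congr (subgroupOfEquivOfLe z.2.2.2.2).toEquiv, z.2.2.2.1]⟩⟩
        invFun := fun z => ⟨(z.1.1, z.2.1.map (centralizer ({z.1.1} : Set G)).subtype), z.1.2,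
          (z.2.1.equivMapOfInjective _ (Subgroup.subtype_injective _)).isCyclic.1 z.2.2.1,
          by rw [card_map_of_injective (Subgroup.subtype_injective _), z.2.2.2], map_subtype_le _⟩
        left_inv := fun z => Subtype.ext (Prod.ext rfl (by
          show (z.1.2.subgroupOf _).map (Subgroup.subtype _) = z.1.2
          rw [subgroupOf_map_subtype, inf_eq_left.2 z.2.2.2.2]))
        right_inv := fun z => Sigma.ext rfl (heq_of_eq (Subtype.ext
          (comap_map_eq_self_of_injective (Subgroup.subtype_injective _) _))) }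
  rw [← hZ]
  letI : MulAction Pg Z :=
    { smul := fun g z => ⟨((g : G) * z.1.1 * (g : G)⁻¹, MulAut.conj (g : G) • z.1.2), by
        refine ⟨?_, (equivSMul (MulAut.conj (g : G)) z.1.2).isCyclic.1 z.2.2.1, ?_, ?_⟩
        · rw [← MulAut.conj_apply, MulEquiv.orderOf_eq, z.2.1]
        · rw [← Nat.card_congr (equivSMul (MulAut.conj (g : G)) z.1.2).toEquiv, z.2.2.2.1]
        · intro x hx
          have h1 := mem_centralizer_singleton_iff.1 (z.2.2.2.2 (mem_conj_smul.1 hx))
          rw [mem_centralizer_singleton_iff]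
          calc x * ((g : G) * z.1.1 * (g : G)⁻¹) = g * ((g : G)⁻¹ * x * g * z.1.1) * (g : G)⁻¹ := by group
            _ = (g : G) * z.1.1 * (g : G)⁻¹ * x := by rw [h1]; group⟩
      one_smul := fun z => Subtype.ext (Prod.ext (by
        show ((1 : Pg) : G) * z.1.1 * ((1 : Pg) : G)⁻¹ = z.1.1
        simp) (by
        show MulAut.conj ((1 : Pg) : G) • z.1.2 = z.1.2
        simp))
      mul_smul := fun g h z => Subtype.ext (Prod.ext (by
        show ((g * h : Pg) : G) * z.1.1 * ((g * h : Pg) : G)⁻¹ = g * (h * z.1.1 * (h : G)⁻¹) * (g : G)⁻¹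
        simp [mul_assoc]) (by
        show MulAut.conj ((g * h : Pg) : G) • z.1.2 = MulAut.conj (g : G) • MulAut.conj (h : G) • z.1.2
        rw [Subgroup.coe_mul, map_mul, mul_smul])) }
  refine Nat.modEq_zero_iff_dvd.1 ((P.2.card_modEq_card_fixedPoints Z).trans ?_)
  -- fixed pairs: `y` centralised by `P` and `C` normal in `P`
  letI : MulAction Pg {C : Subgroup G // IsCyclic C ∧ Nat.card C = p ^ s ∧ C ≤ Pg} :=
    { smul := fun g C => ⟨MulAut.conj (g : G) • C.1, (equivSMul (MulAut.conj (g : G)) C.1).isCyclic.1 C.2.1,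
        by rw [← Nat.card_congr (equivSMul (MulAut.conj (g : G)) C.1).toEquiv, C.2.2.1], fun x hx => by
          rw [show x = g * ((g : G)⁻¹ * x * g) * (g : G)⁻¹ by group]
          exact mul_mem (mul_mem g.2 (C.2.2.2 (mem_conj_smul.1 hx))) (inv_mem g.2)⟩
      one_smul := fun C => Subtype.ext (by
        show MulAut.conj ((1 : Pg) : G) • C.1 = C.1
        simp)
      mul_smul := fun g h C => Subtype.ext (by
        show MulAut.conj ((g * h : Pg) : G) • C.1 = MulAut.conj (g : G) • MulAut.conj (h : G) • C.1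
        rw [Subgroup.coe_mul, map_mul, mul_smul]) }
  have hfix : MulAction.fixedPoints Pg Z ≃ {y : G // orderOf y = m ∧ Pg ≤ centralizer ({y} : Set G)} ×
      MulAction.fixedPoints Pg {C : Subgroup G // IsCyclic C ∧ Nat.card C = p ^ s ∧ C ≤ Pg} :=
    { toFun := fun z =>
        have hy : ∀ g : Pg, (g : G) * z.1.1.1 * (g : G)⁻¹ = z.1.1.1 := fun g =>
          congrArg (fun w : Z => w.1.1) (z.2 g)
        have hC : ∀ g : Pg, MulAut.conj (g : G) • z.1.1.2 = z.1.1.2 := fun g =>
          congrArg (fun w : Z => w.1.2) (z.2 g)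
        (⟨z.1.1.1, z.1.2.1, fun g hg => mem_centralizer_singleton_iff.2
            (mul_inv_eq_iff_eq_mul.1 (hy ⟨g, hg⟩))⟩,
          ⟨⟨z.1.1.2, z.1.2.2.1, z.1.2.2.2.1, by
            have hnorm : Pg ≤ normalizer (z.1.1.2 : Set G) := fun g hg =>
              mem_normalizer_fintype fun x hx =>
                (hC ⟨g, hg⟩).le (smul_mem_pointwise_smul x (MulAut.conj g) _ hx)
            have hpg : IsPGroup p z.1.1.2 := IsPGroup.of_card z.1.2.2.2.1
            have h := P.3 (P.2.to_sup_of_normal_right' hpg hnorm) le_sup_left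
            exact le_sup_right.trans h.le⟩, fun g => Subtype.ext (hC g)⟩)
      invFun := fun z => ⟨⟨(z.1.1, z.2.1.1), z.1.2.1, z.2.1.2.1, z.2.1.2.2.1,
          z.2.1.2.2.2.trans z.1.2.2⟩, fun g => Subtype.ext (Prod.ext (by
            show (g : G) * z.1.1 * (g : G)⁻¹ = z.1.1
            rw [mem_centralizer_singleton_iff.1 (z.1.2.2 g.2), mul_inv_cancel_right])
            (congrArg Subtype.val (z.2.2 g)))⟩
      left_inv := fun z => rfl
      right_inv := fun z => rfl }
  rw [Nat.card_congr hfix, Nat.card_prod]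
  refine (Nat.ModEq.mul_left _ ((P.2.card_modEq_card_fixedPoints _).symm.trans ?_)).trans
    (modEq_of_eq (mul_zero _))
  refine Nat.modEq_zero_iff_dvd.2 ?_
  have h1 := (dvd_numOrd_iff (by omega : 1 ≤ s) Pg).1 (by
    obtain ⟨n, hn⟩ := IsPGroup.iff_card.1 P.2
    exact dvd_numOrd_pGroup hp2 hs n Pg hn hP)
  refine h1.trans (dvd_of_eq (Nat.card_congr ?_))
  exact
    { toFun := fun C => ⟨C.1.map Pg.subtype,
        (C.1.equivMapOfInjective _ Pg.subtype_injective).isCyclic.1 C.2.1,
        by rw [card_map_of_injective Pg.subtype_injective, C.2.2], map_subtype_le _⟩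
      invFun := fun C => ⟨C.1.subgroupOf Pg, (subgroupOfEquivOfLe C.2.2.2).isCyclic.2 C.2.1,
        by rw [Nat.card_congr (subgroupOfEquivOfLe C.2.2.2).toEquiv, C.2.2.1]⟩
      left_inv := fun C => Subtype.ext (comap_map_eq_self_of_injective Pg.subtype_injective _)
      right_inv := fun C => Subtype.ext (by
        show (C.1.subgroupOf Pg).map Pg.subtype = C.1
        rw [subgroupOf_map_subtype, inf_eq_left.2 C.2.2.2]) }

end CfsgLib.FGS
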