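import Cfsg.Agent.Lib.FGS.Kulakoff
import Cfsg.Agent.Lib.PGroup.PrimeIndex

/-!
Kulakoff's congruence modulo `p ^ 2` for the number of subgroups of a given prime power order.
-/

set_option autoImplicit false

namespace CfsgLib.FGS

open Subgroup
open scoped Pointwise commutatorElement

variable {p : ℕ} [hp : Fact p.Prime]

omit hp in
/-- Double counting of an incidence relation. -/
theorem sum_card_incidence {α β : Type*} [Fintype α] [Fintype β] (R : α → β → Prop) :
    ∑ a, Nat.card {b // R a b} = ∑ b, Nat.card {a // R a b} := by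
  classical
  rw [← Nat.card_sigma, ← Nat.card_sigma]
  exact Nat.card_congr
    { toFun := fun z => ⟨z.2.1, z.1, z.2.2⟩
      invFun := fun z => ⟨z.2.1, z.1, z.2.2⟩
      left_inv := fun _ => rfl
      right_inv := fun _ => rfl }

omit hp in
/-- Splitting a finite type along a predicate. -/
theorem card_split_pred {α : Type*} [Finite α] (q : α → Prop) :
    Nat.card α = Nat.card {a // q a} + Nat.card {a // ¬ q a} := by
  classical
  rw [← Nat.card_sum]
  exact Nat.card_congr (Equiv.sumCompl q).symm

theorem index_eq_iff_card {Q : Type*} [Group Q] [Finite Q] {r : ℕ} (hr : 1 ≤ r) (hQ : Nat.card Q = p ^ r)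
    (H : Subgroup Q) : H.index = p ↔ Nat.card H = p ^ (r - 1) := by
  have h := H.card_mul_index
  rw [hQ, show p ^ r = p ^ (r - 1) * p by rw [← pow_succ, Nat.sub_add_cancel hr]] at h
  constructor
  · intro e
    rw [e] at h
    exact Nat.eq_of_mul_eq_mul_right hp.out.pos h
  · intro e
    rw [e] at h
    exact Nat.eq_of_mul_eq_mul_left (pow_pos hp.out.pos _) h

omit hp in
/-- Subgroups of a given index containing a normal subgroup. -/
theorem card_index_over {Q : Type*} [Group Q] [Finite Q] (N : Subgroup Q) [N.Normal] :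
    Nat.card {T : Subgroup Q // T.index = p ∧ N ≤ T} =
      Nat.card {H : Subgroup (Q ⧸ N) // H.index = p} := by
  have hs := QuotientGroup.mk'_surjective N
  refine Nat.card_congr
    { toFun := fun T => ⟨T.1.map (QuotientGroup.mk' N), ?_⟩
      invFun := fun H => ⟨H.1.comap (QuotientGroup.mk' N), ?_, ?_⟩
      left_inv := fun T => Subtype.ext ?_
      right_inv := fun H => Subtype.ext (map_comap_eq_self_of_surjective hs _) }
  · rw [index_map_eq _ hs (by rw [QuotientGroup.ker_mk']; exact T.2.2), T.2.1]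
  · rw [index_comap_of_surjective _ hs, H.2]
  · refine le_trans (le_of_eq (QuotientGroup.ker_mk' N).symm) ?_
    rw [← MonoidHom.comap_bot]
    exact comap_mono bot_le
  · show (T.1.map (QuotientGroup.mk' N)).comap (QuotientGroup.mk' N) = T.1
    exact comap_map_eq_self (by rw [QuotientGroup.ker_mk']; exact T.2.2)

theorem card_index_over_modEq_one {Q : Type*} [Group Q] [Finite Q] (hQ : IsPGroup p Q)
    (N : Subgroup Q) [N.Normal] (hN : N ≠ ⊤) :
    Nat.card {T : Subgroup Q // T.index = p ∧ N ≤ T} ≡ 1 [MOD p] := by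
  rw [card_index_over]
  obtain ⟨r, hr⟩ := IsPGroup.iff_card.1 (hQ.to_quotient N)
  have hr1 : 1 ≤ r := by
    by_contra h
    rw [show r = 0 by omega, pow_zero, ← index_eq_card, index_eq_one] at hr
    exact hN hr
  rw [Nat.card_congr (Equiv.subtypeEquivRight (index_eq_iff_card hr1 hr))]
  exact card_subgroups_modEq_one hp.out (hr ▸ pow_dvd_pow p (Nat.sub_le r 1))

/-- The number of hyperplanes of an elementary abelian group. -/
theorem card_hyperplanes_modEq : ∀ (r : ℕ) (Q : Type*) [Group Q] [Finite Q],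
    Nat.card Q = p ^ r → 2 ≤ r → (∀ x : Q, x ^ p = 1) → (∀ x y : Q, x * y = y * x) →
    Nat.card {H : Subgroup Q // H.index = p} ≡ 1 + p [MOD p ^ 2] := by
  intro r
  induction r using Nat.strong_induction_on with
  | _ r ih =>
  intro Q _ _ hQ hr he hc
  classical
  rcases eq_or_lt_of_le hr with rfl | hr3
  · rw [Nat.card_congr (Equiv.subtypeEquivRight (index_eq_iff_card (by norm_num) hQ))]
    simp only [show 2 - 1 = 1 from rfl, pow_one]
    rw [PGroup.card_subgroups_prime_of_sq hQ he, add_comm]
  haveI := Fintype.ofFinite Q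
  haveI := Fintype.ofFinite {H : Subgroup Q // H.index = p}
  set h := Nat.card {H : Subgroup Q // H.index = p} with hh
  have key : ∀ x : Q, x ≠ 1 →
      Nat.card {H : {H : Subgroup Q // H.index = p} // x ∈ H.1} ≡ 1 + p [MOD p ^ 2] := by
    intro x hx
    haveI : (zpowers x).Normal := ⟨fun n hn g => by rw [hc g n, mul_inv_cancel_right]; exact hn⟩
    have hz : Nat.card (zpowers x) = p := by rw [Nat.card_zpowers, orderOf_eq_prime (he x) hx]
    have hq : Nat.card (Q ⧸ zpowers x) = p ^ (r - 1) := by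
      have := card_eq_card_quotient_mul_card_subgroup (zpowers x)
      rw [hQ, hz, show p ^ r = p ^ (r - 1) * p by rw [← pow_succ, Nat.sub_add_cancel (by omega)]] at this
      exact (Nat.eq_of_mul_eq_mul_right hp.out.pos this).symm
    refine Nat.ModEq.trans (modEq_of_eq ?_) (ih (r - 1) (by omega) (Q ⧸ zpowers x) hq (by omega) ?_ ?_)
    · rw [← card_index_over (p := p) (zpowers x)]
      exact Nat.card_congr
        { toFun := fun H => ⟨H.1.1, H.1.2, zpowers_le.2 H.2⟩
          invFun := fun T => ⟨⟨T.1, T.2.1⟩, T.2.2 (mem_zpowers x)⟩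
          left_inv := fun _ => rfl
          right_inv := fun _ => rfl }
    · intro y
      obtain ⟨y, rfl⟩ := QuotientGroup.mk_surjective y
      rw [← QuotientGroup.mk_pow, he y, QuotientGroup.mk_one]
    · intro y z
      obtain ⟨y, rfl⟩ := QuotientGroup.mk_surjective y
      obtain ⟨z, rfl⟩ := QuotientGroup.mk_surjective z
      rw [← QuotientGroup.mk_mul, hc y z, QuotientGroup.mk_mul]
  have h1 : ∀ H : {H : Subgroup Q // H.index = p}, Nat.card {x : Q // x ∈ H.1} = p ^ (r - 1) := fun H =>
    (index_eq_iff_card (by omega) hQ H.1).1 H.2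
  have h2 := sum_card_incidence (fun (H : {H : Subgroup Q // H.index = p}) (x : Q) => x ∈ H.1)
  rw [Finset.sum_congr rfl (fun H _ => h1 H), Finset.sum_const, smul_eq_mul, Finset.card_univ,
    ← Nat.card_eq_fintype_card, ← hh, ← Finset.add_sum_erase _ _ (Finset.mem_univ (1 : Q))] at h2
  have h3 : Nat.card {H : {H : Subgroup Q // H.index = p} // (1 : Q) ∈ H.1} = h :=
    Nat.card_congr (Equiv.subtypeUnivEquiv fun H => one_mem H.1)
  rw [h3] at h2
  have hz : ∀ k, 2 ≤ k → (p : ZMod (p ^ 2)) ^ k = 0 := fun k hk => by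
    rw [← Nat.cast_pow, ZMod.natCast_eq_zero_iff]
    exact pow_dvd_pow p hk
  rw [← ZMod.natCast_eq_natCast_iff]
  have h4 := congrArg (Nat.cast : ℕ → ZMod (p ^ 2)) h2
  push_cast at h4
  rw [hz (r - 1) (by omega), mul_zero, Finset.sum_congr rfl (fun x hx => by
    have := (ZMod.natCast_eq_natCast_iff _ _ _).2 (key x (Finset.ne_of_mem_erase hx))
    push_cast at this ⊢
    exact this), Finset.sum_const, nsmul_eq_mul, Finset.card_erase_of_mem (Finset.mem_univ _),
    Finset.card_univ, ← Nat.card_eq_fintype_card, hQ,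
    Nat.cast_sub (Nat.one_le_pow _ _ hp.out.pos), Nat.cast_pow, hz r (by omega)] at h4
  push_cast at h4 ⊢
  linear_combination -h4

/-- Maximal subgroups of a `p`-group over a normal subgroup containing the Frattini subgroup. -/
theorem card_index_over_modEq {P : Type*} [Group P] [Finite P] (hP : IsPGroup p P) {n : ℕ}
    (N : Subgroup P) [N.Normal] (hΦ : frattini P ≤ N) (hN : N.index = p ^ n) (hn : 2 ≤ n) :
    Nat.card {T : Subgroup P // T.index = p ∧ N ≤ T} ≡ 1 + p [MOD p ^ 2] := by
  rw [card_index_over]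
  refine card_hyperplanes_modEq n _ (by rw [← index_eq_card, hN]) hn ?_ ?_
  · intro y
    obtain ⟨y, rfl⟩ := QuotientGroup.mk_surjective y
    rw [← QuotientGroup.mk_pow, QuotientGroup.eq_one_iff]
    exact hΦ (PGroup.pow_mem_frattini hP y)
  · intro y z
    obtain ⟨y, rfl⟩ := QuotientGroup.mk_surjective y
    obtain ⟨z, rfl⟩ := QuotientGroup.mk_surjective z
    rw [← QuotientGroup.mk_mul, ← QuotientGroup.mk_mul, QuotientGroup.eq]
    refine hΦ (PGroup.commutator_le_frattini hP ?_)
    rw [show (y * z)⁻¹ * (z * y) = ⁅z⁻¹, y⁻¹⁆ by rw [commutatorElement_def]; group]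
    exact commutator_mem_commutator (mem_top _) (mem_top _)

omit hp in
/-- The number of subgroups of a given order of a subgroup. -/
theorem card_subgroups_le {G : Type*} [Group G] (K : Subgroup G) (t : ℕ) :
    Nat.card {H : Subgroup K // Nat.card H = t} = Nat.card {H : Subgroup G // Nat.card H = t ∧ H ≤ K} := by
  refine Nat.card_congr
    { toFun := fun H => ⟨H.1.map K.subtype, by rw [card_map_of_injective K.subtype_injective, H.2],
        map_subtype_le _⟩
      invFun := fun H => ⟨H.1.subgroupOf K, by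
        rw [Nat.card_congr (subgroupOfEquivOfLe H.2.2).toEquiv, H.2.1]⟩
      left_inv := fun H => Subtype.ext (comap_map_eq_self_of_injective K.subtype_injective _)
      right_inv := fun H => Subtype.ext (by
        show (H.1.subgroupOf K).map K.subtype = H.1
        rw [subgroupOf_map_subtype, inf_eq_left.2 H.2.2]) }

omit hp in
theorem card_subgroups_cyclic {P : Type*} [Group P] [Finite P] (hc : IsCyclic P) {t : ℕ}
    (ht : t ∣ Nat.card P) : Nat.card {H : Subgroup P // Nat.card H = t} = 1 := by
  classical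
  obtain ⟨g, hg⟩ := IsCyclic.exists_ofOrder_eq_natCard (α := P)
  haveI := Fintype.ofFinite P
  have key : ∀ H : Subgroup P, Nat.card H = t →
      (H : Set P) = {x | x ^ t = 1} := by
    intro H hH
    refine Set.eq_of_subset_of_ncard_le (fun x hx => ?_) ?_ (Set.toFinite _)
    · have h := pow_card_eq_one' (G := H) (x := ⟨x, hx⟩)
      rw [hH] at h
      exact congrArg Subtype.val h
    · rw [show (H : Set P).ncard = t by rw [← Nat.card_coe_set_eq]; exact hH,
        Set.ncard_eq_toFinset_card', Set.toFinset_setOf]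
      exact IsCyclic.card_pow_eq_one_le (Nat.pos_of_dvd_of_pos ht Nat.card_pos)
  rw [Nat.card_eq_one_iff_unique]
  refine ⟨⟨fun A B => Subtype.ext (SetLike.coe_injective ((key _ A.2).trans (key _ B.2).symm))⟩, ?_⟩
  obtain ⟨c, hc⟩ := ht
  refine ⟨⟨zpowers (g ^ c), ?_⟩⟩
  rw [Nat.card_zpowers, orderOf_pow_of_dvd (by rintro rfl; simp at hc) (hg ▸ ⟨t, by rw [hc]; ring⟩),
    hg, hc, Nat.mul_div_cancel _ (by rcases c with _ | c; · simp at hc
                                     exact Nat.succ_pos c)]

/-- The number of maximal subgroups of a noncyclic `p`-group. -/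
theorem card_maximal_modEq {P : Type*} [Group P] [Finite P] (hP : IsPGroup p P) [Nontrivial P]
    (hnc : ¬ IsCyclic P) :
    Nat.card {M : Subgroup P // M.index = p} ≡ 1 + p [MOD p ^ 2] := by
  classical
  have hcoat : ∀ M : Subgroup P, M.index = p → IsCoatom M := fun M hM =>
    PGroup.isCoatom_of_index_prime (hM ▸ hp.out)
  have hNn : ∀ N : Subgroup P, frattini P ≤ N → N.Normal := fun N hN => ⟨fun y hy g => by
    rw [show g * y * g⁻¹ = ⁅g, y⁆ * y by rw [commutatorElement_def]; group]
    exact mul_mem (hN (PGroup.commutator_le_frattini hP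
      (commutator_mem_commutator (mem_top g) (mem_top y)))) hy⟩
  obtain ⟨d, hd⟩ := hP.index (frattini P)
  have hd2 : 2 ≤ d := by
    by_contra hh
    rcases d with _ | _ | d
    · rw [pow_zero, index_eq_one] at hd
      exact PGroup.frattini_ne_top hP hd
    · refine hnc ?_
      obtain ⟨x, hx⟩ := SetLike.exists_not_mem_of_ne_top _ (PGroup.frattini_ne_top hP)
      have htop : zpowers x ⊔ frattini P = ⊤ :=
        PGroupExtra.eq_top_of_prime_index (A := frattini P) (by rw [hd, zero_add, pow_one]; exact hp.out)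
          le_sup_right (mem_sup_left (mem_zpowers x)) hx
      exact ⟨⟨x, fun y => (PGroup.eq_top_of_sup_frattini htop).ge (mem_top y)⟩⟩
    · omega
  haveI := hNn _ le_rfl
  refine Nat.ModEq.trans (modEq_of_eq (Nat.card_congr (Equiv.subtypeEquivRight fun M => ?_)))
    (card_index_over_modEq hP (frattini P) le_rfl hd hd2)
  exact ⟨fun h => ⟨h, frattini_le_coatom (hcoat M h)⟩, fun h => h.1⟩

/-- The recursion over maximal subgroups in Kulakoff's count. -/
theorem card_subgroups_step {P : Type*} [Group P] [Finite P] {n : ℕ} (hcard : Nat.card P = p ^ n)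
    (hnc : ¬ IsCyclic P) [Fintype {M : Subgroup P // M.index = p}] {a : ℕ} (ha1 : 1 ≤ a)
    (ha2 : a + 1 < n) :
    (Nat.card {H : Subgroup P // Nat.card H = p ^ a} : ZMod (p ^ 2)) + p =
      ∑ M : {M : Subgroup P // M.index = p},
        (Nat.card {H : Subgroup M.1 // Nat.card H = p ^ a} : ZMod (p ^ 2)) := by
  classical
  have ha : a < n := by omega
  have hP : IsPGroup p P := IsPGroup.of_card hcard
  haveI : Nontrivial P := Finite.one_lt_card_iff_nontrivial.1 (by
    rw [hcard]; exact Nat.one_lt_pow (by omega) hp.out.one_lt)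
  have hcoat : ∀ M : Subgroup P, M.index = p → IsCoatom M := fun M hM =>
    PGroup.isCoatom_of_index_prime (hM ▸ hp.out)
  have hNn : ∀ N : Subgroup P, frattini P ≤ N → N.Normal := fun N hN => ⟨fun y hy g => by
    rw [show g * y * g⁻¹ = ⁅g, y⁆ * y by rw [commutatorElement_def]; group]
    exact mul_mem (hN (PGroup.commutator_le_frattini hP
      (commutator_mem_commutator (mem_top g) (mem_top y)))) hy⟩
  -- the two-step count
  have hN : ∀ H : Subgroup P, Nat.card H = p ^ a →
      (∃ n' , (H ⊔ frattini P).index = p ^ (n' + 2)) ∨ (H ⊔ frattini P).index = p := by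
    intro H hH
    have hne : H ⊔ frattini P ≠ ⊤ := fun h => by
      have := PGroup.eq_top_of_sup_frattini h
      rw [this, card_top, hcard] at hH
      exact ha.ne' (Nat.pow_right_injective hp.out.two_le hH)
    obtain ⟨i, hi⟩ := hP.index (H ⊔ frattini P)
    rcases i with _ | _ | i
    · rw [pow_zero, index_eq_one] at hi; exact absurd hi hne
    · exact Or.inr (by rw [hi, pow_one])
    · exact Or.inl ⟨i, hi⟩
  haveI := Fintype.ofFinite (Subgroup P)
  set S := {H : Subgroup P // Nat.card H = p ^ a}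
  set X := {M : Subgroup P // M.index = p}
  set B := {H : S // ¬ (H.1 ⊔ frattini P).index = p}
  have hX : Nat.card X ≡ 1 + p [MOD p ^ 2] := card_maximal_modEq hP hnc
  have hMc : ∀ M : X, Nat.card M.1 = p ^ (n - 1) := fun M => (index_eq_iff_card (by omega) hcard M.1).1 M.2
  -- bad subgroups of a maximal subgroup
  have hone : ∀ M : X, Nat.card {H : Subgroup M.1 // Nat.card H = p ^ a ∧
      H ⊔ (frattini P).subgroupOf M.1 ≠ ⊤} ≡ 1 [MOD p] := by
    intro M
    have hΦM : frattini P ≤ M.1 := frattini_le_coatom (hcoat M.1 M.2)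
    have hMp : IsPGroup p M.1 := hP.to_subgroup M.1
    set F := (frattini P).subgroupOf M.1 with hF
    have hn' : ∀ N : Subgroup M.1, F ≤ N → N.Normal := fun N hN => ⟨fun y hy g => by
      rw [show g * y * g⁻¹ = ⁅g, y⁆ * y by rw [commutatorElement_def]; group]
      exact mul_mem (hN (show (⁅g, y⁆ : M.1).1 ∈ frattini P from PGroup.commutator_le_frattini hP
        (commutator_mem_commutator (mem_top (g : P)) (mem_top (y : P))))) hy⟩
    haveI := Fintype.ofFinite {T : Subgroup M.1 // T.index = p ∧ F ≤ T}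
    haveI := Fintype.ofFinite {H : Subgroup M.1 // Nat.card H = p ^ a ∧ H ⊔ F ≠ ⊤}
    have e := sum_card_incidence (fun (T : {T : Subgroup M.1 // T.index = p ∧ F ≤ T})
      (H : {H : Subgroup M.1 // Nat.card H = p ^ a ∧ H ⊔ F ≠ ⊤}) => H.1 ≤ T.1)
    rw [← ZMod.natCast_eq_natCast_iff]
    have hL : ∀ T : {T : Subgroup M.1 // T.index = p ∧ F ≤ T},
        Nat.card {H : {H : Subgroup M.1 // Nat.card H = p ^ a ∧ H ⊔ F ≠ ⊤} // H.1 ≤ T.1} ≡ 1 [MOD p] := by
      intro T
      have hTc : Nat.card T.1 = p ^ (n - 1 - 1) := (index_eq_iff_card (by omega) (hMc M) T.1).1 T.2.1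
      refine Nat.ModEq.trans (modEq_of_eq ?_)
        (card_subgroups_modEq_one (G := T.1) hp.out (β := a) (hTc ▸ pow_dvd_pow p (by omega)))
      rw [card_subgroups_le]
      exact Nat.card_congr
        { toFun := fun H => ⟨H.1.1, H.1.2.1, H.2⟩
          invFun := fun H => ⟨⟨H.1, H.2.1, fun e => by
            have := T.2.1
            rw [eq_top_iff.2 (e.ge.trans (sup_le H.2.2 T.2.2)), index_top] at this
            exact hp.out.ne_one this.symm⟩, H.2.2⟩
          left_inv := fun _ => rfl
          right_inv := fun _ => rfl }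
    have hR : ∀ H : {H : Subgroup M.1 // Nat.card H = p ^ a ∧ H ⊔ F ≠ ⊤},
        Nat.card {T : {T : Subgroup M.1 // T.index = p ∧ F ≤ T} // H.1 ≤ T.1} ≡ 1 [MOD p] := by
      intro H
      haveI := hn' _ (le_sup_right : F ≤ H.1 ⊔ F)
      refine Nat.ModEq.trans (modEq_of_eq ?_) (card_index_over_modEq_one hMp (H.1 ⊔ F) H.2.2)
      exact Nat.card_congr
        { toFun := fun T => ⟨T.1.1, T.1.2.1, sup_le T.2 T.1.2.2⟩
          invFun := fun T => ⟨⟨T.1, T.2.1, le_sup_right.trans T.2.2⟩, le_sup_left.trans T.2.2⟩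
          left_inv := fun _ => rfl
          right_inv := fun _ => rfl }
    have hTcount : Nat.card {T : Subgroup M.1 // T.index = p ∧ F ≤ T} ≡ 1 [MOD p] := by
      haveI := hn' F le_rfl
      refine card_index_over_modEq_one hMp F fun h => ?_
      rw [hF, subgroupOf_eq_top] at h
      have h1 : M.1 = frattini P := le_antisymm h hΦM
      have hX' := hX
      haveI : Subsingleton X := ⟨fun A B => Subtype.ext <| by
        have hA := (hcoat A.1 A.2)
        have hB := (hcoat B.1 B.2)
        have hM := hcoat M.1 M.2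
        have eA : A.1 = M.1 := ((hM.le_iff).1 (h1 ▸ frattini_le_coatom hA)).resolve_left hA.1
        have eB : B.1 = M.1 := ((hM.le_iff).1 (h1 ▸ frattini_le_coatom hB)).resolve_left hB.1
        rw [eA, eB]⟩
      haveI : Nonempty X := ⟨M⟩
      rw [Nat.card_eq_one_iff_unique.2 ⟨inferInstance, inferInstance⟩, Nat.modEq_iff_dvd' (by omega),
        Nat.add_sub_cancel_left] at hX'
      have := Nat.le_of_dvd hp.out.pos hX'
      nlinarith [hp.out.two_le]
    have e' := congrArg (Nat.cast : ℕ → ZMod p) e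
    push_cast at e'
    rw [Finset.sum_congr rfl (fun T _ => (ZMod.natCast_eq_natCast_iff _ _ _).2 (hL T)),
      Finset.sum_congr rfl (fun H _ => (ZMod.natCast_eq_natCast_iff _ _ _).2 (hR H))] at e'
    simp only [Nat.cast_one, Finset.sum_const, nsmul_eq_mul, mul_one, Finset.card_univ,
      ← Nat.card_eq_fintype_card] at e'
    rw [← e', Nat.cast_one]
    exact ((ZMod.natCast_eq_natCast_iff _ _ _).2 hTcount).trans Nat.cast_one
  haveI := Fintype.ofFinite S
  -- those with maximal join
  have hA : p ∣ Nat.card {H : S // (H.1 ⊔ frattini P).index = p} := by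
    have e : Nat.card {H : S // (H.1 ⊔ frattini P).index = p} =
        ∑ M : X, Nat.card {H : S // H.1 ⊔ frattini P = M.1} := by
      rw [← Nat.card_sigma]
      exact Nat.card_congr
        { toFun := fun H => ⟨⟨_, H.2⟩, H.1, rfl⟩
          invFun := fun z => ⟨z.2.1, by rw [z.2.2]; exact z.1.2⟩
          left_inv := fun _ => rfl
          right_inv := fun z => Sigma.subtype_ext (Subtype.ext z.2.2) rfl }
    rw [e]
    refine Finset.dvd_sum fun M _ => ?_
    have hΦM : frattini P ≤ M.1 := frattini_le_coatom (hcoat M.1 M.2)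
    set F := (frattini P).subgroupOf M.1
    have h1 := card_split_pred (fun H : {H : Subgroup M.1 // Nat.card H = p ^ a} => H.1 ⊔ F = ⊤)
    have h2 : Nat.card {H : {H : Subgroup M.1 // Nat.card H = p ^ a} // ¬ H.1 ⊔ F = ⊤} ≡ 1 [MOD p] :=
      Nat.ModEq.trans (modEq_of_eq (Nat.card_congr (Equiv.subtypeSubtypeEquivSubtypeInter
        (fun H : Subgroup M.1 => Nat.card H = p ^ a) fun H => ¬ H ⊔ F = ⊤))) (hone M)
    have h3 := card_subgroups_modEq_one (G := M.1) hp.out (β := a) (hMc M ▸ pow_dvd_pow p (by omega))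
    have h4 : Nat.card {H : {H : Subgroup M.1 // Nat.card H = p ^ a} // H.1 ⊔ F = ⊤} =
        Nat.card {H : S // H.1 ⊔ frattini P = M.1} := Nat.card_congr
      { toFun := fun H => ⟨⟨H.1.1.map M.1.subtype, by rw [card_map_of_injective M.1.subtype_injective, H.1.2]⟩, by
          show H.1.1.map M.1.subtype ⊔ frattini P = M.1
          conv_lhs => rw [← inf_eq_left.2 hΦM, ← subgroupOf_map_subtype]
          rw [← Subgroup.map_sup, H.2, ← MonoidHom.range_eq_map, range_subtype]⟩
        invFun := fun H => ⟨⟨H.1.1.subgroupOf M.1, by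
            rw [Nat.card_congr (subgroupOfEquivOfLe (le_sup_left.trans H.2.le : H.1.1 ≤ M.1)).toEquiv, H.1.2]⟩, by
          show H.1.1.subgroupOf M.1 ⊔ F = ⊤
          rw [← subgroupOf_sup (le_sup_left.trans H.2.le) hΦM, H.2, subgroupOf_self]⟩
        left_inv := fun H => Subtype.ext (Subtype.ext (comap_map_eq_self_of_injective M.1.subtype_injective _))
        right_inv := fun H => Subtype.ext (Subtype.ext (by
          show (H.1.1.subgroupOf M.1).map M.1.subtype = H.1.1
          rw [subgroupOf_map_subtype, inf_eq_left.2 (le_sup_left.trans H.2.le : H.1.1 ≤ M.1)])) }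
    rw [← h4, ← ZMod.natCast_eq_zero_iff]
    rw [h1] at h3
    rw [← ZMod.natCast_eq_natCast_iff] at h2 h3
    push_cast at h2 h3 ⊢
    linear_combination h3 - h2
  -- assemble
  have hsplit := card_split_pred (fun H : S => (H.1 ⊔ frattini P).index = p)
  have hB : Nat.card B ≡ 1 [MOD p] := by
    have h3 := card_subgroups_modEq_one (G := P) hp.out (β := a) (hcard ▸ pow_dvd_pow p ha.le)
    change Nat.card S ≡ 1 [MOD p] at h3
    rw [hsplit, ← ZMod.natCast_eq_natCast_iff, Nat.cast_add, (ZMod.natCast_eq_zero_iff _ _).2 hA, zero_add] at h3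
    exact (ZMod.natCast_eq_natCast_iff _ _ _).1 h3
  have e := sum_card_incidence (fun (M : X) (H : S) => H.1 ≤ M.1)
  have hL : ∀ M : X, Nat.card {H : S // H.1 ≤ M.1} = Nat.card {H : Subgroup M.1 // Nat.card H = p ^ a} := by
    intro M
    rw [card_subgroups_le]
    exact Nat.card_congr (Equiv.subtypeSubtypeEquivSubtypeInter (fun H : Subgroup P => Nat.card H = p ^ a)
      fun H => H ≤ M.1)
  have hR : ∀ H : S, (Nat.card {M : X // H.1 ≤ M.1} : ZMod (p ^ 2)) =
      if (H.1 ⊔ frattini P).index = p then 1 else 1 + (p : ZMod (p ^ 2)) := by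
    intro H
    have e1 : Nat.card {M : X // H.1 ≤ M.1} = Nat.card {T : Subgroup P // T.index = p ∧ H.1 ⊔ frattini P ≤ T} :=
      Nat.card_congr
        { toFun := fun M => ⟨M.1.1, M.1.2, sup_le M.2 (frattini_le_coatom (hcoat _ M.1.2))⟩
          invFun := fun T => ⟨⟨T.1, T.2.1⟩, le_sup_left.trans T.2.2⟩
          left_inv := fun _ => rfl
          right_inv := fun _ => rfl }
    rw [e1]
    split_ifs with hi
    · rw [show Nat.card {T : Subgroup P // T.index = p ∧ H.1 ⊔ frattini P ≤ T} = 1 from
        Nat.card_eq_one_iff_unique.2 ⟨⟨fun A B => Subtype.ext <| by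
          have hJ := hcoat _ hi
          rw [((hJ.le_iff).1 A.2.2).resolve_left (hcoat _ A.2.1).1,
            ((hJ.le_iff).1 B.2.2).resolve_left (hcoat _ B.2.1).1]⟩, ⟨⟨_, hi, le_rfl⟩⟩⟩, Nat.cast_one]
    · obtain ⟨n', hn'⟩ := (hN H.1 H.2).resolve_right hi
      haveI := hNn _ (le_sup_right : frattini P ≤ H.1 ⊔ frattini P)
      have := (ZMod.natCast_eq_natCast_iff _ _ _).2
        (card_index_over_modEq hP (H.1 ⊔ frattini P) le_sup_right hn' (by omega))
      push_cast at this
      exact this
  have e' := congrArg (Nat.cast : ℕ → ZMod (p ^ 2)) e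
  push_cast at e'
  rw [Finset.sum_congr rfl (fun M _ => congrArg (Nat.cast : ℕ → ZMod (p ^ 2)) (hL M)),
    Finset.sum_congr rfl (fun H _ => hR H)] at e'
  simp only [Finset.sum_ite, Finset.sum_const, nsmul_eq_mul, mul_one] at e'
  have cnt : ∀ {α : Type _} [Fintype α] (q : α → Prop) [DecidablePred q],
      (Finset.univ.filter q).card = Nat.card {x // q x} := fun q _ => by
    rw [Nat.card_eq_fintype_card, Fintype.card_subtype]
  rw [cnt, cnt] at e'
  obtain ⟨b, hb⟩ := Nat.modEq_iff_dvd.1 hB.symm
  have hb' : ((Nat.card B : ℤ) : ZMod (p ^ 2)) = ((1 + (p : ℤ) * b : ℤ) : ZMod (p ^ 2)) := by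
    rw [← hb]; push_cast; ring
  have hp2' : (p : ZMod (p ^ 2)) ^ 2 = 0 := by rw [← Nat.cast_pow, ZMod.natCast_self]
  refine Eq.trans ?_ (e'.symm.trans (Finset.sum_congr (by ext; simp) fun _ _ => rfl))
  change (Nat.card S : ZMod (p ^ 2)) + p = _
  rw [hsplit]
  push_cast at hb' ⊢
  have hBe : (Nat.card {H : S // ¬ (H.1 ⊔ frattini P).index = p} : ZMod (p ^ 2)) = 1 + p * b := hb'
  linear_combination (-(p : ZMod (p ^ 2))) * hBe - (b : ZMod (p ^ 2)) * hp2'

/-- Kulakoff: the `p`-group case. -/
theorem card_subgroups_pGroup (hp2 : p ≠ 2) : ∀ (n : ℕ) (P : Type*) [Group P] [Finite P],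
    Nat.card P = p ^ n → ¬ IsCyclic P → ∀ a, 1 ≤ a → a < n →
    Nat.card {H : Subgroup P // Nat.card H = p ^ a} ≡ 1 + p [MOD p ^ 2] := by
  intro n
  induction n using Nat.strong_induction_on with
  | _ n ih =>
  intro P _ _ hcard hnc a ha1 ha
  classical
  have hP : IsPGroup p P := IsPGroup.of_card hcard
  haveI : Nontrivial P := Finite.one_lt_card_iff_nontrivial.1 (by
    rw [hcard]; exact Nat.one_lt_pow (by omega) hp.out.one_lt)
  haveI := Fintype.ofFinite (Subgroup P)
  set S := {H : Subgroup P // Nat.card H = p ^ a}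
  set X := {M : Subgroup P // M.index = p}
  have hX : Nat.card X ≡ 1 + p [MOD p ^ 2] := card_maximal_modEq hP hnc
  by_cases han : a = n - 1
  · refine Nat.ModEq.trans (modEq_of_eq (Nat.card_congr (Equiv.subtypeEquivRight fun H => ?_))) hX
    rw [han, index_eq_iff_card (by omega) hcard]
  have hMc : ∀ M : X, Nat.card M.1 = p ^ (n - 1) := fun M => (index_eq_iff_card (by omega) hcard M.1).1 M.2
  -- cyclic maximal subgroups
  have hk : p ∣ Nat.card {M : X // IsCyclic M.1} := by
    have h1 := (dvd_numOrd_iff (by omega) P).1 (dvd_numOrd_pGroup hp2 (s := n - 1) (by omega) n P hcard hnc)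
    refine h1.trans (dvd_of_eq (Nat.card_congr ?_))
    exact
      { toFun := fun C => ⟨⟨C.1, (index_eq_iff_card (by omega) hcard C.1).2 C.2.2⟩, C.2.1⟩
        invFun := fun M => ⟨M.1.1, M.2, hMc M.1⟩
        left_inv := fun _ => rfl
        right_inv := fun _ => rfl }
  haveI := Fintype.ofFinite X
  have hL : ∀ M : X, (Nat.card {H : Subgroup M.1 // Nat.card H = p ^ a} : ZMod (p ^ 2)) =
      if IsCyclic M.1 then 1 else 1 + (p : ZMod (p ^ 2)) := by
    intro M
    split_ifs with hc
    · rw [card_subgroups_cyclic hc (hMc M ▸ pow_dvd_pow p (by omega)), Nat.cast_one]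
    · have := (ZMod.natCast_eq_natCast_iff _ _ _).2 (ih (n - 1) (by omega) M.1 (hMc M) hc a ha1 (by omega))
      push_cast at this
      exact this
  have e' := card_subgroups_step hcard hnc ha1 (by omega : a + 1 < n)
  rw [Finset.sum_congr rfl (fun M _ => hL M)] at e'
  simp only [Finset.sum_ite, Finset.sum_const, nsmul_eq_mul, mul_one] at e'
  have cnt : ∀ {α : Type _} [Fintype α] (q : α → Prop) [DecidablePred q],
      (Finset.univ.filter q).card = Nat.card {x // q x} := fun q _ => by
    rw [Nat.card_eq_fintype_card, Fintype.card_subtype]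
  rw [cnt, cnt] at e'
  have hsX := card_split_pred (fun M : X => IsCyclic M.1)
  rw [← ZMod.natCast_eq_natCast_iff] at hX
  obtain ⟨c, hc⟩ := hk
  have hp2' : (p : ZMod (p ^ 2)) ^ 2 = 0 := by rw [← Nat.cast_pow, ZMod.natCast_self]
  rw [← ZMod.natCast_eq_natCast_iff]
  rw [hsX] at hX
  push_cast at e' hX ⊢
  rw [hc] at e' hX
  push_cast at e' hX
  linear_combination e' + (1 + (p : ZMod (p ^ 2))) * hX + (1 - (c : ZMod (p ^ 2))) * hp2'

omit hp in
/-- A normalizing element fixes a subgroup under conjugation. -/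
theorem conj_smul_eq_self_of_mem_normalizer {G : Type*} [Group G] {H : Subgroup G} {g : G}
    (hg : g ∈ normalizer (H : Set G)) : MulAut.conj g • H = H := by
  ext x
  rw [mem_pointwise_smul_iff_inv_smul_mem, ← map_inv, MulAut.smul_def, MulAut.conj_apply, inv_inv]
  exact (mem_normalizer_iff''.1 hg x).symm

/-- Subgroups of order `p ^ a` outside a Sylow subgroup. -/
theorem card_subgroups_modEq_sylow {G : Type*} [Group G] [Finite G] (P : Sylow p G) {a : ℕ}
    (ha : p ^ (a + 1) ∣ Nat.card G) :
    Nat.card {H : Subgroup G // Nat.card H = p ^ a} ≡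
      Nat.card {H : Subgroup (P : Subgroup G) // Nat.card H = p ^ a} [MOD p ^ 2] := by
  classical
  have hPc := P.pow_dvd_card_of_pow_dvd_card ha
  obtain ⟨n, hn⟩ := IsPGroup.iff_card.1 P.2
  rw [hn, Nat.pow_dvd_pow_iff_le_right hp.out.one_lt] at hPc
  set Y := {H : Subgroup G // Nat.card H = p ^ a ∧ ¬ H ≤ (P : Subgroup G)}
  suffices hY : p ^ 2 ∣ Nat.card Y by
    have h1 := card_split_pred (fun H : {H : Subgroup G // Nat.card H = p ^ a} => H.1 ≤ (P : Subgroup G))
    rw [h1, Nat.card_congr (Equiv.subtypeSubtypeEquivSubtypeInter _ fun H => H ≤ (P : Subgroup G)),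
      Nat.card_congr (Equiv.subtypeSubtypeEquivSubtypeInter _ fun H => ¬ H ≤ (P : Subgroup G)),
      ← card_subgroups_le]
    exact (Nat.modEq_zero_iff_dvd.2 hY).add_left _
  have conjLe : ∀ (K H : Subgroup G) (g : G), g ∈ K → H ≤ K → MulAut.conj g • H ≤ K := by
    rintro K H g hg hH _ ⟨x, hx, rfl⟩
    exact mul_mem (mul_mem hg (hH hx)) (inv_mem hg)
  letI : MulAction (P : Subgroup G) Y :=
    { smul := fun g H => ⟨MulAut.conj (g : G) • H.1,
        by rw [← Nat.card_congr (equivSMul (MulAut.conj (g : G)) H.1).toEquiv, H.2.1], fun h => H.2.2 (by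
          have := conjLe _ _ _ (inv_mem g.2) h
          rwa [← mul_smul, ← map_mul, inv_mul_cancel, map_one, one_smul] at this)⟩
      one_smul := fun H => Subtype.ext (by
        show MulAut.conj ((1 : (P : Subgroup G)) : G) • H.1 = H.1
        simp)
      mul_smul := fun g h H => Subtype.ext (by
        show MulAut.conj ((g * h : (P : Subgroup G)) : G) • H.1 = MulAut.conj (g : G) • MulAut.conj (h : G) • H.1
        rw [Subgroup.coe_mul, map_mul, mul_smul]) }
  have hnormP : ∀ (H : Y) (g : (P : Subgroup G)), g ∈ MulAction.stabilizer (P : Subgroup G) H →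
      (g : G) ∈ normalizer (H.1 : Set G) := by
    intro H g hg
    have h : MulAut.conj (g : G) • H.1 = H.1 := congrArg Subtype.val hg
    refine mem_normalizer_fintype fun x hx => ?_
    exact h.le (smul_mem_pointwise_smul x (MulAut.conj (g : G)) _ hx)
  have hnt : ∀ H : Y, (MulAction.stabilizer (P : Subgroup G) H).index ≠ 1 := by
    intro H h
    rw [index_eq_one] at h
    refine H.2.2 ?_
    have hle : (P : Subgroup G) ≤ normalizer (H.1 : Set G) := fun g hg => hnormP H ⟨g, hg⟩ (h ▸ mem_top _)
    have := P.3 (P.2.to_sup_of_normal_right' (IsPGroup.of_card H.2.1) hle) le_sup_left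
    exact le_sup_right.trans this.le
  -- those with stabilizer a given maximal subgroup
  have hkey : ∀ M : Subgroup (P : Subgroup G), M.index = p →
      p ^ 2 ∣ Nat.card {H : Y // MulAction.stabilizer (P : Subgroup G) H = M} := by
    intro M hM
    set Mg := M.map (P : Subgroup G).subtype
    have hMp : IsPGroup p Mg := (P.2.to_subgroup M).map _
    have hMP : Mg ≤ (P : Subgroup G) := map_subtype_le _
    have hMc : Nat.card Mg = p ^ (n - 1) := by
      rw [card_map_of_injective (P : Subgroup G).subtype_injective]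
      exact (index_eq_iff_card (by omega) hn M).1 hM
    let S' := {R : Sylow p G // Mg ≤ (R : Subgroup G) ∧ R ≠ P}
    haveI := Fintype.ofFinite S'
    have hS' : p ∣ Nat.card S' := by
      have h1 := hMp.card_modEq_card_fixedPoints (Sylow p G)
      have h2 : Nat.card (MulAction.fixedPoints Mg (Sylow p G)) =
          Nat.card {R : Sylow p G // Mg ≤ (R : Subgroup G)} :=
        Nat.card_congr (Equiv.subtypeEquivRight fun R => hMp.sylow_mem_fixedPoints_iff)
      rw [h2] at h1
      have h3 := h1.symm.trans (card_sylow_modEq_one p G)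
      have h4 := card_split_pred (fun R : {R : Sylow p G // Mg ≤ (R : Subgroup G)} => R.1 = P)
      have h5 : Nat.card {R : {R : Sylow p G // Mg ≤ (R : Subgroup G)} // R.1 = P} = 1 :=
        Nat.card_eq_one_iff_unique.2 ⟨⟨fun A B => Subtype.ext (Subtype.ext (A.2.trans B.2.symm))⟩,
          ⟨⟨⟨P, hMP⟩, rfl⟩⟩⟩
      rw [h4, h5, Nat.card_congr (Equiv.subtypeSubtypeEquivSubtypeInter _ fun R => ¬ R = P)] at h3
      exact Nat.modEq_zero_iff_dvd.1 (Nat.ModEq.add_left_cancel' 1 (h3.trans (modEq_of_eq rfl)))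
    -- the inner count
    let t : Sylow p G → ℕ := fun R => Nat.card {H : Subgroup G // (Nat.card H = p ^ a ∧
      H ≤ (R : Subgroup G) ∧ Mg ≤ normalizer (H : Set G)) ∧ ¬ H ≤ Mg}
    have hin : ∀ R : Sylow p G, Mg ≤ (R : Subgroup G) → p ∣ t R := by
      intro R hMR
      show p ∣ Nat.card _
      have hfix : ∀ K : Subgroup G, Mg ≤ K → Nat.card K ≠ 0 → p ^ a ∣ Nat.card K →
          Nat.card {H : Subgroup G // Nat.card H = p ^ a ∧ H ≤ K ∧ Mg ≤ normalizer (H : Set G)} ≡ 1 [MOD p] := by
        intro K hK _ hd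
        letI : MulAction Mg {H : Subgroup G // Nat.card H = p ^ a ∧ H ≤ K} :=
          { smul := fun g H => ⟨MulAut.conj (g : G) • H.1,
              by rw [← Nat.card_congr (equivSMul (MulAut.conj (g : G)) H.1).toEquiv, H.2.1],
              conjLe K H.1 g (hK g.2) H.2.2⟩
            one_smul := fun H => Subtype.ext (by
              show MulAut.conj ((1 : Mg) : G) • H.1 = H.1
              simp)
            mul_smul := fun g h H => Subtype.ext (by
              show MulAut.conj ((g * h : Mg) : G) • H.1 = MulAut.conj (g : G) • MulAut.conj (h : G) • H.1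
              rw [Subgroup.coe_mul, map_mul, mul_smul]) }
        have h1 := hMp.card_modEq_card_fixedPoints {H : Subgroup G // Nat.card H = p ^ a ∧ H ≤ K}
        rw [← card_subgroups_le] at h1
        have h2 := h1.symm.trans (card_subgroups_modEq_one (G := K) hp.out hd)
        refine Nat.ModEq.trans (modEq_of_eq (Nat.card_congr ?_)) h2
        exact
          { toFun := fun H => ⟨⟨H.1, H.2.1, H.2.2.1⟩, fun g => Subtype.ext (by
              show MulAut.conj (g : G) • H.1 = H.1
              exact conj_smul_eq_self_of_mem_normalizer (H.2.2.2 g.2))⟩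
            invFun := fun H => ⟨H.1.1, H.1.2.1, H.1.2.2, fun g hg => by
              have h : MulAut.conj g • H.1.1 = H.1.1 := congrArg Subtype.val (H.2 ⟨g, hg⟩)
              exact mem_normalizer_fintype fun x hx => h.le (smul_mem_pointwise_smul x (MulAut.conj g) _ hx)⟩
            left_inv := fun _ => rfl
            right_inv := fun _ => rfl }
      have h1 := hfix (R : Subgroup G) hMR Nat.card_pos.ne' (by
        rw [R.card_eq_multiplicity, ← P.card_eq_multiplicity, hn]; exact pow_dvd_pow p (by omega))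
      have h2 := hfix Mg le_rfl Nat.card_pos.ne' (hMc ▸ pow_dvd_pow p (by omega))
      have h3 := card_split_pred (fun H : {H : Subgroup G // Nat.card H = p ^ a ∧ H ≤ (R : Subgroup G) ∧
        Mg ≤ normalizer (H : Set G)} => H.1 ≤ Mg)
      rw [h3, Nat.card_congr (Equiv.subtypeSubtypeEquivSubtypeInter _ fun H => ¬ H ≤ Mg)] at h1
      have h4 : Nat.card {H : {H : Subgroup G // Nat.card H = p ^ a ∧ H ≤ (R : Subgroup G) ∧
          Mg ≤ normalizer (H : Set G)} // H.1 ≤ Mg} = Nat.card {H : Subgroup G // Nat.card H = p ^ a ∧ H ≤ Mg ∧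
          Mg ≤ normalizer (H : Set G)} := Nat.card_congr
        { toFun := fun H => ⟨H.1.1, H.1.2.1, H.2, H.1.2.2.2⟩
          invFun := fun H => ⟨⟨H.1, H.2.1, H.2.2.1.trans hMR, H.2.2.2⟩, H.2.2.1⟩
          left_inv := fun _ => rfl
          right_inv := fun _ => rfl }
      rw [h4, ← ZMod.natCast_eq_natCast_iff] at h1
      rw [← ZMod.natCast_eq_natCast_iff] at h2
      rw [← ZMod.natCast_eq_zero_iff]
      push_cast at h1 h2 ⊢
      linear_combination h1 - h2
    have hmem : ∀ H : Y, MulAction.stabilizer (P : Subgroup G) H = M →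
        Mg ≤ normalizer (H.1 : Set G) := by
      rintro H hH _ ⟨g, hg, rfl⟩
      exact hnormP H g (hH.symm ▸ hg)
    have hbig : ∀ H : Y, MulAction.stabilizer (P : Subgroup G) H = M →
        ∃! R : Sylow p G, Mg ⊔ H.1 ≤ (R : Subgroup G) := by
      intro H hH
      have hJ : IsPGroup p (Mg ⊔ H.1 : Subgroup G) :=
        hMp.to_sup_of_normal_right' (IsPGroup.of_card H.2.1) (hmem H hH)
      have hc : Nat.card (P : Subgroup G) ≤ Nat.card (Mg ⊔ H.1 : Subgroup G) := by
        obtain ⟨j, hj⟩ := IsPGroup.iff_card.1 hJ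
        rw [hn, hj]
        refine Nat.pow_le_pow_right hp.out.pos ?_
        by_contra hlt
        have hle : Nat.card (Mg ⊔ H.1 : Subgroup G) ≤ Nat.card Mg := by
          rw [hj, hMc]; exact Nat.pow_le_pow_right hp.out.pos (by omega)
        have e := eq_of_le_of_card_ge (le_sup_left : Mg ≤ Mg ⊔ H.1) hle
        exact H.2.2 ((le_sup_right.trans e.ge).trans hMP)
      obtain ⟨R, hR⟩ := hJ.exists_le_sylow
      refine ⟨R, hR, fun R' hR' => ?_⟩
      have e : ∀ R' : Sylow p G, Mg ⊔ H.1 ≤ (R' : Subgroup G) → Mg ⊔ H.1 = (R' : Subgroup G) := fun R' hR' =>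
        eq_of_le_of_card_ge hR' (by rw [R'.card_eq_multiplicity, ← P.card_eq_multiplicity]; exact hc)
      exact Sylow.ext ((e R' hR').symm.trans (e R hR))
    have hstab : ∀ H : Y, Mg ≤ normalizer (H.1 : Set G) → MulAction.stabilizer (P : Subgroup G) H = M := by
      intro H hH
      have hle : M ≤ MulAction.stabilizer (P : Subgroup G) H := fun g hg =>
        Subtype.ext (conj_smul_eq_self_of_mem_normalizer (hH ⟨g, hg, rfl⟩))
      rcases ((PGroup.isCoatom_of_index_prime (by rw [hM]; exact hp.out)).le_iff).1 hle with h | h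
      · exact absurd (index_eq_one.2 h) (hnt H)
      · exact h
    have ecount : Nat.card {H : Y // MulAction.stabilizer (P : Subgroup G) H = M} =
        ∑ R : S', Nat.card {H : Subgroup G // (Nat.card H = p ^ a ∧ H ≤ (R.1 : Subgroup G) ∧
          Mg ≤ normalizer (H : Set G)) ∧ ¬ H ≤ Mg} := by
      rw [← Nat.card_sigma]
      choose R hR hRu using fun z : {H : Y // MulAction.stabilizer (P : Subgroup G) H = M} => hbig z.1 z.2
      refine Nat.card_congr (Equiv.ofBijective (fun z => ⟨⟨R z, le_sup_left.trans (hR z), fun e => z.1.2.2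
        (le_sup_right.trans ((hR z).trans (by rw [e])))⟩, z.1.1, ⟨z.1.2.1, le_sup_right.trans (hR z),
        hmem z.1 z.2⟩, fun h => z.1.2.2 (h.trans hMP)⟩) ⟨fun z z' e => ?_, fun w => ?_⟩)
      · exact Subtype.ext (Subtype.ext (congrArg (fun w => w.2.1) e))
      · obtain ⟨⟨R', hR', hne⟩, ⟨H, ⟨hc, hHR, hHn⟩, hHM⟩⟩ := w
        have hHP : ¬ H ≤ (P : Subgroup G) := by
          intro h
          have hJ : IsPGroup p (Mg ⊔ H : Subgroup G) :=
            hMp.to_sup_of_normal_right' (IsPGroup.of_card hc) hHn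
          have hcJ : Nat.card (R' : Subgroup G) ≤ Nat.card (Mg ⊔ H : Subgroup G) := by
            obtain ⟨j, hj⟩ := IsPGroup.iff_card.1 hJ
            rw [R'.card_eq_multiplicity, ← P.card_eq_multiplicity, hn, hj]
            refine Nat.pow_le_pow_right hp.out.pos ?_
            by_contra hlt
            have e := eq_of_le_of_card_ge (le_sup_left : Mg ≤ Mg ⊔ H)
              (by rw [hj, hMc]; exact Nat.pow_le_pow_right hp.out.pos (by omega))
            exact hHM (le_sup_right.trans e.ge)
          have e := eq_of_le_of_card_ge (sup_le hR' hHR) hcJ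
          have hle : (R' : Subgroup G) ≤ (P : Subgroup G) := e.ge.trans (sup_le hMP h)
          exact hne (Sylow.ext (eq_of_le_of_card_ge hle (by
            rw [R'.card_eq_multiplicity, ← P.card_eq_multiplicity])))
        let z : {H : Y // MulAction.stabilizer (P : Subgroup G) H = M} :=
          ⟨⟨H, hc, hHP⟩, hstab _ hHn⟩
        refine ⟨z, ?_⟩
        have e : R z = R' := (hRu z R' (sup_le hR' hHR)).symm
        subst e
        rfl
    rw [ecount, pow_two]
    -- all conjugate counts agree
    have hPR : ∀ R : S', t R.1 = t P := by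
      intro R
      have hnorm : ∀ Q : Sylow p G, Mg ≤ (Q : Subgroup G) → (Q : Subgroup G) ≤ normalizer (Mg : Set G) := by
        intro Q hQ
        have hidx : (Mg.subgroupOf Q).index = p := by
          have h := (Mg.subgroupOf Q).card_mul_index
          rw [Nat.card_congr (subgroupOfEquivOfLe hQ).toEquiv, hMc, Q.card_eq_multiplicity,
            ← P.card_eq_multiplicity, hn, show p ^ n = p ^ (n - 1) * p by
              rw [← pow_succ, Nat.sub_add_cancel (by omega : 1 ≤ n)]] at h
          exact Nat.eq_of_mul_eq_mul_left (pow_pos hp.out.pos _) h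
        exact (normal_subgroupOf_iff_le_normalizer hQ).1 (Transfer.normal_of_index_eq Q.2 hidx)
      obtain ⟨g, hg⟩ := MulAction.exists_smul_eq (normalizer (Mg : Set G))
        (P.subtype (hnorm P hMP)) (R.1.subtype (hnorm R.1 R.2.1))
      have hgM : MulAut.conj (g : G) • Mg = Mg := conj_smul_eq_self_of_mem_normalizer g.2
      have hgR : MulAut.conj (g : G) • (P : Subgroup G) = (R.1 : Subgroup G) := by
        have h := congrArg (fun Q : Sylow p (normalizer (Mg : Set G)) =>
          (Q : Subgroup (normalizer (Mg : Set G))).map (normalizer (Mg : Set G)).subtype) hg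
        simp only [Sylow.coe_subgroup_smul, Sylow.coe_subtype, subgroupOf_map_subtype,
          inf_eq_left.2 (hnorm R.1 R.2.1)] at h
        rw [← h]
        ext y
        constructor
        · rintro ⟨x, hx, rfl⟩
          exact ⟨g * ⟨x, hnorm P hMP hx⟩ * g⁻¹, ⟨⟨x, hnorm P hMP hx⟩, hx, rfl⟩, rfl⟩
        · rintro ⟨_, ⟨x, hx, rfl⟩, rfl⟩
          exact ⟨(x : G), hx, rfl⟩
      have hsm : ∀ (H K : Subgroup G), MulAut.conj (g : G) • H ≤ MulAut.conj (g : G) • K ↔ H ≤ K := fun H K =>
        pointwise_smul_le_pointwise_smul_iff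
      have hnm : ∀ H : Subgroup G, Mg ≤ normalizer ((MulAut.conj (g : G) • H : Subgroup G) : Set G) ↔
          Mg ≤ normalizer (H : Set G) := by
        intro H
        rw [show normalizer ((MulAut.conj (g : G) • H : Subgroup G) : Set G) =
          MulAut.conj (g : G) • normalizer (H : Set G) from
            (map_equiv_normalizer_eq H (MulAut.conj (g : G))).symm, ← hsm Mg (normalizer (H : Set G)), hgM]
      refine (Nat.card_congr (Equiv.subtypeEquiv (MulAction.toPerm (MulAut.conj (g : G))) fun H => ?_)).symm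
      show _ ↔ (Nat.card (MulAut.conj (g : G) • H : Subgroup G) = p ^ a ∧
        MulAut.conj (g : G) • H ≤ (R.1 : Subgroup G) ∧ Mg ≤ normalizer _) ∧ ¬ MulAut.conj (g : G) • H ≤ Mg
      simp only [MulAction.toPerm_apply]
      rw [← hgR, hsm, hnm, ← Nat.card_congr (equivSMul (MulAut.conj (g : G)) H).toEquiv, ← hsm H Mg, hgM]
    rw [Finset.sum_congr rfl (fun R _ => hPR R), Finset.sum_const, smul_eq_mul, Finset.card_univ,
      ← Nat.card_eq_fintype_card]
    exact Nat.mul_dvd_mul hS' (hin P hMP)
  -- orbits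
  haveI := Fintype.ofFinite Y
  have h1 := card_split_pred (fun H : Y => (MulAction.stabilizer (P : Subgroup G) H).index = p)
  rw [h1]
  refine dvd_add ?_ ?_
  · haveI := Fintype.ofFinite {M : Subgroup (P : Subgroup G) // M.index = p}
    rw [← Nat.card_congr (Equiv.sigmaFiberEquiv
      (fun H : {H : Y // (MulAction.stabilizer (P : Subgroup G) H).index = p} =>
        (⟨_, H.2⟩ : {M : Subgroup (P : Subgroup G) // M.index = p}))), Nat.card_sigma]
    refine Finset.dvd_sum fun M _ => (hkey M.1 M.2).trans (dvd_of_eq (Nat.card_congr ?_))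
    exact
      { toFun := fun H => ⟨⟨H.1, by rw [H.2]; exact M.2⟩, Subtype.ext H.2⟩
        invFun := fun H => ⟨H.1.1, congrArg Subtype.val H.2⟩
        left_inv := fun _ => rfl
        right_inv := fun _ => rfl }
  · set q := fun H : Y => Quotient.mk (MulAction.orbitRel (P : Subgroup G) Y) H
    haveI := Fintype.ofFinite (Quotient (MulAction.orbitRel (P : Subgroup G) Y))
    rw [← Nat.card_congr (Equiv.sigmaFiberEquiv
      (fun H : {H : Y // ¬ (MulAction.stabilizer (P : Subgroup G) H).index = p} => q H.1)), Nat.card_sigma]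
    refine Finset.dvd_sum fun o _ => ?_
    rcases isEmpty_or_nonempty {H : {H : Y // ¬ (MulAction.stabilizer (P : Subgroup G) H).index = p} // q H.1 = o}
      with he | ⟨⟨⟨H, hH⟩, hHo⟩⟩
    · rw [Nat.card_of_isEmpty]; exact dvd_zero _
    obtain ⟨i, hi⟩ := P.2.index (MulAction.stabilizer (P : Subgroup G) H)
    have hidx : ∀ H' : Y, H' ∈ MulAction.orbit (P : Subgroup G) H →
        (MulAction.stabilizer (P : Subgroup G) H').index = (MulAction.stabilizer (P : Subgroup G) H).index := by
      intro H' h'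
      rw [MulAction.index_stabilizer, MulAction.index_stabilizer, MulAction.orbit_eq_iff.2 h']
    have e : Nat.card {H' : {H : Y // ¬ (MulAction.stabilizer (P : Subgroup G) H).index = p} // q H'.1 = o} =
        (MulAction.stabilizer (P : Subgroup G) H).index := by
      rw [MulAction.index_stabilizer, ← Nat.card_coe_set_eq]
      exact Nat.card_congr
        { toFun := fun H' => ⟨H'.1.1, Quotient.exact (H'.2.trans hHo.symm)⟩
          invFun := fun H' => ⟨⟨H'.1, by rw [hidx _ H'.2]; exact hH⟩,
            (Quotient.sound (s := MulAction.orbitRel (P : Subgroup G) Y) H'.2).trans hHo⟩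
          left_inv := fun _ => rfl
          right_inv := fun _ => rfl }
    rw [e, hi]
    refine pow_dvd_pow p ?_
    by_contra hlt
    rcases (show i = 0 ∨ i = 1 by omega) with rfl | rfl
    · exact hnt H (by rw [hi, pow_zero])
    · exact hH (by rw [hi, pow_one])

/-- Kulakoff's congruence for subgroups of a given prime power order. -/
theorem card_subgroups_modEq_sq {G : Type*} [Group G] [Finite G] {a : ℕ} (ha : p ^ (a + 1) ∣ Nat.card G) :
    Nat.card {H : Subgroup G // Nat.card H = p ^ a} ≡ 1 [MOD p ^ 2] ∨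
      Nat.card {H : Subgroup G // Nat.card H = p ^ a} ≡ 1 + p [MOD p ^ 2] := by
  obtain ⟨P⟩ : Nonempty (Sylow p G) := inferInstance
  have h := card_subgroups_modEq_sylow P ha
  have hPc := P.pow_dvd_card_of_pow_dvd_card ha
  obtain ⟨n, hn⟩ := IsPGroup.iff_card.1 P.2
  rw [hn, Nat.pow_dvd_pow_iff_le_right hp.out.one_lt] at hPc
  by_cases hp2 : p = 2
  · have h1 := card_subgroups_modEq_one (G := (P : Subgroup G)) hp.out (β := a) (hn ▸ pow_dvd_pow p (by omega))
    subst hp2
    have h2 : ∀ k : ℕ, k ≡ 1 [MOD 2] → k ≡ 1 [MOD 2 ^ 2] ∨ k ≡ 1 + 2 [MOD 2 ^ 2] := fun k hk => by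
      unfold Nat.ModEq at *
      omega
    rcases h2 _ h1 with h1 | h1
    · exact Or.inl (h.trans h1)
    · exact Or.inr (h.trans h1)
  by_cases hc : IsCyclic (P : Subgroup G)
  · exact Or.inl (h.trans (modEq_of_eq (card_subgroups_cyclic hc (hn ▸ pow_dvd_pow p (by omega)))))
  rcases Nat.eq_zero_or_pos a with rfl | ha1
  · refine Or.inl (modEq_of_eq (Nat.card_eq_one_iff_unique.2 ⟨⟨fun A B => Subtype.ext ?_⟩, ⟨⟨⊥, ?_⟩⟩⟩))
    · rw [eq_bot_of_card_eq A.1 (by rw [A.2, pow_zero]), eq_bot_of_card_eq B.1 (by rw [B.2, pow_zero])]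
    · rw [card_bot, pow_zero]
  · exact Or.inr (h.trans (card_subgroups_pGroup hp2 n _ hn hc a ha1 (by omega)))

end CfsgLib.FGS
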