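import Cfsg.Agent.Lib.FGS.KulakoffSubgroups
import Cfsg.Agent.Lib.Transfer.MaximalClass
import Cfsg.Agent.Lib.Solvable.BurnsideBasis

/-!
Kulakoff's congruence for `2`-groups that are not of maximal class.
-/

set_option autoImplicit false

namespace CfsgLib.FGS.KulakoffTwo

open Subgroup
open scoped commutatorElement

/-- A noncyclic `2`-group whose commutator subgroup has index four (so: maximal class, or four-group). -/
def MC (P : Type*) [Group P] : Prop := ¬ IsCyclic P ∧ (commutator P).index = 4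

variable {P : Type*} [Group P] [Finite P]

theorem sub_isPGroup {n : ℕ} (hP : Nat.card P = 2 ^ n) : IsPGroup 2 P := by
  haveI := Fact.mk Nat.prime_two
  exact IsPGroup.of_card hP

theorem class_of_mc {n : ℕ} (hP : Nat.card P = 2 ^ n) (h : MC P) :
    Group.nilpotencyClass P = n - 1 ∧ ∃ C : Subgroup P, IsCyclic C ∧ C.index = 2 := by
  haveI := Fact.mk Nat.prime_two
  refine CfsgLib.Transfer.maximalClass_two hP h.2 fun x => ?_
  exact CfsgLib.Transfer.pow_prime_mem_commutator (sub_isPGroup hP) h.1 (h.2.trans (by norm_num)) x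

theorem two_le_of_not_cyclic {n : ℕ} (hP : Nat.card P = 2 ^ n) (hnc : ¬ IsCyclic P) : 2 ≤ n := by
  haveI := Fact.mk Nat.prime_two
  by_contra h
  rcases (show n = 0 ∨ n = 1 by omega) with rfl | rfl
  · haveI : Subsingleton P := (Nat.card_eq_one_iff_unique.1 (by rw [hP, pow_zero])).1
    exact hnc inferInstance
  · exact hnc (isCyclic_of_prime_card (p := 2) (by rw [hP, pow_one]))

/-- The commutator subgroup of a noncyclic `2`-group has index at least four. -/
theorem four_le_index {n : ℕ} (hP : Nat.card P = 2 ^ n) (hnc : ¬ IsCyclic P) :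
    4 ≤ (commutator P).index := by
  haveI := Fact.mk Nat.prime_two
  have h := CfsgLib.Transfer.prime_sq_le_index_commutator (sub_isPGroup hP)
    (by rw [hP]; exact Nat.pow_le_pow_right (by norm_num) (two_le_of_not_cyclic hP hnc))
  simpa using h

theorem mc_of_index_le {n : ℕ} (hP : Nat.card P = 2 ^ n) (hnc : ¬ IsCyclic P)
    (h : (commutator P).index ≤ 4) : MC P :=
  ⟨hnc, le_antisymm h (four_le_index hP hnc)⟩

omit [Finite P] in
/-- Every square lies in every subgroup of index two. -/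
theorem sq_mem_of_index_two {T : Subgroup P} (hT : T.index = 2) (x : P) : x ^ 2 ∈ T :=
  Subgroup.sq_mem_of_index_two hT x

omit [Finite P] in
theorem commutator_le_of_index_two {T : Subgroup P} (hT : T.index = 2) : commutator P ≤ T := by
  have hsq := Subgroup.sq_mem_of_index_two hT
  rw [_root_.commutator_def, commutator_le]
  intro x _ y _
  have e : ⁅x, y⁆ = x ^ 2 * (x⁻¹ * y) ^ 2 * (y⁻¹) ^ 2 := by
    rw [commutatorElement_def, pow_two, pow_two, pow_two]; group
  rw [e]
  exact mul_mem (mul_mem (hsq _) (hsq _)) (hsq _)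

/-- A cyclic subgroup of index two: generator, the subgroups of squares and fourth powers. -/
theorem cyclic_index_two_data {n : ℕ} (hP : Nat.card P = 2 ^ n) (hn : 3 ≤ n) (C : Subgroup P)
    (hC : IsCyclic C) (hCi : C.index = 2) :
    ∃ c : P, C = zpowers c ∧ orderOf c = 2 ^ (n - 1) ∧ Nat.card (zpowers (c ^ 2)) = 2 ^ (n - 2) ∧
      Nat.card (zpowers (c ^ 4)) = 2 ^ (n - 3) ∧ (zpowers (c ^ 4)).Normal ∧
      (zpowers (c ^ 2)).Normal := by
  obtain ⟨c, rfl⟩ : ∃ c, C = zpowers c := by
    obtain ⟨g, hg⟩ := hC.exists_generator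
    refine ⟨(g : P), le_antisymm (fun x hx => ?_) (zpowers_le.2 g.2)⟩
    obtain ⟨i, hi⟩ := mem_zpowers_iff.1 (hg ⟨x, hx⟩)
    exact ⟨i, congrArg Subtype.val hi⟩
  have ho : orderOf c = 2 ^ (n - 1) := by
    have h := (zpowers c).card_mul_index
    rw [hCi, hP, Nat.card_zpowers, show 2 ^ n = 2 ^ (n - 1) * 2 by
      rw [← pow_succ, Nat.sub_add_cancel (by omega)]] at h
    omega
  haveI hn' : (zpowers c).Normal := Subgroup.normal_of_index_eq_two hCi
  have hpow : ∀ k : ℕ, (zpowers (c ^ k)).Normal := fun k => ⟨fun x hx g => by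
    obtain ⟨i, rfl⟩ := mem_zpowers_iff.1 hx
    obtain ⟨j, hj⟩ := mem_zpowers_iff.1 (hn'.conj_mem c (mem_zpowers c) g)
    refine ⟨j * i, ?_⟩
    show (c ^ k) ^ (j * i) = g * (c ^ k) ^ i * g⁻¹
    rw [← MulAut.conj_apply, map_zpow, map_pow, MulAut.conj_apply, ← hj]
    simp only [← zpow_natCast, ← zpow_mul]
    congr 1
    ring⟩
  refine ⟨c, rfl, ho, ?_, ?_, hpow 4, hpow 2⟩
  · rw [Nat.card_zpowers, orderOf_pow_of_dvd two_ne_zero (ho ▸ dvd_pow_self 2 (by omega)), ho]
    rw [show n - 1 = (n - 2) + 1 by omega, pow_succ, Nat.mul_div_cancel _ (by norm_num)]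
  · rw [Nat.card_zpowers, orderOf_pow_of_dvd (by norm_num) (ho ▸ pow_dvd_pow 2 (show 2 ≤ n - 1 by omega)),
      ho, show n - 1 = (n - 3) + 2 by omega, pow_add]
    exact Nat.mul_div_cancel _ (by norm_num)

omit [Finite P] in
theorem index_of_card {n k : ℕ} (hP : Nat.card P = 2 ^ n) (hk : k ≤ n) {H : Subgroup P}
    (hH : Nat.card H = 2 ^ (n - k)) : H.index = 2 ^ k := by
  have h := H.card_mul_index
  rw [hH, hP, show 2 ^ n = 2 ^ (n - k) * 2 ^ k by rw [← pow_add, Nat.sub_add_cancel hk]] at h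
  exact Nat.eq_of_mul_eq_mul_left (pow_pos (by norm_num) _) h

omit [Finite P] in
theorem commutator_le_of_commute (N : Subgroup P) [N.Normal] {T : Subgroup P}
    (h : ∀ x ∈ T, ∀ y ∈ T, Commute (QuotientGroup.mk' N x) (QuotientGroup.mk' N y)) :
    ⁅T, T⁆ ≤ N := by
  rw [commutator_le]
  intro x hx y hy
  rw [← QuotientGroup.eq_one_iff, ← QuotientGroup.mk'_apply, map_commutatorElement,
    commutatorElement_eq_one_iff_mul_comm]
  exact h x hx y hy

omit [Finite P] in
theorem eq_zpowers_of_not_mem {f x : P} (hx : x ∈ zpowers f) (hx' : x ∉ zpowers (f ^ 2)) {m : ℕ}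
    (ho : orderOf f = 2 ^ m) : f ∈ zpowers x := by
  obtain ⟨i, rfl⟩ := mem_zpowers_iff.1 hx
  rcases Int.even_or_odd i with ⟨j, rfl⟩ | hodd
  · exact absurd ⟨j, by
      show (f ^ 2) ^ j = f ^ (j + j)
      rw [← zpow_natCast f 2, ← zpow_mul]; congr 1; push_cast; ring⟩ hx'
  · have hcop : IsCoprime i (2 ^ m : ℤ) := by
      refine IsCoprime.pow_right ?_
      obtain ⟨j, rfl⟩ := hodd
      exact ⟨1, -j, by ring⟩
    obtain ⟨u, v, huv⟩ := hcop
    refine ⟨u, ?_⟩
    show (f ^ i) ^ u = f
    have h1 : f ^ ((2 ^ m : ℤ)) = 1 := by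
      rw [show (2 ^ m : ℤ) = ((2 ^ m : ℕ) : ℤ) by norm_num, zpow_natCast, ← ho, pow_orderOf_eq_one]
    calc (f ^ i) ^ u = f ^ (u * i + v * 2 ^ m) := by
          rw [zpow_add, mul_comm v, zpow_mul f (2 ^ m : ℤ), h1, one_zpow, mul_one, ← zpow_mul,
            mul_comm]
      _ = f := by rw [huv, zpow_one]

/-- The maximal subgroups in the maximal class case. -/
theorem mc_maximal {n : ℕ} (hP : Nat.card P = 2 ^ n) (hn : 3 ≤ n) (h : MC P) :
    (∀ T : Subgroup P, T.index = 2 → IsCyclic T ∨ MC T) ∧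
      Nat.card {T : Subgroup P // T.index = 2} = 3 ∧
      Odd (Nat.card {T : {T : Subgroup P // T.index = 2} // IsCyclic T.1}) := by
  haveI := Fact.mk Nat.prime_two
  classical
  have hPp := sub_isPGroup hP
  have hX : Nat.card {T : Subgroup P // T.index = 2} = 3 := by
    rw [show (3 : ℕ) = 2 + 1 from rfl, ← CfsgLib.Transfer.card_normal_index_prime hPp h.1
      (h.2.trans (by norm_num))]
    exact Nat.card_congr (Equiv.subtypeEquivRight fun T =>
      ⟨fun hT => ⟨Subgroup.normal_of_index_eq_two hT, hT⟩, fun hT => hT.2⟩)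
  obtain ⟨C, hCc, hCi⟩ := (class_of_mc hP h).2
  obtain ⟨c, rfl, ho, hF, hE, hEn, hFn⟩ := cyclic_index_two_data hP hn C hCc hCi
  haveI := hEn
  have hFc : commutator P = zpowers (c ^ 2) := by
    refine (eq_of_le_of_card_ge ?_ ?_).symm
    · exact zpowers_le.2 (CfsgLib.Transfer.pow_prime_mem_commutator hPp h.1
        (h.2.trans (by norm_num)) c)
    · rw [hF]
      have h1 := (commutator P).card_mul_index
      rw [h.2, hP, show 2 ^ n = 2 ^ (n - 2) * 2 ^ 2 by rw [← pow_add, Nat.sub_add_cancel (by omega)]] at h1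
      omega
  -- the action of an outside element on the cyclic subgroup
  have hact : ∀ t : P, t ∉ zpowers c → ∃ j : ℤ, t * c * t⁻¹ = c ^ (4 * j + 3) := by
    intro t ht
    haveI := Subgroup.normal_of_index_eq_two hCi
    obtain ⟨i, hi⟩ := mem_zpowers_iff.1
      ((inferInstance : (zpowers c).Normal).conj_mem c (mem_zpowers c) t)
    have h1 : c ^ (i - 1) ∈ zpowers (c ^ 2) := by
      rw [← hFc, zpow_sub_one, hi, ← commutatorElement_def]
      exact commutator_mem_commutator (mem_top _) (mem_top _)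
    have h2 : c ^ (i - 1) ∉ zpowers (c ^ 4) := by
      intro hmem
      have hgen : ∀ x : P, ∃ k : ℤ, ∃ u : ℤ, x = c ^ k * t ^ u := by
        intro x
        by_cases hx : x ∈ zpowers c
        · obtain ⟨k, rfl⟩ := mem_zpowers_iff.1 hx
          exact ⟨k, 0, by simp⟩
        · obtain ⟨k, hk⟩ := mem_zpowers_iff.1
            ((Subgroup.mul_mem_iff_of_index_two hCi).2
              (iff_of_false hx (fun e => ht ((Subgroup.inv_mem_iff _).1 e))) :
              x * t⁻¹ ∈ zpowers c)
          exact ⟨k, 1, by rw [hk]; group⟩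
      have hct : Commute (QuotientGroup.mk' (zpowers (c ^ 4)) c)
          (QuotientGroup.mk' (zpowers (c ^ 4)) t) := by
        refine Commute.symm ?_
        rw [← commutatorElement_eq_one_iff_commute, ← map_commutatorElement, QuotientGroup.mk'_apply,
          QuotientGroup.eq_one_iff, commutatorElement_def, ← hi, ← zpow_sub_one]
        exact hmem
      have hab : commutator P ≤ zpowers (c ^ 4) := by
        rw [_root_.commutator_def]
        refine commutator_le_of_commute _ fun x _ y _ => ?_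
        obtain ⟨k, u, rfl⟩ := hgen x
        obtain ⟨k', u', rfl⟩ := hgen y
        rw [map_mul, map_mul, map_zpow, map_zpow, map_zpow, map_zpow]
        exact ((((Commute.refl _).zpow_zpow k k').mul_right (hct.zpow_zpow k u')).mul_left
          ((hct.symm.zpow_zpow u k').mul_right ((Commute.refl _).zpow_zpow u u')))
      rw [hFc] at hab
      have := card_le_of_le hab
      rw [hF, hE] at this
      have := (Nat.pow_le_pow_iff_right (by norm_num : 1 < 2)).1 this
      omega
    obtain ⟨l, hl⟩ := mem_zpowers_iff.1 h1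
    obtain ⟨l', hl'⟩ : Odd l := by
      rcases Int.even_or_odd l with ⟨q, rfl⟩ | ho'
      · refine absurd ⟨q, ?_⟩ h2
        show (c ^ 4) ^ q = c ^ (i - 1)
        rw [← hl, ← zpow_natCast c 4, ← zpow_natCast c 2, ← zpow_mul, ← zpow_mul]
        congr 1; push_cast; ring
      · exact ho'
    refine ⟨l', ?_⟩
    rw [← hi]
    have e : c ^ (i - 1) = c ^ (4 * l' + 2) := by
      rw [← hl, hl', ← zpow_natCast c 2, ← zpow_mul]; congr 1; push_cast; ring
    calc c ^ i = c ^ (i - 1) * c := by rw [← zpow_add_one, sub_add_cancel]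
      _ = c ^ (4 * l' + 3) := by rw [e, ← zpow_add_one]; congr 1; ring
  have hsub : ∀ T : Subgroup P, T.index = 2 → zpowers (c ^ 2) ≤ T := fun T hT =>
    hFc ▸ commutator_le_of_index_two hT
  have hTc : ∀ T : Subgroup P, T.index = 2 → Nat.card T = 2 ^ (n - 1) := fun T hT => by
    have h1 := T.card_mul_index
    rw [hT, hP, show 2 ^ n = 2 ^ (n - 1) * 2 by rw [← pow_succ, Nat.sub_add_cancel (by omega)]] at h1
    omega
  have hne : ∀ T : Subgroup P, T.index = 2 → T ≠ zpowers c → ∃ t ∈ T, t ∉ zpowers c := by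
    intro T hT hTC
    by_contra hcon
    push_neg at hcon
    exact hTC (eq_of_le_of_card_ge hcon (by rw [hTc T hT, hTc _ hCi]))
  refine ⟨fun T hT => ?_, hX, ?_⟩
  · by_cases hTcyc : IsCyclic T
    · exact Or.inl hTcyc
    refine Or.inr (mc_of_index_le (hTc T hT) hTcyc ?_)
    by_cases hTC : T = zpowers c
    · exact absurd (hTC ▸ hCc) hTcyc
    obtain ⟨t, htT, ht⟩ := hne T hT hTC
    obtain ⟨j, hj⟩ := hact t ht
    have hmem : c ^ 4 ∈ (commutator T).map T.subtype := by
      have h2T : c ^ 2 ∈ T := hsub T hT (mem_zpowers _)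
      have h1 : ⁅t, c ^ 2⁆ ∈ (commutator T).map T.subtype :=
        ⟨⁅(⟨t, htT⟩ : T), ⟨c ^ 2, h2T⟩⁆, commutator_mem_commutator (mem_top _) (mem_top _), rfl⟩
      have h3 : ⁅t, c ^ 2⁆ = (c ^ 4) ^ (2 * j + 1) := by
        rw [commutatorElement_def, ← MulAut.conj_apply, map_pow, MulAut.conj_apply, hj,
          ← zpow_natCast _ 2, ← zpow_natCast c 2, ← zpow_natCast c 4, ← zpow_mul, ← zpow_mul,
          ← zpow_neg, ← zpow_add]
        congr 1; push_cast; ring
      rw [h3] at h1
      by_cases hc4 : c ^ 4 = 1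
      · rw [hc4]; exact one_mem _
      obtain ⟨m, -, hm⟩ := (Nat.dvd_prime_pow Nat.prime_two).1
        (show orderOf (c ^ 4) ∣ 2 ^ n from hP ▸ orderOf_dvd_natCard _)
      refine zpowers_le.2 h1 (eq_zpowers_of_not_mem (zpow_mem (mem_zpowers _) _) ?_ hm)
      intro hx
      obtain ⟨q, hq⟩ := mem_zpowers_iff.1 hx
      have h5 : (c ^ 4) ^ (2 * (q - j) - 1) = 1 := by
        rw [show 2 * (q - j) - 1 = ((2 : ℕ) : ℤ) * q + -(2 * j + 1) by push_cast; ring, zpow_add,
          zpow_neg, zpow_mul, zpow_natCast, hq, mul_inv_cancel]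
      rw [← orderOf_dvd_iff_zpow_eq_one, hm] at h5
      rcases Nat.eq_zero_or_pos m with rfl | hm0
      · rw [pow_zero] at hm; exact hc4 (orderOf_eq_one_iff.1 hm)
      · have h6 : (2 : ℤ) ∣ 2 * (q - j) - 1 :=
          (Int.natCast_dvd_natCast.2 (dvd_pow_self 2 hm0.ne')).trans h5
        omega
    have hle : Nat.card (zpowers (c ^ 4)) ≤ Nat.card (commutator T) := by
      rw [← card_map_of_injective (K := commutator T) T.subtype_injective]
      exact card_le_of_le (zpowers_le.2 hmem)
    have h1 := (commutator T).card_mul_index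
    rw [hE] at hle
    rw [hTc T hT, show 2 ^ (n - 1) = 2 ^ (n - 3) * 4 by
      rw [show (4 : ℕ) = 2 ^ 2 by norm_num, ← pow_add]; congr 1; omega] at h1
    by_contra hlt
    push_neg at hlt
    have : 2 ^ (n - 3) * 5 ≤ Nat.card (commutator T) * (commutator T).index :=
      Nat.mul_le_mul hle hlt
    have := pow_pos (show 0 < 2 by norm_num) (n - 3)
    omega
  · haveI := Fintype.ofFinite {T : Subgroup P // T.index = 2}
    rcases Nat.even_or_odd (Nat.card {T : {T : Subgroup P // T.index = 2} // IsCyclic T.1}) with hev | hodd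
    swap
    · exact hodd
    exfalso
    have h3 := card_split_pred (fun T : {T : Subgroup P // T.index = 2} => IsCyclic T.1)
    rw [hX] at h3
    have hge : 1 ≤ Nat.card {T : {T : Subgroup P // T.index = 2} // IsCyclic T.1} :=
      Nat.one_le_iff_ne_zero.2 (Nat.card_ne_zero.2 ⟨⟨⟨⟨_, hCi⟩, hCc⟩⟩, inferInstance⟩)
    obtain ⟨k, hk⟩ := hev
    have h2 : Nat.card {T : {T : Subgroup P // T.index = 2} // IsCyclic T.1} = 2 := by omega
    -- a second cyclic maximal subgroup forces a third
    haveI : Nontrivial {T : {T : Subgroup P // T.index = 2} // IsCyclic T.1} :=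
      Finite.one_lt_card_iff_nontrivial.1 (by omega)
    obtain ⟨⟨⟨T, hT⟩, hTcy⟩, hTne⟩ := exists_ne
      (⟨⟨_, hCi⟩, hCc⟩ : {T : {T : Subgroup P // T.index = 2} // IsCyclic T.1})
    have hTC : T ≠ zpowers c := fun e => hTne (Subtype.ext (Subtype.ext e))
    obtain ⟨d, hd⟩ : ∃ d, T = zpowers d := by
      obtain ⟨g, hg⟩ := hTcy.exists_generator
      refine ⟨(g : P), le_antisymm (fun x hx => ?_) (zpowers_le.2 g.2)⟩
      obtain ⟨i, hi⟩ := mem_zpowers_iff.1 (hg ⟨x, hx⟩)
      exact ⟨i, congrArg Subtype.val hi⟩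
    have hdC : d ∉ zpowers c := fun hdc => by
      refine hTC (eq_of_le_of_card_ge (hd ▸ zpowers_le.2 hdc) ?_)
      rw [hTc T hT, hTc _ hCi]
    obtain ⟨j, hj⟩ := hact d hdC
    have hc2T : c ^ 2 ∈ zpowers d := hd ▸ hsub T hT (mem_zpowers _)
    have hcomm : d * c ^ 2 * d⁻¹ = c ^ 2 := by
      obtain ⟨q, hq⟩ := mem_zpowers_iff.1 hc2T
      rw [← hq, ((Commute.refl d).zpow_right q).eq, mul_inv_cancel_right]
    have hn3 : n = 3 := by
      rw [← MulAut.conj_apply, map_pow, MulAut.conj_apply, hj, ← zpow_natCast _ 2,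
        ← zpow_natCast c 2, ← zpow_mul, ← mul_inv_eq_one, ← zpow_neg, ← zpow_add,
        ← orderOf_dvd_iff_zpow_eq_one, ho] at hcomm
      by_contra hne3
      have h8 : ((2 ^ 3 : ℕ) : ℤ) ∣ (4 * j + 3) * ((2 : ℕ) : ℤ) + -((2 : ℕ) : ℤ) :=
        (Int.natCast_dvd_natCast.2 (pow_dvd_pow 2 (show 3 ≤ n - 1 by omega))).trans hcomm
      norm_num at h8
      omega
    subst hn3
    have hd2 : d ^ 2 = c ^ 2 := by
      have hoc2 : orderOf (c ^ 2) = 2 := by rw [← Nat.card_zpowers, hF]; norm_num
      have hd2m : d ^ 2 ∈ zpowers (c ^ 2) := by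
        rw [← hFc]
        exact CfsgLib.Transfer.pow_prime_mem_commutator hPp h.1 (h.2.trans (by norm_num)) d
      have hd1 : d ^ 2 ≠ 1 := by
        rw [Ne, ← orderOf_dvd_iff_pow_eq_one, ← Nat.card_zpowers, ← hd, hTc T hT]
        norm_num
      obtain ⟨q, hq⟩ := mem_zpowers_iff.1 hd2m
      rw [← zpow_mod_orderOf, hoc2] at hq
      rcases Int.emod_two_eq q with e | e
      · rw [show q % ((2 : ℕ) : ℤ) = 0 from e, zpow_zero] at hq; exact absurd hq.symm hd1
      · rw [show q % ((2 : ℕ) : ℤ) = 1 from e, zpow_one] at hq; exact hq.symm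
    have hc4 : c ^ (4 : ℤ) = 1 := by
      rw [show (4 : ℤ) = ((4 : ℕ) : ℤ) by norm_num, zpow_natCast, ← orderOf_dvd_iff_pow_eq_one, ho]
      norm_num
    have hu2 : (c * d) ^ 2 = c ^ 2 := by
      calc (c * d) ^ 2 = c * (d * c * d⁻¹) * d ^ 2 := by rw [pow_two, pow_two]; group
        _ = c * c ^ (4 * j + 3) * c ^ 2 := by rw [hj, hd2]
        _ = c ^ 2 := by
          have e1 : c * c ^ (4 * j + 3) = c ^ (4 * (j + 1)) := by
            rw [mul_self_zpow]; congr 1; ring
          rw [e1, zpow_mul, hc4, one_zpow, one_mul]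
    have hou : orderOf (c * d) = 4 := by
      refine orderOf_eq_prime_pow (p := 2) (n := 1) ?_ ?_
      · rw [pow_one, hu2, ← orderOf_dvd_iff_pow_eq_one, ho]; norm_num
      · rw [show 2 ^ (1 + 1) = 2 * 2 by norm_num, pow_mul, hu2, ← pow_mul,
          ← orderOf_dvd_iff_pow_eq_one, ho]
        norm_num
    let U : {T : {T : Subgroup P // T.index = 2} // IsCyclic T.1} :=
      ⟨⟨zpowers (c * d), index_of_card (k := 1) hP (by norm_num)
        (by rw [Nat.card_zpowers, hou]; norm_num) |>.trans (by norm_num)⟩, inferInstance⟩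
    have hUC : U ≠ ⟨⟨_, hCi⟩, hCc⟩ := fun e => by
      have e' : zpowers (c * d) = zpowers c := congrArg (fun w => w.1.1) e
      refine hdC ?_
      have h1 : c⁻¹ * (c * d) ∈ zpowers c :=
        mul_mem (inv_mem (mem_zpowers c)) (e' ▸ mem_zpowers (c * d))
      rwa [inv_mul_cancel_left] at h1
    have hUT : U ≠ ⟨⟨T, hT⟩, hTcy⟩ := fun e => by
      have e' : zpowers (c * d) = T := congrArg (fun w => w.1.1) e
      refine hTC (eq_of_le_of_card_ge ?_ (by rw [hTc T hT, hTc _ hCi])).symm
      rw [zpowers_le]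
      have h1 : (c * d) * d⁻¹ ∈ T :=
        mul_mem (e' ▸ mem_zpowers (c * d)) (inv_mem (hd ▸ mem_zpowers d))
      rwa [mul_inv_cancel_right] at h1
    obtain ⟨x, y, hxy, hu⟩ := Nat.card_eq_two_iff.1 h2
    have key : ∀ w : {T : {T : Subgroup P // T.index = 2} // IsCyclic T.1}, w = x ∨ w = y := fun w => by
      have : w ∈ ({x, y} : Set _) := hu ▸ Set.mem_univ w
      simpa using this
    rcases key U with a | a <;> rcases key ⟨⟨_, hCi⟩, hCc⟩ with b | b <;>
      rcases key ⟨⟨T, hT⟩, hTcy⟩ with e | e <;>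
      first
      | exact hUC (a.trans b.symm)
      | exact hUT (a.trans e.symm)
      | exact hTne (e.trans b.symm)

/-- Counting subgroups in a `2`-group of maximal class. -/
theorem mc_count : ∀ (n : ℕ) (P : Type*) [Group P] [Finite P], Nat.card P = 2 ^ n → MC P →
    ∀ a, 1 ≤ a → a < n →
      (Nat.card {H : Subgroup P // Nat.card H = 2 ^ a} : ZMod (2 ^ 2)) =
        if a + 1 = n then 3 else 1 := by
  haveI := Fact.mk Nat.prime_two
  intro n
  induction n using Nat.strong_induction_on with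
  | _ n ih =>
  intro P _ _ hP h a ha1 ha
  classical
  haveI : Nontrivial P := Finite.one_lt_card_iff_nontrivial.1 (by
    rw [hP]; exact Nat.one_lt_pow (by omega) (by norm_num))
  split_ifs with han
  · have h1 := (ZMod.natCast_eq_natCast_iff _ _ _).2 (card_maximal_modEq (sub_isPGroup hP) h.1)
    rw [Nat.card_congr (Equiv.subtypeEquivRight fun H => ?_)]
    · exact h1.trans (by norm_num)
    · rw [index_eq_iff_card (p := 2) (by omega) hP, show n - 1 = a by omega]
  have hn : 3 ≤ n := by omega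
  obtain ⟨hmax, hX, hodd⟩ := mc_maximal hP hn h
  haveI := Fintype.ofFinite {T : Subgroup P // T.index = 2}
  have e := card_subgroups_step (p := 2) hP h.1 ha1 (by omega : a + 1 < n)
  have hv : ∀ T : {T : Subgroup P // T.index = 2},
      (Nat.card {H : Subgroup T.1 // Nat.card H = 2 ^ a} : ZMod (2 ^ 2)) =
        if IsCyclic T.1 then 1 else if a + 2 = n then 3 else 1 := by
    intro T
    have hTc : Nat.card T.1 = 2 ^ (n - 1) := (index_eq_iff_card (p := 2) (by omega) hP T.1).1 T.2
    by_cases hc : IsCyclic T.1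
    · rw [if_pos hc, card_subgroups_cyclic hc (hTc ▸ pow_dvd_pow 2 (by omega)), Nat.cast_one]
    · rw [if_neg hc, ih (n - 1) (by omega) T.1 hTc ((hmax T.1 T.2).resolve_left hc) a ha1 (by omega)]
      exact if_congr (by omega) rfl rfl
  rw [Finset.sum_congr rfl fun T _ => hv T, Finset.sum_ite, Finset.sum_const, Finset.sum_const,
    nsmul_eq_mul, nsmul_eq_mul, mul_one] at e
  have cnt : ∀ {α : Type _} [Fintype α] (q : α → Prop) [DecidablePred q],
      (Finset.univ.filter q).card = Nat.card {x // q x} := fun q _ => by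
    rw [Nat.card_eq_fintype_card, Fintype.card_subtype]
  rw [cnt, cnt] at e
  have h3 := card_split_pred (fun T : {T : Subgroup P // T.index = 2} => IsCyclic T.1)
  rw [hX] at h3
  generalize hA : Nat.card {T : {T : Subgroup P // T.index = 2} // IsCyclic T.1} = A at e h3 hodd
  generalize hB : Nat.card {T : {T : Subgroup P // T.index = 2} // ¬ IsCyclic T.1} = B at e h3
  have hA' : A = 1 ∧ B = 2 ∨ A = 3 ∧ B = 0 := by
    obtain ⟨k, hk⟩ := hodd
    omega
  generalize (Nat.card {H : Subgroup P // Nat.card H = 2 ^ a} : ZMod (2 ^ 2)) = N at e ⊢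
  rcases hA' with ⟨rfl, rfl⟩ | ⟨rfl, rfl⟩ <;> split_ifs at e <;> push_cast at e <;> revert e <;>
    revert N <;> decide

/-- The number of cyclic maximal subgroups of a noncyclic `2`-group not of maximal class is even. -/
theorem even_cyclic_maximal {n : ℕ} (hP : Nat.card P = 2 ^ n) (hn : 3 ≤ n) (hnc : ¬ IsCyclic P)
    (hmc : ¬ MC P) :
    Even (Nat.card {T : {T : Subgroup P // T.index = 2} // IsCyclic T.1}) := by
  haveI := Fact.mk Nat.prime_two
  classical
  rcases isEmpty_or_nonempty {T : {T : Subgroup P // T.index = 2} // IsCyclic T.1} with he | ⟨⟨⟨C, hCi⟩, hCc⟩⟩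
  · rw [Nat.card_of_isEmpty]; exact Even.zero
  have hTc : ∀ T : Subgroup P, T.index = 2 → Nat.card T = 2 ^ (n - 1) := fun T hT =>
    (index_eq_iff_card (p := 2) (by omega) hP T).1 hT
  obtain ⟨c, rfl, ho, hF, hE, hEn, hFn⟩ := cyclic_index_two_data hP hn C hCc hCi
  haveI := hEn
  haveI := Subgroup.normal_of_index_eq_two hCi
  have hPC : commutator P ≤ zpowers c := commutator_le_of_index_two hCi
  -- commutators are fourth powers
  have hPE : commutator P ≤ zpowers (c ^ 4) := by
    intro x hx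
    have hbig : ∀ z ∈ commutator P, z ∈ zpowers c → c ^ 2 ∈ zpowers z → False := by
      intro z hz _ hc2
      refine hmc (mc_of_index_le hP hnc ?_)
      have h1 : Nat.card (zpowers (c ^ 2)) ≤ Nat.card (commutator P) :=
        card_le_of_le (zpowers_le.2 (zpowers_le.2 hz hc2))
      rw [hF] at h1
      have h2 := (commutator P).card_mul_index
      by_contra hlt
      push_neg at hlt
      have h5 : 2 ^ (n - 2) * 5 ≤ Nat.card (commutator P) * (commutator P).index :=
        Nat.mul_le_mul h1 hlt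
      rw [h2, hP, show 2 ^ n = 2 ^ (n - 2) * 4 by
        rw [show (4 : ℕ) = 2 ^ 2 by norm_num, ← pow_add, Nat.sub_add_cancel (by omega)]] at h5
      have := pow_pos (show 0 < 2 by norm_num) (n - 2)
      omega
    by_cases hx2 : x ∈ zpowers (c ^ 2)
    · by_contra hx4
      have ho2 : orderOf (c ^ 2) = 2 ^ (n - 2) := by rw [← Nat.card_zpowers, hF]
      refine hbig x hx (hPC hx) (eq_zpowers_of_not_mem hx2 ?_ ho2)
      rwa [← pow_mul]
    · exfalso
      refine hbig x hx (hPC hx) (pow_mem (eq_zpowers_of_not_mem (hPC hx) hx2 ho) 2)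
  have hcomm : ∀ x y : P, Commute (QuotientGroup.mk' (zpowers (c ^ 4)) x)
      (QuotientGroup.mk' (zpowers (c ^ 4)) y) := fun x y => by
    rw [← commutatorElement_eq_one_iff_commute, ← map_commutatorElement, QuotientGroup.mk'_apply,
      QuotientGroup.eq_one_iff]
    exact hPE (commutator_mem_commutator (mem_top _) (mem_top _))
  have hsqF : ∀ x : P, x ^ 2 ∈ zpowers (c ^ 2) := by
    intro x
    by_cases hxC : x ∈ zpowers c
    · obtain ⟨i, rfl⟩ := mem_zpowers_iff.1 hxC
      exact ⟨i, by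
        show (c ^ 2) ^ i = (c ^ i) ^ 2
        rw [← zpow_natCast c 2, ← zpow_natCast (c ^ i) 2, ← zpow_mul, ← zpow_mul, mul_comm]⟩
    by_contra hx
    have h1 : c ∈ zpowers (x ^ 2) :=
      eq_zpowers_of_not_mem (sq_mem_of_index_two hCi x) hx ho
    refine hnc ⟨⟨x, fun y => ?_⟩⟩
    have hC : zpowers c ≤ zpowers x :=
      zpowers_le.2 (zpowers_le.2 (pow_mem (mem_zpowers x) 2) h1)
    by_cases hy : y ∈ zpowers c
    · exact hC hy
    · have h2 : y * x⁻¹ ∈ zpowers c :=
        (Subgroup.mul_mem_iff_of_index_two hCi).2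
          (iff_of_false hy fun e => hxC ((Subgroup.inv_mem_iff _).1 e))
      have h3 := mul_mem (hC h2) (mem_zpowers x)
      rwa [inv_mul_cancel_right] at h3
  -- the unique noncyclic maximal subgroup
  let K : Subgroup P :=
    { carrier := {x | x ^ 2 ∈ zpowers (c ^ 4)}
      one_mem' := by simp
      mul_mem' := by
        intro x y hx hy
        simp only [Set.mem_setOf_eq, ← QuotientGroup.eq_one_iff (N := zpowers (c ^ 4)),
          ← QuotientGroup.mk'_apply, map_pow, map_mul] at hx hy ⊢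
        rw [(hcomm x y).mul_pow, hx, hy, one_mul]
      inv_mem' := by
        intro x hx
        simp only [Set.mem_setOf_eq] at hx ⊢
        rw [inv_pow]
        exact inv_mem hx }
  have hcyc : ∀ T : Subgroup P, T.index = 2 → (IsCyclic T ↔ ¬ T ≤ K) := by
    intro T hT
    constructor
    · intro hc hle
      obtain ⟨g, hg⟩ := hc.exists_generator
      have h2 : (g : P) ^ 2 ∈ zpowers (c ^ 4) := hle g.2
      have hog : orderOf (g : P) = 2 ^ (n - 1) := by
        rw [Subgroup.orderOf_coe, orderOf_eq_card_of_forall_mem_zpowers hg, hTc T hT]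
      have h3 := card_le_of_le (zpowers_le.2 h2)
      rw [hE, Nat.card_zpowers, orderOf_pow_of_dvd two_ne_zero (hog ▸ dvd_pow_self 2 (by omega)), hog,
        show n - 1 = (n - 2) + 1 by omega, pow_succ, Nat.mul_div_cancel _ (by norm_num)] at h3
      have := (Nat.pow_le_pow_iff_right (by norm_num : 1 < 2)).1 h3
      omega
    · intro hle
      obtain ⟨d, hdT, hdK⟩ := SetLike.not_le_iff_exists.1 hle
      have hd2 : c ^ 2 ∈ zpowers (d ^ 2) :=
        eq_zpowers_of_not_mem (hsqF d) (fun e => hdK (by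
          show d ^ 2 ∈ zpowers (c ^ 4)
          rwa [← pow_mul] at e)) (by rw [← Nat.card_zpowers, hF])
      refine isCyclic_iff_exists_zpowers_eq_top.2 ⟨⟨d, hdT⟩, ?_⟩
      refine eq_top_of_card_eq _ ?_
      rw [Nat.card_zpowers, Subgroup.orderOf_mk, hTc T hT]
      obtain ⟨m, hm, hod⟩ := (Nat.dvd_prime_pow Nat.prime_two).1
        (show orderOf d ∣ 2 ^ (n - 1) by
          rw [← hTc T hT, ← Subgroup.orderOf_mk d hdT]; exact orderOf_dvd_natCard _)
      have hlow := card_le_of_le (zpowers_le.2 hd2)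
      have hdvd : 2 ∣ orderOf d := by
        rw [hod]
        refine dvd_pow_self 2 fun e => hdK ?_
        rw [e, pow_zero, orderOf_eq_one_iff] at hod
        show d ^ 2 ∈ zpowers (c ^ 4)
        rw [hod, one_pow]; exact one_mem _
      rw [hF, Nat.card_zpowers, orderOf_pow_of_dvd two_ne_zero hdvd, hod] at hlow
      rw [hod]
      congr 1
      rcases Nat.eq_zero_or_pos m with rfl | hm0
      · rw [hod, pow_zero] at hdvd; omega
      · rw [show m = (m - 1) + 1 by omega, pow_succ, Nat.mul_div_cancel _ (by norm_num)] at hlow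
        have := (Nat.pow_le_pow_iff_right (by norm_num : 1 < 2)).1 hlow
        omega
  have hKi : K.index = 2 := by
    have hcK : c ∉ K := fun h => ((hcyc _ hCi).1 hCc) (zpowers_le.2 h)
    rw [Subgroup.index_eq_two_iff]
    refine ⟨c, fun b => ?_⟩
    have ho2 : orderOf (c ^ 2) = 2 ^ (n - 2) := by rw [← Nat.card_zpowers, hF]
    by_cases hb : b ∈ K
    · exact Or.inr ⟨hb, fun h => hcK (by simpa using K.mul_mem (K.inv_mem hb) h)⟩
    · refine Or.inl ⟨?_, hb⟩
      show (b * c) ^ 2 ∈ zpowers (c ^ 4)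
      rw [← QuotientGroup.eq_one_iff (N := zpowers (c ^ 4)), ← QuotientGroup.mk'_apply, map_pow,
        map_mul, (hcomm b c).mul_pow, ← map_pow, ← map_pow, ← map_mul]
      obtain ⟨i, hi⟩ := mem_zpowers_iff.1 (hsqF b)
      rcases Int.even_or_odd i with ⟨q, rfl⟩ | ⟨q, rfl⟩
      · refine absurd ?_ hb
        show b ^ 2 ∈ zpowers (c ^ 4)
        refine ⟨q, ?_⟩
        show (c ^ 4) ^ q = b ^ 2
        rw [← hi, ← zpow_natCast c 4, ← zpow_natCast c 2, ← zpow_mul, ← zpow_mul]
        congr 1; push_cast; ring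
      · rw [QuotientGroup.mk'_apply, QuotientGroup.eq_one_iff]
        refine ⟨q + 1, ?_⟩
        show (c ^ 4) ^ (q + 1) = b ^ 2 * c ^ 2
        rw [← hi, ← zpow_natCast c 4, ← zpow_natCast c 2, ← zpow_mul, ← zpow_mul, ← zpow_add]
        congr 1; push_cast; ring
  have hone : Nat.card {T : {T : Subgroup P // T.index = 2} // ¬ IsCyclic T.1} = 1 := by
    refine Nat.card_eq_one_iff_unique.2 ⟨⟨fun A B => ?_⟩, ⟨⟨⟨K, hKi⟩, fun h => (hcyc K hKi).1 h le_rfl⟩⟩⟩
    have key : ∀ T : {T : {T : Subgroup P // T.index = 2} // ¬ IsCyclic T.1}, T.1.1 = K := fun T => by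
      have hle : T.1.1 ≤ K := not_not.1 fun h => T.2 ((hcyc _ T.1.2).2 h)
      exact eq_of_le_of_card_ge hle (by rw [hTc _ T.1.2, hTc _ hKi])
    exact Subtype.ext (Subtype.ext ((key A).trans (key B).symm))
  haveI : Nontrivial P := Finite.one_lt_card_iff_nontrivial.1 (by
    rw [hP]; exact Nat.one_lt_pow (by omega) (by norm_num))
  have h3 := card_maximal_modEq (sub_isPGroup hP) hnc
  have hs := card_split_pred (fun T : {T : Subgroup P // T.index = 2} => IsCyclic T.1)
  rw [hone] at hs
  rw [Nat.ModEq] at h3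
  rw [Nat.even_iff]
  omega

/-- The number of maximal subgroups of maximal class of a `2`-group not of maximal class is even. -/
theorem even_mc_maximal {n : ℕ} (hP : Nat.card P = 2 ^ n) (hn : 4 ≤ n) (hnc : ¬ IsCyclic P)
    (hmc : ¬ MC P) :
    Even (Nat.card {T : {T : Subgroup P // T.index = 2} // MC T.1}) := by
  haveI := Fact.mk Nat.prime_two
  classical
  have hPp := sub_isPGroup hP
  rcases isEmpty_or_nonempty {T : {T : Subgroup P // T.index = 2} // MC T.1} with he | ⟨⟨⟨M, hMi⟩, hM⟩⟩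
  · rw [Nat.card_of_isEmpty]; exact Even.zero
  have hTc : ∀ T : Subgroup P, T.index = 2 → Nat.card T = 2 ^ (n - 1) := fun T hT =>
    (index_eq_iff_card (p := 2) (by omega) hP T).1 hT
  haveI := Subgroup.normal_of_index_eq_two hMi
  set F := (commutator M).map M.subtype with hF
  haveI hFn : F.Normal := inferInstance
  have hFcard : Nat.card F = 2 ^ (n - 3) := by
    rw [hF, card_map_of_injective M.subtype_injective]
    have h1 := (commutator M).card_mul_index
    rw [hM.2, hTc M hMi, show 2 ^ (n - 1) = 2 ^ (n - 3) * 4 by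
      rw [show (4 : ℕ) = 2 ^ 2 by norm_num, ← pow_add]; congr 1; omega] at h1
    omega
  have hFM : F ≤ M := map_subtype_le _
  have hMsq : ∀ x ∈ M, x ^ 2 ∈ F := fun x hx =>
    ⟨(⟨x, hx⟩ : M) ^ 2, CfsgLib.Transfer.pow_prime_mem_commutator (sub_isPGroup (hTc M hMi)) hM.1
      (hM.2.trans (by norm_num)) _, rfl⟩
  have hPF : commutator P = F := by
    have hle : F ≤ commutator P := by
      rw [hF, _root_.commutator_def, map_commutator, _root_.commutator_def]
      exact commutator_mono le_top le_top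
    by_contra hne
    have h1 := CfsgLib.Transfer.prime_mul_card_le hPp (lt_of_le_of_ne hle (Ne.symm hne))
    refine hmc (mc_of_index_le hP hnc ?_)
    have h2 := (commutator P).card_mul_index
    rw [hP, show 2 ^ n = 2 * 2 ^ (n - 3) * 4 by
      rw [show (4 : ℕ) = 2 ^ 2 by norm_num, ← pow_succ', ← pow_add]; congr 1; omega, ← hFcard] at h2
    by_contra hlt
    push_neg at hlt
    have h5 : 2 * Nat.card F * 5 ≤ Nat.card (commutator P) * (commutator P).index :=
      Nat.mul_le_mul h1 hlt
    have := Nat.card_pos (α := F)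
    omega
  -- `F` is cyclic
  obtain ⟨f, hf⟩ : ∃ f, F = zpowers f := by
    obtain ⟨-, C, hC, hCi⟩ := class_of_mc (hTc M hMi) hM
    haveI := hC
    have hle : commutator M ≤ C := commutator_le_of_index_two hCi
    haveI : IsCyclic (commutator M) :=
      isCyclic_of_injective (Subgroup.inclusion hle) (Subgroup.inclusion_injective hle)
    obtain ⟨g, hg⟩ := IsCyclic.exists_generator (α := commutator M)
    refine ⟨((g : M) : P), le_antisymm ?_ (zpowers_le.2 ⟨_, g.2, rfl⟩)⟩
    rintro _ ⟨x, hx, rfl⟩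
    obtain ⟨i, hi⟩ := mem_zpowers_iff.1 (hg ⟨x, hx⟩)
    exact ⟨i, by simpa using congrArg (fun z : commutator M => ((z : M) : P)) hi⟩
  have hof : orderOf f = 2 ^ (n - 3) := by rw [← Nat.card_zpowers, ← hf, hFcard]
  set E := zpowers (f ^ 2) with hE
  have hEF : E ≤ F := zpowers_le.2 (pow_mem (hf ▸ mem_zpowers f) 2)
  have hEc : Nat.card E = 2 ^ (n - 4) := by
    rw [hE, Nat.card_zpowers, orderOf_pow_of_dvd two_ne_zero (hof ▸ dvd_pow_self 2 (by omega)), hof,
      show n - 3 = (n - 4) + 1 by omega, pow_succ, Nat.mul_div_cancel _ (by norm_num)]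
  haveI hEn : E.Normal := ⟨fun x hx g => by
    obtain ⟨i, rfl⟩ := mem_zpowers_iff.1 hx
    obtain ⟨j, hj⟩ := mem_zpowers_iff.1
      (show g * f * g⁻¹ ∈ zpowers f from hf ▸ hFn.conj_mem f (hf ▸ mem_zpowers f) g)
    refine ⟨j * i, ?_⟩
    show (f ^ 2) ^ (j * i) = g * (f ^ 2) ^ i * g⁻¹
    rw [← MulAut.conj_apply, map_zpow, map_pow, MulAut.conj_apply, ← hj]
    simp only [← zpow_natCast, ← zpow_mul]
    congr 1
    ring⟩
  have hnotFE : ¬ F ≤ E := fun h => by
    have := card_le_of_le h
    rw [hFcard, hEc] at this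
    have := (Nat.pow_le_pow_iff_right (by norm_num : 1 < 2)).1 this
    omega
  set π := QuotientGroup.mk' E with hπ
  have hone : ∀ x : P, π x = 1 ↔ x ∈ E := fun x => QuotientGroup.eq_one_iff x
  -- the image of `F` has order two and is central
  have hF2 : ∀ x ∈ F, π x ^ 2 = 1 ∧ (x ∉ E → π x = π f) := by
    intro x hx
    obtain ⟨i, rfl⟩ := mem_zpowers_iff.1 (hf ▸ hx : x ∈ zpowers f)
    refine ⟨by rw [← map_pow, hone, ← zpow_natCast (f ^ i), ← zpow_mul]
               exact ⟨i, by show (f ^ 2) ^ i = _; rw [← zpow_natCast f 2, ← zpow_mul, mul_comm]⟩,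
      fun hxE => ?_⟩
    rcases Int.even_or_odd i with ⟨q, rfl⟩ | ⟨q, rfl⟩
    · exact absurd ⟨q, by show (f ^ 2) ^ q = _; rw [← zpow_natCast f 2, ← zpow_mul]; congr 1; push_cast; ring⟩ hxE
    · rw [zpow_add_one, map_mul, (hone _).2 ⟨q, by show (f ^ 2) ^ q = _; rw [← zpow_natCast f 2, ← zpow_mul]; congr 1⟩,
        one_mul]
  have hFz : ∀ x ∈ F, ∀ g : P, Commute (π x) (π g) := by
    intro x hx g
    by_cases hxE : x ∈ E
    · rw [(hone x).2 hxE]; exact Commute.one_left _
    have h1 : π (g * x * g⁻¹) = π f := by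
      refine (hF2 _ (hFn.conj_mem x hx g)).2 fun h => hxE ?_
      have := hEn.conj_mem _ h g⁻¹
      simpa [mul_assoc] using this
    rw [← (hF2 x hx).2 hxE, map_mul, map_mul, map_inv, mul_inv_eq_iff_eq_mul] at h1
    exact h1.symm
  have hcF : ∀ x y : P, ⁅x, y⁆ ∈ F := fun x y =>
    hPF ▸ commutator_mem_commutator (mem_top _) (mem_top _)
  -- squares lie in `F`
  have hsq : ∀ x : P, x ^ 2 ∈ F := by
    intro x
    by_contra hy
    have hyM : x ^ 2 ∈ M := sq_mem_of_index_two hMi x
    have hcen : ∀ z : P, Commute (π (x ^ 2)) (π z) := by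
      intro z
      have h1 : π z * π x = π ⁅z, x⁆ * (π x * π z) := by
        rw [← map_mul, ← map_mul, ← map_mul, commutatorElement_def]; congr 1; group
      have hk : π ⁅z, x⁆ ^ 2 = 1 := (hF2 _ (hcF z x)).1
      have hc : Commute (π ⁅z, x⁆) (π x) := hFz _ (hcF z x) x
      refine Commute.symm ?_
      show π z * π (x ^ 2) = π (x ^ 2) * π z
      rw [map_pow, pow_two, ← mul_assoc, h1, mul_assoc, mul_assoc, h1, ← mul_assoc (π x),
        ← hc.eq, mul_assoc, ← mul_assoc (π ⁅z, x⁆), ← pow_two, hk, one_mul, ← mul_assoc]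
    set W := F ⊔ zpowers (x ^ 2) with hW
    have hWM : W ≤ M := sup_le hFM (zpowers_le.2 hyM)
    have hWlt : F < W := lt_of_le_of_ne le_sup_left fun e =>
      hy (e ▸ mem_sup_right (mem_zpowers (x ^ 2)))
    have hW2 : Nat.card F * 2 ≤ Nat.card W := by
      rw [mul_comm]; exact CfsgLib.Transfer.prime_mul_card_le hPp hWlt
    have hWcom : ∀ a ∈ W, ∀ z : P, Commute (π a) (π z) := by
      intro a ha z
      obtain ⟨u, hu, v, hv, rfl⟩ := mem_sup_of_normal_left.1 ha
      obtain ⟨i, rfl⟩ := mem_zpowers_iff.1 hv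
      rw [map_mul, map_zpow]
      exact (hFz u hu z).mul_left ((hcen z).zpow_left i)
    refine hnotFE ?_
    rw [hF, _root_.commutator_def, map_commutator, ← MonoidHom.range_eq_map, range_subtype]
    refine commutator_le_of_commute _ fun a ha b hb => ?_
    by_cases haW : a ∈ W
    · exact hWcom a haW b
    by_cases hbW : b ∈ W
    · exact (hWcom b hbW a).symm
    -- `W` has index two in `M`
    set W' := W ⊔ zpowers b with hW'
    have hlt : W < W' := lt_of_le_of_ne le_sup_left fun e =>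
      hbW (e ▸ mem_sup_right (mem_zpowers b))
    have h4 := CfsgLib.Transfer.prime_mul_card_le hPp hlt
    have hW'M : W' = M := by
      refine eq_of_le_of_card_ge (sup_le hWM (zpowers_le.2 hb)) ?_
      rw [hTc M hMi, show 2 ^ (n - 1) = 2 * (2 ^ (n - 3) * 2) by
        rw [← pow_succ, ← pow_succ']; congr 1; omega, ← hFcard]
      exact (Nat.mul_le_mul_left 2 hW2).trans h4
    haveI : W.Normal := ⟨fun w hw g => by
      rw [show g * w * g⁻¹ = ⁅g, w⁆ * w by rw [commutatorElement_def]; group]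
      exact mul_mem (mem_sup_left (hcF g w)) hw⟩
    obtain ⟨u, hu, v, hv, rfl⟩ := mem_sup_of_normal_left.1 (hW'M.symm ▸ ha : a ∈ W')
    obtain ⟨i, rfl⟩ := mem_zpowers_iff.1 hv
    rw [map_mul, map_zpow]
    exact (hWcom u hu b).mul_left ((Commute.refl _).zpow_left i)
  -- a pair of non-commuting elements of `M`
  obtain ⟨a, ha, b, hb, hab⟩ : ∃ a ∈ M, ∃ b ∈ M, ¬ Commute (π a) (π b) := by
    by_contra hcon
    push_neg at hcon
    refine hnotFE ?_
    rw [hF, _root_.commutator_def, map_commutator, ← MonoidHom.range_eq_map, range_subtype]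
    exact commutator_le_of_commute _ hcon
  have hNor : ∀ W : Subgroup P, F ≤ W → W.Normal := fun W hW => ⟨fun w hw g => by
    rw [show g * w * g⁻¹ = ⁅g, w⁆ * w by rw [commutatorElement_def]; group]
    exact mul_mem (hW (hcF g w)) hw⟩
  -- adjust an outside element to be central modulo `E`
  obtain ⟨x, -, hxM⟩ := SetLike.exists_of_lt (lt_top_iff_ne_top.2 (show M ≠ ⊤ from fun e => by
    rw [e, index_top] at hMi; omega))
  have hswap : ∀ u v : P, ¬ Commute (π u) (π v) → π u * π v = π f * (π v * π u) := by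
    intro u v huv
    have hE' : ⁅u, v⁆ ∉ E := fun h => huv (by
      rw [← commutatorElement_eq_one_iff_commute, ← map_commutatorElement]; exact (hone _).2 h)
    rw [← (hF2 _ (hcF u v)).2 hE', ← map_mul, ← map_mul, ← map_mul, commutatorElement_def]
    congr 1; group
  have hff : π f * π f = 1 := by rw [← pow_two]; exact (hF2 f (hf ▸ mem_zpowers f)).1
  have hfc : ∀ g : P, Commute (π f) (π g) := hFz f (hf ▸ mem_zpowers f)
  have hfix : ∀ u v w : P, ¬ Commute (π v) (π w) → ∃ e : ℤ, Commute (π (u * v ^ e)) (π w) := by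
    intro u v w hvw
    by_cases huw : Commute (π u) (π w)
    · exact ⟨0, by rwa [zpow_zero, mul_one]⟩
    refine ⟨1, ?_⟩
    rw [zpow_one, map_mul]
    show π u * π v * π w = π w * (π u * π v)
    calc π u * π v * π w = π u * (π f * (π w * π v)) := by rw [mul_assoc, hswap v w hvw]
      _ = π f * (π u * π w) * π v := by
          rw [← mul_assoc, ← (hfc u).eq]; simp only [mul_assoc]
      _ = π f * (π f * (π w * π u)) * π v := by rw [hswap u w huw]
      _ = π w * (π u * π v) := by rw [← mul_assoc (π f), hff, one_mul, mul_assoc]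
  obtain ⟨e₁, he₁⟩ := hfix x b a (fun h => hab h.symm)
  obtain ⟨e₂, he₂⟩ := hfix (x * b ^ e₁) a b hab
  set r := x * b ^ e₁ * a ^ e₂ with hr
  have hra : Commute (π r) (π a) := by
    rw [hr, map_mul, map_zpow]
    exact he₁.mul_left ((Commute.refl _).zpow_left e₂)
  have hrM : r ∉ M := fun h => hxM (by
    have := mul_mem (mul_mem h (inv_mem (zpow_mem ha e₂))) (inv_mem (zpow_mem hb e₁))
    rwa [hr, mul_inv_cancel_right, mul_inv_cancel_right] at this)
  set Cr := (centralizer ({π r} : Set (P ⧸ E))).comap π with hCr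
  have hmemCr : ∀ z : P, z ∈ Cr ↔ Commute (π z) (π r) := fun z => by
    rw [hCr, mem_comap, mem_centralizer_singleton_iff]
    rfl
  have hrcen : ∀ z : P, Commute (π z) (π r) := by
    have hFC : F ≤ Cr := fun z hz => (hmemCr z).2 (hFz z hz r)
    set W₁ := F ⊔ zpowers a with hW₁
    have haF : a ∉ F := fun h => hab (hFz a h b)
    have hbW : b ∉ W₁ := fun h => hab (by
      haveI := hFn
      obtain ⟨u, hu, v, hv, e⟩ := mem_sup_of_normal_left.1 h
      obtain ⟨i, rfl⟩ := mem_zpowers_iff.1 hv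
      rw [← e, map_mul, map_zpow]
      exact ((hFz u hu a).symm).mul_right ((Commute.refl _).zpow_right i))
    have h1 := CfsgLib.Transfer.prime_mul_card_le hPp (lt_of_le_of_ne (le_sup_left : F ≤ W₁)
      fun e => haF (e ▸ mem_sup_right (mem_zpowers a)))
    have h2 := CfsgLib.Transfer.prime_mul_card_le hPp (lt_of_le_of_ne
      (le_sup_left : W₁ ≤ W₁ ⊔ zpowers b) fun e => hbW (e ▸ mem_sup_right (mem_zpowers b)))
    have hM' : W₁ ⊔ zpowers b = M := by
      refine eq_of_le_of_card_ge (sup_le (sup_le hFM (zpowers_le.2 ha)) (zpowers_le.2 hb)) ?_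
      rw [hTc M hMi, show 2 ^ (n - 1) = 2 * (2 * 2 ^ (n - 3)) by
        rw [← pow_succ', ← pow_succ']; congr 1; omega, ← hFcard]
      exact (Nat.mul_le_mul_left 2 h1).trans h2
    have hMC : M ≤ Cr := by
      rw [← hM']
      exact sup_le (sup_le hFC (zpowers_le.2 ((hmemCr a).2 hra.symm)))
        (zpowers_le.2 ((hmemCr b).2 (by rw [hr]; exact he₂.symm)))
    intro z
    refine (hmemCr z).1 ?_
    by_cases hz : z ∈ M
    · exact hMC hz
    · have h3 : z * r⁻¹ ∈ M :=
        (Subgroup.mul_mem_iff_of_index_two hMi).2 (iff_of_false hz fun e => hrM ((inv_mem_iff).1 e))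
      have := mul_mem (hMC h3) ((hmemCr r).2 (Commute.refl _))
      rwa [inv_mul_cancel_right] at this
  -- maximal class exactly when `r` is missing
  have hFle : ∀ T : Subgroup P, T.index = 2 → F ≤ T := fun T hT => hPF ▸ commutator_le_of_index_two hT
  set W₀ := F ⊔ zpowers r with hW₀
  haveI hW₀n : W₀.Normal := hNor _ le_sup_left
  have hrF : r ∉ F := fun h => hrM (hFM h)
  have hW₀c : 2 * 2 ^ (n - 3) ≤ Nat.card W₀ := by
    exact hFcard ▸ CfsgLib.Transfer.prime_mul_card_le hPp (lt_of_le_of_ne le_sup_left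
      fun e => hrF (e ▸ mem_sup_right (mem_zpowers r)))
  have habel : ∀ t : P, ∀ u ∈ W₀ ⊔ zpowers t, ∀ v ∈ W₀ ⊔ zpowers t, Commute (π u) (π v) := by
    intro t
    have key : ∀ u ∈ W₀ ⊔ zpowers t, ∃ w : P, (∀ g : P, Commute (π w) (π g)) ∧
        ∃ i : ℤ, u = w * t ^ i := by
      intro u hu
      obtain ⟨w, hw, v, hv, rfl⟩ := mem_sup_of_normal_left.1 hu
      obtain ⟨i, rfl⟩ := mem_zpowers_iff.1 hv
      refine ⟨w, fun g => ?_, i, rfl⟩
      obtain ⟨x', hx', v', hv', rfl⟩ := mem_sup_of_normal_left.1 hw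
      obtain ⟨k, rfl⟩ := mem_zpowers_iff.1 hv'
      rw [map_mul, map_zpow]
      exact (hFz x' hx' g).mul_left ((hrcen g).symm.zpow_left k)
    intro u hu v hv
    obtain ⟨w, hw, i, rfl⟩ := key u hu
    obtain ⟨w', hw', k, rfl⟩ := key v hv
    rw [map_mul, map_mul, map_zpow, map_zpow]
    exact ((hw w').mul_right (map_zpow π t k ▸ hw (t ^ k))).mul_left
      ((map_zpow π t i ▸ (hw' (t ^ i)).symm).mul_right ((Commute.refl _).zpow_zpow i k))
  have hW₀ne : ∀ t : P, W₀ ⊔ zpowers t ≠ ⊤ := fun t e =>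
    hab (habel t a (e ▸ mem_top a) b (e ▸ mem_top b))
  obtain ⟨k, hk⟩ := hPp.index W₀
  have hk2 : 2 ≤ k := by
    by_contra hlt
    rcases (show k = 0 ∨ k = 1 by omega) with rfl | rfl
    · rw [pow_zero, index_eq_one] at hk
      exact hW₀ne 1 (by rw [hk, top_sup_eq])
    · obtain ⟨t, -, ht⟩ := SetLike.exists_of_lt (lt_top_iff_ne_top.2 (show W₀ ≠ ⊤ from fun e => by
        rw [e, index_top, pow_one] at hk; omega))
      refine hW₀ne t ?_
      have h1 := relIndex_mul_index (le_sup_left : W₀ ≤ W₀ ⊔ zpowers t)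
      rw [hk, pow_one] at h1
      rcases (Nat.dvd_prime Nat.prime_two).1 (Dvd.intro_left _ h1) with h2 | h2
      · exact index_eq_one.1 h2
      · rw [h2] at h1
        have h3 : W₀.relIndex (W₀ ⊔ zpowers t) = 1 := by omega
        exact absurd (relIndex_eq_one.1 h3 (mem_sup_right (mem_zpowers t))) ht
  have hequiv : ∀ T : Subgroup P, T.index = 2 → (MC T ↔ ¬ W₀ ≤ T) := by
    intro T hT
    have hFT := hFle T hT
    constructor
    · intro hT' hle
      obtain ⟨t, htT, ht⟩ := SetLike.exists_of_lt (lt_of_le_of_ne hle fun e => by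
        rw [e, hT] at hk
        have := Nat.pow_le_pow_right (show 1 ≤ 2 by norm_num) hk2
        omega)
      have hT2 : W₀ ⊔ zpowers t = T := by
        refine eq_of_le_of_card_ge (sup_le hle (zpowers_le.2 htT)) ?_
        have h1 := CfsgLib.Transfer.prime_mul_card_le hPp (lt_of_le_of_ne
          (le_sup_left : W₀ ≤ W₀ ⊔ zpowers t) fun e => ht (e ▸ mem_sup_right (mem_zpowers t)))
        rw [hTc T hT, show 2 ^ (n - 1) = 2 * (2 * 2 ^ (n - 3)) by
          rw [← pow_succ', ← pow_succ']; congr 1; omega]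
        exact (Nat.mul_le_mul_left 2 hW₀c).trans h1
      have hTE : (commutator T).map T.subtype ≤ E := by
        rw [_root_.commutator_def, map_commutator, ← MonoidHom.range_eq_map, range_subtype]
        refine commutator_le_of_commute _ fun u hu v hv => ?_
        rw [← hT2] at hu hv
        exact habel t u hu v hv
      have h1 := card_le_of_le hTE
      rw [card_map_of_injective T.subtype_injective, hEc] at h1
      have h2 := (commutator T).card_mul_index
      rw [hT'.2, hTc T hT, show 2 ^ (n - 1) = 2 ^ (n - 4) * 2 * 4 by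
        rw [show (4 : ℕ) = 2 ^ 2 by norm_num, ← pow_succ, ← pow_add]; congr 1; omega] at h2
      have := pow_pos (show 0 < 2 by norm_num) (n - 4)
      omega
    · intro hle
      have hrT : r ∉ T := fun h => hle (sup_le hFT (zpowers_le.2 h))
      have hnab : ¬ ∀ u ∈ T, ∀ v ∈ T, Commute (π u) (π v) := by
        intro hall
        refine hab ?_
        have key : ∀ z : P, ∃ u ∈ T, ∃ i : ℤ, z = u * r ^ i := fun z => by
          by_cases hz : z ∈ T
          · exact ⟨z, hz, 0, by simp⟩
          · exact ⟨z * r⁻¹, (Subgroup.mul_mem_iff_of_index_two hT).2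
              (iff_of_false hz fun e => hrT ((inv_mem_iff).1 e)), 1, by simp⟩
        obtain ⟨u, hu, i, hai⟩ := key a
        obtain ⟨v, hv, k, hbk⟩ := key b
        rw [hai, hbk, map_mul, map_mul, map_zpow, map_zpow]
        exact ((hall u hu v hv).mul_right ((hrcen u).zpow_right k)).mul_left
          (((hrcen v).symm.zpow_left i).mul_right ((Commute.refl _).zpow_zpow i k))
      have hTF : F ≤ (commutator T).map T.subtype := by
        push_neg at hnab
        obtain ⟨u, hu, v, hv, huv⟩ := hnab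
        have hE' : ⁅u, v⁆ ∉ E := fun h => huv (by
          rw [← commutatorElement_eq_one_iff_commute, ← map_commutatorElement]; exact (hone _).2 h)
        have hgen := eq_zpowers_of_not_mem (hf ▸ hcF u v : ⁅u, v⁆ ∈ zpowers f) hE' hof
        rw [hf, zpowers_le]
        exact zpowers_le.2 (⟨⁅(⟨u, hu⟩ : T), ⟨v, hv⟩⁆,
          commutator_mem_commutator (mem_top _) (mem_top _), rfl⟩ :
          ⁅u, v⁆ ∈ (commutator T).map T.subtype) hgen
      have hncyc : ¬ IsCyclic T := fun hc => hnab fun u hu v hv => by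
        haveI := hc
        have h1 : (⟨u, hu⟩ : T) * ⟨v, hv⟩ = ⟨v, hv⟩ * ⟨u, hu⟩ :=
          (IsMulCommutative.is_comm (M := T)).comm _ _
        have h2 : u * v = v * u := congrArg Subtype.val h1
        show π u * π v = π v * π u
        rw [← map_mul, ← map_mul, h2]
      refine mc_of_index_le (hTc T hT) hncyc ?_
      have h1 := card_le_of_le hTF
      rw [hFcard, card_map_of_injective T.subtype_injective] at h1
      have h2 := (commutator T).card_mul_index
      rw [hTc T hT, show 2 ^ (n - 1) = 2 ^ (n - 3) * 4 by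
        rw [show (4 : ℕ) = 2 ^ 2 by norm_num, ← pow_add]; congr 1; omega] at h2
      by_contra hlt
      push_neg at hlt
      have h5 : 2 ^ (n - 3) * 5 ≤ Nat.card (commutator T) * (commutator T).index :=
        Nat.mul_le_mul h1 hlt
      have := pow_pos (show 0 < 2 by norm_num) (n - 3)
      omega
  have hΦ : frattini P ≤ W₀ := by
    exact CfsgLib.Solvable.frattini_le_of_elementary (p := 2) W₀ (hPF.le.trans le_sup_left)
      fun z => mem_sup_left (hsq z)
  haveI : Nontrivial P := Finite.one_lt_card_iff_nontrivial.1 (by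
    rw [hP]; exact Nat.one_lt_pow (by omega) (by norm_num))
  have h3 := card_maximal_modEq hPp hnc
  have h4 := card_index_over_modEq hPp W₀ hΦ hk hk2
  have hs := card_split_pred (fun T : {T : Subgroup P // T.index = 2} => MC T.1)
  have hnot : Nat.card {T : {T : Subgroup P // T.index = 2} // ¬ MC T.1} =
      Nat.card {T : Subgroup P // T.index = 2 ∧ W₀ ≤ T} := Nat.card_congr
    { toFun := fun T => ⟨T.1.1, T.1.2, not_not.1 fun h => T.2 ((hequiv _ T.1.2).2 h)⟩
      invFun := fun T => ⟨⟨T.1, T.2.1⟩, fun h => (hequiv _ T.2.1).1 h T.2.2⟩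
      left_inv := fun _ => rfl
      right_inv := fun _ => rfl }
  rw [hnot] at hs
  rw [Nat.ModEq] at h3 h4
  rw [Nat.even_iff]
  omega

/-- Kulakoff's congruence for noncyclic `2`-groups not of maximal class. -/
theorem card_subgroups_two : ∀ (n : ℕ) (P : Type*) [Group P] [Finite P], Nat.card P = 2 ^ n →
    ¬ IsCyclic P → ¬ MC P → ∀ a, 1 ≤ a → a < n →
      (Nat.card {H : Subgroup P // Nat.card H = 2 ^ a} : ZMod (2 ^ 2)) = 3 := by
  haveI := Fact.mk Nat.prime_two
  intro n
  induction n using Nat.strong_induction_on with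
  | _ n ih =>
  intro P _ _ hP hnc hmc a ha1 ha
  classical
  haveI : Nontrivial P := Finite.one_lt_card_iff_nontrivial.1 (by
    rw [hP]; exact Nat.one_lt_pow (by omega) (by norm_num))
  have hX := (ZMod.natCast_eq_natCast_iff _ _ _).2 (card_maximal_modEq (sub_isPGroup hP) hnc)
  by_cases han : a + 1 = n
  · rw [Nat.card_congr (Equiv.subtypeEquivRight fun H => ?_)]
    · exact hX.trans (by norm_num)
    · rw [index_eq_iff_card (p := 2) (by omega) hP, show n - 1 = a by omega]
  haveI := Fintype.ofFinite {T : Subgroup P // T.index = 2}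
  have e := card_subgroups_step (p := 2) hP hnc ha1 (by omega : a + 1 < n)
  have hv : ∀ T : {T : Subgroup P // T.index = 2},
      (Nat.card {H : Subgroup T.1 // Nat.card H = 2 ^ a} : ZMod (2 ^ 2)) =
        if IsCyclic T.1 ∨ (MC T.1 ∧ a + 2 < n) then 1 else 3 := by
    intro T
    have hTc : Nat.card T.1 = 2 ^ (n - 1) := (index_eq_iff_card (p := 2) (by omega) hP T.1).1 T.2
    by_cases hc : IsCyclic T.1
    · rw [if_pos (Or.inl hc), card_subgroups_cyclic hc (hTc ▸ pow_dvd_pow 2 (by omega)), Nat.cast_one]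
    by_cases hm : MC T.1
    · rw [mc_count (n - 1) T.1 hTc hm a ha1 (by omega)]
      by_cases h2 : a + 2 < n
      · rw [if_pos (Or.inr ⟨hm, h2⟩), if_neg (by omega)]
      · rw [if_pos (by omega), if_neg (by tauto)]
    · rw [if_neg (by tauto), ih (n - 1) (by omega) T.1 hTc hc hm a ha1 (by omega)]
  rw [Finset.sum_congr rfl fun T _ => hv T, Finset.sum_ite, Finset.sum_const, Finset.sum_const,
    nsmul_eq_mul, nsmul_eq_mul, mul_one] at e
  have cnt : ∀ {α : Type _} [Fintype α] (q : α → Prop) [DecidablePred q],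
      (Finset.univ.filter q).card = Nat.card {x // q x} := fun q _ => by
    rw [Nat.card_eq_fintype_card, Fintype.card_subtype]
  rw [cnt, cnt] at e
  have hev : Even (Nat.card {T : {T : Subgroup P // T.index = 2} //
      IsCyclic T.1 ∨ (MC T.1 ∧ a + 2 < n)}) := by
    have h1 := even_cyclic_maximal hP (by omega) hnc hmc
    by_cases h2 : a + 2 < n
    · have h4 := even_mc_maximal hP (by omega) hnc hmc
      have hdis : ∀ T : {T : Subgroup P // T.index = 2}, IsCyclic T.1 → ¬ MC T.1 := fun T hc hm => hm.1 hc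
      have := card_split_pred (fun T : {T : {T : Subgroup P // T.index = 2} //
        IsCyclic T.1 ∨ (MC T.1 ∧ a + 2 < n)} => IsCyclic T.1.1)
      rw [this]
      refine Even.add ?_ ?_
      · refine (Nat.card_congr (Equiv.subtypeSubtypeEquivSubtype fun hx => Or.inl hx)).symm ▸ h1
      · rw [Nat.card_congr ((Equiv.subtypeSubtypeEquivSubtypeInter _
          fun T : {T : Subgroup P // T.index = 2} => ¬ IsCyclic T.1).trans
          (Equiv.subtypeEquivRight (q := fun T => MC T.1) fun T =>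
            ⟨fun h => (h.1.resolve_left h.2).1, fun h => ⟨Or.inr ⟨h, h2⟩, h.1⟩⟩))]
        exact h4
    · rw [show Nat.card {T : {T : Subgroup P // T.index = 2} //
          IsCyclic T.1 ∨ (MC T.1 ∧ a + 2 < n)} =
        Nat.card {T : {T : Subgroup P // T.index = 2} // IsCyclic T.1} from
        Nat.card_congr (Equiv.subtypeEquivRight fun T =>
          ⟨fun h => h.resolve_right fun h' => h2 h'.2, Or.inl⟩)]
      exact h1
  have hs := card_split_pred (fun T : {T : Subgroup P // T.index = 2} =>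
    IsCyclic T.1 ∨ (MC T.1 ∧ a + 2 < n))
  rw [hs] at hX
  push_cast at hX e
  obtain ⟨k, hk⟩ := hev
  rw [hk] at hX e
  push_cast at hX e
  generalize (Nat.card {H : Subgroup P // Nat.card H = 2 ^ a} : ZMod (2 ^ 2)) = N at e ⊢
  generalize (k : ZMod (2 ^ 2)) = K at e hX
  generalize (Nat.card {T : {T : Subgroup P // T.index = 2} //
    ¬ (IsCyclic T.1 ∨ (MC T.1 ∧ a + 2 < n))} : ZMod (2 ^ 2)) = B at e hX
  revert e hX
  revert N K B
  decide

end CfsgLib.FGS.KulakoffTwo
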