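import Cfsg.Agent.Lib.PGroup.Basic
import Cfsg.Agent.Lib.OddLocal.Puig

/-!
Derived length of p-groups: permutation bound and linear bound.
-/

set_option autoImplicit false

open scoped commutatorElement

namespace CfsgLib.FGS.LinearPLength

variable {P : Type*} [Group P]

/-- If `D_i(P) ≤ Q` and the index of `St` in the p-group `Q` divides `p ^ k`, then
`D_{i+k}(P) ≤ St`. -/
theorem derivedSeries_le_of_relIndex [Finite P] {p : ℕ} [hp : Fact p.Prime] (hP : IsPGroup p P) :
    ∀ (k i : ℕ) (Q St : Subgroup P), derivedSeries P i ≤ Q → St ≤ Q →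
      St.relIndex Q ∣ p ^ k → derivedSeries P (i + k) ≤ St := by
  intro k
  induction k with
  | zero =>
    intro i Q St hi _ h
    rw [pow_zero, Nat.dvd_one, Subgroup.relIndex_eq_one] at h
    exact hi.trans h
  | succ k ih =>
    intro i Q St hi hle h
    by_cases h1 : Q ≤ St
    · exact ((derivedSeries_antitone P (Nat.le_add_right i _)).trans hi).trans h1
    · have hne : St.subgroupOf Q ≠ ⊤ := fun h' => h1 (Subgroup.subgroupOf_eq_top.1 h')
      obtain ⟨M', hM', hSM⟩ := (eq_top_or_exists_le_coatom (St.subgroupOf Q)).resolve_left hne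
      have hQp : IsPGroup p ↥Q := hP.to_subgroup Q
      set M : Subgroup P := M'.map Q.subtype with hM
      have hMQ : M ≤ Q := Subgroup.map_subtype_le M'
      have hStM : St ≤ M := by
        intro x hx
        exact ⟨⟨x, hle hx⟩, hSM hx, rfl⟩
      have hMsub : M.subgroupOf Q = M' := by
        rw [hM, Subgroup.subgroupOf, Subgroup.comap_map_eq_self_of_injective Q.subtype_injective]
      have hidx : M.relIndex Q = p := by
        rw [Subgroup.relIndex, hMsub]
        exact CfsgLib.PGroup.index_of_isCoatom hQp hM'
      have hD : derivedSeries P (i + 1) ≤ M := by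
        rw [derivedSeries_succ]
        refine (Subgroup.commutator_mono hi hi).trans ?_
        rw [← Q.map_subtype_commutator]
        exact Subgroup.map_mono (CfsgLib.PGroup.commutator_le_of_isCoatom hQp hM')
      have hdvd : St.relIndex M ∣ p ^ k := by
        have hmul := Subgroup.relIndex_mul_relIndex St M Q hStM hMQ
        rw [← hmul, hidx, pow_succ] at h
        exact (Nat.mul_dvd_mul_iff_right hp.out.pos).1 h
      have := ih (i + 1) M St hD hStM hdvd
      rwa [show i + (k + 1) = i + 1 + k by ring]

/-- A subgroup of index at most `n` of a p-group contains the `⌊log_p n⌋`-th derived subgroup. -/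
theorem derivedSeries_le_of_index_le [Finite P] {p : ℕ} [hp : Fact p.Prime] (hP : IsPGroup p P)
    {n : ℕ} (St : Subgroup P) (hn : St.index ≤ n) :
    derivedSeries P (Nat.log p n) ≤ St := by
  obtain ⟨m, hm⟩ := hP.index St
  have hmn : m ≤ Nat.log p n := Nat.le_log_of_pow_le hp.out.one_lt (hm ▸ hn)
  have := derivedSeries_le_of_relIndex hP (Nat.log p n) 0 ⊤ St le_top le_top
    (by rw [Subgroup.relIndex_top_right, hm]; exact pow_dvd_pow p hmn)
  simpa using this

variable {K V : Type*} [Field K] [AddCommGroup V] [Module K V]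

theorem inv_apply_apply (f : P →* Module.End K V) (g : P) (v : V) : f g⁻¹ (f g v) = v := by
  rw [← Module.End.mul_apply, ← map_mul, inv_mul_cancel, map_one, Module.End.one_apply]

theorem apply_inv_apply (f : P →* Module.End K V) (g : P) (v : V) : f g (f g⁻¹ v) = v := by
  rw [← Module.End.mul_apply, ← map_mul, mul_inv_cancel, map_one, Module.End.one_apply]

/-- The vectors fixed modulo `W` by all elements of `H`. -/
def fixedMod (f : P →* Module.End K V) (H : Subgroup P) (W : Submodule K V) : Submodule K V where
  carrier := {v | ∀ g ∈ H, f g v - v ∈ W}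
  add_mem' := fun {a b} ha hb g hg => by
    have : f g (a + b) - (a + b) = (f g a - a) + (f g b - b) := by rw [map_add]; abel
    rw [this]; exact W.add_mem (ha g hg) (hb g hg)
  zero_mem' := fun g _ => by simp
  smul_mem' := fun c v hv g hg => by
    rw [map_smul, ← smul_sub]; exact W.smul_mem c (hv g hg)

theorem mem_fixedMod {f : P →* Module.End K V} {H : Subgroup P} {W : Submodule K V} {v : V} :
    v ∈ fixedMod f H W ↔ ∀ g ∈ H, f g v - v ∈ W := Iff.rfl

/-- In characteristic `p`, a p-group fixes a vector outside any proper invariant subspace,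
modulo that subspace. -/
theorem exists_fixedMod {p : ℕ} [hp : Fact p.Prime] [CharP K p] [Finite P] (hP : IsPGroup p P)
    (f : P →* Module.End K V) (W : Submodule K V) (hW : ∀ g, ∀ v ∈ W, f g v ∈ W) (hWtop : W ≠ ⊤) :
    ∀ H : Subgroup P, ∃ v ∉ W, v ∈ fixedMod f H W := by
  intro H
  induction hc : Nat.card H using Nat.strong_induction_on generalizing H with
  | _ N ih =>
    obtain ⟨v₀, hv₀⟩ : ∃ v, v ∉ W := by
      by_contra h
      push Not at h
      exact hWtop (Submodule.eq_top_iff'.2 h)
    by_cases hH : H = ⊥
    · refine ⟨v₀, hv₀, fun g hg => ?_⟩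
      rw [hH, Subgroup.mem_bot] at hg
      subst hg
      simp
    · have hne : (⊥ : Subgroup H) ≠ ⊤ := fun h => hH (by
        have := congrArg (Subgroup.map H.subtype) h
        rw [Subgroup.map_bot, ← MonoidHom.range_eq_map, H.range_subtype] at this
        exact this.symm)
      obtain ⟨M', hM', -⟩ := (eq_top_or_exists_le_coatom (⊥ : Subgroup H)).resolve_left hne
      have hHp : IsPGroup p ↥H := hP.to_subgroup H
      have hM'n := CfsgLib.PGroup.normal_of_isCoatom hHp hM'
      obtain ⟨g, hg⟩ : ∃ g : H, g ∉ M' := by
        by_contra h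
        push Not at h
        exact hM'.1 (eq_top_iff.2 fun x _ => h x)
      have hcard : Nat.card (M'.map H.subtype) < N := by
        rw [Subgroup.card_map_of_injective H.subtype_injective, ← hc]
        exact lt_of_le_of_ne (Subgroup.card_le_card_group M')
          fun h => hM'.1 (Subgroup.eq_top_of_card_eq M' h)
      obtain ⟨v₁, hv₁, hv₁M⟩ := ih _ hcard _ rfl
      have hinv : ∀ v ∈ fixedMod f (M'.map H.subtype) W,
          f (g : P) v ∈ fixedMod f (M'.map H.subtype) W := by
        intro v hv m hm
        obtain ⟨m', hm', rfl⟩ := hm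
        have hc' : (g : P)⁻¹ * (m' : P) * g ∈ M'.map H.subtype :=
          ⟨g⁻¹ * m' * g, by simpa using hM'n.conj_mem m' hm' g⁻¹, by simp⟩
        have h2 := hW g _ (hv _ hc')
        rw [map_sub] at h2
        convert h2 using 2
        rw [← Module.End.mul_apply, ← Module.End.mul_apply, ← map_mul, ← map_mul]
        simp [mul_assoc]
      set T : Module.End K V := f (g : P) - 1 with hT
      have hTinv : ∀ k, (T ^ k) v₁ ∈ fixedMod f (M'.map H.subtype) W := by
        intro k
        induction k with
        | zero => simpa using hv₁M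
        | succ k ihk =>
          rw [pow_succ', Module.End.mul_apply, hT, LinearMap.sub_apply, Module.End.one_apply]
          exact Submodule.sub_mem _ (hinv _ ihk) ihk
      have hTp : (T ^ p) v₁ ∈ W := by
        rcases subsingleton_or_nontrivial V with hs | hs
        · rw [Subsingleton.elim ((T ^ p) v₁) 0]; exact W.zero_mem
        have : CharP (Module.End K V) p :=
          charP_of_injective_algebraMap (algebraMap K (Module.End K V)).injective p
        have hgp : (g : P) ^ p ∈ M'.map H.subtype :=
          ⟨g ^ p, CfsgLib.PGroup.pow_mem_of_isCoatom hHp hM' g, by simp⟩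
        rw [hT, sub_pow_char_of_commute (p := p) (Commute.one_right _), one_pow, ← map_pow,
          LinearMap.sub_apply, Module.End.one_apply]
        exact hv₁M _ hgp
      classical
      have hex : ∃ k, (T ^ k) v₁ ∈ W := ⟨p, hTp⟩
      obtain ⟨k, hk⟩ : ∃ k, Nat.find hex = k + 1 := by
        rcases h : Nat.find hex with _ | k
        · have := Nat.find_spec hex
          rw [h] at this
          exact absurd (by simpa using this) hv₁
        · exact ⟨k, rfl⟩
      refine ⟨(T ^ k) v₁, Nat.find_min hex (by omega), ?_⟩
      set v := (T ^ k) v₁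
      have hvg : f (g : P) v - v ∈ W := by
        have := Nat.find_spec hex
        rwa [hk, pow_succ', Module.End.mul_apply, hT, LinearMap.sub_apply, Module.End.one_apply]
          at this
      let S : Subgroup H :=
        { carrier := {x | f (x : P) v - v ∈ W}
          one_mem' := by simp
          mul_mem' := fun {a b} ha hb => by
            have : f ((a * b : H) : P) v - v = f (a : P) (f (b : P) v - v) + (f (a : P) v - v) := by
              rw [Subgroup.coe_mul, map_mul, Module.End.mul_apply, map_sub]; abel
            show _ ∈ W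
            rw [this]
            exact W.add_mem (hW _ _ hb) ha
          inv_mem' := fun {a} ha => by
            have : f ((a⁻¹ : H) : P) v - v = -(f ((a : P)⁻¹) (f (a : P) v - v)) := by
              rw [Subgroup.coe_inv, map_sub, inv_apply_apply]; abel
            show _ ∈ W
            rw [this]
            exact W.neg_mem (hW _ _ ha) }
      have hMS : M' ≤ S := fun x hx => hTinv k _ ⟨x, hx, rfl⟩
      have hStop : S = ⊤ := hM'.2 S (lt_of_le_of_ne hMS fun h => hg (h ▸ (show g ∈ S from hvg)))
      intro x hx
      have : (⟨x, hx⟩ : H) ∈ S := hStop ▸ Subgroup.mem_top _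
      exact this

/-- The socle series of a p-group representation in characteristic `p`. -/
def socle (f : P →* Module.End K V) : ℕ → Submodule K V
  | 0 => ⊥
  | j + 1 => fixedMod f ⊤ (socle f j)

theorem socle_inv (f : P →* Module.End K V) :
    ∀ j, ∀ g, ∀ v ∈ socle f j, f g v ∈ socle f j := by
  intro j
  induction j with
  | zero => intro g v hv; simp_all [socle]
  | succ j ih =>
    intro g v hv h _
    have h1 : f g (f (g⁻¹ * h * g) v - v) ∈ socle f j := ih g _ (hv _ (Subgroup.mem_top _))
    rw [map_sub] at h1
    convert h1 using 2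
    rw [← Module.End.mul_apply, ← Module.End.mul_apply, ← map_mul, ← map_mul]
    simp [mul_assoc]

theorem socle_le_succ (f : P →* Module.End K V) (j : ℕ) : socle f j ≤ socle f (j + 1) :=
  fun v hv g _ => Submodule.sub_mem _ (socle_inv f j g v hv) hv

theorem socle_finrank {p : ℕ} [Fact p.Prime] [CharP K p] [Finite P] (hP : IsPGroup p P)
    [FiniteDimensional K V] (f : P →* Module.End K V) :
    ∀ j, socle f j = ⊤ ∨ j ≤ Module.finrank K (socle f j) := by
  intro j
  induction j with
  | zero => exact Or.inr (Nat.zero_le _)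
  | succ j ih =>
    by_cases htop : socle f j = ⊤
    · exact Or.inl (eq_top_iff.2 (htop ▸ socle_le_succ f j))
    · obtain ⟨v, hv, hv'⟩ := exists_fixedMod hP f (socle f j) (socle_inv f j) htop ⊤
      have hlt : socle f j < socle f (j + 1) :=
        lt_of_le_of_ne (socle_le_succ f j) fun h => hv (by rw [h]; exact hv')
      have := Submodule.finrank_lt_finrank_of_lt hlt
      rcases ih with h | h
      · exact absurd h htop
      · exact Or.inr (by omega)

theorem socle_eq_top {p : ℕ} [Fact p.Prime] [CharP K p] [Finite P] (hP : IsPGroup p P)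
    [FiniteDimensional K V] (f : P →* Module.End K V) {m : ℕ} (hm : Module.finrank K V ≤ m) :
    socle f m = ⊤ := by
  rcases socle_finrank hP f m with h | h
  · exact h
  · exact Submodule.eq_top_of_finrank_eq (le_antisymm (Submodule.finrank_le _) (hm.trans h))

/-- Elements lowering the socle series by `k`. -/
def lowerBy (f : P →* Module.End K V) (k : ℕ) : Subgroup P where
  carrier := {g | ∀ j, ∀ v ∈ socle f (j + k), f g v - v ∈ socle f j}
  one_mem' := fun j v _ => by simp
  mul_mem' := fun {a b} ha hb j v hv => by
    have : f (a * b) v - v = f a (f b v - v) + (f a v - v) := by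
      rw [map_mul, Module.End.mul_apply, map_sub]; abel
    rw [this]
    exact Submodule.add_mem _ (socle_inv f j a _ (hb j v hv)) (ha j v hv)
  inv_mem' := fun {a} ha j v hv => by
    have : f a⁻¹ v - v = -(f a⁻¹ (f a v - v)) := by rw [map_sub, inv_apply_apply]; abel
    rw [this]
    exact Submodule.neg_mem _ (socle_inv f j _ _ (ha j v hv))

theorem commutator_lowerBy (f : P →* Module.End K V) (a b : ℕ) :
    ⁅lowerBy f a, lowerBy f b⁆ ≤ lowerBy f (a + b) := by
  rw [Subgroup.commutator_le]
  intro g hg h hh j v hv
  set w := f (h * g)⁻¹ v with hw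
  have hwm : w ∈ socle f (j + (a + b)) := socle_inv f _ _ v hv
  have e1 : f g (f h w - w) - (f h w - w) ∈ socle f j :=
    hg j _ (hh (j + a) w (by rwa [add_assoc]))
  have e2 : f h (f g w - w) - (f g w - w) ∈ socle f j :=
    hh j _ (hg (j + b) w (by rwa [add_assoc, add_comm b a]))
  have hv' : v = f h (f g w) := by
    rw [hw, ← Module.End.mul_apply, ← map_mul, apply_inv_apply]
  have hc : f ⁅g, h⁆ v = f g (f h w) := by
    have hgh : ⁅g, h⁆ = g * h * (h * g)⁻¹ := by group
    rw [hgh, map_mul, map_mul, Module.End.mul_apply, Module.End.mul_apply, ← hw]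
  rw [hc, hv']
  convert Submodule.sub_mem _ e1 e2 using 1
  rw [map_sub, map_sub]
  abel

theorem derivedSeries_le_lowerBy (f : P →* Module.End K V) :
    ∀ i, derivedSeries P i ≤ lowerBy f (2 ^ i) := by
  intro i
  induction i with
  | zero => exact fun g _ j v hv => hv g (Subgroup.mem_top g)
  | succ i ih =>
    rw [derivedSeries_succ, pow_succ, mul_two]
    exact (Subgroup.commutator_mono ih ih).trans (commutator_lowerBy f _ _)

theorem derived_length_char_eq {p : ℕ} [Fact p.Prime] [CharP K p] [Finite P] (hP : IsPGroup p P)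
    [FiniteDimensional K V] (f : P →* Module.End K V) (hf : Function.Injective f) {n : ℕ}
    (hn : Module.finrank K V ≤ n) : derivedSeries P (Nat.log 2 n + 1) = ⊥ := by
  rw [eq_bot_iff]
  intro g hg
  have h2 : n ≤ 2 ^ (Nat.log 2 n + 1) := (Nat.lt_pow_succ_log_self one_lt_two n).le
  have h := derivedSeries_le_lowerBy f _ hg 0
  rw [zero_add] at h
  rw [Subgroup.mem_bot]
  refine hf (LinearMap.ext fun v => ?_)
  have := h v (by rw [socle_eq_top hP f (hn.trans h2)]; trivial)
  simpa [socle, sub_eq_zero] using this

theorem derived_length_char_ne {p : ℕ} [hp : Fact p.Prime] [IsAlgClosed K] (hpK : (p : K) ≠ 0)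
    [Finite P] (hP : IsPGroup p P) [FiniteDimensional K V] (f : P →* Module.End K V)
    (hf : Function.Injective f) {n : ℕ} (hn : Module.finrank K V ≤ n) :
    derivedSeries P (Nat.log p n + 1) = ⊥ := by
  have := hP.isNilpotent
  obtain ⟨A, hAn, hAc, hAC⟩ :=
    CfsgLib.OddLocal.exists_selfCentralizing_abelian_normal (G := P)
  let φ : A → Module.End K V := fun a => f a
  have hcomm : ∀ a b : A, Commute (φ a) (φ b) := fun a b => by
    show f a * f b = f b * f a
    rw [← map_mul, ← map_mul]
    exact congrArg f (congrArg Subtype.val (hAc.is_comm.comm a b))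
  obtain ⟨m, hm⟩ := IsPGroup.iff_card.1 hP
  have hNK : ((Nat.card P : ℕ) : K) ≠ 0 := by rw [hm, Nat.cast_pow]; exact pow_ne_zero _ hpK
  have hsemi : ∀ a : A, (φ a).IsSemisimple := by
    intro a
    refine Module.End.isSemisimple_of_squarefree_aeval_eq_zero
      (p := Polynomial.X ^ Nat.card P - Polynomial.C 1)
      (Polynomial.separable_X_pow_sub_C _ hNK one_ne_zero).squarefree ?_
    rw [map_sub, map_pow, Polynomial.aeval_X, Polynomial.aeval_C, map_one, sub_eq_zero, ← map_pow,
      pow_card_eq_one', map_one]
  let E : (A → K) → Submodule K V := fun μ => ⨅ a, (φ a).eigenspace (μ a)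
  have heig : ∀ μ : A → K, (⨅ a, (φ a).maxGenEigenspace (μ a)) = E μ := fun μ =>
    iInf_congr fun a =>
      (Module.End.isFinitelySemisimple_iff_isSemisimple.mpr (hsemi a)).maxGenEigenspace_eq_eigenspace _
  have htop : ⨆ μ, E μ = ⊤ := by
    simp only [← heig]
    exact Module.End.iSup_iInf_maxGenEigenspace_eq_top_of_iSup_maxGenEigenspace_eq_top_of_commute φ
      (fun a b _ => hcomm a b) fun a => Module.End.iSup_maxGenEigenspace_eq_top (φ a)
  have hindep : iSupIndep E := by
    have h := Module.End.independent_iInf_maxGenEigenspace_of_forall_mapsTo φ (fun i j c =>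
      Module.End.mapsTo_maxGenEigenspace_of_comm (hcomm j i) c)
    simpa only [heig] using h
  haveI : Fintype {μ // E μ ≠ ⊥} := hindep.fintypeNeBotOfFiniteDimensional
  have hWcard : Nat.card {μ // E μ ≠ ⊥} ≤ n := by
    rw [Nat.card_eq_fintype_card]
    exact hindep.subtype_ne_bot_le_finrank.trans hn
  -- conjugation
  let cj : P → A → A := fun g a => ⟨g⁻¹ * a * g, by simpa using hAn.conj_mem a a.2 g⁻¹⟩
  have hmove : ∀ (g : P) (μ : A → K) (v : V), v ∈ E μ → f g v ∈ E (μ ∘ cj g) := by
    intro g μ v hv
    rw [Submodule.mem_iInf] at hv ⊢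
    intro a
    rw [Module.End.mem_eigenspace_iff]
    have h1 := Module.End.mem_eigenspace_iff.1 (hv (cj g a))
    show f a (f g v) = μ (cj g a) • f g v
    rw [← map_smul, ← h1]
    show f a (f g v) = f g (f (g⁻¹ * a * g) v)
    rw [← Module.End.mul_apply, ← Module.End.mul_apply, ← map_mul, ← map_mul]
    congr 2
    group
  have hmove' : ∀ (g : P) (μ : A → K), E μ ≠ ⊥ → E (μ ∘ cj g) ≠ ⊥ := by
    intro g μ hμ hbot
    obtain ⟨v, hv, hv0⟩ := Submodule.exists_mem_ne_zero_of_ne_bot hμ
    have h1 := hmove g μ v hv
    rw [hbot, Submodule.mem_bot] at h1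
    exact hv0 (by rw [← inv_apply_apply f g v, h1, map_zero])
  have hcjmul : ∀ (g h : P) (a : A), cj (g * h) a = cj h (cj g a) := fun g h a =>
    Subtype.ext (by simp only [cj]; group)
  have hcj1 : ∀ a : A, cj 1 a = a := fun a => Subtype.ext (by simp [cj])
  let St : (A → K) → Subgroup P := fun μ =>
    { carrier := {g | ∀ a, μ (cj g a) = μ a}
      one_mem' := fun a => by rw [hcj1]
      mul_mem' := fun {g h} hg hh a => by rw [hcjmul, hh, hg]
      inv_mem' := fun {g} hg a => by
        rw [← hg (cj g⁻¹ a), ← hcjmul, inv_mul_cancel, hcj1] }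
  have hidx : ∀ μ, E μ ≠ ⊥ → (St μ).index ≤ n := by
    intro μ hμ
    refine le_trans ?_ hWcard
    rw [Subgroup.index_eq_card]
    refine Nat.card_le_card_of_injective (fun q : P ⧸ St μ =>
      Quotient.liftOn' q (fun g => (⟨μ ∘ cj g, hmove' g μ hμ⟩ : {μ // E μ ≠ ⊥}))
        (fun x y hxy => ?_)) ?_
    · rw [QuotientGroup.leftRel_apply] at hxy
      refine Subtype.ext (funext fun a => ?_)
      show μ (cj x a) = μ (cj y a)
      rw [show cj y a = cj (x⁻¹ * y) (cj x a) by rw [← hcjmul, mul_inv_cancel_left]]
      exact (hxy (cj x a)).symm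
    · intro q₁ q₂
      induction q₁ using Quotient.inductionOn' with
      | h x =>
        induction q₂ using Quotient.inductionOn' with
        | h y =>
          intro h
          refine Quotient.sound' (QuotientGroup.leftRel_apply.2 fun a => ?_)
          have h' := congrFun (congrArg Subtype.val h) (cj x⁻¹ a)
          simp only [Quotient.liftOn'_mk'', Function.comp_apply] at h'
          rw [← hcjmul, ← hcjmul, inv_mul_cancel, hcj1] at h'
          exact h'.symm
  rw [eq_bot_iff, derivedSeries_succ]
  have hDA : derivedSeries P (Nat.log p n) ≤ A := by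
    intro g hg
    rw [← hAC, Subgroup.mem_centralizer_iff]
    intro a ha
    have key : f (cj g ⟨a, ha⟩) = f a := by
      refine LinearMap.ext fun v => ?_
      have hv : v ∈ ⨆ μ, E μ := htop ▸ Submodule.mem_top
      induction hv using Submodule.iSup_induction' with
      | mem μ w hw =>
        rcases eq_or_ne (E μ) ⊥ with h | h
        · rw [h, Submodule.mem_bot] at hw; simp [hw]
        · have hst : g ∈ St μ := derivedSeries_le_of_index_le hP (St μ) (hidx μ h) hg
          rw [Submodule.mem_iInf] at hw
          show φ (cj g ⟨a, ha⟩) w = φ ⟨a, ha⟩ w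
          rw [Module.End.mem_eigenspace_iff.1 (hw _), Module.End.mem_eigenspace_iff.1 (hw _),
            hst ⟨a, ha⟩]
      | zero => simp
      | add x y _ _ hx hy => simp [hx, hy]
    have h3 : g⁻¹ * a * g = a := hf key
    calc a * g = g * (g⁻¹ * a * g) := by group
      _ = g * a := by rw [h3]
  refine (Subgroup.commutator_mono hDA hDA).trans ?_
  exact (Subgroup.commutator_eq_bot_iff_le_centralizer.2 hAC.ge).le

end CfsgLib.FGS.LinearPLength
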