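import Mathlib

/-!
# Faithful irreducible modules of `(3 × 3) : D₈` in characteristic two

The module is the sum of the fixed spaces of two lines of the group of order 9 exchanged by the
dihedral group, each of dimension two.
-/

set_option autoImplicit false

namespace CfsgLib.FGS.NineDihedral

open Subgroup

variable {S : Type*} [Group S] [Finite S] {M : Type*} [AddCommGroup M] [Module (ZMod 2) M] [Finite M]

omit [Finite M] in
theorem add_self_eq_zero' (m : M) : m + m = 0 := by
  rw [← two_smul (ZMod 2) m, show (2 : ZMod 2) = 0 from by decide, zero_smul]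

/-- The data: an elementary group of order 9 acted on faithfully by `⟨r, t⟩ ≅ D₈`, with `z = r²`. -/
structure Frame (A : Subgroup S) (f i r t z : S) : Prop where
  hf : f ∈ A
  hi : i ∈ A
  f1 : f ≠ 1
  f3 : f * f * f = 1
  i3 : i * i * i = 1
  span : ∀ a ∈ A, a ∈ closure ({f, i} : Set S)
  z_eq : r * r = z
  t2 : t * t = 1
  z2 : z * z = 1
  zt : z * t = t * z
  trt : t * r * t⁻¹ = r * z
  tf : t * f * t⁻¹ = f
  ti : t * i * t⁻¹ = i⁻¹
  zf : z * f * z⁻¹ = f⁻¹
  zi : z * i * z⁻¹ = i⁻¹
  rf : r * f * r⁻¹ = i ∨ r * f * r⁻¹ = i⁻¹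
  ri : r * i * r⁻¹ = f ∨ r * i * r⁻¹ = f⁻¹
  comm : f * i = i * f
  top : closure ({f, i, r, t} : Set S) = ⊤
  fixline : ∀ x ∈ A, t * x * t⁻¹ = x → x = 1 ∨ x = f ∨ x = f * f

/-- The frame attached to a reflection. -/
theorem exists_frame (A X : Subgroup S) (hA3 : ∀ a ∈ A, a * a * a = 1)
    (hAc : ∀ a ∈ A, ∀ b ∈ A, a * b = b * a) (hA9 : Nat.card A = 9) [A.Normal]
    (hfix : ∀ x ∈ X, (∀ a ∈ A, x * a * x⁻¹ = a) → x = 1) {r t z : S} (hr : r ∈ X) (ht : t ∈ X)
    (hz : r * r = z) (ht2 : t * t = 1) (hz2 : z * z = 1) (hzt : z * t = t * z)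
    (htrt : t * r * t⁻¹ = r * z) (hz1 : z ≠ 1) (ht1 : t ≠ 1) (htz : t ≠ z)
    (hXgen : closure ({r, t} : Set S) = X) (hAX : A ⊔ X = ⊤) :
    ∃ f i : S, Frame A f i r t z := by
  have hzX : z ∈ X := hz ▸ mul_mem hr hr
  have hconj : ∀ x : S, ∀ a ∈ A, x * a * x⁻¹ ∈ A := fun x a ha => Normal.conj_mem inferInstance a ha x
  have hinv : ∀ a ∈ A, a⁻¹ = a * a := fun a ha => by
    rw [inv_eq_iff_mul_eq_one, ← mul_assoc]; exact hA3 a ha
  have hne_inv : ∀ a ∈ A, a ≠ 1 → a⁻¹ ≠ a := fun a ha ha1 h => ha1 (by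
    rw [hinv a ha] at h
    simpa using h)
  -- a noncentral element of `X` does not invert `A`
  have hnotinv : ∀ x ∈ X, (∀ a ∈ A, x * a * x⁻¹ = a⁻¹) → ∀ y ∈ X, x * y = y * x := by
    intro x hx hxi y hy
    have h1 := hfix (x * y * x⁻¹ * y⁻¹) (mul_mem (mul_mem (mul_mem hx hy) (inv_mem hx)) (inv_mem hy))
      fun a ha => ?_
    · rw [mul_inv_eq_one, mul_inv_eq_iff_eq_mul] at h1
      exact h1
    have h2 : y⁻¹ * a * y ∈ A := by simpa using hconj y⁻¹ a ha
    have h3 : x⁻¹ * (y⁻¹ * a * y) * x = (y⁻¹ * a * y)⁻¹ := by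
      have := hxi _ (inv_mem h2)
      rw [inv_inv, mul_inv_eq_iff_eq_mul] at this
      rw [mul_assoc, ← this]
      group
    calc x * y * x⁻¹ * y⁻¹ * a * (x * y * x⁻¹ * y⁻¹)⁻¹
        = x * (y * (x⁻¹ * (y⁻¹ * a * y) * x) * y⁻¹) * x⁻¹ := by group
      _ = x * a⁻¹ * x⁻¹ := by rw [h3]; group
      _ = a := by rw [hxi a⁻¹ (inv_mem ha), inv_inv]
  have htc : ¬ ∀ y ∈ X, t * y = y * t := fun h => hz1 (by
    have h1 := h r hr
    rw [h1, mul_inv_cancel_right] at htrt
    simpa using htrt)
  have ht' : t⁻¹ = t := inv_eq_of_mul_eq_one_right ht2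
  have hz' : z⁻¹ = z := inv_eq_of_mul_eq_one_right hz2
  -- eigenlines of `t`
  obtain ⟨f, hf, hf1, htf⟩ : ∃ f ∈ A, f ≠ 1 ∧ t * f * t⁻¹ = f := by
    by_contra hno
    push Not at hno
    refine htc (hnotinv t ht fun a ha => ?_)
    by_contra hne
    have hta := hconj t a ha
    refine hno (a * (t * a * t⁻¹)) (mul_mem ha hta)
      (fun h => hne (eq_inv_of_mul_eq_one_right h)) ?_
    calc t * (a * (t * a * t⁻¹)) * t⁻¹ = (t * a * t⁻¹) * (t * t * a * (t * t)⁻¹) := by group
      _ = (t * a * t⁻¹) * a := by rw [ht2]; group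
      _ = _ := hAc _ hta _ ha
  obtain ⟨i, hi, hi1, hti⟩ : ∃ i ∈ A, i ≠ 1 ∧ t * i * t⁻¹ = i⁻¹ := by
    by_contra hno
    push Not at hno
    refine ht1 (hfix t ht fun a ha => ?_)
    by_contra hne
    have hta := hconj t a ha
    refine hno (a * (t * a * t⁻¹)⁻¹) (mul_mem ha (inv_mem hta))
      (fun h => hne (mul_inv_eq_one.mp h).symm) ?_
    calc t * (a * (t * a * t⁻¹)⁻¹) * t⁻¹ = (t * a * t⁻¹) * (t * t * a * (t * t)⁻¹)⁻¹ := by group
      _ = (t * a * t⁻¹) * a⁻¹ := by rw [ht2]; group
      _ = _ := by rw [mul_inv_rev, inv_inv]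
  have h3 : ∀ x ∈ A, x ≠ 1 → orderOf x = 3 := fun x hx hx1 =>
    orderOf_eq_prime (by rw [pow_succ, pow_two]; exact hA3 x hx) hx1
  -- a proper subgroup of `A` containing `d ≠ 1` consists of `1, d, d⁻¹`
  have hline : ∀ (P : Subgroup S), P ≤ A → ∀ d ∈ P, d ≠ 1 → (∃ c ∈ A, c ∉ P) → ∀ x ∈ P,
      x = 1 ∨ x = d ∨ x = d⁻¹ := by
    intro P hPA d hd hd1 ⟨c, hc, hcP⟩ x hx
    obtain ⟨j, -, hj⟩ := (Nat.dvd_prime_pow Nat.prime_three).mp
      (show Nat.card P ∣ 3 ^ 2 by
        rw [show (3 : ℕ) ^ 2 = Nat.card A by rw [hA9]; norm_num]; exact card_dvd_of_le hPA)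
    have hj2 : j ≤ 1 := by
      by_contra h
      have h9 : Nat.card A ≤ Nat.card P := by
        rw [hA9, hj]
        exact le_trans (by norm_num) (Nat.pow_le_pow_right (by norm_num) (by omega : 2 ≤ j))
      exact hcP ((eq_of_le_of_card_ge hPA h9).ge hc)
    have hfz : zpowers d = P := eq_of_le_of_card_ge (zpowers_le.mpr hd) (by
      rw [hj, Nat.card_zpowers, h3 d (hPA hd) hd1]
      exact le_trans (Nat.pow_le_pow_right (by norm_num) hj2) (by norm_num))
    obtain ⟨n, hn⟩ := mem_zpowers_iff.mp (hfz ▸ hx : x ∈ zpowers d)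
    rw [← zpow_mod_orderOf, h3 d (hPA hd) hd1] at hn
    have h1 : n % ((3 : ℕ) : ℤ) = 0 ∨ n % ((3 : ℕ) : ℤ) = 1 ∨ n % ((3 : ℕ) : ℤ) = 2 := by omega
    rcases h1 with h | h | h <;> rw [h] at hn
    · exact Or.inl (by rw [← hn, zpow_zero])
    · exact Or.inr (Or.inl (by rw [← hn, zpow_one]))
    · exact Or.inr (Or.inr (by rw [← hn, hinv d (hPA hd), zpow_two]))
  let F : Subgroup S :=
    { carrier := {x | x ∈ A ∧ t * x * t⁻¹ = x}
      one_mem' := ⟨one_mem A, by group⟩
      mul_mem' := fun {a b} ha hb => ⟨mul_mem ha.1 hb.1, by rw [← conj_mul, ha.2, hb.2]⟩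
      inv_mem' := fun {a} ha => ⟨inv_mem ha.1, by rw [← conj_inv, ha.2]⟩ }
  let I : Subgroup S :=
    { carrier := {x | x ∈ A ∧ t * x * t⁻¹ = x⁻¹}
      one_mem' := ⟨one_mem A, by group⟩
      mul_mem' := fun {a b} ha hb => ⟨mul_mem ha.1 hb.1, by
        rw [← conj_mul, ha.2, hb.2, mul_inv_rev, hAc _ (inv_mem ha.1) _ (inv_mem hb.1)]⟩
      inv_mem' := fun {a} ha => ⟨inv_mem ha.1, by rw [← conj_inv, ha.2]⟩ }
  have hFline := hline F (fun x hx => hx.1) f ⟨hf, htf⟩ hf1
    ⟨i, hi, fun h => hne_inv i hi hi1 (hti.symm.trans h.2)⟩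
  have hIline := hline I (fun x hx => hx.1) i ⟨hi, hti⟩ hi1
    ⟨f, hf, fun h => hne_inv f hf hf1 (h.2.symm.trans htf)⟩
  have hspan : ∀ a ∈ A, a ∈ closure ({f, i} : Set S) := by
    intro a ha
    have hta := hconj t a ha
    set u := a * (t * a * t⁻¹)
    set w := a * (t * a * t⁻¹)⁻¹
    have hu : u ∈ F := ⟨mul_mem ha hta, by
      calc t * (a * (t * a * t⁻¹)) * t⁻¹ = (t * a * t⁻¹) * (t * t * a * (t * t)⁻¹) := by group
        _ = (t * a * t⁻¹) * a := by rw [ht2]; group
        _ = _ := hAc _ hta _ ha⟩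
    have hw : w ∈ I := ⟨mul_mem ha (inv_mem hta), by
      calc t * (a * (t * a * t⁻¹)⁻¹) * t⁻¹ = (t * a * t⁻¹) * (t * t * a * (t * t)⁻¹)⁻¹ := by group
        _ = (t * a * t⁻¹) * a⁻¹ := by rw [ht2]; group
        _ = _ := by rw [mul_inv_rev, inv_inv]⟩
    have huw : u * w = a * a := by
      show a * (t * a * t⁻¹) * (a * (t * a * t⁻¹)⁻¹) = a * a
      rw [hAc a ha _ (inv_mem hta), mul_assoc, ← mul_assoc (t * a * t⁻¹), mul_inv_cancel, one_mul]
    have ha' : a = (u * w) * (u * w) := by
      rw [huw, show a * a * (a * a) = a * a * a * a by group, hA3 a ha, one_mul]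
    have hmemF : ∀ x, (x = 1 ∨ x = f ∨ x = f⁻¹) → x ∈ closure ({f, i} : Set S) := fun x h => by
      rcases h with rfl | rfl | rfl
      exacts [one_mem _, Subgroup.subset_closure (Or.inl rfl),
        inv_mem (Subgroup.subset_closure (Or.inl rfl))]
    have hmemI : ∀ x, (x = 1 ∨ x = i ∨ x = i⁻¹) → x ∈ closure ({f, i} : Set S) := fun x h => by
      rcases h with rfl | rfl | rfl
      exacts [one_mem _, Subgroup.subset_closure (Or.inr rfl),
        inv_mem (Subgroup.subset_closure (Or.inr rfl))]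
    rw [ha']
    exact mul_mem (mul_mem (hmemF u (hFline u hu)) (hmemI w (hIline w hw)))
      (mul_mem (hmemF u (hFline u hu)) (hmemI w (hIline w hw)))
  have hext : ∀ x y : S, x * f * x⁻¹ = y * f * y⁻¹ → x * i * x⁻¹ = y * i * y⁻¹ →
      ∀ a ∈ A, x * a * x⁻¹ = y * a * y⁻¹ := by
    intro x y h1 h2 a ha
    have := hspan a ha
    clear ha
    induction this using closure_induction with
    | mem c hc => rcases hc with rfl | rfl <;> assumption
    | one => simp
    | mul c d _ _ ihc ihd => rw [← conj_mul, ← conj_mul, ihc, ihd]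
    | inv c _ ihc => rw [← conj_inv, ← conj_inv, ihc]
  -- `z` inverts both lines
  have hzF : ∀ x ∈ F, z * x * z⁻¹ ∈ F := fun x hx => ⟨hconj z x hx.1, by
    rw [show t * (z * x * z⁻¹) * t⁻¹ = (t * z) * x * (t * z)⁻¹ by group, ← hzt,
      show z * t * x * (z * t)⁻¹ = z * (t * x * t⁻¹) * z⁻¹ by group, hx.2]⟩
  have hzI : ∀ x ∈ I, z * x * z⁻¹ ∈ I := fun x hx => ⟨hconj z x hx.1, by
    rw [show t * (z * x * z⁻¹) * t⁻¹ = (t * z) * x * (t * z)⁻¹ by group, ← hzt,
      show z * t * x * (z * t)⁻¹ = z * (t * x * t⁻¹) * z⁻¹ by group, hx.2, conj_inv]⟩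
  have hzf : z * f * z⁻¹ = f ∨ z * f * z⁻¹ = f⁻¹ := by
    rcases hFline _ (hzF f ⟨hf, htf⟩) with h | h | h
    · exact absurd (conj_eq_one_iff.mp h) hf1
    · exact Or.inl h
    · exact Or.inr h
  have hzi : z * i * z⁻¹ = i ∨ z * i * z⁻¹ = i⁻¹ := by
    rcases hIline _ (hzI i ⟨hi, hti⟩) with h | h | h
    · exact absurd (conj_eq_one_iff.mp h) hi1
    · exact Or.inl h
    · exact Or.inr h
  obtain ⟨hzf', hzi'⟩ : z * f * z⁻¹ = f⁻¹ ∧ z * i * z⁻¹ = i⁻¹ := by
    rcases hzf with h1 | h1 <;> rcases hzi with h2 | h2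
    · exact absurd (hfix z hzX fun a ha => by
        simpa using hext z 1 (by rw [h1]; simp) (by rw [h2]; simp) a ha) hz1
    · refine absurd ?_ htz
      have h3 := hfix (z⁻¹ * t) (mul_mem (inv_mem hzX) ht) fun a ha => by
        have := hext t z (htf.trans h1.symm) (hti.trans h2.symm) a ha
        calc z⁻¹ * t * a * (z⁻¹ * t)⁻¹ = z⁻¹ * (t * a * t⁻¹) * z := by group
          _ = a := by rw [this]; group
      exact (inv_mul_eq_one.mp h3).symm
    · refine absurd ?_ htc
      have hzt' : ∀ y ∈ X, (z * t) * y = y * (z * t) := hnotinv (z * t) (mul_mem hzX ht) fun a ha => by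
        have h3 : ∀ c : S, (z * t) * c * (z * t)⁻¹ = z * (t * c * t⁻¹) * z⁻¹ := fun c => by group
        have h4 := hext (z * t) z
        rw [h3]
        have hta := hconj t a ha
        -- both generators are inverted
        have key : ∀ c ∈ closure ({f, i} : Set S), z * (t * c * t⁻¹) * z⁻¹ = c⁻¹ := fun c hc => by
          induction hc using closure_induction with
          | mem d hd =>
            rcases hd with rfl | rfl
            · rw [htf, h1]
            · rw [hti, ← conj_inv, h2]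
          | one => group
          | mul c d hc hd ihc ihd =>
            rw [show t * (c * d) * t⁻¹ = (t * c * t⁻¹) * (t * d * t⁻¹) by group, ← conj_mul, ihc, ihd,
              mul_inv_rev]
            have hcA : ∀ e ∈ closure ({f, i} : Set S), e ∈ A := fun e he =>
              (Subgroup.closure_le A).mpr (by rintro x (rfl | rfl) <;> assumption) he
            exact hAc _ (inv_mem (hcA c hc)) _ (inv_mem (hcA d hd))
          | inv c _ ihc => rw [← conj_inv, ← conj_inv, ihc]
        exact key a (hspan a ha)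
      intro y hy
      have h6 : z * (t * y) = z * (y * t) := by
        have hzy : z * y = y * z := by
          have hy' := hy
          rw [← hXgen] at hy'
          clear hy
          induction hy' using closure_induction with
          | mem w hw =>
            rcases hw with rfl | rfl
            · rw [← hz, mul_assoc]
            · exact hzt
          | one => simp
          | mul a b _ _ iha ihb => rw [← mul_assoc, iha, mul_assoc, ihb, mul_assoc]
          | inv a _ iha => exact ((show Commute z a from iha).inv_right).eq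
        rw [← mul_assoc, hzt' y hy, ← mul_assoc, ← hzy, mul_assoc]
      exact mul_left_cancel h6
    · exact ⟨h1, h2⟩
  -- `r` exchanges the lines
  have htr : ∀ x ∈ A, t * (r * x * r⁻¹) * t⁻¹ = r * (z * (t * x * t⁻¹) * z⁻¹) * r⁻¹ := fun x _ => by
    calc t * (r * x * r⁻¹) * t⁻¹ = (t * r * t⁻¹) * (t * x * t⁻¹) * (t * r * t⁻¹)⁻¹ := by group
      _ = _ := by rw [htrt]; group
  have hrf : r * f * r⁻¹ ∈ I := ⟨hconj r f hf, by rw [htr f hf, htf, hzf', conj_inv]⟩
  have hri : r * i * r⁻¹ ∈ F := ⟨hconj r i hi, by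
    rw [htr i hi, hti, ← conj_inv, hzi', inv_inv]⟩
  refine ⟨f, i, ⟨hf, hi, hf1, hA3 f hf, hA3 i hi, hspan, hz, ht2, hz2, hzt, htrt, htf, hti, hzf',
    hzi', ?_, ?_, hAc f hf i hi, ?_, fun x hx htx => by rw [← hinv f hf]; exact hFline x ⟨hx, htx⟩⟩⟩
  · rcases hIline _ hrf with h | h | h
    · exact absurd (conj_eq_one_iff.mp h) hf1
    · exact Or.inl h
    · exact Or.inr h
  · rcases hFline _ hri with h | h | h
    · exact absurd (conj_eq_one_iff.mp h) hi1
    · exact Or.inl h
    · exact Or.inr h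
  · rw [eq_top_iff, ← hAX, ← hXgen]
    refine sup_le (fun a ha => ?_) (closure_mono ?_)
    · exact closure_mono (by intro x; simp; tauto) (hspan a ha)
    · intro x; simp; tauto

section Module

variable {A : Subgroup S} {f i r t z : S} (ρ : Representation (ZMod 2) S M)

omit [Finite M] [Finite S] in
theorem rho_mul (a b : S) (m : M) : ρ (a * b) m = ρ a (ρ b m) := by rw [map_mul]; rfl

omit [Finite M] [Finite S] in
theorem rho_one (m : M) : ρ 1 m = m := by rw [map_one]; rfl

omit [Finite M] [Finite S] in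
/-- Every element is the sum of its four line averages, so some line has fixed vectors. -/
theorem exists_line_fixed (A : Subgroup S) (hA3 : ∀ a ∈ A, a * a * a = 1) {f i : S} (hf : f ∈ A)
    (hi : i ∈ A) (hfi : f * i = i * f) (hspan : ∀ a ∈ A, a ∈ closure ({f, i} : Set S))
    (hnofix : ∀ m : M, (∀ a ∈ A, ρ a m = m) → m = 0) (hM : Nontrivial M) :
    ∃ a ∈ ({f, i, f * i, f * i * i} : Set S), ∃ m : M, m ≠ 0 ∧ ρ a m = m := by
  by_contra hno
  push Not at hno
  obtain ⟨v, hv⟩ := exists_ne (0 : M)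
  have havg : ∀ a, a * a * a = 1 → ∀ w : M, ρ a (w + ρ a w + ρ (a * a) w) = w + ρ a w + ρ (a * a) w := by
    intro a ha w
    rw [map_add, map_add, ← rho_mul, ← rho_mul, ← mul_assoc, ha, rho_one]
    abel
  have hzero : ∀ a ∈ ({f, i, f * i, f * i * i} : Set S), ∀ w : M, w + ρ a w + ρ (a * a) w = 0 := by
    intro a ha w
    by_contra hne
    refine hno a ha _ hne (havg a (hA3 a ?_) w)
    rcases ha with rfl | rfl | rfl | rfl
    exacts [hf, hi, mul_mem hf hi, mul_mem (mul_mem hf hi) hi]
  have hc : ∀ x y : S, x ∈ A → y ∈ A → ∀ w : M, ρ x (ρ y w) = ρ (x * y) w :=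
    fun x y _ _ w => (rho_mul ρ x y w).symm
  -- the four averages add up to `v` plus the average over `A`
  have h1 := hzero f (by simp) v
  have h2 := hzero i (by simp) v
  have h3 := hzero (f * i) (by simp) v
  have h4 := hzero (f * i * i) (by simp) v
  set T := v + ρ f v + ρ (f * f) v + ρ i v + ρ (f * i) v + ρ (f * f * i) v + ρ (i * i) v +
    ρ (f * i * i) v + ρ (f * f * i * i) v with hT
  have hi3 := hA3 i hi
  have hf3 := hA3 f hf
  have hC : Commute f i := hfi
  have e1 : f * i * (f * i) = f * f * i * i := by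
    rw [mul_assoc f i, ← mul_assoc i f, ← hfi]; group
  have e2 : f * i * i * (f * i * i) = f * f * i := by
    rw [show f * i * i * (f * i * i) = f * (i * i * f) * i * i by group,
      ← (hC.mul_right hC).eq, show f * (f * (i * i)) * i * i = f * f * i * (i * i * i) by group,
      hi3, mul_one]
  rw [e1] at h3
  rw [e2] at h4
  have hTfix : ∀ a ∈ A, ρ a T = T := by
    have hgen : ρ f T = T ∧ ρ i T = T := by
      constructor
      · rw [hT]
        simp only [map_add, ← rho_mul]
        rw [show f * (f * f) = 1 by rw [← mul_assoc]; exact hf3,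
          show f * (f * i) = f * f * i by group,
          show f * (f * f * i) = i by rw [show f * (f * f * i) = f * f * f * i by group, hf3, one_mul],
          show f * (f * i * i) = f * f * i * i by group,
          show f * (f * f * i * i) = i * i by
            rw [show f * (f * f * i * i) = f * f * f * (i * i) by group, hf3, one_mul],
          show f * (i * i) = f * i * i by group, rho_one]
        abel
      · rw [hT]
        simp only [map_add, ← rho_mul]
        have hif : ∀ w, i * (f * w) = f * (i * w) := fun w => by rw [← mul_assoc, ← hfi, mul_assoc]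
        rw [show i * f = f * i from hfi.symm,
          show i * (f * f) = f * f * i by rw [hif, ← hfi]; group,
          show i * (f * i) = f * i * i by rw [hif]; group,
          show i * (f * f * i) = f * f * i * i by rw [mul_assoc f f i, hif, hif]; group,
          show i * (i * i) = 1 by rw [← mul_assoc]; exact hi3,
          show i * (f * i * i) = f by rw [mul_assoc f i i, hif, ← mul_assoc i i i, hi3, mul_one],
          show i * (f * f * i * i) = f * f by
            rw [show f * f * i * i = f * (f * (i * i)) by group, hif, hif, ← mul_assoc i i i, hi3,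
              mul_one],
          rho_one]
        abel
    intro a ha
    have := hspan a ha
    clear ha
    induction this using closure_induction with
    | mem c hc => rcases hc with rfl | rfl; exacts [hgen.1, hgen.2]
    | one => exact rho_one ρ T
    | mul c d _ _ ihc ihd => rw [rho_mul, ihd, ihc]
    | inv c _ ihc =>
      conv_lhs => rw [← ihc]
      rw [← rho_mul, inv_mul_cancel, rho_one]
  have hT0 := hnofix T hTfix
  refine hv ?_
  have hsum : (v + ρ f v + ρ (f * f) v) + (v + ρ i v + ρ (i * i) v) +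
      (v + ρ (f * i) v + ρ (f * f * i * i) v) + (v + ρ (f * i * i) v + ρ (f * f * i) v) =
      T + (v + v) + v := by rw [hT]; abel
  rw [h1, h2, h3, h4, hT0] at hsum
  simpa [add_self_eq_zero'] using hsum.symm

omit [Finite M] in
/-- A frame with a vector fixed by `f`: the module in coordinates. -/
theorem coordinates (F : Frame A f i r t z) (hfaith : Function.Injective ρ)
    (hirr : ∀ N : Submodule (ZMod 2) M, (∀ s : S, ∀ m ∈ N, ρ s m ∈ N) → N = ⊥ ∨ N = ⊤)
    (hm : ∃ m : M, m ≠ 0 ∧ ρ f m = m) :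
    Nat.card M = 16 ∧ Nat.card {m : M // ρ z m = m ∧ ρ (r * t) m = m} = 2 ∧
      (Finite M → 3 ≤ Nat.card {m : M // ρ z m = m ∧ ρ t m = m}) := by
  have hmul := rho_mul ρ
  have hone := rho_one ρ
  have hcomm : ∀ a b : S, a * b * a⁻¹ = b → ∀ m, ρ a (ρ b m) = ρ b (ρ a m) := fun a b h m => by
    rw [← hmul, ← hmul, mul_inv_eq_iff_eq_mul.mp h]
  have hfix_inv : ∀ a : S, ∀ m, ρ a m = m → ρ a⁻¹ m = m := fun a m h => by
    conv_lhs => rw [← h]
    rw [← hmul, inv_mul_cancel, hone]
  have hzr : z * r = r * z := by rw [← F.z_eq, mul_assoc]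
  have ht' : t⁻¹ = t := inv_eq_of_mul_eq_one_right F.t2
  have hz' : z⁻¹ = z := inv_eq_of_mul_eq_one_right F.z2
  have htr : t * r = r * z * t := by rw [← F.trt]; group
  -- nothing is fixed by both lines
  have hnofix : ∀ m : M, ρ f m = m → ρ i m = m → m = 0 := by
    intro m hfm him
    have hall : ∀ (a : S), a ∈ closure ({f, i} : Set S) → ∀ w : M, ρ f w = w → ρ i w = w →
        ρ a w = w := by
      intro a ha w hfw hiw
      induction ha using closure_induction with
      | mem c hc => rcases hc with rfl | rfl <;> assumption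
      | one => exact hone w
      | mul c d _ _ ihc ihd => rw [hmul, ihd, ihc]
      | inv c _ ihc => exact hfix_inv c w ihc
    let N : Submodule (ZMod 2) M :=
      { carrier := {w | ρ f w = w ∧ ρ i w = w}
        add_mem' := fun {a b} ha hb => ⟨by rw [map_add, ha.1, hb.1], by rw [map_add, ha.2, hb.2]⟩
        zero_mem' := ⟨map_zero _, map_zero _⟩
        smul_mem' := fun c x hx => ⟨by rw [map_smul, hx.1], by rw [map_smul, hx.2]⟩ }
    have hN : ∀ s : S, ∀ w ∈ N, ρ s w ∈ N := by
      intro s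
      have hs : s ∈ closure ({f, i, r, t} : Set S) := F.top ▸ Subgroup.mem_top s
      induction hs using closure_induction_left with
      | one => intro w hw; rwa [hone]
      | mul_left x hx y _ ih =>
        intro w hw
        rw [hmul]
        obtain ⟨h1, h2⟩ := ih w hw
        rcases hx with rfl | rfl | rfl | rfl
        · exact ⟨by rw [h1, h1], by rw [h1]; exact h2⟩
        · exact ⟨by rw [h2]; exact h1, by rw [h2, h2]⟩
        · refine ⟨?_, ?_⟩
          · rw [← hmul, show f * x = x * (x⁻¹ * f * x) by group, hmul, hall _ ?_ _ h1 h2]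
            rcases F.ri with h | h
            · rw [← h, show x⁻¹ * (x * i * x⁻¹) * x = i by group]
              exact Subgroup.subset_closure (Or.inr rfl)
            · rw [show x⁻¹ * f * x = i⁻¹ by rw [← inv_inv f, ← h]; group]
              exact inv_mem (Subgroup.subset_closure (Or.inr rfl))
          · rw [← hmul, show i * x = x * (x⁻¹ * i * x) by group, hmul, hall _ ?_ _ h1 h2]
            rcases F.rf with h | h
            · rw [← h, show x⁻¹ * (x * f * x⁻¹) * x = f by group]
              exact Subgroup.subset_closure (Or.inl rfl)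
            · rw [show x⁻¹ * i * x = f⁻¹ by rw [← inv_inv i, ← h]; group]
              exact inv_mem (Subgroup.subset_closure (Or.inl rfl))
        · refine ⟨?_, ?_⟩
          · rw [← hcomm x f F.tf, h1]
          · have h3 : i * x = x * i⁻¹ := by
              conv_rhs => rw [← F.ti, ← mul_assoc, ← mul_assoc, F.t2, one_mul]
              rw [ht']
            rw [← hmul, h3, hmul, hfix_inv i _ h2]
      | inv_mul_cancel x hx y _ ih =>
        intro w hw
        rw [hmul]
        obtain ⟨h1, h2⟩ := ih w hw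
        rcases hx with rfl | rfl | rfl | rfl
        · rw [hfix_inv x _ h1]; exact ⟨h1, h2⟩
        · rw [hfix_inv x _ h2]; exact ⟨h1, h2⟩
        · refine ⟨?_, ?_⟩
          · rw [← hmul, show f * x⁻¹ = x⁻¹ * (x * f * x⁻¹) by group, hmul, hall _ ?_ _ h1 h2]
            rcases F.rf with h | h
            · rw [h]; exact Subgroup.subset_closure (Or.inr rfl)
            · rw [h]; exact inv_mem (Subgroup.subset_closure (Or.inr rfl))
          · rw [← hmul, show i * x⁻¹ = x⁻¹ * (x * i * x⁻¹) by group, hmul, hall _ ?_ _ h1 h2]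
            rcases F.ri with h | h
            · rw [h]; exact Subgroup.subset_closure (Or.inl rfl)
            · rw [h]; exact inv_mem (Subgroup.subset_closure (Or.inl rfl))
        · refine ⟨?_, ?_⟩
          · rw [ht', ← hcomm x f F.tf, h1]
          · rw [ht', ← hmul, show i * x = x * (x * i * x⁻¹) by
                rw [← mul_assoc, ← mul_assoc, F.t2, one_mul, ht'], F.ti, hmul, hfix_inv i _ h2]
    rcases hirr N hN with h | h
    · exact (Submodule.mem_bot _).mp (h ▸ (show m ∈ N from ⟨hfm, him⟩))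
    · exfalso
      refine F.f1 (hfaith (LinearMap.ext fun w => ?_))
      rw [map_one]
      exact (h ▸ Submodule.mem_top : w ∈ N).1
  -- `r` carries the fixed space of `f` to that of `i`
  have hrU : ∀ x : M, ρ f x = x → ρ i (ρ r x) = ρ r x := by
    intro x hx
    rcases F.rf with h | h
    · rw [← hmul, ← h, show r * f * r⁻¹ * r = r * f by group, hmul, hx]
    · rw [← hmul, show i * r = r * f⁻¹ by rw [← inv_inv i, ← h]; group,
        hmul, hfix_inv f x hx]
  have hfr : ∀ x : M, (∃ c, (c = i ∨ c = i⁻¹) ∧ f * r = r * c) := fun _ => by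
    rcases F.ri with h | h
    · exact ⟨i, Or.inl rfl, by rw [← h]; group⟩
    · exact ⟨i⁻¹, Or.inr rfl, by rw [← inv_inv f, ← h]; group⟩
  -- an invariant set of fixed vectors of `f` and `t z` gives everything
  have hgen : ∀ W : Submodule (ZMod 2) M, W ≠ ⊥ → (∀ w ∈ W, ρ f w = w ∧ ρ t w = ρ z w) →
      (∀ w ∈ W, ρ i w ∈ W) → (∀ w ∈ W, ρ z w ∈ W) →
      (∀ m : M, ∃ x ∈ W, ∃ y ∈ W, m = x + ρ r y) ∧ ∀ m : M, ρ f m = m → m ∈ W := by
    intro W hW0 hWf hWi hWz
    have hWi' : ∀ w ∈ W, ρ i⁻¹ w ∈ W := fun w hw => by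
      rw [show i⁻¹ = i * i from inv_eq_of_mul_eq_one_right (by rw [← mul_assoc]; exact F.i3), hmul]
      exact hWi _ (hWi _ hw)
    let V : Submodule (ZMod 2) M := W ⊔ W.map (ρ r)
    have hV : ∀ m ∈ V, ∃ x ∈ W, ∃ y ∈ W, m = x + ρ r y := by
      intro m hm
      obtain ⟨x, hx, _, ⟨y, hy, rfl⟩, rfl⟩ := Submodule.mem_sup.mp hm
      exact ⟨x, hx, y, hy, rfl⟩
    have hmk : ∀ x ∈ W, ∀ y ∈ W, x + ρ r y ∈ V := fun x hx y hy =>
      Submodule.add_mem_sup hx (Submodule.mem_map_of_mem hy)
    have hgens : ∀ g ∈ ({f, i, r, t} : Set S), ∀ m ∈ V, ρ g m ∈ V := by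
      intro g hg m hm
      obtain ⟨x, hx, y, hy, rfl⟩ := hV m hm
      rw [map_add]
      rcases hg with rfl | rfl | rfl | rfl
      · obtain ⟨c, hc, hcr⟩ := hfr x
        rw [(hWf x hx).1, ← hmul, hcr, hmul]
        refine hmk x hx _ ?_
        rcases hc with rfl | rfl
        exacts [hWi y hy, hWi' y hy]
      · rw [hrU y (hWf y hy).1]
        exact hmk _ (hWi x hx) y hy
      · rw [← hmul g g, F.z_eq, add_comm]
        exact hmk _ (hWz y hy) x hx
      · rw [(hWf x hx).2, ← hmul g r, htr, hmul, (hWf y hy).2, hmul, ← hmul z z, F.z2, hone]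
        exact hmk _ (hWz x hx) y hy
    have hall : ∀ s : S, ∀ m ∈ V, ρ s m ∈ V := by
      intro s
      have hs : s ∈ Submonoid.closure ({f, i, r, t} : Set S) := by
        have h1 : s ∈ closure ({f, i, r, t} : Set S) := F.top ▸ Subgroup.mem_top s
        rwa [← Subgroup.mem_toSubmonoid, Subgroup.closure_toSubmonoid_of_finite] at h1
      induction hs using Submonoid.closure_induction with
      | mem c hc => exact hgens c hc
      | one => intro m hm; rwa [hone]
      | mul c d _ _ ihc ihd => intro m hm; rw [hmul]; exact ihc _ (ihd m hm)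
    have htop : V = ⊤ := (hirr V hall).resolve_left fun h => hW0 (eq_bot_mono le_sup_left h)
    have hdec : ∀ m : M, ∃ x ∈ W, ∃ y ∈ W, m = x + ρ r y :=
      fun m => hV m (htop ▸ Submodule.mem_top)
    refine ⟨hdec, fun m hm => ?_⟩
    obtain ⟨x, hx, y, hy, rfl⟩ := hdec m
    have h1 : ρ f (ρ r y) = ρ r y := by
      rw [map_add, (hWf x hx).1] at hm
      exact add_left_cancel hm
    rw [hnofix _ h1 (hrU y (hWf y hy).1), add_zero]
    exact hx
  have htzc : ∀ a : S, (a = i ∨ a = z) → ∀ w : M, ρ t w = ρ z w → ρ t (ρ a w) = ρ z (ρ a w) := by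
    rintro a (rfl | rfl) w hw
    · rw [← hmul, ← hmul, show t * a = a⁻¹ * t by rw [← F.ti]; group,
        show z * a = a⁻¹ * z by rw [← F.zi]; group, hmul, hmul, hw]
    · rw [← hmul, ← F.zt, hmul, hw]
  have hfi : ∀ w : M, ρ f w = w → ρ f (ρ i w) = ρ i w := fun w hw => by
    rw [← hmul, F.comm, hmul, hw]
  have hfz : ∀ w : M, ρ f w = w → ρ f (ρ z w) = ρ z w := fun w hw => by
    rw [← hmul, show f * z = z * f⁻¹ by rw [← F.zf, ← mul_assoc, ← mul_assoc, F.z2, one_mul, hz'],
      hmul, hfix_inv f w hw]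
  -- `t z` is trivial on the fixed space of `f`
  let W0 : Submodule (ZMod 2) M :=
    { carrier := {w | ρ f w = w ∧ ρ t w = ρ z w}
      add_mem' := fun {a b} ha hb => ⟨by rw [map_add, ha.1, hb.1], by rw [map_add, map_add, ha.2, hb.2]⟩
      zero_mem' := ⟨map_zero _, by rw [map_zero, map_zero]⟩
      smul_mem' := fun c x hx => ⟨by rw [map_smul, hx.1], by rw [map_smul, map_smul, hx.2]⟩ }
  obtain ⟨m, hm0, hmf⟩ := hm
  have hW0 : W0 ≠ ⊥ := by
    have hft : ρ f (ρ (t * z) m) = ρ (t * z) m := by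
      rw [hmul, ← hcomm t f F.tf, hfz m hmf]
    by_cases hz0 : m + ρ (t * z) m = 0
    · refine fun h => hm0 ((Submodule.mem_bot _).mp (h ▸ (show m ∈ W0 from ⟨hmf, ?_⟩)))
      have h1 : ρ (t * z) m = m := by
        rw [← zero_add (ρ (t * z) m), ← add_self_eq_zero' m, add_assoc, hz0, add_zero]
      conv_lhs => rw [← h1, ← hmul, ← mul_assoc, F.t2, one_mul]
    · refine fun h => hz0 ((Submodule.mem_bot _).mp (h ▸ (show _ ∈ W0 from ⟨?_, ?_⟩)))
      · rw [map_add, hmf, hft]
      · rw [map_add, map_add, ← hmul t (t * z), ← mul_assoc, F.t2, one_mul, ← hmul z (t * z),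
          ← mul_assoc, F.zt, mul_assoc, F.z2, mul_one, add_comm]
  obtain ⟨-, hUW0⟩ := hgen W0 hW0 (fun w hw => hw) (fun w hw => ⟨hfi w hw.1, htzc i (Or.inl rfl) w hw.2⟩)
    (fun w hw => ⟨hfz w hw.1, htzc z (Or.inr rfl) w hw.2⟩)
  have htz : ∀ w : M, ρ f w = w → ρ t w = ρ z w := fun w hw => (hUW0 w hw).2
  -- a vector fixed by `f` and `z`
  obtain ⟨u, hu0, huf, huz⟩ : ∃ u : M, u ≠ 0 ∧ ρ f u = u ∧ ρ z u = u := by
    by_cases hz0 : m + ρ z m = 0
    · exact ⟨m, hm0, hmf, by
        rw [← zero_add (ρ z m), ← add_self_eq_zero' m, add_assoc, hz0, add_zero]⟩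
    · exact ⟨_, hz0, by rw [map_add, hmf, hfz m hmf], by
        rw [map_add, ← hmul, F.z2, hone, add_comm]⟩
  have hi1 : ρ i u ≠ u := fun h => hu0 (hnofix u huf h)
  set u1 := ρ i u with hu1
  set u2 := ρ i u1 with hu2
  have hi3u : ρ i u2 = u := by rw [hu2, hu1, ← hmul, ← hmul, F.i3, hone]
  have hsum : u + u1 + u2 = 0 := hnofix _ (by
      rw [map_add, map_add, huf, hfi u huf, hu2, hfi u1 (hfi u huf)])
    (by rw [map_add, map_add, ← hu1, ← hu2, hi3u]; abel)
  have hzu1 : ρ z u1 = u2 := by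
    rw [hu2, hu1, ← hmul, show z * i = i * i * z by
      rw [show i * i = i⁻¹ from (inv_eq_of_mul_eq_one_right (by rw [← mul_assoc]; exact F.i3)).symm,
        ← F.zi]; group, hmul, huz, hmul]
  have hzu2 : ρ z u2 = u1 := by rw [← hzu1, ← hmul, F.z2, hone]
  have h12 : u + u1 = u2 := by
    rw [← add_zero (u + u1), ← add_self_eq_zero' u2, ← add_assoc, hsum, zero_add]
  let W : Submodule (ZMod 2) M :=
    { carrier := {0, u, u1, u2}
      zero_mem' := Or.inl rfl
      add_mem' := by
        intro a b ha hb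
        have s1 : u1 + u = u2 := by rw [add_comm, h12]
        have s2 : u + u2 = u1 := by rw [← h12, ← add_assoc, add_self_eq_zero', zero_add]
        have s3 : u2 + u = u1 := by rw [add_comm, s2]
        have s4 : u1 + u2 = u := by rw [← h12, add_left_comm, add_self_eq_zero', add_zero]
        have s5 : u2 + u1 = u := by rw [add_comm, s4]
        simp only [Set.mem_insert_iff, Set.mem_singleton_iff] at ha hb ⊢
        rcases ha with rfl | rfl | rfl | rfl <;> rcases hb with rfl | rfl | rfl | rfl <;>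
          simp [add_self_eq_zero', h12, s1, s2, s3, s4, s5]
      smul_mem' := by
        intro c x hx
        rcases (show ∀ c : ZMod 2, c = 0 ∨ c = 1 by decide) c with rfl | rfl
        · exact Or.inl (zero_smul _ x)
        · rwa [one_smul] }
  have hWmem : ∀ x : M, x ∈ W ↔ x = 0 ∨ x = u ∨ x = u1 ∨ x = u2 := fun x => by
    show x ∈ ({0, u, u1, u2} : Set M) ↔ _
    simp
  have hWf : ∀ w ∈ W, ρ f w = w := by
    intro w hw
    rcases (hWmem w).mp hw with rfl | rfl | rfl | rfl
    exacts [map_zero _, huf, hfi u huf, hfi u1 (hfi u huf)]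
  obtain ⟨hdec, hUW⟩ := hgen W (fun h => hu0 ((Submodule.mem_bot _).mp (h ▸ (hWmem u).mpr (by simp))))
    (fun w hw => ⟨hWf w hw, htz w (hWf w hw)⟩) (fun w hw => by
      rcases (hWmem w).mp hw with rfl | rfl | rfl | rfl
      · rw [map_zero]; exact W.zero_mem
      · exact (hWmem _).mpr (by simp [hu1])
      · exact (hWmem _).mpr (by simp [hu2])
      · exact (hWmem _).mpr (by simp [hi3u]))
    (fun w hw => by
      rcases (hWmem w).mp hw with rfl | rfl | rfl | rfl
      · rw [map_zero]; exact W.zero_mem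
      · exact (hWmem _).mpr (by simp [huz])
      · exact (hWmem _).mpr (by simp [hzu1])
      · exact (hWmem _).mpr (by simp [hzu2]))
  have hn1 : u1 ≠ 0 := fun h => hu0 (by rw [← hi3u, hu2, h, map_zero, map_zero])
  have hn2 : u2 ≠ 0 := fun h => hu0 (by rw [← hi3u, h, map_zero])
  have hn3 : u1 ≠ u2 := fun h => hu0 (by
    rw [← h, add_assoc, add_self_eq_zero', add_zero] at hsum; exact hsum)
  have hn4 : u ≠ u2 := fun h => hn1 (by
    rw [← h, add_comm u u1, add_assoc, add_self_eq_zero', add_zero] at hsum; exact hsum)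
  have hcardW : Nat.card W = 4 := by
    show Nat.card ({0, u, u1, u2} : Set M) = 4
    rw [Nat.card_coe_set_eq, Set.ncard_insert_of_notMem, Set.ncard_insert_of_notMem,
      Set.ncard_insert_of_notMem, Set.ncard_singleton]
    · simpa using hn3
    · simp [Ne.symm hi1, hn4]
    · simp [Ne.symm hu0, Ne.symm hn1, Ne.symm hn2]
  have huniq : ∀ x ∈ W, ∀ y ∈ W, x + ρ r y = 0 → x = 0 ∧ y = 0 := by
    intro x hx y hy h
    have h1 : ρ r y = x := by
      rw [← zero_add (ρ r y), ← add_self_eq_zero' x, add_assoc, h, add_zero]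
    have h2 : x = 0 := hnofix x (hWf x hx) (h1 ▸ hrU y (hWf y hy))
    refine ⟨h2, ?_⟩
    rw [h2] at h1
    rw [← hone y, ← inv_mul_cancel r, hmul, h1, map_zero]
  refine ⟨?_, ?_, ?_⟩
  · rw [show (16 : ℕ) = Nat.card W * Nat.card W by rw [hcardW], ← Nat.card_prod]
    refine (Nat.card_congr (Equiv.ofBijective (fun p : W × W => (p.1 : M) + ρ r (p.2 : M)) ⟨?_, ?_⟩)).symm
    · rintro ⟨⟨x, hx⟩, ⟨y, hy⟩⟩ ⟨⟨x', hx'⟩, ⟨y', hy'⟩⟩ h
      simp only at h
      obtain ⟨h1, h2⟩ := huniq (x - x') (W.sub_mem hx hx') (y - y') (W.sub_mem hy hy') (by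
        rw [map_sub, ← sub_eq_zero.mpr h]; abel)
      simp [sub_eq_zero.mp h1, sub_eq_zero.mp h2]
    · intro m
      obtain ⟨x, hx, y, hy, rfl⟩ := hdec m
      exact ⟨(⟨x, hx⟩, ⟨y, hy⟩), rfl⟩
  · have hru : ρ (r * t) (u + ρ r u) = u + ρ r u := by
      rw [map_add, hmul r t u, htz u huf, huz, hmul, ← hmul t r, htr, hmul, htz u huf, huz, hmul,
        huz, ← hmul, F.z_eq, huz, add_comm]
    rw [Nat.card_eq_two_iff]
    refine ⟨⟨0, map_zero _, map_zero _⟩, ⟨u + ρ r u, ⟨by
      rw [map_add, huz, ← hmul, hzr, hmul, huz], hru⟩⟩, fun h => ?_, ?_⟩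
    · exact hu0 (huniq u ((hWmem u).mpr (by simp)) u ((hWmem u).mpr (by simp))
        (congrArg Subtype.val h).symm).1
    refine Set.eq_univ_of_forall fun ⟨w, hwz, hwrt⟩ => ?_
    obtain ⟨x, hx, y, hy, rfl⟩ := hdec w
    have hWz : ∀ v ∈ W, ρ z v ∈ W := fun v hv => hUW _ (hfz v (hWf v hv))
    have hzW : ∀ v ∈ W, ρ z v = v → v = 0 ∨ v = u := fun v hv hvz => by
      rcases (hWmem v).mp hv with rfl | rfl | rfl | rfl
      · simp
      · simp
      · exact absurd (hzu1.symm.trans hvz).symm hn3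
      · exact absurd (hzu2.symm.trans hvz) hn3
    have h1 : ρ z x + ρ r (ρ z y) = x + ρ r y := by
      rw [← hwz, map_add, ← hmul z r, hzr, hmul]
    obtain ⟨hzx, hzy⟩ := huniq (ρ z x - x) (W.sub_mem (hWz x hx) hx) (ρ z y - y)
      (W.sub_mem (hWz y hy) hy) (by rw [map_sub, ← sub_eq_zero.mpr h1]; abel)
    rw [sub_eq_zero] at hzx hzy
    have h2 : ρ (r * t) (x + ρ r y) = y + ρ r x := by
      rw [map_add, hmul r t x, htz x (hWf x hx), hzx, hmul r t, ← hmul t r, htr, hmul,
        htz y (hWf y hy), hzy, hmul r z, hzy, ← hmul r r, F.z_eq, hzy, add_comm]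
    rw [hwrt] at h2
    obtain ⟨hxy, -⟩ := huniq (x - y) (W.sub_mem hx hy) (y - x) (W.sub_mem hy hx) (by
      rw [map_sub, ← sub_eq_zero.mpr h2]; abel)
    rw [sub_eq_zero] at hxy
    subst hxy
    rcases hzW x hx hzx with h | h
    · left
      exact Subtype.ext (by simp [h])
    · right
      exact Subtype.ext (by simp [h])
  · intro _
    have hu' : ρ r u ≠ 0 := fun h => hu0 (huniq 0 W.zero_mem u ((hWmem u).mpr (by simp)) (by rw [h, add_zero])).2
    have hne : u ≠ ρ r u := fun h => hu0 (hnofix u huf (by rw [h]; exact hrU u huf))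
    let e : Fin 3 → {m : M // ρ z m = m ∧ ρ t m = m} :=
      ![⟨0, map_zero _, map_zero _⟩, ⟨u, huz, by rw [htz u huf, huz]⟩,
        ⟨ρ r u, by rw [← hmul, hzr, hmul, huz], by
          rw [← hmul, htr, hmul, htz u huf, huz, hmul, huz]⟩]
    have he : Function.Injective e := by
      intro a b hab
      fin_cases a <;> fin_cases b <;>
        simp [e, Ne.symm hu0, hu0, hu', Ne.symm hu', hne, Ne.symm hne] at hab ⊢
    simpa using Nat.card_le_card_of_injective e he

/-- The statement. -/
theorem nine_dihedral (A X : Subgroup S) [A.Normal] (hA3 : ∀ a ∈ A, a * a * a = 1)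
    (hAc : ∀ a ∈ A, ∀ b ∈ A, a * b = b * a) (hA9 : Nat.card A = 9)
    (hfix : ∀ x ∈ X, (∀ a ∈ A, x * a * x⁻¹ = a) → x = 1) (e : X ≃* DihedralGroup 4)
    (hAX : A ⊔ X = ⊤) (hfaith : Function.Injective ρ)
    (hirr : ∀ N : Submodule (ZMod 2) M, (∀ s : S, ∀ m ∈ N, ρ s m ∈ N) → N = ⊥ ∨ N = ⊤)
    (hM : Nontrivial M) :
    Nat.card M = 16 ∧ ∃! B : Subgroup S, B ≤ X ∧ Nat.card B = 4 ∧ (∀ b ∈ B, b ^ 2 = 1) ∧
      Nat.card {m : M // ∀ b ∈ B, ρ b m = m} = 2 := by
  set r : S := ((e.symm (DihedralGroup.r 1) : X) : S) with hrdef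
  set t0 : S := ((e.symm (DihedralGroup.sr 0) : X) : S) with ht0def
  set z : S := ((e.symm (DihedralGroup.r 2) : X) : S) with hzdef
  have hinj : ∀ a b : DihedralGroup 4, ((e.symm a : X) : S) = ((e.symm b : X) : S) ↔ a = b :=
    fun a b => ⟨fun h => e.symm.injective (Subtype.ext h), fun h => by rw [h]⟩
  have hmap : ∀ a b : DihedralGroup 4,
      ((e.symm a : X) : S) * ((e.symm b : X) : S) = ((e.symm (a * b) : X) : S) := fun a b => by
    rw [map_mul, Subgroup.coe_mul]
  have hmapinv : ∀ a : DihedralGroup 4, ((e.symm a : X) : S)⁻¹ = ((e.symm a⁻¹ : X) : S) := fun a => by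
    rw [map_inv, Subgroup.coe_inv]
  have hone' : ((e.symm 1 : X) : S) = 1 := by rw [map_one, OneMemClass.coe_one]
  have hzz : r * r = z := by rw [hmap, hinj]; decide
  have hz2 : z * z = 1 := by rw [hmap, ← hone', hinj]; decide
  have hz1 : z ≠ 1 := by rw [← hone', Ne, hinj]; decide
  have hXall : ∀ x ∈ X, ∃ a, ((e.symm a : X) : S) = x := fun x hx => ⟨e ⟨x, hx⟩, by simp⟩
  -- the four reflections
  have hrefl : ∀ k : ZMod 4, ∀ t, t = ((e.symm (DihedralGroup.sr k) : X) : S) → t * t = 1 ∧
      z * t = t * z ∧ t * r * t⁻¹ = r * z ∧ t ≠ 1 ∧ t ≠ z ∧ closure ({r, t} : Set S) = X := by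
    rintro k t rfl
    refine ⟨?_, ?_, ?_, ?_, ?_, ?_⟩
    · rw [hmap, ← hone', hinj]; revert k; decide
    · rw [hmap, hmap, hinj]; revert k; decide
    · rw [hmap, hmapinv, hmap, hmap, hinj]; revert k; decide
    · rw [← hone', Ne, hinj]; revert k; decide
    · rw [Ne, hinj]; revert k; decide
    · refine le_antisymm ((Subgroup.closure_le X).mpr ?_) fun x hx => ?_
      · rintro y (rfl | rfl) <;> exact SetLike.coe_mem _
      · obtain ⟨a, rfl⟩ := hXall x hx
        have hr : r ∈ closure ({r, ((e.symm (DihedralGroup.sr k) : X) : S)} : Set S) :=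
          Subgroup.subset_closure (Or.inl rfl)
        have hpow : ∀ j : ℕ, ((e.symm (DihedralGroup.r (j : ZMod 4)) : X) : S) ∈
            closure ({r, ((e.symm (DihedralGroup.sr k) : X) : S)} : Set S) := fun j => by
          rw [← DihedralGroup.r_one_pow, map_pow, SubgroupClass.coe_pow]
          exact pow_mem hr j
        cases a with
        | r j => simpa using hpow j.val
        | sr j =>
          have h := mul_mem (Subgroup.subset_closure (Or.inr rfl) :
            ((e.symm (DihedralGroup.sr k) : X) : S) ∈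
              closure ({r, ((e.symm (DihedralGroup.sr k) : X) : S)} : Set S)) (hpow (j - k).val)
          rw [hmap] at h
          simpa using h
  obtain ⟨h01, h02, h03, h04, h05, h06⟩ := hrefl 0 t0 rfl
  obtain ⟨f, i, F0⟩ : ∃ f i : S, Frame A f i r t0 z := exists_frame A X hA3 hAc hA9 hfix (SetLike.coe_mem _) (SetLike.coe_mem _)
    hzz h01 hz2 h02 h03 hz1 h04 h05 h06 hAX
  have hnofix : ∀ m : M, (∀ a ∈ A, ρ a m = m) → m = 0 := by
    intro m hm
    let N : Submodule (ZMod 2) M :=
      { carrier := {w | ∀ a ∈ A, ρ a w = w}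
        add_mem' := fun {a b} ha hb c hc => by rw [map_add, ha c hc, hb c hc]
        zero_mem' := fun c _ => map_zero _
        smul_mem' := fun c x hx a ha => by rw [map_smul, hx a ha] }
    have hN : ∀ s : S, ∀ w ∈ N, ρ s w ∈ N := fun s w hw a ha => by
      rw [← rho_mul, show a * s = s * (s⁻¹ * a * s) by group, rho_mul]
      congr 1
      exact hw _ (by simpa using Subgroup.Normal.conj_mem inferInstance a ha s⁻¹)
    rcases hirr N hN with h | h
    · exact (Submodule.mem_bot _).mp (h ▸ (show m ∈ N from hm))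
    · exfalso
      refine F0.f1 (hfaith (LinearMap.ext fun w => ?_))
      rw [map_one]
      exact (h ▸ Submodule.mem_top : w ∈ N) f F0.hf
  obtain ⟨a, ha, m, hm0, hma⟩ := exists_line_fixed ρ A hA3 F0.hf F0.hi F0.comm F0.span hnofix hM
  have hi2 : i⁻¹ = i * i := inv_eq_of_mul_eq_one_right (by rw [← mul_assoc]; exact F0.i3)
  have hf2 : f⁻¹ = f * f := inv_eq_of_mul_eq_one_right (by rw [← mul_assoc]; exact F0.f3)
  -- a reflection centralising `a`
  obtain ⟨k, hk⟩ : ∃ k : ZMod 4, ((e.symm (DihedralGroup.sr k) : X) : S) * a *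
      ((e.symm (DihedralGroup.sr k) : X) : S)⁻¹ = a := by
    have e1 : ((e.symm (DihedralGroup.sr 2) : X) : S) = t0 * z := by rw [hmap, hinj]; decide
    have e3 : ((e.symm (DihedralGroup.sr 3) : X) : S) = r * t0 := by rw [hmap, hinj]; decide
    have e5 : ((e.symm (DihedralGroup.sr 1) : X) : S) = r * t0 * z := by rw [hmap, hmap, hinj]; decide
    have hcj : ∀ (x y c : S), x * y * c * (x * y)⁻¹ = x * (y * c * y⁻¹) * x⁻¹ := fun x y c => by group
    have hprod : ∀ x : S, x * (f * i) * x⁻¹ = (x * f * x⁻¹) * (x * i * x⁻¹) ∧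
        x * (f * i * i) * x⁻¹ = (x * f * x⁻¹) * (x * i * x⁻¹) * (x * i * x⁻¹) :=
      fun x => ⟨by group, by group⟩
    -- how the reflections move the lines
    have hr2 : r * (r * f * r⁻¹) * r⁻¹ = f⁻¹ := by
      rw [← F0.zf, ← F0.z_eq]; group
    have k3f : r * t0 * f * (r * t0)⁻¹ = r * f * r⁻¹ := by rw [hcj, F0.tf]
    have k3i : r * t0 * i * (r * t0)⁻¹ = (r * i * r⁻¹)⁻¹ := by rw [hcj, F0.ti, conj_inv]
    have k1f : r * t0 * z * f * (r * t0 * z)⁻¹ = (r * f * r⁻¹)⁻¹ := by
      rw [hcj (r * t0) z, F0.zf, hcj, ← conj_inv, F0.tf, conj_inv]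
    have k1i : r * t0 * z * i * (r * t0 * z)⁻¹ = r * i * r⁻¹ := by
      rw [hcj (r * t0) z, F0.zi, hcj, ← conj_inv, F0.ti, inv_inv]
    have hfii : i⁻¹ * f⁻¹ * f⁻¹ = f * i * i := by
      rw [hi2, mul_assoc (i * i), show f⁻¹ * f⁻¹ = f by
        rw [hf2, show f * f * (f * f) = f * f * f * f by group, F0.f3, one_mul]]
      rw [((show Commute i f from F0.comm.symm).mul_left (show Commute i f from F0.comm.symm)).eq,
        mul_assoc]
    simp only [Set.mem_insert_iff, Set.mem_singleton_iff] at ha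
    rcases ha with rfl | rfl | rfl | rfl
    · exact ⟨0, F0.tf⟩
    · exact ⟨2, by rw [e1, hcj, F0.zi, ← conj_inv, F0.ti, inv_inv]⟩
    · rcases F0.rf with h | h
      · have hri : r * i * r⁻¹ = f⁻¹ := by rw [← h]; exact hr2
        exact ⟨3, by rw [e3, (hprod _).1, k3f, k3i, h, hri, inv_inv, F0.comm]⟩
      · have hri : r * i * r⁻¹ = f := by
          rw [← inv_inj, conj_inv, ← h]; exact hr2
        exact ⟨1, by rw [e5, (hprod _).1, k1f, k1i, h, hri, inv_inv, F0.comm]⟩
    · rcases F0.rf with h | h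
      · have hri : r * i * r⁻¹ = f⁻¹ := by rw [← h]; exact hr2
        exact ⟨1, by rw [e5, (hprod _).2, k1f, k1i, h, hri, hfii]⟩
      · have hri : r * i * r⁻¹ = f := by
          rw [← inv_inj, conj_inv, ← h]; exact hr2
        exact ⟨3, by rw [e3, (hprod _).2, k3f, k3i, h, hri, hfii]⟩
  set t := ((e.symm (DihedralGroup.sr k) : X) : S) with htdef
  obtain ⟨h11, h12, h13, h14, h15, h16⟩ := hrefl k t rfl
  obtain ⟨f', i', F⟩ : ∃ f' i' : S, Frame A f' i' r t z := exists_frame A X hA3 hAc hA9 hfix (SetLike.coe_mem _) (SetLike.coe_mem _)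
    hzz h11 hz2 h12 h13 hz1 h14 h15 h16 hAX
  -- the fixed line of `t` is that of `a`
  have hm' : ρ f' m = m := by
    have haA : a ∈ A := by
      simp only [Set.mem_insert_iff, Set.mem_singleton_iff] at ha
      rcases ha with rfl | rfl | rfl | rfl
      exacts [F0.hf, F0.hi, mul_mem F0.hf F0.hi, mul_mem (mul_mem F0.hf F0.hi) F0.hi]
    have hne : a ≠ 1 := by
      rintro rfl
      simp only [Set.mem_insert_iff, Set.mem_singleton_iff] at ha
      have hfinv : f⁻¹ ≠ f := fun h => F0.f1 (by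
        rw [hf2] at h
        simpa using h)
      rcases ha with h | h | h | h
      · exact F0.f1 h.symm
      · rcases F0.rf with h' | h' <;> rw [← h] at h' <;>
          exact F0.f1 (by simpa using h')
      · have h2 := F0.tf
        have h3 : f = i⁻¹ := eq_inv_of_mul_eq_one_left h.symm
        rw [h3, ← conj_inv, F0.ti, inv_inv] at h2
        exact hfinv (by rw [h3, inv_inv]; exact h2)
      · have h2 : f = i := by
          rw [← mul_one f, ← F0.i3, ← mul_assoc, ← mul_assoc, ← h, one_mul]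
        have h3 := F0.ti
        rw [← h2, F0.tf] at h3
        exact hfinv h3.symm
    have hline : a = f' ∨ a = f' * f' := (F.fixline a haA hk).resolve_left hne
    rcases hline with h | h
    · rwa [← h]
    · rw [show f' = a * a by rw [h, ← mul_assoc, F.f3, one_mul], rho_mul, hma, hma]
  obtain ⟨hc16, hc2, hc3⟩ := coordinates ρ F hfaith hirr ⟨m, hm0, hm'⟩
  refine ⟨hc16, ?_⟩
  let B1 : Subgroup S :=
    { carrier := {1, z, r * t, r * t * z}
      one_mem' := by simp
      mul_mem' := by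
        intro a b ha hb
        simp only [Set.mem_insert_iff, Set.mem_singleton_iff] at ha hb ⊢
        rw [htdef] at ha hb ⊢
        rcases ha with rfl | rfl | rfl | rfl <;> rcases hb with rfl | rfl | rfl | rfl <;>
          (try simp only [one_mul, mul_one, true_or, or_true]) <;>
          · simp only [hrdef, hzdef, hmap, ← hone', hinj]
            generalize k = j; revert j; decide
      inv_mem' := by
        intro a ha
        simp only [Set.mem_insert_iff, Set.mem_singleton_iff] at ha ⊢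
        rw [htdef] at ha ⊢
        rcases ha with rfl | rfl | rfl | rfl <;>
          · simp only [hrdef, hzdef, hmap, hmapinv, ← hone', hinj]
            generalize k = j; revert j; decide }
  have hB1fix : Nat.card {m : M // ∀ b ∈ B1, ρ b m = m} = 2 := by
    rw [show Nat.card {m : M // ∀ b ∈ B1, ρ b m = m} =
      Nat.card {m : M // ρ z m = m ∧ ρ (r * t) m = m} from ?_, hc2]
    refine Nat.card_congr (Equiv.subtypeEquivRight fun w => ⟨fun h => ⟨h z ?_, h (r * t) ?_⟩, fun h b hb => ?_⟩)
    · show z ∈ ({1, z, r * t, r * t * z} : Set S); simp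
    · show r * t ∈ ({1, z, r * t, r * t * z} : Set S); simp
    · have hb' : b = 1 ∨ b = z ∨ b = r * t ∨ b = r * t * z := by
        have : b ∈ ({1, z, r * t, r * t * z} : Set S) := hb
        simpa using this
      rcases hb' with rfl | rfl | rfl | rfl
      · exact rho_one ρ w
      · exact h.1
      · exact h.2
      · rw [rho_mul, h.1, h.2]
  have hB1card : Nat.card B1 = 4 := by
    show Nat.card ({1, z, r * t, r * t * z} : Set S) = 4
    rw [Nat.card_coe_set_eq, Set.ncard_insert_of_notMem, Set.ncard_insert_of_notMem,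
      Set.ncard_insert_of_notMem, Set.ncard_singleton]
    all_goals
      simp only [Set.mem_insert_iff, Set.mem_singleton_iff]
      simp only [htdef, hrdef, hzdef, hmap, ← hone', hinj]
      generalize k = j; revert j; decide
  refine ⟨B1, ⟨fun b hb => ?_, hB1card, fun b hb => ?_, hB1fix⟩, ?_⟩
  · have : b = 1 ∨ b = z ∨ b = r * t ∨ b = r * t * z := by
      have : b ∈ ({1, z, r * t, r * t * z} : Set S) := hb
      simpa using this
    rcases this with rfl | rfl | rfl | rfl
    exacts [one_mem X, SetLike.coe_mem _, mul_mem (SetLike.coe_mem _) (SetLike.coe_mem _),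
      mul_mem (mul_mem (SetLike.coe_mem _) (SetLike.coe_mem _)) (SetLike.coe_mem _)]
  · have : b = 1 ∨ b = z ∨ b = r * t ∨ b = r * t * z := by
      have : b ∈ ({1, z, r * t, r * t * z} : Set S) := hb
      simpa using this
    rw [pow_two, ← hone']
    rcases this with rfl | rfl | rfl | rfl <;>
      simp only [htdef, hrdef, hzdef, hmap, ← hone', hinj] <;>
      · generalize k = j; revert j; decide
  rintro B ⟨hBX, hB4, hBsq, hBfix⟩
  have helem : ∀ b ∈ B, b = 1 ∨ b = z ∨ b = t ∨ b = t * z ∨ b = r * t ∨ b = r * t * z := by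
    intro b hb
    obtain ⟨c, rfl⟩ := hXall b (hBX hb)
    have h2 := hBsq _ hb
    rw [pow_two, ← hone', hmap, hinj] at h2
    simp only [htdef, hrdef, hzdef, hmap, ← hone', hinj]
    revert h2; generalize k = j; generalize c = d; revert j d; decide
  have hsame : ∀ (Q : Set S), Q.ncard ≤ 4 → (B : Set S) ⊆ Q → (B : Set S) = Q := fun Q hQ hsub =>
    Set.eq_of_subset_of_ncard_le hsub (by
      rw [← Nat.card_coe_set_eq (B : Set S)]
      exact hQ.trans hB4.ge) (Set.toFinite _)
  have h4 : ∀ a b c : S, ({1, a, b, c} : Set S).ncard ≤ 4 := fun a b c => by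
    refine (Set.ncard_insert_le _ _).trans (Nat.succ_le_succ ?_)
    refine (Set.ncard_insert_le _ _).trans (Nat.succ_le_succ ?_)
    exact (Set.ncard_insert_le _ _).trans (by rw [Set.ncard_singleton])
  by_cases hcase : t ∈ B ∨ t * z ∈ B
  · exfalso
    have hno : ∀ b ∈ B, b ≠ r * t ∧ b ≠ r * t * z := by
      intro b hb
      constructor <;> rintro rfl <;> rcases hcase with h | h <;>
        · have h2 := hBsq _ (mul_mem h hb)
          rw [pow_two, ← hone'] at h2
          simp only [htdef, hrdef, hzdef, hmap, hinj] at h2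
          revert h2; generalize k = j; revert j; decide
    have hB0 : (B : Set S) = {1, z, t, t * z} := hsame _ (h4 _ _ _) fun b hb => by
      rcases helem b hb with h | h | h | h | h | h
      all_goals first
        | (exact absurd h (hno b hb).1)
        | (exact absurd h (hno b hb).2)
        | simp [h]
    have h3 := hc3 inferInstance
    have heq : Nat.card {m : M // ∀ b ∈ B, ρ b m = m} =
        Nat.card {m : M // ρ z m = m ∧ ρ t m = m} := by
      refine Nat.card_congr (Equiv.subtypeEquivRight fun w => ⟨fun h => ⟨h z ?_, h t ?_⟩, fun h b hb => ?_⟩)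
      · show z ∈ (B : Set S); rw [hB0]; simp
      · show t ∈ (B : Set S); rw [hB0]; simp
      · have hb' : b ∈ (B : Set S) := hb
        rw [hB0] at hb'
        simp only [Set.mem_insert_iff, Set.mem_singleton_iff] at hb'
        rcases hb' with rfl | rfl | rfl | rfl
        · exact rho_one ρ w
        · exact h.1
        · exact h.2
        · rw [rho_mul, h.1, h.2]
    omega
  · push Not at hcase
    refine SetLike.coe_injective ?_
    show (B : Set S) = {1, z, r * t, r * t * z}
    refine hsame _ (h4 _ _ _) fun b hb => ?_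
    rcases helem b hb with h | h | h | h | h | h
    all_goals first
      | (subst h; exact absurd hb hcase.1)
      | (subst h; exact absurd hb hcase.2)
      | simp [h]

end Module

end CfsgLib.FGS.NineDihedral
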