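import Mathlib
import Cfsg.Agent.Lib.Invol.BaerSuzuki
import Cfsg.Agent.Lib.FGS.Class

/-!
# Groups in which no 2-element inverts an element of odd order
-/

namespace CfsgLib.FGS

open Subgroup

universe u

variable {G : Type u} [Group G]

/-- An inversion modulo a normal 2-subgroup lifts to an inversion by a 2-element. -/
theorem exists_inverted_lift [Finite G] {N : Subgroup G} [N.Normal] (hN : IsPGroup 2 N)
    {t h : G ⧸ N} (ht : orderOf t = 2) (hh1 : h ≠ 1) (hodd : Odd (orderOf h))
    (hinv : t * h * t⁻¹ = h⁻¹) :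
    ∃ (p : ℕ) (x s : G) (a : ℕ), p.Prime ∧ Odd p ∧ orderOf x = p ∧ s ^ 2 ^ a = 1 ∧
      s * x * s⁻¹ = x⁻¹ := by
  -- reduce to an element of prime order
  obtain ⟨p, hp, hpd⟩ := Nat.exists_prime_and_dvd (mt orderOf_eq_one_iff.1 hh1)
  have : Fact p.Prime := ⟨hp⟩
  have hpodd : Odd p := hodd.of_dvd_nat hpd
  obtain ⟨g, hg⟩ := QuotientGroup.mk_surjective (h ^ (orderOf h / p))
  set y : G ⧸ N := h ^ (orderOf h / p) with hy
  have hyo : orderOf y = p := by
    rw [hy, orderOf_pow_of_dvd (Nat.div_ne_zero_iff.2 ⟨hp.ne_zero,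
      Nat.le_of_dvd (orderOf_pos h) hpd⟩) (Nat.div_dvd_of_dvd hpd),
      Nat.div_div_self hpd (orderOf_pos h).ne']
  have hyinv : t * y * t⁻¹ = y⁻¹ := by
    rw [hy, ← conj_pow, hinv, inv_pow]
  have hgN : g ^ p ∈ N := by
    rw [← QuotientGroup.eq_one_iff, QuotientGroup.mk_pow, hg, ← hyo, pow_orderOf_eq_one]
  obtain ⟨b, hb⟩ := hN ⟨g ^ p, hgN⟩
  replace hb : (g ^ p) ^ 2 ^ b = 1 := congrArg Subtype.val hb
  set x : G := g ^ 2 ^ b with hx
  have hxim : (QuotientGroup.mk x : G ⧸ N) = y ^ 2 ^ b := by rw [hx, QuotientGroup.mk_pow, hg]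
  have hcop : (orderOf y).Coprime (2 ^ b) := by
    rw [hyo]; exact Nat.Coprime.pow_right _ (Nat.Coprime.symm (Nat.coprime_two_left.2 hpodd))
  have hximo : orderOf (QuotientGroup.mk x : G ⧸ N) = p := by
    rw [hxim, hcop.orderOf_pow, hyo]
  have hxo : orderOf x = p := orderOf_eq_prime
    (by rw [hx, ← pow_mul, mul_comm, pow_mul, hb])
    (by intro h1; rw [h1, QuotientGroup.mk_one, orderOf_one] at hximo; exact hp.one_lt.ne hximo)
  have hximinv : t * (QuotientGroup.mk x : G ⧸ N) * t⁻¹ = (QuotientGroup.mk x)⁻¹ := by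
    rw [hxim, ← conj_pow, hyinv, inv_pow]
  obtain ⟨s, hs⟩ := QuotientGroup.mk_surjective t
  -- the preimage of ⟨x̄⟩
  set L : Subgroup G := (zpowers (QuotientGroup.mk x : G ⧸ N)).comap (QuotientGroup.mk' N) with hL
  have hxL : x ∈ L := mem_zpowers (QuotientGroup.mk x : G ⧸ N)
  have hNL : N ≤ L := fun n hn => by
    show (QuotientGroup.mk n : G ⧸ N) ∈ zpowers (QuotientGroup.mk x : G ⧸ N)
    rw [(QuotientGroup.eq_one_iff n).2 hn]; exact one_mem _
  obtain ⟨c, hc⟩ := IsPGroup.iff_card.1 hN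
  have hLcard : Nat.card L = 2 ^ c * p := by
    have h1 := Subgroup.card_mul_index (N.subgroupOf L)
    have h2 : Nat.card (N.subgroupOf L) = Nat.card N :=
      Nat.card_congr (Subgroup.subgroupOfEquivOfLe hNL).toEquiv
    have h3 : (N.subgroupOf L).index = p := by
      show N.relIndex L = p
      have h4 := relIndex_comap (⊥ : Subgroup (G ⧸ N)) (QuotientGroup.mk' N) L
      rw [MonoidHom.comap_bot, QuotientGroup.ker_mk',
        map_comap_eq_self_of_surjective (QuotientGroup.mk'_surjective N), relIndex_bot_left,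
        Nat.card_zpowers, hximo] at h4
      exact h4
    rw [← h1, h2, h3, hc]
  -- Sylow p-subgroups of L
  have hsx : s * x * s⁻¹ ∈ L := by
    show (QuotientGroup.mk (s * x * s⁻¹) : G ⧸ N) ∈ zpowers (QuotientGroup.mk x : G ⧸ N)
    rw [QuotientGroup.mk_mul, QuotientGroup.mk_mul, QuotientGroup.mk_inv, hs, hximinv]
    exact inv_mem (mem_zpowers _)
  have hfac : (2 ^ c * p).factorization p = 1 := by
    rw [Nat.factorization_mul (by positivity) hp.ne_zero, Finsupp.add_apply, hp.factorization_self,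
      Nat.factorization_eq_zero_of_not_dvd (fun h => ?_)]
    have := Nat.le_of_dvd (by norm_num) (hp.dvd_of_dvd_pow h)
    have := hp.two_le
    exact (Nat.not_even_iff_odd.2 hpodd) ⟨1, by omega⟩
  have hsyl : ∀ z : L, orderOf (z : G) = p → Nat.card (zpowers z) =
      p ^ (Nat.card L).factorization p := fun z hz => by
    rw [Nat.card_zpowers, hLcard, hfac, pow_one, ← Subgroup.orderOf_coe, hz]
  have hsxo : orderOf (s * x * s⁻¹) = p := ((MulAut.conj s).orderOf_eq x).trans hxo
  obtain ⟨n, hn⟩ := MulAction.exists_smul_eq L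
    (Sylow.ofCard (zpowers (⟨s * x * s⁻¹, hsx⟩ : L)) (hsyl _ hsxo))
    (Sylow.ofCard (zpowers (⟨x, hxL⟩ : L)) (hsyl _ hxo))
  have hmem : n * (⟨s * x * s⁻¹, hsx⟩ : L) * n⁻¹ ∈ zpowers (⟨x, hxL⟩ : L) := by
    have h2 : MulAut.conj n • (⟨s * x * s⁻¹, hsx⟩ : L) ∈
        ((n • Sylow.ofCard (zpowers (⟨s * x * s⁻¹, hsx⟩ : L)) (hsyl _ hsxo) : Sylow p L) :
          Subgroup L) :=
      Subgroup.smul_mem_pointwise_smul _ (MulAut.conj n) _ (mem_zpowers _)
    rw [hn] at h2
    exact h2
  obtain ⟨k, hk⟩ := mem_zpowers_iff.1 hmem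
  replace hk : x ^ k = (n : G) * (s * x * s⁻¹) * (n : G)⁻¹ := by
    have := congrArg Subtype.val hk
    simpa using this
  obtain ⟨i, hi⟩ := mem_zpowers_iff.1 (n.2 : (QuotientGroup.mk (n : G) : G ⧸ N) ∈ _)
  -- the new inverting element
  set s' : G := (n : G) * s with hs'
  have hs'im : (QuotientGroup.mk s' : G ⧸ N) = (QuotientGroup.mk x : G ⧸ N) ^ i * t := by
    rw [hs', QuotientGroup.mk_mul, hs, hi]
  set X : G ⧸ N := QuotientGroup.mk x with hX
  have hXi : t * X ^ i * t⁻¹ = (X ^ i)⁻¹ := by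
    rw [← conj_zpow, hximinv, inv_zpow]
  have ht2 : t * t = 1 := by rw [← sq, ← ht, pow_orderOf_eq_one]
  have hs'2 : s' ^ 2 ∈ N := by
    rw [← QuotientGroup.eq_one_iff, QuotientGroup.mk_pow, hs'im, sq]
    calc X ^ i * t * (X ^ i * t) = X ^ i * (t * X ^ i * t⁻¹) * (t * t) := by group
      _ = 1 := by rw [hXi, ht2]; group
  obtain ⟨d, hd⟩ := hN ⟨s' ^ 2, hs'2⟩
  replace hd : (s' ^ 2) ^ 2 ^ d = 1 := congrArg Subtype.val hd
  refine ⟨p, x, s', d + 1, hp, hpodd, hxo, by rw [pow_succ', pow_mul, hd], ?_⟩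
  have hk' : x ^ k = s' * x * s'⁻¹ := by rw [hk, hs']; group
  have hXk : X ^ k = X⁻¹ := by
    rw [hX, ← QuotientGroup.mk_zpow, hk', QuotientGroup.mk_mul, QuotientGroup.mk_mul,
      QuotientGroup.mk_inv, hs'im, ← hX]
    calc X ^ i * t * X * (X ^ i * t)⁻¹ = X ^ i * (t * X * t⁻¹) * (X ^ i)⁻¹ := by group
      _ = X⁻¹ := by rw [hximinv]; group
  rw [← hk', ← zpow_neg_one x]
  rw [zpow_eq_zpow_iff_modEq, hxo]
  rw [← zpow_neg_one X, zpow_eq_zpow_iff_modEq, hximo] at hXk
  exact hXk

/-- A 2-element inverting an element of odd prime order generates with it a group with two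
coprime nontrivial class sizes. -/
theorem exists_coprime_classes [Finite G] {p : ℕ} (hp : p.Prime) (hodd : Odd p) {x s : G}
    {a : ℕ} (hx : orderOf x = p) (hs : s ^ 2 ^ a = 1) (hinv : s * x * s⁻¹ = x⁻¹) :
    ∃ (H : Subgroup G) (u v : H), 1 < (centralizer ({u} : Set H)).index ∧
      1 < (centralizer ({v} : Set H)).index ∧
      ((centralizer ({u} : Set H)).index).Coprime (centralizer ({v} : Set H)).index := by
  let H : Subgroup G := closure {x, s}
  let u : H := ⟨x, subset_closure (Or.inl rfl)⟩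
  let v : H := ⟨s, subset_closure (Or.inr rfl)⟩
  have huinv : v * u * v⁻¹ = u⁻¹ := Subtype.ext hinv
  have huo : orderOf u = p := by rw [← Subgroup.orderOf_coe]; exact hx
  have hune : u⁻¹ ≠ u := by
    intro h
    have h2 : orderOf u ∣ 2 := orderOf_dvd_of_pow_eq_one (by
      calc u ^ 2 = u * u := sq u
        _ = u * u⁻¹ := by rw [h]
        _ = 1 := mul_inv_cancel u)
    rw [huo] at h2
    exact (Nat.not_even_iff_odd.2 hodd) ⟨1, ((Nat.prime_dvd_prime_iff_eq hp Nat.prime_two).1 h2)⟩
  have hgen : (⊤ : Subgroup H) = closure {u, v} := by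
    symm
    apply map_injective H.subtype_injective
    rw [MonoidHom.map_closure, ← MonoidHom.range_eq_map, range_subtype, Set.image_pair]
    rfl
  -- u and u⁻¹ form a class
  have hclass : {h : H | IsConj u h} = {u, u⁻¹} := by
    apply Set.Subset.antisymm
    · rintro w hw
      obtain ⟨g, rfl⟩ := isConj_iff.1 hw
      have : g ∈ closure ({u, v} : Set H) := hgen ▸ mem_top g
      induction this using Subgroup.closure_induction with
      | mem g hg =>
        rcases hg with rfl | rfl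
        · exact Or.inl (mul_inv_cancel_right _ _)
        · exact Or.inr huinv
      | one => exact Or.inl (by group)
      | mul g₁ g₂ _ _ h1 h2 =>
        specialize h1 (isConj_iff.2 ⟨g₁, rfl⟩)
        specialize h2 (isConj_iff.2 ⟨g₂, rfl⟩)
        have e : g₁ * g₂ * u * (g₁ * g₂)⁻¹ = g₁ * (g₂ * u * g₂⁻¹) * g₁⁻¹ := by group
        rw [e]
        rcases h2 with h2 | h2
        · rw [h2]; exact h1
        · rw [h2, ← conj_inv]
          rcases h1 with h1 | h1
          · rw [h1]; exact Or.inr rfl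
          · rw [h1, inv_inv]; exact Or.inl rfl
      | inv g₁ _ h1 =>
        specialize h1 (isConj_iff.2 ⟨g₁, rfl⟩)
        rcases h1 with h1 | h1
        · refine Or.inl ?_
          conv_lhs => rw [← h1]
          group
        · refine Or.inr ?_
          have e : g₁ * u⁻¹ * g₁⁻¹ = u := by rw [← conj_inv, h1, inv_inv]
          show g₁⁻¹ * u * g₁⁻¹⁻¹ = u⁻¹
          calc g₁⁻¹ * u * g₁⁻¹⁻¹ = g₁⁻¹ * (g₁ * u⁻¹ * g₁⁻¹) * g₁ := by rw [e, inv_inv]
            _ = u⁻¹ := by group
    · rintro w (rfl | rfl)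
      · exact IsConj.refl _
      · exact isConj_iff.2 ⟨v, huinv⟩
  have hu2 : (centralizer ({u} : Set H)).index = 2 := by
    rw [index_centralizer_eq_ncard, hclass, Set.ncard_pair hune.symm]
  -- the class of v has size dividing p
  haveI hXn : (zpowers u).Normal := by
    rw [← normalizer_eq_top_iff, eq_top_iff, hgen, closure_le]
    rintro g (rfl | rfl)
    · exact le_normalizer (mem_zpowers u)
    · rw [SetLike.mem_coe, Subgroup.mem_normalizer_iff]
      intro w
      constructor
      · intro hw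
        obtain ⟨j, rfl⟩ := mem_zpowers_iff.1 hw
        rw [← conj_zpow, huinv]
        exact zpow_mem (inv_mem (mem_zpowers u)) j
      · intro hw
        obtain ⟨j, hj⟩ := mem_zpowers_iff.1 hw
        refine mem_zpowers_iff.2 ⟨-j, ?_⟩
        apply mul_left_cancel (a := v)
        apply mul_right_cancel (b := v⁻¹)
        rw [← hj, ← conj_zpow, huinv, inv_zpow, zpow_neg, inv_inv]
  have hsup : zpowers u ⊔ zpowers v = ⊤ := by
    rw [eq_top_iff, hgen, closure_le]
    rintro g (rfl | rfl)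
    · exact mem_sup_left (mem_zpowers u)
    · exact mem_sup_right (mem_zpowers v)
  have hcardH : Nat.card H ∣ p * orderOf v := by
    rw [← Subgroup.card_mul_index (zpowers u), Nat.card_zpowers, huo]
    apply Nat.mul_dvd_mul_left
    rw [← Nat.card_zpowers v]
    have hsur : Function.Surjective ((QuotientGroup.mk' (zpowers u)).comp (zpowers v).subtype) := by
      intro q
      obtain ⟨g, rfl⟩ := QuotientGroup.mk_surjective q
      have hg : g ∈ zpowers u ⊔ zpowers v := hsup ▸ mem_top g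
      obtain ⟨y, hy, z, hz, rfl⟩ := mem_sup_of_normal_left.1 hg
      exact ⟨⟨z, hz⟩, by
        show (QuotientGroup.mk z : H ⧸ zpowers u) = QuotientGroup.mk (y * z)
        rw [QuotientGroup.mk_mul, (QuotientGroup.eq_one_iff y).2 hy, one_mul]⟩
    exact Subgroup.card_dvd_of_surjective _ hsur
  have hvle : zpowers v ≤ centralizer ({v} : Set H) := by
    rw [zpowers_le, mem_centralizer_singleton_iff]
  have hidx : (centralizer ({v} : Set H)).index ∣ p := by
    apply (index_dvd_of_le hvle).trans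
    apply Nat.dvd_of_mul_dvd_mul_left (orderOf_pos v)
    rw [← Nat.card_zpowers v, Subgroup.card_mul_index, Nat.card_zpowers, mul_comm]
    exact hcardH
  have hv1 : (centralizer ({v} : Set H)).index ≠ 1 := by
    intro h1
    have : u ∈ centralizer ({v} : Set H) := index_eq_one.1 h1 ▸ mem_top u
    rw [mem_centralizer_singleton_iff] at this
    apply hune
    rw [← huinv, ← this, mul_inv_cancel_right]
  have hvp : (centralizer ({v} : Set H)).index = p := ((Nat.dvd_prime hp).1 hidx).resolve_left hv1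
  refine ⟨H, u, v, by omega, by rw [hvp]; exact hp.one_lt, ?_⟩
  rw [hu2, hvp]
  exact Nat.coprime_two_left.2 hodd

/-- If no 2-element inverts a nontrivial element of odd order, the group is solvable
(granting that groups of odd order are solvable). -/
theorem isSolvable_of_no_inverted [Finite G]
    (hFT : ∀ (K : Type u) [Group K] [Finite K], Odd (Nat.card K) → Group.IsSolvable K)
    (h : ∀ (p : ℕ) (x s : G) (a : ℕ), p.Prime → Odd p → orderOf x = p → s ^ 2 ^ a = 1 →
      s * x * s⁻¹ ≠ x⁻¹) : Group.IsSolvable G := by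
  have : Fact (Nat.Prime 2) := ⟨Nat.prime_two⟩
  obtain ⟨N, hN, hmax⟩ := (Set.toFinite {N : Subgroup G | N.Normal ∧ IsPGroup 2 N}).exists_le_maximal
    (a := ⊥) ⟨inferInstance, IsPGroup.of_bot⟩
  obtain ⟨hNn, hN2⟩ := hmax.1
  haveI := hNn
  have hq : Odd (Nat.card (G ⧸ N)) := by
    rw [← Nat.not_even_iff_odd, even_iff_two_dvd]
    intro h2
    obtain ⟨t, ht⟩ := exists_prime_orderOf_dvd_card' 2 h2
    obtain ⟨y, hy1, hyodd, hyinv⟩ := CfsgLib.Invol.exists_inverted_odd t ht fun M hM hM2 htM => by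
      have hcomap : IsPGroup 2 (M.comap (QuotientGroup.mk' N)) :=
        hM2.comap_of_ker_isPGroup _ (by rwa [QuotientGroup.ker_mk'])
      have hle : N ≤ M.comap (QuotientGroup.mk' N) := fun n hn => by
        rw [mem_comap, QuotientGroup.mk'_apply, (QuotientGroup.eq_one_iff n).2 hn]
        exact one_mem _
      obtain ⟨g, rfl⟩ := QuotientGroup.mk_surjective t
      have : g ∈ N := hmax.2 ⟨inferInstance, hcomap⟩ hle htM
      rw [(QuotientGroup.eq_one_iff g).2 this, orderOf_one] at ht
      omega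
    obtain ⟨p, x, s, a, hp, hpo, hxo, hs, hinv⟩ :=
      exists_inverted_lift hN2 ht hy1 hyodd hyinv
    exact h p x s a hp hpo hxo hs hinv
  haveI := hFT _ hq
  haveI : Group.IsNilpotent N := hN2.isNilpotent
  exact Group.isSolvable_of_ker_le_range N.subtype (QuotientGroup.mk' N) (by simp)

/-- Complete common-divisor graphs on all subgroups force solvability, granting the odd order
theorem. -/
theorem isSolvable_of_complete_graph [Finite G]
    (hFT : ∀ (K : Type u) [Group K] [Finite K], Odd (Nat.card K) → Group.IsSolvable K)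
    (h : ∀ (H : Subgroup G) (x y : H), 1 < (centralizer ({x} : Set H)).index →
      1 < (centralizer ({y} : Set H)).index →
      ¬ ((centralizer ({x} : Set H)).index).Coprime (centralizer ({y} : Set H)).index) :
    Group.IsSolvable G :=
  isSolvable_of_no_inverted hFT fun p x s a hp hodd hx hs hinv => by
    obtain ⟨H, u, v, h1, h2, h3⟩ := exists_coprime_classes hp hodd hx hs hinv
    exact h H u v h1 h2 h3

end CfsgLib.FGS
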