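import Cfsg.Agent.Lib.Invol.BaerSuzuki
import Cfsg.Agent.Lib.Solvable.SchurZassenhaus
import Cfsg.Agent.Lib.FGS.Basics

/-!
Groups in which no nontrivial element of odd order is conjugate to its inverse have a normal
Sylow 2-subgroup.
-/

set_option autoImplicit false

namespace CfsgLib.FGS

universe u

/-- No nontrivial element of odd order is conjugate to its inverse. -/
def NoOddInverted (G : Type u) [Group G] : Prop :=
  ∀ x g : G, Odd (orderOf x) → g * x * g⁻¹ = x⁻¹ → x = 1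

variable {G : Type u} [Group G] [Finite G]

theorem NoOddInverted.quotient (h : NoOddInverted G) (T : Subgroup G) [T.Normal] (hT : IsPGroup 2 T) :
    NoOddInverted (G ⧸ T) := by
  intro y g' hy hgy
  by_contra hy1
  obtain ⟨q, hq, hqd⟩ := Nat.exists_prime_and_dvd (fun e => hy1 (orderOf_eq_one_iff.1 e))
  haveI := Fact.mk hq
  have hq2 : q ≠ 2 := fun e => (Nat.not_even_iff_odd.2 hy) (even_iff_two_dvd.2 (e ▸ hqd))
  obtain ⟨a, b, ⟨k, hk⟩, hb, hab, hqa⟩ := exists_p_parts q y
  set z := y ^ a with hz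
  have hz1 : z ≠ 1 := by
    intro e
    rw [e, one_mul] at hab
    rw [hab] at hb
    exact Nat.Prime.not_coprime_iff_dvd.2 ⟨q, hq, hqd, dvd_rfl⟩ hb
  obtain ⟨x₀, hx₀⟩ := QuotientGroup.mk'_surjective T z
  obtain ⟨e, f, ⟨i, hi⟩, hf, hef, -⟩ := exists_p_parts q x₀
  set x := x₀ ^ e
  have hxz : QuotientGroup.mk' T x = z := by
    have hf1 : QuotientGroup.mk' T (x₀ ^ f) = 1 := by
      refine orderOf_eq_one_iff.1 (Nat.eq_one_of_dvd_coprimes (hf.pow_right k) ?_ ?_)
      · exact orderOf_map_dvd _ _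
      · rw [map_pow, hx₀, ← hk]; exact orderOf_pow_dvd f
    rw [← hx₀, ← hef, map_mul, hf1, mul_one]
  obtain ⟨g, rfl⟩ := QuotientGroup.mk'_surjective T g'
  have hgz : QuotientGroup.mk' T (g * x * g⁻¹) = z⁻¹ := by
    rw [map_mul, map_mul, map_inv, hxz, hz, ← conj_pow, hgy, inv_pow]
  have hgx : g * x * g⁻¹ ∈ T ⊔ Subgroup.zpowers x := by
    rw [show g * x * g⁻¹ = g * x * g⁻¹ * x * x⁻¹ by group]
    refine mul_mem (le_sup_left (b := Subgroup.zpowers x) ?_)
      (le_sup_right (a := T) (inv_mem (Subgroup.mem_zpowers x)))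
    rw [← QuotientGroup.eq_one_iff]
    show QuotientGroup.mk' T _ = 1
    rw [map_mul, hgz, hxz, inv_mul_cancel]
  have hTq : ¬ q ∣ Nat.card T := by
    obtain ⟨j, hj⟩ := hT.exists_card_eq
    rw [hj]
    exact fun hd => hq2 ((Nat.prime_dvd_prime_iff_eq hq Nat.prime_two).1 (hq.dvd_of_dvd_pow hd))
  have hd : T ⊓ Subgroup.zpowers x = ⊥ := by
    refine Subgroup.inf_eq_bot_of_coprime ?_
    rw [Nat.card_zpowers, hi]
    exact ((Nat.Prime.coprime_iff_not_dvd hq).2 hTq).symm.pow_right i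
  obtain ⟨n, hn, hle⟩ := CfsgLib.Solvable.exists_conj_le_of_pGroup T (Subgroup.zpowers x)
    (Subgroup.zpowers (g * x * g⁻¹))
    (by rw [Subgroup.normalizer_eq_top_iff.2 ‹T.Normal›]; exact le_top) hd
    (Subgroup.zpowers_le.2 hgx)
    (isPGroup_zpowers (p := q) (k := i)
      (by rw [← hi]; exact orderOf_injective (MulAut.conj g).toMonoidHom (MulAut.conj g).injective x))
    hTq
  have hmem : n * g * x * (n * g)⁻¹ ∈ Subgroup.zpowers x := by
    have h2 := hle (Subgroup.smul_mem_pointwise_smul _ (MulAut.conj n) _ (Subgroup.mem_zpowers (g * x * g⁻¹)))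
    simpa [MulAut.smul_def, MulAut.conj_apply, mul_assoc] using h2
  have hinv : n * g * x * (n * g)⁻¹ = x⁻¹ := by
    have hin : n * g * x * (n * g)⁻¹ * x ∈ T ⊓ Subgroup.zpowers x := by
      refine Subgroup.mem_inf.2 ⟨?_, mul_mem hmem (Subgroup.mem_zpowers x)⟩
      rw [← QuotientGroup.eq_one_iff]
      show QuotientGroup.mk' T _ = 1
      rw [show n * g * x * (n * g)⁻¹ * x = n * (g * x * g⁻¹) * n⁻¹ * x by group, map_mul, map_mul,
        map_mul, map_inv, show QuotientGroup.mk' T n = 1 from (QuotientGroup.eq_one_iff n).2 hn, one_mul,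
        inv_one, mul_one, hgz, hxz, inv_mul_cancel]
    rw [hd, Subgroup.mem_bot] at hin
    exact eq_inv_of_mul_eq_one_left hin
  have hodd : Odd (orderOf x) := by
    rw [hi]; exact ((hq.odd_of_ne_two hq2).pow)
  have hx1 := h x (n * g) hodd hinv
  rw [hx1, map_one] at hxz
  exact hz1 hxz.symm

theorem NoOddInverted.exists_normal_two (h : NoOddInverted G) {t : G} (ht : orderOf t = 2) :
    ∃ N : Subgroup G, N.Normal ∧ IsPGroup 2 N ∧ t ∈ N := by
  haveI : Fact (Nat.Prime 2) := ⟨Nat.prime_two⟩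
  have htt : t * t = 1 := by rw [← sq, ← ht]; exact pow_orderOf_eq_one t
  have hti : t⁻¹ = t := inv_eq_of_mul_eq_one_left htt
  have hXp : IsPGroup 2 (Subgroup.zpowers t) := isPGroup_zpowers (k := 1) (by rw [ht, pow_one])
  obtain ⟨N, hN, hNp, hle⟩ := CfsgLib.Invol.baer_suzuki (p := 2) (Subgroup.zpowers t) hXp fun g => by
    set t' := g * t * g⁻¹ with ht'
    set w := t * t' with hw
    have hcw : t * w * t⁻¹ = w⁻¹ := by
      have ht't : t'⁻¹ = t' := by rw [ht', conj_inv, hti]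
      rw [hw, mul_inv_rev, ht't, ← mul_assoc, htt, one_mul]
    obtain ⟨a, b, ⟨k, hk⟩, hb, hab, -⟩ := exists_p_parts 2 w
    have hb1 : w ^ b = 1 := h (w ^ b) t (by
      rcases Nat.even_or_odd (orderOf (w ^ b)) with he | ho
      · exact absurd hb (Nat.Prime.not_coprime_iff_dvd.2 ⟨2, Nat.prime_two, even_iff_two_dvd.1 he, dvd_rfl⟩)
      · exact ho) (by rw [← conj_pow, hcw, inv_pow])
    rw [hb1, mul_one] at hab
    rw [hab] at hk
    have htN : Subgroup.zpowers t ≤ Subgroup.normalizer ((Subgroup.zpowers w : Subgroup G) : Set G) := by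
      rw [Subgroup.zpowers_le]
      have hin : ∀ s ∈ Subgroup.zpowers w, t * s * t⁻¹ ∈ Subgroup.zpowers w := by
        rintro _ ⟨m, rfl⟩
        show t * w ^ m * t⁻¹ ∈ _
        rw [← conj_zpow, hcw]
        exact zpow_mem (inv_mem (Subgroup.mem_zpowers w)) m
      refine Subgroup.mem_normalizer_iff.2 fun s => ⟨hin s, fun hs => ?_⟩
      have h2 := hin _ hs
      rw [show t * (t * s * t⁻¹) * t⁻¹ = (t * t) * s * (t * t)⁻¹ by group, htt] at h2
      simpa using h2
    refine ((isPGroup_zpowers hk).to_sup_of_normal_left' hXp htN).to_le (sup_le le_sup_right ?_)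
    rw [MonoidHom.map_zpowers, Subgroup.zpowers_le]
    show t' ∈ _
    rw [show t' = t⁻¹ * w by rw [hw]; group]
    exact mul_mem (le_sup_right (a := Subgroup.zpowers w) (inv_mem (Subgroup.mem_zpowers t)))
      (le_sup_left (b := Subgroup.zpowers t) (Subgroup.mem_zpowers w))
  exact ⟨N, hN, hNp, hle (Subgroup.mem_zpowers t)⟩

theorem NoOddInverted.sylow_two_normal (h : NoOddInverted G) (P : Sylow 2 G) : (P : Subgroup G).Normal := by
  haveI : Fact (Nat.Prime 2) := ⟨Nat.prime_two⟩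
  obtain ⟨T, -, ⟨hTn, hTp⟩, hTmax⟩ := Finite.exists_le_maximal
    (p := fun T : Subgroup G => T.Normal ∧ IsPGroup 2 T) (a := (⊥ : Subgroup G))
    ⟨inferInstance, IsPGroup.of_bot⟩
  haveI := hTn
  have hidx : ¬ 2 ∣ T.index := by
    intro hd
    rw [Subgroup.index_eq_card] at hd
    obtain ⟨t, ht⟩ := exists_prime_orderOf_dvd_card' (G := G ⧸ T) 2 hd
    obtain ⟨N, hN, hNp, htN⟩ := (h.quotient T hTp).exists_normal_two ht
    have hle : T ≤ N.comap (QuotientGroup.mk' T) := fun z hz => by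
      rw [Subgroup.mem_comap, QuotientGroup.mk'_apply, (QuotientGroup.eq_one_iff z).2 hz]
      exact one_mem N
    have hp : IsPGroup 2 (N.comap (QuotientGroup.mk' T)) :=
      hNp.comap_of_ker_isPGroup _ (by rw [QuotientGroup.ker_mk']; exact hTp)
    obtain ⟨s, hs⟩ := QuotientGroup.mk'_surjective T t
    have hsT : s ∈ T := hTmax ⟨hN.comap _, hp⟩ hle (by rw [Subgroup.mem_comap, hs]; exact htN)
    rw [show t = 1 from hs ▸ (QuotientGroup.eq_one_iff s).2 hsT, orderOf_one] at ht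
    exact absurd ht (by norm_num)
  have hsub : (P : Subgroup G) = T := by
    refine le_antisymm (fun x hx => ?_) ?_
    · obtain ⟨k, hk⟩ := IsPGroup.iff_orderOf.1 P.isPGroup' ⟨x, hx⟩
      rw [Subgroup.orderOf_mk] at hk
      have h1 : orderOf (QuotientGroup.mk' T x) ∣ 2 ^ k := hk ▸ orderOf_map_dvd _ x
      have h2 : orderOf (QuotientGroup.mk' T x) ∣ T.index := by
        rw [Subgroup.index_eq_card]; exact orderOf_dvd_natCard _
      exact (QuotientGroup.eq_one_iff x).1 (orderOf_eq_one_iff.1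
        (Nat.eq_one_of_dvd_coprimes (((Nat.prime_two.coprime_iff_not_dvd).2 hidx).pow_left k) h1 h2))
    · exact le_sup_right.trans (P.is_maximal' (P.isPGroup'.to_sup_of_normal_right hTp) le_sup_left).le
  rw [hsub]; exact hTn

end CfsgLib.FGS
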