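import Cfsg.Agent.Lib.Transfer.Frobenius
import Cfsg.Agent.Lib.FGS.ThompsonKernel
import Cfsg.Agent.Lib.FGS.Basics

/-!
Automorphisms of coprime order of small abelian and of almost cyclic groups, and transfer criteria.
-/

set_option autoImplicit false

namespace CfsgLib.FGS

theorem pow_apply_eq {V : Type*} [Group V] (b : MulAut V) {x : V} (h : b x = x) (k : ℕ) :
    (b ^ k) x = x := by
  induction k with
  | zero => rfl
  | succ k ih => rw [pow_succ, MulAut.mul_apply, h, ih]

/-- An automorphism of prime order `q` of an abelian `p`-group with at most `p ^ d` elements of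
exponent `p` is trivial when `q` divides no `p ^ i - 1` with `i ≤ d`. -/
theorem mulAut_eq_one_of_card_omega {V : Type*} [CommGroup V] [Finite V] {p : ℕ} [hp : Fact p.Prime]
    (hV : IsPGroup p V) {q : ℕ} (hq : q.Prime) (hqp : q ≠ p) (b : MulAut V) (hb : b ^ q = 1) (d : ℕ)
    (hd : Nat.card {x : V // x ^ p = 1} ≤ p ^ d)
    (hdiv : ∀ i, 1 ≤ i → i ≤ d → ¬ q ∣ p ^ i - 1) : b = 1 := by
  classical
  haveI := Fact.mk hq
  let Ω : Subgroup V := (powMonoidHom p : V →* V).ker
  let W : Subgroup V := Ω ⊓ (MonoidHom.eqLocus b.toMonoidHom (MonoidHom.id V))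
  have hΩinv : ∀ x ∈ Ω, b x ∈ Ω := fun x hx => by
    simp only [Ω, MonoidHom.mem_ker, powMonoidHom_apply] at hx ⊢
    rw [← map_pow, hx, map_one]
  obtain ⟨ψ, hψ⟩ := exists_restrict_mulAut b hΩinv
  have hψ1 : ∀ x : Ω, (ψ x : V) = b x := fun x => by simpa using hψ 1 x
  have hψq : ψ ^ q = 1 := MulEquiv.ext fun x => Subtype.ext (by rw [hψ, hb]; rfl)
  have hΩW : Ω ≤ W := by
    have hB : IsPGroup q (Subgroup.zpowers ψ) := by
      refine IsPGroup.iff_orderOf.2 fun x => ?_
      have h1 : orderOf x ∣ q := by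
        rw [← Subgroup.orderOf_coe]
        exact (orderOf_dvd_of_mem_zpowers x.2).trans (orderOf_dvd_of_pow_eq_one hψq)
      rcases (Nat.dvd_prime hq).1 h1 with h | h
      · exact ⟨0, by rw [h, pow_zero]⟩
      · exact ⟨1, by rw [h, pow_one]⟩
    have hmod := hB.card_modEq_card_fixedPoints Ω
    let e : MulAction.fixedPoints (Subgroup.zpowers ψ) Ω ≃ W :=
      { toFun := fun x => ⟨(x.1 : V), Subgroup.mem_inf.2 ⟨x.1.2, by
          have h := congrArg Subtype.val (x.2 ⟨ψ, Subgroup.mem_zpowers ψ⟩)
          exact (hψ1 x.1).symm.trans h⟩⟩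
        invFun := fun w => ⟨⟨w.1, (Subgroup.mem_inf.1 w.2).1⟩, by
          rintro ⟨g, hg⟩
          obtain ⟨k, rfl⟩ := (IsOfFinOrder.mem_powers_iff_mem_zpowers
            (isOfFinOrder_of_finite ψ)).2 hg
          refine Subtype.ext ?_
          show (((ψ ^ k) _ : Ω) : V) = _
          rw [hψ]
          exact pow_apply_eq b (show b w.1 = w.1 from (Subgroup.mem_inf.1 w.2).2) k⟩
        left_inv := fun x => rfl
        right_inv := fun w => rfl }
    rw [Nat.card_congr e] at hmod
    have hWle : W ≤ Ω := inf_le_left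
    obtain ⟨a, ha⟩ := (hV.to_subgroup Ω).exists_card_eq
    obtain ⟨c, hc⟩ := (hV.to_subgroup W).exists_card_eq
    have hca : c ≤ a := (Nat.pow_dvd_pow_iff_le_right hp.out.one_lt).1
      (hc ▸ ha ▸ Subgroup.card_dvd_of_le hWle)
    by_contra hne
    have hlt : c < a := lt_of_le_of_ne hca fun e => hne
      (Subgroup.eq_of_le_of_card_ge hWle (by rw [ha, hc, e])).ge
    have had : a ≤ d := (Nat.pow_le_pow_iff_right hp.out.one_lt).1 (ha ▸ hd)
    refine hdiv (a - c) (by omega) (by omega) ?_
    have h1 : q ∣ p ^ a - p ^ c := by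
      rw [ha, hc] at hmod
      exact (Nat.modEq_iff_dvd' (Nat.pow_le_pow_right hp.out.pos hca)).1 hmod.symm
    have h2 : p ^ a - p ^ c = p ^ c * (p ^ (a - c) - 1) := by
      rw [Nat.mul_sub, mul_one, ← pow_add, Nat.add_sub_cancel' hca]
    rw [h2] at h1
    exact (((Nat.coprime_primes hq hp.out).2 hqp).pow_right c).dvd_of_dvd_mul_left h1
  have key : ∀ (k : ℕ) (x : V), x ^ p ^ k = 1 → b x = x := by
    intro k
    induction k with
    | zero => intro x hx; rw [pow_zero, pow_one] at hx; rw [hx, map_one]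
    | succ k ih =>
      intro x hx
      have h1 : b (x ^ p) = x ^ p := ih _ (by rw [← pow_mul, ← pow_succ']; exact hx)
      set z := x⁻¹ * b x with hz
      have hzp : z ^ p = 1 := by rw [hz, mul_pow, ← map_pow, h1, inv_pow, inv_mul_cancel]
      have hzfix : b z = z := (Subgroup.mem_inf.1 (hΩW (show z ∈ Ω from hzp))).2
      have hk : ∀ j : ℕ, (b ^ j) x = x * z ^ j := by
        intro j
        induction j with
        | zero => simp
        | succ j ihj =>
          rw [pow_succ', MulAut.mul_apply, ihj, map_mul, map_pow, hzfix, pow_succ', ← mul_assoc,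
            show b x = x * z by rw [hz, mul_inv_cancel_left]]
      have h2 := hk q
      rw [hb, MulAut.one_apply, left_eq_mul] at h2
      have hz1 : z = 1 := by
        rw [← orderOf_eq_one_iff]
        exact Nat.eq_one_of_dvd_coprimes ((Nat.coprime_primes hq hp.out).2 hqp)
          (orderOf_dvd_of_pow_eq_one h2) (orderOf_dvd_of_pow_eq_one hzp)
      exact (inv_mul_eq_one.1 hz1).symm
  refine MulEquiv.ext fun x => ?_
  obtain ⟨k, hk⟩ := hV x
  exact key k x hk

/-- An automorphism of prime order `q ≥ 5` of a `2`-group with a cyclic subgroup of index at most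
two is trivial. -/
theorem mulAut_eq_one_of_almost_cyclic {V : Type*} [Group V] [Finite V] (hV : IsPGroup 2 V)
    {q : ℕ} (hq : q.Prime) (hq5 : 5 ≤ q) (b : MulAut V) (hb : b ^ q = 1) (w : V)
    (hw : Nat.card V ≤ 2 * orderOf w) : b = 1 := by
  classical
  obtain ⟨k, hk⟩ := IsPGroup.iff_orderOf.1 hV w
  by_cases hk0 : k = 0
  · rw [hk, hk0, pow_zero, mul_one] at hw
    refine MulEquiv.ext fun x => ?_
    by_contra hne
    change b x ≠ x at hne
    have hx1 : x ≠ 1 := fun e => hne (by rw [e, map_one])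
    have hbx1 : b x ≠ 1 := fun e => hx1 (b.injective (e.trans (map_one b).symm))
    let f : Fin 3 → V := ![1, x, b x]
    have hf : Function.Injective f := by
      intro i j e
      fin_cases i <;> fin_cases j <;> simp_all [f, eq_comm]
    have := Nat.card_le_card_of_injective f hf
    simp at this
    omega
  obtain ⟨k, rfl⟩ : ∃ k', k = k' + 1 := ⟨k - 1, by omega⟩
  set W := Subgroup.zpowers w with hW
  have hWc : Nat.card W = 2 ^ (k + 1) := by rw [hW, Nat.card_zpowers, hk]
  have hinvgen : b w ∈ W := by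
    by_contra hbw
    let f : Fin q × Fin (2 ^ k) → V := fun z => ((b ^ (z.1 : ℕ)) w) ^ (2 * (z.2 : ℕ) + 1)
    have hgen : ∀ (v : V), orderOf v = 2 ^ (k + 1) → ∀ j : ℕ, v ∈ Subgroup.zpowers (v ^ (2 * j + 1)) := by
      intro v hv j
      obtain ⟨m, hm⟩ := exists_pow_eq_self_of_coprime (x := v) (n := 2 * j + 1)
        (by rw [hv]; exact Nat.Coprime.pow_right _ (Nat.coprime_two_right.2 ⟨j, rfl⟩))
      exact ⟨(m : ℤ), by simpa using hm⟩
    have hbz : ∀ (m : ℕ) (u : V), orderOf ((b ^ m) u) = orderOf u := fun m u =>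
      MulEquiv.orderOf_eq (b ^ m) u
    have hfinj : Function.Injective f := by
      rintro ⟨i, j⟩ ⟨i', j'⟩ e
      have e' : ((b ^ (i : ℕ)) w) ^ (2 * (j : ℕ) + 1) = ((b ^ (i' : ℕ)) w) ^ (2 * (j' : ℕ) + 1) := e
      have hi : i = i' := by
        by_contra hne
        wlog hlt : (i : ℕ) < i' generalizing i i' j j'
        · exact this i' j' i j e.symm e'.symm (fun h => hne h.symm)
            (lt_of_le_of_ne (not_lt.1 hlt) fun h => hne (Fin.ext h.symm))
        have hmem : (b ^ (i' : ℕ)) w ∈ Subgroup.zpowers ((b ^ (i : ℕ)) w) := by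
          have h1 := hgen _ ((hbz i' w).trans hk) j'
          rw [← e'] at h1
          exact (Subgroup.zpowers_le.2 (Subgroup.pow_mem _ (Subgroup.mem_zpowers _) _)) h1
        obtain ⟨m, hm⟩ := hmem
        have hd : (b ^ ((i' : ℕ) - i)) w ∈ W := by
          refine ⟨m, (b ^ (i : ℕ)).injective ?_⟩
          rw [map_zpow, ← MulAut.mul_apply, ← pow_add, Nat.add_sub_cancel' hlt.le]
          exact hm
        have hstab : ∀ t : ℕ, ((b ^ ((i' : ℕ) - i)) ^ t) w ∈ W := by
          intro t
          induction t with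
          | zero => exact Subgroup.mem_zpowers w
          | succ t ih =>
            obtain ⟨m', hm'⟩ := ih
            rw [pow_succ', MulAut.mul_apply, ← hm', map_zpow]
            exact Subgroup.zpow_mem _ hd _
        have hi' := i'.isLt
        obtain ⟨t, ht⟩ := exists_pow_eq_self_of_coprime (x := b) (n := (i' : ℕ) - i)
          (Nat.Coprime.coprime_dvd_right (orderOf_dvd_of_pow_eq_one hb)
            (hq.coprime_iff_not_dvd.2 fun hd' => by
              have := Nat.le_of_dvd (by omega) hd'
              omega).symm)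
        exact hbw (ht ▸ hstab t)
      subst hi
      refine Prod.ext rfl (Fin.ext ?_)
      show (j : ℕ) = (j' : ℕ)
      have h1 := pow_inj_mod.1 e'
      rw [hbz, hk] at h1
      have := j.isLt
      have := j'.isLt
      rw [Nat.mod_eq_of_lt (by rw [pow_succ]; omega), Nat.mod_eq_of_lt (by rw [pow_succ]; omega)] at h1
      omega
    have := Nat.card_le_card_of_injective f hfinj
    rw [Nat.card_prod, Nat.card_fin, Nat.card_fin] at this
    rw [hk, pow_succ] at hw
    have h5 : 5 * 2 ^ k ≤ q * 2 ^ k := Nat.mul_le_mul_right _ hq5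
    have := pow_pos (show 0 < 2 by norm_num) k
    omega
  have hWinv : ∀ x ∈ W, b x ∈ W := by
    rintro _ ⟨m, rfl⟩
    show b (w ^ m) ∈ W
    rw [map_zpow]
    exact Subgroup.zpow_mem _ hinvgen _
  obtain ⟨ψ, hψ⟩ := exists_restrict_mulAut b hWinv
  have hψ1 : ∀ x : W, (ψ x : V) = b x := fun x => by simpa using hψ 1 x
  have hψone : ψ = 1 := by
    rw [← orderOf_eq_one_iff]
    have h1 : orderOf ψ ∣ q := orderOf_dvd_of_pow_eq_one
      (MulEquiv.ext fun x => Subtype.ext (by rw [hψ, hb]; rfl))
    have h2 : orderOf ψ ∣ 2 ^ k := by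
      refine (orderOf_dvd_natCard ψ).trans ?_
      rw [IsCyclic.card_mulAut, hWc, Nat.totient_prime_pow Nat.prime_two (by omega)]
      simp
    exact Nat.eq_one_of_dvd_coprimes
      (((Nat.coprime_primes hq Nat.prime_two).2 (by omega)).pow_right k) h1 h2
  have hWfix : ∀ x ∈ W, b x = x := fun x hx => by
    have := hψ1 ⟨x, hx⟩
    rw [hψone] at this
    exact this.symm
  refine MulEquiv.ext fun x => ?_
  change b x = x
  by_cases hx : x ∈ W
  · exact hWfix x hx
  have hidx : W.index = 2 := by
    have h1 := W.index_mul_card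
    rw [hWc] at h1
    rw [hk] at hw
    rcases Nat.lt_or_ge W.index 2 with h | h
    · exfalso
      have h0 : W.index ≠ 0 := Subgroup.index_ne_zero_of_finite
      exact hx ((Subgroup.index_eq_one.1 (by omega : W.index = 1)) ▸ Subgroup.mem_top x)
    · nlinarith [pow_pos (show 0 < 2 by norm_num) (k + 1)]
  have hbx : b x ∉ W := by
    intro h
    exact hx (b.injective (hWfix _ h) ▸ h)
  have hz : x⁻¹ * b x ∈ W := by
    rw [Subgroup.mul_mem_iff_of_index_two hidx]
    simp [hx, hbx]
  set z := x⁻¹ * b x with hzdef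
  have hk' : ∀ j : ℕ, (b ^ j) x = x * z ^ j := by
    intro j
    induction j with
    | zero => simp
    | succ j ihj =>
      rw [pow_succ', MulAut.mul_apply, ihj, map_mul, map_pow, hWfix z hz, pow_succ', ← mul_assoc,
        show b x = x * z by rw [hzdef, mul_inv_cancel_left]]
  have h2 := hk' q
  rw [hb, MulAut.one_apply, left_eq_mul] at h2
  obtain ⟨i, hi⟩ := IsPGroup.iff_orderOf.1 hV z
  have hz1 : z = 1 := by
    rw [← orderOf_eq_one_iff]
    exact Nat.eq_one_of_dvd_coprimes
      (((Nat.coprime_primes hq Nat.prime_two).2 (by omega)).pow_right i)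
      (orderOf_dvd_of_pow_eq_one h2) (dvd_of_eq hi)
  exact (inv_mul_eq_one.1 hz1).symm

/-- A conjugation inducing no automorphism of prime order centralizes. -/
theorem mem_centralizer_of_forall_prime {G : Type*} [Group G] [Finite G] (Q : Subgroup G) {g : G}
    (hg : g ∈ Subgroup.normalizer (Q : Set G))
    (h : ∀ (q : ℕ), q.Prime → q ∣ orderOf g → ∀ b : MulAut Q, b ^ q = 1 → b = 1) :
    g ∈ Subgroup.centralizer (Q : Set G) := by
  set a := Q.normalizerMonoidHom ⟨g, hg⟩ with ha
  have hdvd : orderOf a ∣ orderOf g :=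
    (orderOf_map_dvd Q.normalizerMonoidHom _).trans (dvd_of_eq (Subgroup.orderOf_mk g hg))
  have ha1 : a = 1 := by
    rw [← orderOf_eq_one_iff]
    by_contra hne
    obtain ⟨q, hq, hd⟩ := Nat.exists_prime_and_dvd hne
    have h1 := h q hq (hd.trans hdvd) (a ^ (orderOf a / q)) (by
      rw [← pow_mul, Nat.div_mul_cancel hd, pow_orderOf_eq_one])
    have h2 := Nat.le_of_dvd (Nat.div_pos (Nat.le_of_dvd (orderOf_pos a) hd) hq.pos)
      (orderOf_dvd_of_pow_eq_one h1)
    have h3 := Nat.div_lt_self (orderOf_pos a) hq.one_lt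
    omega
  refine Subgroup.mem_centralizer_iff.2 fun x hx => ?_
  have h1 := congrArg Subtype.val (congrArg (fun c : MulAut Q => c ⟨x, hx⟩) ha1)
  have h2 : g * x * g⁻¹ = x := h1
  exact (mul_inv_eq_iff_eq_mul.1 h2).symm

/-- Number of elements killed by `p` in an abelian group with few generators. -/
theorem card_omega_le_pow_rank {V : Type*} [CommGroup V] [Finite V] (p : ℕ) (hp : 0 < p) :
    Nat.card {x : V // x ^ p = 1} ≤ p ^ Group.rank V := by
  classical
  set f : V →* V := powMonoidHom p with hf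
  have hker : Nat.card {x : V // x ^ p = 1} = f.range.index := by
    have h1 := f.ker.index_mul_card
    rw [Subgroup.index_ker] at h1
    have h2 := f.range.index_mul_card
    have h3 : Nat.card f.ker = f.range.index := by
      have h4 : Nat.card f.range * Nat.card f.ker = f.range.index * Nat.card f.range := by omega
      rw [mul_comm f.range.index] at h4
      exact Nat.eq_of_mul_eq_mul_left Nat.card_pos h4
    exact h3
  rw [hker, Subgroup.index_eq_card]
  set π := QuotientGroup.mk' f.range with hπ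
  obtain ⟨S, hS, hScl⟩ := Group.rank_spec V
  have key : ∀ T : Finset V, Nat.card (Subgroup.closure (π '' (T : Set V))) ≤ p ^ T.card := by
    intro T
    induction T using Finset.induction with
    | empty => simp
    | insert a T haT ih =>
      rw [Finset.coe_insert, Set.image_insert_eq, Set.insert_eq, Subgroup.closure_union,
        ← Subgroup.zpowers_eq_closure, Finset.card_insert_of_notMem haT, pow_succ']
      set A := Subgroup.zpowers (π a)
      set B := Subgroup.closure (π '' (T : Set V))
      have hA : Nat.card A ≤ p := by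
        rw [Nat.card_zpowers]
        refine orderOf_le_of_pow_eq_one hp ?_
        rw [← map_pow, hπ, QuotientGroup.mk'_apply, QuotientGroup.eq_one_iff]
        exact ⟨a, rfl⟩
      have hcard : Nat.card (A ⊔ B : Subgroup (V ⧸ f.range)) ≤ Nat.card A * Nat.card B := by
        rw [← Subgroup.relIndex_bot_left, ← Subgroup.relIndex_mul_relIndex ⊥ A (A ⊔ B) bot_le le_sup_left,
          Subgroup.relIndex_bot_left, Subgroup.relIndex_sup_left]
        exact Nat.mul_le_mul_left _ (Nat.le_of_dvd Nat.card_pos (Subgroup.relIndex_dvd_card _ _))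
      exact hcard.trans (Nat.mul_le_mul hA ih)
  have := key S
  rw [← MonoidHom.map_closure, hScl, Subgroup.map_top_of_surjective π (QuotientGroup.mk'_surjective _),
    Subgroup.card_top, hS] at this
  exact this

/-- The transfer criterion for abelian Sylow subgroups. -/
theorem hasNormalPComplement_of_omega {G : Type*} [Group G] [Finite G] {p : ℕ} [hp : Fact p.Prime]
    (P : Sylow p G) (hab : IsMulCommutative (P : Subgroup G)) (d : ℕ)
    (hd : Nat.card {x : (P : Subgroup G) // x ^ p = 1} ≤ p ^ d)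
    (hq : ∀ q : ℕ, q.Prime → q ∣ Nat.card G → q ≠ p → ∀ i, 1 ≤ i → i ≤ d → ¬ q ∣ p ^ i - 1) :
    Cfsg.HasNormalPComplement p G := by
  refine CfsgLib.Transfer.hasNormalPComplement_of_normalizer_le_centralizer P fun g hg => ?_
  obtain ⟨a, b, ⟨k, hka⟩, hb, hab', -⟩ := exists_p_parts (G := G) p g
  rw [← hab']
  refine mul_mem ?_ ?_
  · have hgaP : g ^ a ∈ (P : Subgroup G) := by
      exact mem_of_mem_normalizer P ⟨k, hka⟩ (Subgroup.pow_mem _ hg a)
    refine Subgroup.mem_centralizer_iff.2 fun x hx => ?_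
    exact congrArg Subtype.val (mul_comm' (⟨x, hx⟩ : (P : Subgroup G)) ⟨g ^ a, hgaP⟩)
  · refine mem_centralizer_of_forall_prime (P : Subgroup G) (Subgroup.pow_mem _ hg b) fun q hqp hqd c hc => ?_
    letI : CommGroup (P : Subgroup G) := { (inferInstance : Group (P : Subgroup G)) with
      mul_comm := fun x y => mul_comm' x y }
    have hne : q ≠ p := fun e => hqp.ne_one (Nat.eq_one_of_dvd_coprimes hb hqd (e ▸ dvd_rfl))
    exact mulAut_eq_one_of_card_omega P.isPGroup' hqp hne c hc d hd
      (hq q hqp (hqd.trans (orderOf_dvd_natCard _)) hne)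

end CfsgLib.FGS
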