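import Cfsg.Agent.Lib.FGS.Basics
import Cfsg.Agent.Lib.FGS.TransferCriteria
import Mathlib.GroupTheory.SchurZassenhaus
import Mathlib.GroupTheory.QuotientGroup.Basic

/-!
`π`-closed groups and `π'`-homogeneity: `π`-closedness passes through extensions in a
`π'`-homogeneous group.
-/

namespace CfsgLib.FGS

open Subgroup

variable {G : Type*} [Group G]

/-- Every prime divisor of `n` lies in `π`. -/
def NumIn (π : Set ℕ) (n : ℕ) : Prop := ∀ p : ℕ, p.Prime → p ∣ n → p ∈ π

theorem NumIn.dvd {π : Set ℕ} {m n : ℕ} (h : NumIn π n) (hd : m ∣ n) : NumIn π m :=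
  fun p hp hpm => h p hp (hpm.trans hd)

theorem NumIn.mul {π : Set ℕ} {m n : ℕ} (h : NumIn π m) (h' : NumIn π n) : NumIn π (m * n) :=
  fun p hp hd => (hp.dvd_mul.1 hd).elim (h p hp) (h' p hp)

theorem NumIn.coprime {π : Set ℕ} {m n : ℕ} (h : NumIn π m)
    (h' : ∀ p : ℕ, p.Prime → p ∣ n → p ∉ π) : m.Coprime n :=
  Nat.coprime_of_dvd fun p hp hpm hpn => h' p hp hpn (h p hp hpm)

/-- A subgroup all of whose elements are `π`-elements has `π`-order. -/
theorem numIn_card [Finite G] {π : Set ℕ} (H : Subgroup G)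
    (h : ∀ x ∈ H, NumIn π (orderOf x)) : NumIn π (Nat.card H) := by
  intro p hp hd
  haveI := Fact.mk hp
  obtain ⟨x, hx⟩ := exists_prime_orderOf_dvd_card' p hd
  exact h x x.2 p hp (by rw [orderOf_coe, hx])

/-- The `π'`-homogeneity condition. -/
def PiPrimeHomogeneous (π : Set ℕ) (G : Type*) [Group G] : Prop :=
  ∀ H : Subgroup G, H ≠ ⊥ → (∀ p : ℕ, p.Prime → p ∣ Nat.card ↥H → p ∉ π) →
    ∀ p : ℕ, p.Prime → p ∣ (centralizer (H : Set G)).relIndex (normalizer (H : Set G)) → p ∉ π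

theorem mem_centralizer_of_homogeneous [Finite G] {π : Set ℕ} (hhom : PiPrimeHomogeneous π G)
    {H : Subgroup G} (hH : H ≠ ⊥) (hH' : ∀ p : ℕ, p.Prime → p ∣ Nat.card ↥H → p ∉ π) {x : G}
    (hx : NumIn π (orderOf x)) (hN : x ∈ normalizer (H : Set G)) :
    x ∈ centralizer (H : Set G) := by
  set f := H.normalizerMonoidHom
  have hcard : Nat.card f.range = (centralizer (H : Set G)).relIndex (normalizer (H : Set G)) := by
    rw [← index_ker, normalizerMonoidHom_ker]
    rfl
  have h1 : orderOf (f ⟨x, hN⟩) ∣ orderOf x :=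
    (orderOf_map_dvd f _).trans (dvd_of_eq (orderOf_mk x hN))
  have h2 : orderOf (f ⟨x, hN⟩) ∣ (centralizer (H : Set G)).relIndex (normalizer (H : Set G)) := by
    rw [← hcard]
    exact Subgroup.orderOf_dvd_natCard f.range ⟨_, rfl⟩
  have h3 : orderOf (f ⟨x, hN⟩) = 1 :=
    Nat.eq_one_of_dvd_coprimes (hx.coprime (hhom H hH hH')) h1 h2
  rw [orderOf_eq_one_iff, ← MonoidHom.mem_ker, normalizerMonoidHom_ker, mem_subgroupOf] at h3
  exact h3

/-- If `K` and `G ⧸ K` are `π`-closed and `G` is `π'`-homogeneous, then `G` is `π`-closed. -/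
theorem piClosed_of_normal [Finite G] (π : Set ℕ) (hhom : PiPrimeHomogeneous π G)
    (K : Subgroup G) [K.Normal]
    (hK : ∃ L : Subgroup ↥K, ∀ x : ↥K, x ∈ L ↔ NumIn π (orderOf x))
    (hQ : ∃ L : Subgroup (G ⧸ K), ∀ x : G ⧸ K, x ∈ L ↔ NumIn π (orderOf x)) :
    ∃ D : Subgroup G, ∀ x : G, x ∈ D ↔ NumIn π (orderOf x) := by
  obtain ⟨L, hL⟩ := hK
  obtain ⟨LQ, hLQ⟩ := hQ
  set L0 := L.map K.subtype with hL0
  have hmem : ∀ x : G, x ∈ L0 ↔ x ∈ K ∧ NumIn π (orderOf x) := by
    intro x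
    constructor
    · rintro ⟨y, hy, rfl⟩
      exact ⟨y.2, by simpa [orderOf_coe] using (hL y).1 hy⟩
    · rintro ⟨hx, ho⟩
      exact ⟨⟨x, hx⟩, (hL _).2 (by rwa [orderOf_mk]), rfl⟩
  haveI hL0n : L0.Normal := ⟨fun n hn g => by
    rw [hmem] at hn ⊢
    refine ⟨Normal.conj_mem inferInstance _ hn.1 g, ?_⟩
    rw [← MulAut.conj_apply, MulEquiv.orderOf_eq]
    exact hn.2⟩
  have hL0π : NumIn π (Nat.card L0) := numIn_card L0 fun x hx => ((hmem x).1 hx).2
  have hL0K : L0 ≤ K := fun x hx => ((hmem x).1 hx).1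
  set φ := QuotientGroup.mk' L0 with hφ
  have hsurj : Function.Surjective φ := QuotientGroup.mk'_surjective L0
  set Kb := K.map φ with hKb
  -- the image of `K` has `π'`-order
  have hKbπ : ∀ p : ℕ, p.Prime → p ∣ Nat.card Kb → p ∉ π := by
    intro p hp hd hpπ
    haveI := Fact.mk hp
    obtain ⟨⟨y, hy⟩, hy'⟩ := exists_prime_orderOf_dvd_card' p hd
    rw [orderOf_mk] at hy'
    obtain ⟨g, hg, rfl⟩ := hy
    obtain ⟨a, b, ⟨k, hk⟩, -, -, ha⟩ := exists_p_parts p g
    have h1 : g ^ a ∈ L0 := (hmem _).2 ⟨pow_mem hg a, fun q hq hqd => by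
      rw [hk] at hqd
      rwa [(Nat.prime_dvd_prime_iff_eq hq hp).1 (hq.dvd_of_dvd_pow hqd)]⟩
    have h2 : φ g ^ a = 1 := by
      rw [← map_pow]; exact (QuotientGroup.eq_one_iff _).2 h1
    exact ha (hy' ▸ orderOf_dvd_of_pow_eq_one h2)
  -- prime power `π`-elements centralise the image of `K`
  have hpc : ∀ p : ℕ, p.Prime → p ∈ π → ∀ x : G ⧸ L0, (∃ k, orderOf x = p ^ k) →
      x ∈ centralizer (Kb : Set (G ⧸ L0)) := by
    intro p hp hpπ x hx
    haveI := Fact.mk hp
    obtain ⟨k, hk⟩ := hx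
    obtain ⟨P, hP⟩ := (isPGroup_zpowers hk).exists_le_sylow
    set C := Kb ⊓ centralizer ({x} : Set (G ⧸ L0)) with hC
    suffices Nat.card Kb ∣ Nat.card C by
      have hCK : C = Kb := eq_of_le_of_card_ge inf_le_left (Nat.le_of_dvd Nat.card_pos this)
      refine mem_centralizer_iff.2 fun y hy => ?_
      have : y ∈ C := hCK ▸ hy
      exact mem_centralizer_singleton_iff.1 this.2
    rw [Nat.dvd_iff_prime_pow_dvd_dvd]
    intro q m hq hqm
    rcases Nat.eq_zero_or_pos m with rfl | hm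
    · simp
    haveI := Fact.mk hq
    have hqπ : q ∉ π := hKbπ q hq ((dvd_pow_self q hm.ne').trans hqm)
    have hqK : q ^ m ∣ Nat.card K := hqm.trans (card_map_dvd K φ)
    obtain ⟨Q⟩ := Sylow.nonempty (p := q) (G := K)
    set Qg := (Q : Subgroup K).map K.subtype with hQg
    have hQcard : Nat.card Qg = Nat.card Q := by
      rw [hQg, card_map_of_injective K.subtype_injective]
    have hqQ : q ^ m ∣ Nat.card Qg := by rw [hQcard]; exact Q.pow_dvd_card_of_pow_dvd_card hqK
    have hQp : IsPGroup q Qg := Q.2.map K.subtype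
    have hQne : Qg ≠ ⊥ := by
      intro h0
      rw [h0, card_bot] at hqQ
      exact absurd (Nat.eq_one_of_dvd_one ((dvd_pow_self q hm.ne').trans hqQ)) hq.ne_one
    have hQ' : ∀ r : ℕ, r.Prime → r ∣ Nat.card Qg → r ∉ π := by
      intro r hr hrd
      obtain ⟨j, hj⟩ := IsPGroup.iff_card.1 hQp
      rw [hj] at hrd
      rwa [(Nat.prime_dvd_prime_iff_eq hr hq).1 (hr.dvd_of_dvd_pow hrd)]
    set NQ := normalizer (Qg : Set G) with hNQ
    have htop : NQ ⊔ K = ⊤ := Sylow.normalizer_sup_eq_top Q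
    obtain ⟨R⟩ := Sylow.nonempty (p := p) (G := NQ)
    set ψ : NQ →* G ⧸ L0 := φ.comp NQ.subtype with hψ
    set Rb := (R : Subgroup NQ).map ψ with hRb
    have hRp : IsPGroup p Rb := R.2.map ψ
    have hrange : ψ.range ⊔ Kb = ⊤ := by
      rw [hψ, MonoidHom.range_comp, range_subtype, hKb, ← Subgroup.map_sup, htop,
        map_top_of_surjective _ hsurj]
    have hRidx : ¬ p ∣ Rb.index := by
      rw [hRb, index_map, hp.dvd_mul]
      rintro (h | h)
      · exact R.not_dvd_index (h.trans (index_dvd_of_le le_sup_left))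
      · refine hKbπ p hp (h.trans ?_) hpπ
        haveI : Kb.Normal := Normal.map inferInstance φ hsurj
        have h1 : Kb.relIndex ψ.range = Kb.index := by
          rw [← relIndex_top_right (H := Kb), ← hrange, relIndex_sup_right]
        have h2 := (Kb.subgroupOf ψ.range).card_mul_index
        rw [show (Kb.subgroupOf ψ.range).index = Kb.index from h1] at h2
        have h3 := ψ.range.index_mul_card
        rw [← h2, ← Kb.card_mul_index, ← mul_assoc] at h3
        exact Dvd.intro _ (Nat.eq_of_mul_eq_mul_right (Nat.pos_of_ne_zero Kb.index_ne_zero_of_finite) h3)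
    obtain ⟨g, hg⟩ := MulAction.exists_smul_eq (G ⧸ L0) (hRp.toSylow hRidx) P
    have hxP : x ∈ (P : Subgroup (G ⧸ L0)) := hP (mem_zpowers x)
    rw [← hg, Sylow.coe_subgroup_smul] at hxP
    have hxR : g⁻¹ * x * g ∈ Rb := mem_conj_smul.1 hxP
    set Qb := Qg.map φ with hQb
    have hQbcard : Nat.card Qb = Nat.card Qg := by
      let f : Qg →* G ⧸ L0 := φ.comp Qg.subtype
      have hf : Function.Injective f := by
        refine (injective_iff_map_eq_one f).2 fun y hy => ?_
        have h1 : (y : G) ∈ L0 := (QuotientGroup.eq_one_iff _).1 hy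
        have h2 : orderOf (y : G) = 1 := by
          refine Nat.eq_one_of_dvd_coprimes (hL0π.coprime hQ') ?_ ?_
          · exact Subgroup.orderOf_dvd_natCard L0 h1
          · exact Subgroup.orderOf_dvd_natCard Qg y.2
        exact Subtype.ext (orderOf_eq_one_iff.1 h2)
      rw [hQb, show Qg.map φ = f.range by rw [MonoidHom.range_comp, range_subtype],
        ← Nat.card_congr (MonoidHom.ofInjective hf).toEquiv]
    have hle : Qb.map (MulAut.conj g).toMonoidHom ≤ C := by
      rintro _ ⟨_, ⟨y, hy, rfl⟩, rfl⟩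
      refine Subgroup.mem_inf.2 ⟨?_, ?_⟩
      · refine Normal.conj_mem (Normal.map inferInstance φ hsurj) _ (mem_map_of_mem φ ?_) g
        exact map_subtype_le (Q : Subgroup K) hy
      · obtain ⟨r, hr, hr'⟩ := hxR
        have hrC : (r : G) ∈ centralizer (Qg : Set G) :=
          mem_centralizer_of_homogeneous hhom hQne hQ' (by
            obtain ⟨j, hj⟩ := IsPGroup.iff_orderOf.1 R.2 ⟨r, hr⟩
            rw [orderOf_mk] at hj
            intro s hs hsd
            rw [orderOf_coe, hj] at hsd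
            rwa [(Nat.prime_dvd_prime_iff_eq hs hp).1 (hs.dvd_of_dvd_pow hsd)]) r.2
        have hcomm : φ y * (g⁻¹ * x * g) = g⁻¹ * x * g * φ y := by
          rw [← hr']
          show φ y * φ r = φ r * φ y
          rw [← map_mul, mem_centralizer_iff.1 hrC y hy, map_mul]
        rw [mem_centralizer_singleton_iff]
        show g * φ y * g⁻¹ * x = x * (g * φ y * g⁻¹)
        calc g * φ y * g⁻¹ * x = g * (φ y * (g⁻¹ * x * g)) * g⁻¹ := by group
          _ = g * (g⁻¹ * x * g * φ y) * g⁻¹ := by rw [hcomm]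
          _ = x * (g * φ y * g⁻¹) := by group
    refine hqQ.trans ?_
    rw [← hQbcard, Nat.card_congr (Qb.equivMapOfInjective (MulAut.conj g).toMonoidHom
      (MulAut.conj g).injective).toEquiv]
    exact card_dvd_of_le hle
  -- all `π`-elements centralise the image of `K`
  have hall : ∀ n : ℕ, ∀ x : G ⧸ L0, orderOf x = n → NumIn π n →
      x ∈ centralizer (Kb : Set (G ⧸ L0)) := by
    intro n
    induction n using Nat.strong_induction_on with
    | _ n ih =>
      intro x hx hn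
      rcases eq_or_ne n 1 with rfl | hn1
      · rw [orderOf_eq_one_iff.1 hx]; exact one_mem _
      obtain ⟨p, hp, hpn⟩ := Nat.exists_prime_and_dvd hn1
      haveI := Fact.mk hp
      obtain ⟨a, b, hpa, hb, hab, -⟩ := exists_p_parts p x
      have hdvd : orderOf (x ^ b) ∣ n := hx ▸ orderOf_pow_dvd b
      have hlt : orderOf (x ^ b) < n := by
        refine lt_of_le_of_ne (Nat.le_of_dvd (hx ▸ orderOf_pos x) hdvd) fun he => ?_
        rw [he] at hb
        exact hp.ne_one (Nat.eq_one_of_dvd_coprimes hb hpn dvd_rfl)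
      rw [← hab]
      exact mul_mem (hpc p hp (hn p hp hpn) _ hpa) (ih _ hlt _ rfl (hn.dvd hdvd))
  set ρ : G ⧸ L0 →* G ⧸ K := QuotientGroup.map L0 K (MonoidHom.id G) hL0K with hρ
  set C := centralizer (Kb : Set (G ⧸ L0)) ⊓ LQ.comap ρ with hC
  have hinC : ∀ y : G ⧸ L0, NumIn π (orderOf y) → y ∈ C := fun y hy =>
    Subgroup.mem_inf.2 ⟨hall _ y rfl hy, mem_comap.2 ((hLQ _).2 (hy.dvd (orderOf_map_dvd ρ y)))⟩
  set θ : C →* G ⧸ K := ρ.comp C.subtype with hθ
  have hkerθ : ∀ z : C, z ∈ θ.ker → (z : G ⧸ L0) ∈ Kb := by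
    intro z hz
    obtain ⟨g, hg⟩ := hsurj (z : G ⧸ L0)
    have h1 : ρ (z : G ⧸ L0) = 1 := hz
    rw [← hg] at h1
    rw [← hg]
    exact mem_map_of_mem φ ((QuotientGroup.eq_one_iff g).1 h1)
  have hidx : NumIn π θ.ker.index := by
    rw [index_ker]
    refine (numIn_card LQ fun x hx => (hLQ x).1 hx).dvd (card_dvd_of_le ?_)
    rintro _ ⟨z, rfl⟩
    exact z.2.2
  have hkπ : ∀ p : ℕ, p.Prime → p ∣ Nat.card θ.ker → p ∉ π := by
    intro p hp hd
    refine hKbπ p hp (hd.trans ?_)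
    rw [Nat.card_congr (θ.ker.equivMapOfInjective C.subtype C.subtype_injective).toEquiv]
    refine card_dvd_of_le ?_
    rintro _ ⟨z, hz, rfl⟩
    exact hkerθ z hz
  obtain ⟨E, hE⟩ := exists_right_complement'_of_coprime (hidx.coprime hkπ).symm
  have hEπ : NumIn π (Nat.card E) := by rwa [← hE.symm.index_eq_card]
  have hmemE : ∀ y : C, NumIn π (orderOf y) → y ∈ E := by
    intro y hy
    obtain ⟨⟨⟨z, hz⟩, ⟨e, he⟩⟩, hze⟩ := hE.2 y
    have hze' : z * e = y := hze
    have hcomm : Commute z e := Subtype.ext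
      (mem_centralizer_iff.1 e.2.1 (z : G ⧸ L0) (hkerθ z hz))
    have hz1 : z = 1 := by
      rw [← orderOf_eq_one_iff]
      refine Nat.eq_one_of_dvd_coprimes ((hy.mul hEπ).coprime hkπ) ?_
        (Subgroup.orderOf_dvd_natCard θ.ker hz)
      apply orderOf_dvd_of_pow_eq_one
      have h1 : y ^ (orderOf y * Nat.card E) = 1 := by rw [pow_mul, pow_orderOf_eq_one, one_pow]
      rw [← hze', hcomm.mul_pow] at h1
      have h2 : e ^ (orderOf y * Nat.card E) = 1 := by
        rw [mul_comm (orderOf y), pow_mul,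
          orderOf_dvd_iff_pow_eq_one.1 (Subgroup.orderOf_dvd_natCard E he), one_pow]
      rw [hze'] at h1
      rwa [h2, mul_one] at h1
    rw [← hze', hz1, one_mul]
    exact he
  refine ⟨(E.map C.subtype).comap φ, fun x => ⟨fun hx => ?_, fun hx => ?_⟩⟩
  · obtain ⟨y, hy, hyx⟩ := mem_comap.1 hx
    have h1 : NumIn π (orderOf (φ x)) := by
      rw [← hyx]
      exact hEπ.dvd (by
        rw [show C.subtype y = (y : G ⧸ L0) from rfl, orderOf_coe]
        exact Subgroup.orderOf_dvd_natCard E hy)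
    refine (h1.mul hL0π).dvd (orderOf_dvd_of_pow_eq_one ?_)
    have h2 : x ^ orderOf (φ x) ∈ L0 :=
      (QuotientGroup.eq_one_iff _).1 (by
        show φ (x ^ orderOf (φ x)) = 1
        rw [map_pow, pow_orderOf_eq_one])
    rw [pow_mul]
    exact orderOf_dvd_iff_pow_eq_one.1 (Subgroup.orderOf_dvd_natCard L0 h2)
  · have h1 : NumIn π (orderOf (φ x)) := hx.dvd (orderOf_map_dvd φ x)
    exact ⟨⟨φ x, hinC _ h1⟩, hmemE _ (by rwa [orderOf_mk]), rfl⟩

/-- `π'`-homogeneity passes to subgroups. -/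
theorem PiPrimeHomogeneous.subgroup [Finite G] {π : Set ℕ} (hhom : PiPrimeHomogeneous π G)
    (M : Subgroup G) : PiPrimeHomogeneous π M := by
  intro H hH hH' p hp hd hpπ
  haveI := Fact.mk hp
  set f := H.normalizerMonoidHom
  have hcard : Nat.card f.range = (centralizer (H : Set M)).relIndex (normalizer (H : Set M)) := by
    rw [← index_ker, normalizerMonoidHom_ker]
    rfl
  rw [← hcard] at hd
  obtain ⟨c, hc⟩ := exists_prime_orderOf_dvd_card' p hd
  obtain ⟨n, hn⟩ := MonoidHom.mem_range.1 c.2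
  rw [← orderOf_coe, ← hn] at hc
  obtain ⟨a, b, ⟨k, hk⟩, -, -, ha⟩ := exists_p_parts p n
  set H' := H.map M.subtype
  have hH'ne : H' ≠ ⊥ := fun h => hH ((map_eq_bot_iff_of_injective _ M.subtype_injective).1 h)
  have hcardH : Nat.card H' = Nat.card H := card_map_of_injective M.subtype_injective
  have hN : ((n ^ a : _) : M).1 ∈ normalizer (H' : Set G) := by
    have := mem_map_of_mem M.subtype (n ^ a).2
    exact le_normalizer_map _ this
  have hC : ((n ^ a : _) : M).1 ∈ centralizer (H' : Set G) :=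
    mem_centralizer_of_homogeneous hhom hH'ne (hcardH ▸ hH') (by
      intro s hs hsd
      rw [orderOf_coe, orderOf_coe, hk] at hsd
      rwa [(Nat.prime_dvd_prime_iff_eq hs hp).1 (hs.dvd_of_dvd_pow hsd)]) hN
  have h1 : f n ^ a = 1 := by
    rw [← map_pow, ← MonoidHom.mem_ker, normalizerMonoidHom_ker, mem_subgroupOf]
    refine mem_centralizer_iff.2 fun y hy => Subtype.ext ?_
    exact mem_centralizer_iff.1 hC _ (mem_map_of_mem M.subtype hy)
  exact ha (hc ▸ orderOf_dvd_of_pow_eq_one h1)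

end CfsgLib.FGS
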