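import Cfsg.Agent.Lib.FGS.FrobeniusCount

/-!
Splitting elements into their `A`- and `B`-parts for `#G = A * B` with coprime factors.
-/

namespace CfsgLib.FGS

open Subgroup

/-- Counting by `A`-parts: if `Q` only depends on the `A`-part of an element, the elements with `Q`
are counted by the `B`-elements of the centralizers of the `A`-elements with `Q`. -/
theorem card_split {G : Type*} [Group G] [Finite G] {A B : ℕ} (hAB : A.Coprime B)
    (hG : Nat.card G = A * B) (Q : G → Prop)
    (hQ : ∀ a b : G, a ^ A = 1 → b ^ B = 1 → Commute a b → (Q (a * b) ↔ Q a)) :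
    Nat.card {x : G // Q x} =
      Nat.card ((a : {a : G // a ^ A = 1 ∧ Q a}) × {b : centralizer ({(a : G)} : Set G) // b ^ B = 1}) := by
  obtain ⟨E, F, hE1, hEB, hF1, hFA, hEF⟩ := exists_idempotent_exponents hAB
  have hx : ∀ x : G, x ^ (A * B) = 1 := fun x => hG ▸ pow_card_eq_one'
  have hEA : ∀ x : G, (x ^ E) ^ A = 1 := fun x => by
    rw [← pow_mul]; exact pow_eq_one_of_dvd' (hx x) (mul_comm A B ▸ Nat.mul_dvd_mul hEB dvd_rfl)
  have hFB : ∀ x : G, (x ^ F) ^ B = 1 := fun x => by
    rw [← pow_mul]; exact pow_eq_one_of_dvd' (hx x) (Nat.mul_dvd_mul hFA dvd_rfl)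
  have hprod : ∀ x : G, x ^ E * x ^ F = x := fun x => by
    rw [← pow_add]; exact pow_eq_self_of_modEq (hx x) hEF
  let f : ((a : {a : G // a ^ A = 1 ∧ Q a}) × {b : centralizer ({(a : G)} : Set G) // b ^ B = 1}) →
      {x : G // Q x} := fun z => ⟨(z.1 : G) * (z.2.1 : G),
    (hQ _ _ z.1.2.1 (by simpa using congrArg Subtype.val z.2.2)
      (mem_centralizer_singleton_iff.1 z.2.1.2).symm).2 z.1.2.2⟩
  refine (Nat.card_eq_of_bijective f ⟨?_, ?_⟩).symm
  · rintro ⟨⟨a, ha, hqa⟩, ⟨⟨b, hb⟩, hb'⟩⟩ ⟨⟨a', ha', hqa'⟩, ⟨⟨b', hbc'⟩, hb''⟩⟩ h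
    have hb1 : b ^ B = 1 := by simpa using congrArg Subtype.val hb'
    have hb2 : b' ^ B = 1 := by simpa using congrArg Subtype.val hb''
    have h' : a * b = a' * b' := congrArg Subtype.val h
    have haa : a = a' := by
      have := congrArg (fun t => t ^ E) h'
      simpa [(show Commute a b from (mem_centralizer_singleton_iff.1 hb).symm).mul_pow,
        (show Commute a' b' from (mem_centralizer_singleton_iff.1 hbc').symm).mul_pow,
        pow_eq_self_of_modEq ha hE1, pow_eq_self_of_modEq ha' hE1,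
        pow_eq_one_of_dvd' hb1 hEB, pow_eq_one_of_dvd' hb2 hEB] using this
    subst haa
    have hbb : b = b' := mul_left_cancel h'
    subst hbb
    rfl
  · rintro ⟨x, hQx⟩
    have hc : Commute (x ^ E) (x ^ F) := (Commute.refl x).pow_pow E F
    have hQE : Q (x ^ E) := by
      rwa [← hQ _ _ (hEA x) (hFB x) hc, hprod]
    exact ⟨⟨⟨x ^ E, hEA x, hQE⟩, ⟨⟨x ^ F, mem_centralizer_singleton_iff.2 hc.symm.eq⟩,
      Subtype.ext (by simpa using hFB x)⟩⟩, Subtype.ext (hprod x)⟩

/-- `B` divides a centralizer index times the number of `B`-elements in the centralizer. -/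
theorem dvd_index_mul_card {G : Type*} [Group G] [Finite G] {B : ℕ} (hB : B ∣ Nat.card G)
    (C : Subgroup G) : B ∣ C.index * Nat.card {b : C // b ^ B = 1} := by
  refine dvd_trans ?_ (Nat.mul_dvd_mul dvd_rfl (gcd_dvd_card_pow_eq_one (G := C) B))
  rw [← Nat.gcd_mul_left]
  exact Nat.dvd_gcd (Dvd.intro_left _ rfl) (C.index_mul_card ▸ hB)

/-- The number of `B`-elements of a centralizer is conjugation invariant. -/
theorem card_pow_centralizer_conj {G : Type*} [Group G] (B : ℕ) (g x : G) :
    Nat.card {b : centralizer ({g * x * g⁻¹} : Set G) // b ^ B = 1} =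
      Nat.card {b : centralizer ({x} : Set G) // b ^ B = 1} := by
  have e : (centralizer ({x} : Set G)).map (MulAut.conj g).toMonoidHom =
      centralizer ({g * x * g⁻¹} : Set G) := by
    ext y
    rw [mem_map_equiv, mem_centralizer_singleton_iff, mem_centralizer_singleton_iff,
      MulAut.conj_symm_apply]
    constructor
    · intro h
      calc y * (g * x * g⁻¹) = g * (g⁻¹ * y * g * x) * g⁻¹ := by group
        _ = g * x * g⁻¹ * y := by rw [h]; group
    · intro h
      calc g⁻¹ * y * g * x = g⁻¹ * (y * (g * x * g⁻¹)) * g := by group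
        _ = x * (g⁻¹ * y * g) := by rw [h]; group
  let e' := ((centralizer ({x} : Set G)).equivMapOfInjective (MulAut.conj g).toMonoidHom
    (MulAut.conj g).injective).trans (MulEquiv.subgroupCongr e)
  exact (Nat.card_congr (Equiv.subtypeEquiv e'.toEquiv fun b => by
    rw [MulEquiv.toEquiv_eq_coe, MulEquiv.coe_toEquiv, ← map_pow, e'.map_eq_one_iff])).symm

end CfsgLib.FGS
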