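import Cfsg.Agent.Lib.Solvable.Hall
import Cfsg.Agent.Lib.Solvable.FrobeniusComplement
import Cfsg.Agent.Lib.Solvable.MinimalNormal

/-!
Lucido's lemma: in a solvable group two of any three primes are joined in the prime graph.
-/

set_option autoImplicit false

namespace CfsgLib.FGS

universe u

theorem card_sup_dvd_mul {G : Type*} [Group G] (A B : Subgroup G) [A.Normal] :
    Nat.card (A ⊔ B : Subgroup G) ∣ Nat.card A * Nat.card B := by
  rw [← Subgroup.relIndex_bot_left, ← Subgroup.relIndex_mul_relIndex ⊥ A (A ⊔ B) bot_le le_sup_left,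
    Subgroup.relIndex_bot_left, Subgroup.relIndex_sup_left]
  exact Nat.mul_dvd_mul_left _ (Subgroup.relIndex_dvd_card _ _)

theorem false_of_three_primes_aux : ∀ (n : ℕ) {G : Type u} [Group G] [Finite G] [Group.IsSolvable G]
    (S : Finset ℕ), Nat.card G = n → S.card = 3 → (∀ p ∈ S, p.Prime ∧ p ∣ Nat.card G) →
    (∀ a ∈ S, ∀ b ∈ S, a ≠ b → ∀ g : G, ¬ a * b ∣ orderOf g) → False := by
  intro n
  induction n using Nat.strong_induction_on with
  | _ n ih =>
    intro G _ _ _ S hn hS hdiv hno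
    obtain ⟨p₀, hp₀⟩ := Finset.card_pos.1 (by omega : 0 < S.card)
    haveI : Nontrivial G := Finite.one_lt_card_iff_nontrivial.1
      (lt_of_lt_of_le (hdiv p₀ hp₀).1.one_lt (Nat.le_of_dvd Nat.card_pos (hdiv p₀ hp₀).2))
    obtain ⟨N, s, e, hNn, hs, he, hNs, hNc, hN1, -, -⟩ :=
      CfsgLib.Solvable.exists_normal_prime_pow_card (G := G)
    haveI := hNn
    by_cases hsS : s ∈ S
    swap
    · refine ih (Nat.card (G ⧸ N)) (hn ▸ CfsgLib.Solvable.card_quotient_lt N hN1) S rfl hS
        (fun p hp => ⟨(hdiv p hp).1, ?_⟩) fun a ha b hb hab g => ?_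
      · have h := (hdiv p hp).2
        rw [← N.index_mul_card, hNc, Subgroup.index_eq_card] at h
        exact (((Nat.coprime_primes (hdiv p hp).1 hs).2 fun h' => hsS (h' ▸ hp)).pow_right e).dvd_of_dvd_mul_right h
      · obtain ⟨x, rfl⟩ := QuotientGroup.mk'_surjective N g
        exact fun hd => hno a ha b hb hab x (hd.trans (orderOf_map_dvd _ x))
    obtain ⟨p, r, hpr, hpairs⟩ := Finset.card_eq_two.1
      (show (S.erase s).card = 2 by rw [Finset.card_erase_of_mem hsS, hS])
    have hpS : p ∈ S ∧ p ≠ s := by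
      have : p ∈ S.erase s := hpairs ▸ Finset.mem_insert_self _ _
      exact ⟨(Finset.mem_erase.1 this).2, (Finset.mem_erase.1 this).1⟩
    have hrS : r ∈ S ∧ r ≠ s := by
      have : r ∈ S.erase s := hpairs ▸ Finset.mem_insert_of_mem (Finset.mem_singleton_self _)
      exact ⟨(Finset.mem_erase.1 this).2, (Finset.mem_erase.1 this).1⟩
    have hp := (hdiv p hpS.1).1
    have hr := (hdiv r hrS.1).1
    set a := (Nat.card G).factorization p
    set b := (Nat.card G).factorization r
    have hcop : (p ^ a).Coprime (r ^ b) := Nat.Coprime.pow _ _ ((Nat.coprime_primes hp hr).2 hpr)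
    have hmdvd : p ^ a * r ^ b ∣ Nat.card G :=
      hcop.mul_dvd_of_dvd_of_dvd (Nat.ordProj_dvd _ _) (Nat.ordProj_dvd _ _)
    obtain ⟨m', hm'⟩ := hmdvd
    have hcop' : (p ^ a * r ^ b).Coprime m' := by
      have key : ∀ t : ℕ, t.Prime → t ^ (Nat.card G).factorization t ∣ p ^ a * r ^ b → t.Coprime m' := by
        intro t ht htd
        refine ht.coprime_iff_not_dvd.2 fun h => ?_
        have h1 : t ^ ((Nat.card G).factorization t + 1) ∣ Nat.card G := by
          rw [pow_succ]
          exact (Nat.mul_dvd_mul htd h).trans (dvd_of_eq hm'.symm)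
        have := (ht.pow_dvd_iff_le_factorization Nat.card_pos.ne').1 h1
        omega
      exact Nat.Coprime.mul_left ((key p hp (dvd_mul_right _ _)).pow_left a)
        ((key r hr (dvd_mul_left _ _)).pow_left b)
    obtain ⟨H, hH⟩ := CfsgLib.Solvable.exists_hall hm' hcop'
    have hHN : H ≤ Subgroup.normalizer (N : Set G) := by
      rw [Subgroup.normalizer_eq_top]; exact le_top
    have hfpf : ∀ x ∈ H, x ≠ 1 → N ⊓ Subgroup.centralizer {x} = ⊥ := by
      intro x hx hx1
      refine (Subgroup.eq_bot_iff_forall _).2 fun y hy => by_contra fun hy1 => ?_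
      obtain ⟨t, ht, htx⟩ := Nat.exists_prime_and_dvd (orderOf_eq_one_iff.not.2 hx1)
      have htd : t ∣ p ^ a * r ^ b := hH ▸ htx.trans (Subgroup.orderOf_dvd_natCard H hx)
      have htS : t ∈ S ∧ t ≠ s := by
        rcases ht.dvd_mul.1 htd with h | h
        · rw [(Nat.prime_dvd_prime_iff_eq ht hp).1 (ht.dvd_of_dvd_pow h)]; exact hpS
        · rw [(Nat.prime_dvd_prime_iff_eq ht hr).1 (ht.dvd_of_dvd_pow h)]; exact hrS
      obtain ⟨i, hi0, hi⟩ := (Nat.dvd_prime_pow hs).1 (hNc ▸ Subgroup.orderOf_dvd_natCard N hy.1)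
      have hcopxy : (orderOf y).Coprime (orderOf x) := by
        rw [hi]
        refine (hs.coprime_iff_not_dvd.2 fun h => ?_).pow_left i
        have hsd : s ∣ p ^ a * r ^ b := hH ▸ h.trans (Subgroup.orderOf_dvd_natCard H hx)
        rcases hs.dvd_mul.1 hsd with h | h
        · exact hpS.2 ((Nat.prime_dvd_prime_iff_eq hs hp).1 (hs.dvd_of_dvd_pow h)).symm
        · exact hrS.2 ((Nat.prime_dvd_prime_iff_eq hs hr).1 (hs.dvd_of_dvd_pow h)).symm
      have hc : Commute y x := Subgroup.mem_centralizer_singleton_iff.1 hy.2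
      refine hno s hsS t htS.1 htS.2.symm (y * x) ?_
      rw [hc.orderOf_mul_eq_mul_orderOf_of_coprime hcopxy]
      refine Nat.mul_dvd_mul ?_ htx
      rw [hi]
      refine dvd_pow_self s fun h => ?_
      rw [h, pow_zero, orderOf_eq_one_iff] at hi
      exact hy1 hi
    have hHnt : Nontrivial H := Finite.one_lt_card_iff_nontrivial.1 (by
      rw [hH]
      have ha : 1 ≤ a := (hp.pow_dvd_iff_le_factorization Nat.card_pos.ne').1 (by simpa using (hdiv p hpS.1).2)
      have h1 : 1 < p ^ a := Nat.one_lt_pow (by omega) hp.one_lt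
      have h2 : 1 ≤ r ^ b := Nat.one_le_pow _ _ hr.pos
      nlinarith)
    obtain ⟨M, t, f, hMn, ht, hf, hMp, hMc, hM1, hMcomm, -⟩ :=
      CfsgLib.Solvable.exists_normal_prime_pow_card (G := H)
    haveI := hMn
    have hMcyc : IsCyclic (M.map H.subtype : Subgroup G) := CfsgLib.Solvable.isCyclic_of_fpf hN1
      ((Subgroup.map_subtype_le M).trans hHN)
      (CfsgLib.Solvable.fpf_mono (Subgroup.map_subtype_le M) hfpf) (Or.inl (by
        rintro _ ⟨x, hx, rfl⟩ _ ⟨y, hy, rfl⟩
        rw [← map_mul, ← map_mul, hMcomm x hx y hy]))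
    haveI : IsCyclic M := (M.equivMapOfInjective _ H.subtype_injective).isCyclic.2 hMcyc
    haveI := Fact.mk ht
    have htd : t ∣ p ^ a * r ^ b := hH ▸
      ((dvd_pow_self t (by omega)).trans (hMc ▸ Subgroup.card_subgroup_dvd_card M))
    obtain ⟨htS, w, hw, hwt⟩ : (t ∈ S ∧ t ≠ s) ∧ ∃ w : ℕ, (w ∈ S ∧ w ≠ s) ∧ w ≠ t := by
      rcases ht.dvd_mul.1 htd with h | h
      · rw [(Nat.prime_dvd_prime_iff_eq ht hp).1 (ht.dvd_of_dvd_pow h)]
        exact ⟨hpS, r, hrS, hpr.symm⟩
      · rw [(Nat.prime_dvd_prime_iff_eq ht hr).1 (ht.dvd_of_dvd_pow h)]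
        exact ⟨hrS, p, hpS, hpr⟩
    have hwp := (hdiv w hw.1).1
    haveI := Fact.mk hwp
    have hwH : w ∣ Nat.card H := by
      rw [hH]
      have : w ∈ S.erase s := Finset.mem_erase.2 ⟨hw.2, hw.1⟩
      rw [hpairs, Finset.mem_insert, Finset.mem_singleton] at this
      have ha : a ≠ 0 := by
        have := (hp.pow_dvd_iff_le_factorization Nat.card_pos.ne').1
          (show p ^ 1 ∣ Nat.card G by simpa using (hdiv p hpS.1).2)
        omega
      have hb : b ≠ 0 := by
        have := (hr.pow_dvd_iff_le_factorization Nat.card_pos.ne').1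
          (show r ^ 1 ∣ Nat.card G by simpa using (hdiv r hrS.1).2)
        omega
      rcases this with rfl | rfl
      · exact (dvd_pow_self _ ha).mul_right _
      · exact (dvd_pow_self _ hb).mul_left _
    obtain ⟨x, hx⟩ := exists_prime_orderOf_dvd_card' (G := H) w hwH
    -- the socle of the cyclic minimal normal subgroup has prime order
    obtain ⟨z, hz⟩ := exists_prime_orderOf_dvd_card' (G := M) t (hMc ▸ dvd_pow_self t (by omega))
    haveI : (Subgroup.zpowers (z : H)).Normal := by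
      constructor
      intro y hy g
      obtain ⟨k, hk⟩ := hy
      have hgz : g * (z : H) * g⁻¹ ∈ M := hMn.conj_mem _ z.2 g
      have hord : orderOf (⟨g * (z : H) * g⁻¹, hgz⟩ : M) = orderOf z := by
        rw [← Subgroup.orderOf_coe, ← Subgroup.orderOf_coe z]
        exact MulEquiv.orderOf_eq (MulAut.conj g) (z : H)
      obtain ⟨j, hj⟩ := CfsgLib.Solvable.mem_zpowers_of_isCyclic hord
      rw [← hk, ← conj_zpow]
      exact Subgroup.zpow_mem _
        (show g * (z : H) * g⁻¹ ∈ Subgroup.zpowers (z : H) from ⟨j, congrArg Subtype.val hj⟩) k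
    set B := Subgroup.zpowers (z : H) ⊔ Subgroup.zpowers x with hB
    have hBcard : Nat.card B = t * w := by
      refine Nat.dvd_antisymm ?_ (((Nat.coprime_primes ht hwp).2 hwt.symm).mul_dvd_of_dvd_of_dvd ?_ ?_)
      · refine (card_sup_dvd_mul _ _).trans (dvd_of_eq ?_)
        rw [Nat.card_zpowers, Nat.card_zpowers, Subgroup.orderOf_coe, hz, hx]
      · refine dvd_trans ?_ (Subgroup.card_dvd_of_le (le_sup_left : _ ≤ B))
        rw [Nat.card_zpowers, Subgroup.orderOf_coe, hz]
      · refine dvd_trans ?_ (Subgroup.card_dvd_of_le (le_sup_right : _ ≤ B))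
        rw [Nat.card_zpowers, hx]
    have hBcyc : IsCyclic (B.map H.subtype : Subgroup G) := CfsgLib.Solvable.isCyclic_of_fpf hN1
      ((Subgroup.map_subtype_le B).trans hHN)
      (CfsgLib.Solvable.fpf_mono (Subgroup.map_subtype_le B) hfpf)
      (Or.inr ⟨t, w, ht, hwp, by rw [Subgroup.card_map_of_injective H.subtype_injective, hBcard]⟩)
    obtain ⟨u, hu⟩ := IsCyclic.exists_ofOrder_eq_natCard (α := (B.map H.subtype : Subgroup G))
    rw [Subgroup.card_map_of_injective H.subtype_injective, hBcard] at hu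
    refine hno t htS.1 w hw.1 hwt.symm (u : G) ?_
    rw [Subgroup.orderOf_coe, hu]

/-- Lucido's lemma. -/
theorem false_of_three_primes {G : Type u} [Group G] [Finite G] [Group.IsSolvable G] (S : Finset ℕ)
    (hS : S.card = 3) (hdiv : ∀ p ∈ S, p.Prime ∧ p ∣ Nat.card G)
    (hno : ∀ a ∈ S, ∀ b ∈ S, a ≠ b → ∀ g : G, ¬ a * b ∣ orderOf g) : False :=
  false_of_three_primes_aux _ S rfl hS hdiv hno

end CfsgLib.FGS
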