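import Mathlib

/-!
# Cyclic groups of composite prime power order are B-groups

Schur ring argument: for a group `Γ` of permutations of `ZMod (p ^ m)`, `m ≥ 2`, containing the
translations and not 2-transitive, some proper nontrivial subgroup of `ZMod (p ^ m)` has its
cosets permuted by `Γ`.
-/

set_option autoImplicit false

set_option linter.unusedSectionVars false
set_option linter.style.haveILetI false

open Finset

namespace Cfsg.Agent.SchurCyclic

section Basic

variable {n : ℕ} [NeZero n] (Γ : Subgroup (Equiv.Perm (ZMod n)))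

/-- A function of differences invariant under `Γ`. -/
def Inv {R : Type*} (f : ZMod n → R) : Prop :=
  ∀ h ∈ Γ, ∀ i j : ZMod n, f (h j - h i) = f (j - i)

/-- The basic set of `x`. -/
def orb (x : ZMod n) : Set (ZMod n) := {d | ∃ h ∈ Γ, ∃ i, h (i + x) - h i = d}

variable {Γ}

theorem Inv.comp {R S : Type*} {f : ZMod n → R} (hf : Inv Γ f) (φ : R → S) :
    Inv Γ (fun d => φ (f d)) := fun h hh i j => congrArg φ (hf h hh i j)

theorem mem_orb_self (x : ZMod n) : x ∈ orb Γ x :=
  ⟨1, one_mem _, 0, by simp⟩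

theorem orb_subset {T : Set (ZMod n)} (hT : Inv Γ (· ∈ T)) {x : ZMod n} (hx : x ∈ T) :
    orb Γ x ⊆ T := by
  rintro d ⟨h, hh, i, rfl⟩
  have := hT h hh i (i + x)
  simp only [add_sub_cancel_left] at this
  exact this ▸ hx

theorem zero_notMem_orb {x : ZMod n} (hx : x ≠ 0) : (0 : ZMod n) ∉ orb Γ x := by
  rintro ⟨h, _, i, hi⟩
  exact hx (by simpa using h.injective (sub_eq_zero.1 hi))

variable (htr : ∀ a : ZMod n, Equiv.addRight a ∈ Γ)
include htr

theorem inv_orb (x : ZMod n) : Inv Γ (· ∈ orb Γ x) := by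
  intro h hh i j
  apply propext
  constructor
  · rintro ⟨k, hk, l, hl⟩
    refine ⟨h⁻¹ * Equiv.addRight (h i - k l) * k,
      mul_mem (mul_mem (inv_mem hh) (htr _)) hk, l, ?_⟩
    have h1 : k (l + x) + (h i - k l) = h j := by
      rw [show k (l + x) = h j - h i + k l by rw [← hl]; abel]; abel
    simp [Equiv.Perm.mul_apply, h1]
  · rintro ⟨k, hk, l, hl⟩
    refine ⟨h * Equiv.addRight (i - k l) * k, mul_mem (mul_mem hh (htr _)) hk, l, ?_⟩
    have h1 : k (l + x) + (i - k l) = j := by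
      rw [show k (l + x) = j - i + k l by rw [← hl]; abel]; abel
    simp [Equiv.Perm.mul_apply, h1]

theorem eq_of_mem_orb {R : Type*} {f : ZMod n → R} (hf : Inv Γ f) {x y : ZMod n}
    (hy : y ∈ orb Γ x) : f y = f x := by
  obtain ⟨h, hh, i, rfl⟩ := hy
  simpa using hf h hh i (i + x)

theorem orb_eq_of_mem {x y : ZMod n} (hy : y ∈ orb Γ x) : orb Γ y = orb Γ x := by
  refine Set.Subset.antisymm (orb_subset (inv_orb htr x) hy) (orb_subset (inv_orb htr y) ?_)
  have := eq_of_mem_orb htr (inv_orb htr y) hy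
  exact (Iff.of_eq this).1 (mem_orb_self y)

end Basic

section Algebra

variable {n : ℕ} [NeZero n] {Γ : Subgroup (Equiv.Perm (ZMod n))} {R : Type*} [CommRing R]

/-- Membership in the Schur ring. -/
def InvA (Γ : Subgroup (Equiv.Perm (ZMod n))) (X : AddMonoidAlgebra R (ZMod n)) : Prop :=
  Inv Γ (fun d => X.coeff d)

theorem coeff_mul' (X Y : AddMonoidAlgebra R (ZMod n)) (d : ZMod n) :
    (X * Y).coeff d = ∑ a, X.coeff a * Y.coeff (d - a) := by
  rw [AddMonoidAlgebra.coeff_mul_apply_left, Finsupp.sum_fintype _ _ (fun _ => zero_mul _)]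
  exact Finset.sum_congr rfl fun a _ => by rw [neg_add_eq_sub]

theorem invA_mul {X Y : AddMonoidAlgebra R (ZMod n)} (hX : InvA Γ X) (hY : InvA Γ Y) :
    InvA Γ (X * Y) := by
  intro h hh i j
  simp only [coeff_mul']
  let e : ZMod n ≃ ZMod n :=
    ((Equiv.addRight i).trans h).trans (Equiv.addRight (-(h i)))
  refine (Fintype.sum_equiv e _ _ fun a => ?_).symm
  have he : e a = h (a + i) - h i := by simp [e, sub_eq_add_neg]
  rw [he, sub_sub_sub_cancel_right]
  have h1 := hX h hh i (a + i)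
  have h2 := hY h hh (a + i) j
  simp only [add_sub_cancel_right] at h1
  simp only [h1, h2]
  rw [show j - i - a = j - (a + i) by abel]

theorem invA_one : InvA Γ (1 : AddMonoidAlgebra R (ZMod n)) := by
  intro h hh i j
  classical
  simp only [AddMonoidAlgebra.one_def, AddMonoidAlgebra.coeff_single, Finsupp.single_apply]
  have : (0 = h j - h i) ↔ (0 = j - i) := by
    rw [eq_comm, sub_eq_zero, eq_comm (a := (0 : ZMod n)), sub_eq_zero, h.injective.eq_iff]
  simp only [this]

theorem invA_pow {X : AddMonoidAlgebra R (ZMod n)} (hX : InvA Γ X) :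
    ∀ k : ℕ, InvA Γ (X ^ k)
  | 0 => by rw [pow_zero]; exact invA_one
  | k + 1 => by rw [pow_succ]; exact invA_mul (invA_pow hX k) hX

theorem invA_sub_smul {X : AddMonoidAlgebra R (ZMod n)} (hX : InvA Γ X) (c : R) :
    InvA Γ (X - c • 1) := by
  intro h hh i j
  have h1 := hX h hh i j
  have h2 := invA_one (R := R) h hh i j
  simp only [AddMonoidAlgebra.coeff_sub, AddMonoidAlgebra.coeff_smul, Finsupp.sub_apply,
    Finsupp.smul_apply] at h1 h2 ⊢
  rw [h1, h2]

theorem invA_prod {ι : Type*} (s : Finset ι) (f : ι → AddMonoidAlgebra R (ZMod n))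
    (hf : ∀ i ∈ s, InvA Γ (f i)) : InvA Γ (∏ i ∈ s, f i) :=
  Finset.prod_induction f (InvA Γ) (fun _ _ => invA_mul) invA_one hf

/-- The sum of the elements of a set. -/
noncomputable def ind (R : Type*) [CommRing R] (T : Set (ZMod n)) : AddMonoidAlgebra R (ZMod n) :=
  .ofCoeff (Finsupp.equivFunOnFinite.symm (T.indicator 1))

open Classical in
theorem coeff_ind (T : Set (ZMod n)) (d : ZMod n) :
    (ind R T).coeff d = if d ∈ T then 1 else 0 := by
  simp [ind, Set.indicator_apply]

theorem invA_ind {T : Set (ZMod n)} (hT : Inv Γ (· ∈ T)) : InvA Γ (ind R T) := by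
  classical
  intro h hh i j
  simp only [coeff_ind]
  exact if_congr (Iff.of_eq (hT h hh i j)) rfl rfl

open Classical in
theorem ind_eq_sum (T : Set (ZMod n)) :
    ind R T = ∑ x ∈ univ.filter (· ∈ T), AddMonoidAlgebra.single x (1 : R) := by
  apply AddMonoidAlgebra.coeff_injective
  ext d
  simp [coeff_ind, Finsupp.single_apply]

open Classical in
theorem inv_count {q : ℕ} [Fact q.Prime] {T : Set (ZMod n)} (hT : Inv Γ (· ∈ T)) :
    Inv Γ (fun y => (((univ.filter (fun x : ZMod n => x ∈ T ∧ (q : ZMod n) * x = y)).card : ℕ) :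
      ZMod q)) := by
  have h1 := invA_pow (invA_ind (R := ZMod q) hT) q
  have h2 : ∀ y : ZMod n, ((ind (ZMod q) T) ^ q).coeff y =
      (((univ.filter (fun x : ZMod n => x ∈ T ∧ (q : ZMod n) * x = y)).card : ℕ) : ZMod q) := by
    intro y
    haveI : CharP (AddMonoidAlgebra (ZMod q) (ZMod n)) q :=
      charP_of_injective_algebraMap (FaithfulSMul.algebraMap_injective (ZMod q) _) q
    rw [ind_eq_sum, sum_pow_char]
    simp only [AddMonoidAlgebra.single_pow, one_pow, AddMonoidAlgebra.coeff_sum,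
      Finsupp.finsetSum_apply, AddMonoidAlgebra.coeff_single, Finsupp.single_apply,
      nsmul_eq_mul, Finset.sum_boole, Finset.filter_filter]
  intro h hh i j
  have h3 := h1 h hh i j
  simp only [h2] at h3
  exact h3

theorem inv_image_prime {q : ℕ} (hq : q.Prime) (hqn : q.Coprime n) {T : Set (ZMod n)}
    (hT : Inv Γ (· ∈ T)) : Inv Γ (· ∈ (fun x => (q : ZMod n) * x) '' T) := by
  classical
  haveI : Fact q.Prime := ⟨hq⟩
  have hu : IsUnit (q : ZMod n) := (ZMod.isUnit_iff_coprime q n).2 hqn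
  have key : ∀ y : ZMod n, y ∈ (fun x => (q : ZMod n) * x) '' T ↔
      (((univ.filter (fun x : ZMod n => x ∈ T ∧ (q : ZMod n) * x = y)).card : ℕ) : ZMod q) = 1 := by
    intro y
    constructor
    · rintro ⟨x, hx, rfl⟩
      have : univ.filter (fun z : ZMod n => z ∈ T ∧ (q : ZMod n) * z = (q : ZMod n) * x) = {x} := by
        ext z
        simp only [mem_filter, mem_univ, true_and, mem_singleton, hu.mul_right_inj]
        exact ⟨fun hz => hz.2, fun hz => ⟨hz ▸ hx, hz⟩⟩
      simp [this]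
    · intro hy
      by_contra hne
      have : univ.filter (fun z : ZMod n => z ∈ T ∧ (q : ZMod n) * z = y) = ∅ := by
        ext z
        simp only [mem_filter, mem_univ, true_and, notMem_empty, iff_false, not_and]
        exact fun hz hzy => hne ⟨z, hz, hzy⟩
      simp [this] at hy
  intro h hh i j
  have h3 := inv_count (q := q) hT h hh i j
  apply propext
  simp only [key]
  exact (congrArg (· = (1 : ZMod q)) h3).to_iff

theorem inv_image_nat {t : ℕ} (ht : t.Coprime n) {T : Set (ZMod n)} (hT : Inv Γ (· ∈ T)) :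
    Inv Γ (· ∈ (fun x => (t : ZMod n) * x) '' T) := by
  induction t using Nat.recOnMul generalizing T with
  | zero =>
    have hn : n = 1 := by simpa using ht
    subst hn
    intro h hh i j
    exact congrArg (· ∈ _) (Subsingleton.elim _ _)
  | one => simpa using hT
  | prime q hq => exact inv_image_prime hq ht hT
  | mul a b iha ihb =>
    have h1 := iha (Nat.Coprime.coprime_dvd_left (Dvd.intro b rfl) ht)
      (ihb (Nat.Coprime.coprime_dvd_left (Dvd.intro_left a rfl) ht) hT)
    rwa [Set.image_image, show (fun x : ZMod n => (a : ZMod n) * ((b : ZMod n) * x)) =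
      (fun x => ((a * b : ℕ) : ZMod n) * x) by funext x; push_cast; ring] at h1

theorem orb_mul (htr : ∀ a : ZMod n, Equiv.addRight a ∈ Γ) {t : ℕ} (ht : t.Coprime n)
    (x : ZMod n) : orb Γ ((t : ZMod n) * x) = (fun z => (t : ZMod n) * z) '' orb Γ x := by
  refine Set.Subset.antisymm
    (orb_subset (inv_image_nat ht (inv_orb htr x)) ⟨x, mem_orb_self x, rfl⟩) ?_
  obtain ⟨v, hv⟩ := (ZMod.isUnit_iff_coprime t n).2 ht
  set t' := (↑v⁻¹ : ZMod n).val with ht'
  have htt : (t' : ZMod n) * t = 1 := by rw [ht', ZMod.natCast_zmod_val, ← hv, Units.inv_mul]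
  have ht'n : t'.Coprime n := (ZMod.isUnit_iff_coprime t' n).1 (IsUnit.of_mul_eq_one _ htt)
  rintro _ ⟨d, hd, rfl⟩
  have hsub := orb_subset (inv_image_nat ht'n (inv_orb htr ((t : ZMod n) * x)))
    (x := x) ⟨(t : ZMod n) * x, mem_orb_self _, by simp [← mul_assoc, htt]⟩
  obtain ⟨e, he, rfl⟩ := hsub hd
  show (t : ZMod n) * ((t' : ZMod n) * e) ∈ _
  rwa [← mul_assoc, show (t : ZMod n) * t' = 1 by rw [mul_comm, htt], one_mul]

end Algebra

section Fourier

theorem const_of_sums_eq_zero {p : ℕ} (hp : p ≠ 0) {ζ : ℂ} (hζ : IsPrimitiveRoot ζ p)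
    (f : ℕ → ℂ) (h : ∀ j, 1 ≤ j → j < p → ∑ a ∈ range p, f a * ζ ^ (j * a) = 0)
    {b : ℕ} (hb : b < p) : (p : ℂ) * f b = ∑ a ∈ range p, f a := by
  have h1 : ∑ j ∈ range p, ζ ^ (j * (p - b)) * ∑ a ∈ range p, f a * ζ ^ (j * a) =
      ∑ a ∈ range p, f a := by
    rw [Finset.sum_eq_single 0]
    · simp
    · intro j hj hj0
      rw [h j (Nat.one_le_iff_ne_zero.2 hj0) (mem_range.1 hj), mul_zero]
    · intro h0; exact absurd (mem_range.2 (Nat.pos_of_ne_zero hp)) h0
  rw [← h1]
  simp only [Finset.mul_sum]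
  rw [Finset.sum_comm, Finset.sum_eq_single b]
  · have : ∀ j : ℕ, ζ ^ (j * (p - b)) * (f b * ζ ^ (j * b)) = f b := by
      intro j
      rw [mul_left_comm, ← pow_add, ← Nat.mul_add, Nat.sub_add_cancel hb.le, mul_comm j, pow_mul,
        hζ.pow_eq_one, one_pow, mul_one]
    simp [this]
  · intro a ha hab
    have hpow : ∀ j : ℕ, ζ ^ (j * (p - b)) * (f a * ζ ^ (j * a)) = f a * (ζ ^ (p - b + a)) ^ j := by
      intro j
      rw [mul_left_comm, ← pow_add, ← pow_mul, ← Nat.mul_add, Nat.mul_comm (p - b + a)]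
    simp only [hpow, ← Finset.mul_sum]
    have hne : ζ ^ (p - b + a) ≠ 1 := by
      rw [Ne, hζ.pow_eq_one_iff_dvd]
      intro hd
      have ha' := mem_range.1 ha
      rcases hd with ⟨c, hc⟩
      rcases Nat.lt_or_ge c 2 with hc2 | hc2
      · interval_cases c <;> omega
      · have := Nat.mul_le_mul_left p hc2; omega
    rw [geom_sum_eq hne, ← pow_mul, mul_comm (p - b + a), pow_mul, hζ.pow_eq_one]
    simp
  · intro h0; exact absurd (mem_range.2 hb) h0

theorem int_const_of_sum_eq_zero {p : ℕ} (hp : p.Prime) {ζ : ℂ} (hζ : IsPrimitiveRoot ζ p)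
    (F : ℕ → ℤ) (h : ∑ a ∈ range p, (F a : ℂ) * ζ ^ a = 0) {a b : ℕ} (ha : a < p) (hb : b < p) :
    F a = F b := by
  let P : Polynomial ℚ := ∑ a ∈ range p, Polynomial.C (F a : ℚ) * Polynomial.X ^ a
  have hev : ∀ w : ℂ, Polynomial.aeval w P = ∑ a ∈ range p, (F a : ℂ) * w ^ a := by
    intro w; simp [P, map_sum]
  have hd : Polynomial.cyclotomic p ℚ ∣ P := by
    rw [Polynomial.cyclotomic_eq_minpoly_rat hζ hp.pos]
    exact minpoly.dvd ℚ ζ (by rw [hev, h])
  have hall : ∀ j, 1 ≤ j → j < p → ∑ a ∈ range p, (F a : ℂ) * ζ ^ (j * a) = 0 := by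
    intro j hj1 hjp
    obtain ⟨Q, hQ⟩ := hd
    have hc : j.Coprime p := ((hp.coprime_iff_not_dvd).2 fun hdv => by
      have := Nat.le_of_dvd hj1 hdv; omega).symm
    have hz := hζ.pow_of_coprime j hc
    have hroot := hz.isRoot_cyclotomic hp.pos
    have : Polynomial.aeval (ζ ^ j) (Polynomial.cyclotomic p ℚ) = 0 := by
      rw [Polynomial.aeval_def, Polynomial.eval₂_eq_eval_map, Polynomial.map_cyclotomic]
      exact hroot
    have h2 := hev (ζ ^ j)
    rw [hQ, map_mul, this, zero_mul] at h2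
    simpa [pow_mul] using h2.symm
  have h1 := const_of_sums_eq_zero hp.ne_zero hζ (fun a => (F a : ℂ)) hall ha
  have h2 := const_of_sums_eq_zero hp.ne_zero hζ (fun a => (F a : ℂ)) hall hb
  have h3 := h1.trans h2.symm
  exact_mod_cast mul_left_cancel₀ (Nat.cast_ne_zero.2 hp.ne_zero) h3

end Fourier

section Main

variable {p m : ℕ}

theorem mul_eq_zero_cases [hp : Fact p.Prime] (hm : 1 ≤ m) {z : ZMod (p ^ m)}
    (hz : (p : ZMod (p ^ m)) * z = 0) :
    ∃ a < p, z = (a : ZMod (p ^ m)) * ((p ^ (m - 1) : ℕ) : ZMod (p ^ m)) := by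
  haveI : NeZero (p ^ m) := ⟨pow_ne_zero _ hp.out.ne_zero⟩
  have hpm : p ^ m = p * p ^ (m - 1) := by rw [← pow_succ', Nat.sub_add_cancel hm]
  obtain ⟨k, hk, rfl⟩ : ∃ k < p ^ m, (k : ZMod (p ^ m)) = z :=
    ⟨z.val, z.val_lt, ZMod.natCast_zmod_val z⟩
  rw [← Nat.cast_mul, ZMod.natCast_eq_zero_iff] at hz
  have h2 : p * p ^ (m - 1) ∣ p * k := hpm ▸ hz
  obtain ⟨a, rfl⟩ := Nat.dvd_of_mul_dvd_mul_left hp.out.pos h2
  refine ⟨a, ?_, by push_cast; ring⟩
  have h3 : p ^ (m - 1) * a < p ^ (m - 1) * p := hk.trans_le (le_of_eq (by rw [hpm, mul_comm]))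
  exact Nat.lt_of_mul_lt_mul_left h3

theorem mul_eq_zero_of_mul_p [hp : Fact p.Prime] (hm : 1 ≤ m) :
    (p : ZMod (p ^ m)) * ((p ^ (m - 1) : ℕ) : ZMod (p ^ m)) = 0 := by
  rw [← Nat.cast_mul, ← pow_succ', Nat.sub_add_cancel hm, ZMod.natCast_self]

theorem natCast_mul_injOn [hp : Fact p.Prime] (hm : 1 ≤ m) {a b : ℕ} (ha : a < p) (hb : b < p)
    (h : (a : ZMod (p ^ m)) * ((p ^ (m - 1) : ℕ) : ZMod (p ^ m)) =
      (b : ZMod (p ^ m)) * ((p ^ (m - 1) : ℕ) : ZMod (p ^ m))) : a = b := by
  have hlt : ∀ c < p, c * p ^ (m - 1) < p ^ m := fun c hc => by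
    calc c * p ^ (m - 1) < p * p ^ (m - 1) :=
          Nat.mul_lt_mul_of_pos_right hc (pow_pos hp.out.pos _)
      _ = p ^ m := by rw [← pow_succ', Nat.sub_add_cancel hm]
  rw [← Nat.cast_mul, ← Nat.cast_mul] at h
  have h2 := congrArg ZMod.val h
  rw [ZMod.val_natCast_of_lt (hlt a ha), ZMod.val_natCast_of_lt (hlt b hb)] at h2
  exact Nat.eq_of_mul_eq_mul_right (pow_pos hp.out.pos _) h2

theorem exists_invariant_subgroup [hp : Fact p.Prime] (hm : 2 ≤ m)
    (Γ : Subgroup (Equiv.Perm (ZMod (p ^ m))))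
    (htr : ∀ a : ZMod (p ^ m), Equiv.addRight a ∈ Γ)
    (h2 : ∃ x y : ZMod (p ^ m), x ≠ 0 ∧ y ≠ 0 ∧ y ∉ orb Γ x) :
    ∃ L : AddSubgroup (ZMod (p ^ m)), L ≠ ⊥ ∧ L ≠ ⊤ ∧
      ∀ h ∈ Γ, ∀ i j : ZMod (p ^ m), j - i ∈ L → h j - h i ∈ L := by
  classical
  by_contra hcon
  push Not at hcon
  have hprim : ∀ L : AddSubgroup (ZMod (p ^ m)),
      (∀ h ∈ Γ, ∀ i j : ZMod (p ^ m), j - i ∈ L → h j - h i ∈ L) → L = ⊥ ∨ L = ⊤ := by
    intro L hL
    by_contra hne
    push Not at hne
    obtain ⟨h, hh, i, j, hij, hn⟩ := hcon L hne.1 hne.2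
    exact hn (hL h hh i j hij)
  clear hcon
  haveI : NeZero (p ^ m) := ⟨pow_ne_zero _ hp.out.ne_zero⟩
  have hm1 : 1 ≤ m := le_trans one_le_two hm
  have hpm : p ∣ p ^ m := dvd_pow_self p (by omega)
  set u : ZMod (p ^ m) := ((p ^ (m - 1) : ℕ) : ZMod (p ^ m)) with hu
  have hpu : (p : ZMod (p ^ m)) * u = 0 := mul_eq_zero_of_mul_p hm1
  have hu0 : u ≠ 0 := by
    intro h0
    have := natCast_mul_injOn (p := p) hm1 hp.out.one_lt hp.out.pos
      (by rw [← hu, h0, mul_zero, mul_zero])
    exact one_ne_zero this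
  let π : ZMod (p ^ m) →+* ZMod p := ZMod.castHom hpm _
  have hπu : π u = 0 := by
    simp only [hu, map_natCast, ZMod.natCast_eq_zero_iff]
    exact dvd_pow_self p (by omega)
  -- the fibre counts are divisible by `p`
  have hcount : ∀ T : Set (ZMod (p ^ m)), Inv Γ (· ∈ T) → ∀ y : ZMod (p ^ m), y ≠ 0 →
      p ∣ (univ.filter (fun x => x ∈ T ∧ (p : ZMod (p ^ m)) * x = y)).card := by
    intro T hT y hy
    set c : ZMod (p ^ m) → ZMod p := fun y =>
      (((univ.filter (fun x => x ∈ T ∧ (p : ZMod (p ^ m)) * x = y)).card : ℕ) : ZMod p)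
    have hc : Inv Γ c := inv_count hT
    let B : Set (ZMod (p ^ m)) := {y | y ≠ 0 ∧ c y ≠ 0}
    have hB : Inv Γ (· ∈ B) := by
      intro h hh i j
      simp only [B, Set.mem_ofPred_eq, hc h hh i j, ne_eq, sub_eq_zero, h.injective.eq_iff]
    have hBk : ∀ z ∈ B, π z = 0 := by
      intro z hz
      by_contra hzne
      apply hz.2
      have : univ.filter (fun x => x ∈ T ∧ (p : ZMod (p ^ m)) * x = z) = ∅ := by
        ext x
        simp only [mem_filter, mem_univ, true_and, notMem_empty, iff_false, not_and]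
        rintro - rfl
        exact hzne (by rw [map_mul, map_natCast, ZMod.natCast_self, zero_mul])
      simp [c, this]
    have hL : ∀ h ∈ Γ, ∀ i j : ZMod (p ^ m),
        j - i ∈ AddSubgroup.closure B → h j - h i ∈ AddSubgroup.closure B := by
      intro h hh
      suffices H : ∀ d ∈ AddSubgroup.closure B, ∀ i, h (i + d) - h i ∈ AddSubgroup.closure B by
        intro i j hij
        simpa using H _ hij i
      intro d hd
      induction hd using AddSubgroup.closure_induction with
      | mem x hx =>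
        intro i
        refine AddSubgroup.subset_closure ?_
        have hiff := (hB h hh i (i + x)).to_iff
        exact hiff.2 (by simpa using hx)
      | zero => intro i; simp
      | add a b _ _ iha ihb =>
        intro i
        have := add_mem (ihb (i + a)) (iha i)
        rwa [sub_add_sub_cancel, add_assoc] at this
      | neg a _ iha =>
        intro i
        have := neg_mem (iha (i + -a))
        rwa [neg_add_cancel_right, neg_sub] at this
    rcases hprim _ hL with hbot | htop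
    · by_contra hnd
      have hyB : y ∈ B := ⟨hy, fun h0 => hnd ((ZMod.natCast_eq_zero_iff _ _).1 h0)⟩
      have := AddSubgroup.subset_closure hyB
      rw [hbot] at this
      exact hy this
    · exfalso
      have hle : AddSubgroup.closure B ≤ π.toAddMonoidHom.ker :=
        (AddSubgroup.closure_le _).2 fun z hz => hBk z hz
      have h1 : (1 : ZMod (p ^ m)) ∈ π.toAddMonoidHom.ker := hle (htop ▸ AddSubgroup.mem_top 1)
      have : π 1 = 0 := h1
      rw [map_one] at this
      exact one_ne_zero this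
  have hfib : ∀ x : ZMod (p ^ m), univ.filter (fun z => (p : ZMod (p ^ m)) * z = (p : ZMod (p ^ m)) * x)
      ⊆ (range p).image (fun a : ℕ => x + (a : ZMod (p ^ m)) * u) := by
    intro x z hz
    simp only [mem_filter, mem_univ, true_and] at hz
    obtain ⟨a, ha, hza⟩ := mul_eq_zero_cases (p := p) hm1 (z := z - x) (by rw [mul_sub, hz, sub_self])
    exact mem_image.2 ⟨a, mem_range.2 ha, by rw [hu, ← hza]; abel⟩
  have hperiodic : ∀ T : Set (ZMod (p ^ m)), Inv Γ (· ∈ T) → ∀ x ∈ T,
      (p : ZMod (p ^ m)) * x ≠ 0 → x + u ∈ T := by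
    intro T hT x hx hpx
    set F := univ.filter (fun z => z ∈ T ∧ (p : ZMod (p ^ m)) * z = (p : ZMod (p ^ m)) * x)
    have hsub : F ⊆ (range p).image (fun a : ℕ => x + (a : ZMod (p ^ m)) * u) := fun z hz => by
      simp only [F, mem_filter, mem_univ, true_and] at hz
      exact hfib x (by simpa using hz.2)
    have hpos : 0 < F.card := card_pos.2 ⟨x, by simp [F, hx]⟩
    have hle : p ≤ F.card := Nat.le_of_dvd hpos (hcount T hT _ hpx)
    have heq := eq_of_subset_of_card_le hsub (card_image_le.trans (by simpa using hle))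
    have hmem : x + u ∈ F := by
      rw [heq]; exact mem_image.2 ⟨1, mem_range.2 hp.out.one_lt, by simp⟩
    simp only [F, mem_filter] at hmem
    exact hmem.2.1
  have hmeet : ∀ x : ZMod (p ^ m), x ≠ 0 →
      ∃ a, 1 ≤ a ∧ a < p ∧ (a : ZMod (p ^ m)) * u ∈ orb Γ x := by
    intro x hx
    by_contra hne
    push Not at hne
    set T := orb Γ x
    have hT : Inv Γ (· ∈ T) := inv_orb htr x
    have hper : ∀ z ∈ T, z + u ∈ T := by
      intro z hz
      refine hperiodic T hT z hz fun h0 => ?_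
      obtain ⟨a, ha, rfl⟩ := mul_eq_zero_cases (p := p) hm1 h0
      rcases Nat.eq_zero_or_pos a with rfl | hpos
      · exact zero_notMem_orb hx (by simpa [T] using hz)
      · exact hne a hpos ha hz
    let L : AddSubgroup (ZMod (p ^ m)) :=
      { carrier := {d | ∀ i, i ∈ T ↔ i + d ∈ T}
        zero_mem' := fun i => by rw [add_zero]
        add_mem' := fun {a b} ha hb i => (ha i).trans ((hb _).trans (by rw [add_assoc]))
        neg_mem' := fun {a} ha i => by rw [ha (i + -a), neg_add_cancel_right] }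
    have hL : ∀ h ∈ Γ, ∀ i j : ZMod (p ^ m), j - i ∈ L → h j - h i ∈ L := by
      intro h hh i j hij k
      obtain ⟨k0, hk0⟩ := h.surjective (k + h j)
      have e1 : (k ∈ T) ↔ k0 - j ∈ T := by
        have h' := (hT h hh j k0).to_iff
        rwa [hk0, add_sub_cancel_right] at h'
      have e2 : (k + (h j - h i) ∈ T) ↔ k0 - i ∈ T := by
        have h' := (hT h hh i k0).to_iff
        rwa [hk0, add_sub_assoc] at h'
      rw [e1, e2]
      have := hij (k0 - j)
      rwa [sub_add_sub_cancel] at this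
    have hit : ∀ (k : ℕ) (z : ZMod (p ^ m)), z ∈ T → z + (k : ZMod (p ^ m)) * u ∈ T := by
      intro k
      induction k with
      | zero => intro z hz; simpa using hz
      | succ k ih =>
        intro z hz
        have := hper _ (ih z hz)
        push_cast
        rwa [add_mul, one_mul, ← add_assoc]
    have huL : u ∈ L := fun i => ⟨hper i, fun hi => by
      have := hit (p - 1) _ hi
      rw [add_assoc] at this
      have e : u + ((p - 1 : ℕ) : ZMod (p ^ m)) * u = 0 := by
        rw [Nat.cast_sub hp.out.one_lt.le]; linear_combination hpu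
      rwa [e, add_zero] at this⟩
    rcases hprim L hL with hb | ht
    · rw [hb] at huL; exact hu0 huL
    · have h1 : (-x) ∈ L := ht ▸ AddSubgroup.mem_top _
      have := (h1 x).1 (mem_orb_self x)
      exact zero_notMem_orb hx (by simpa [T] using this)
  have hcop : ∀ a, 1 ≤ a → a < p → a.Coprime (p ^ m) := fun a ha1 hap =>
    (Nat.Coprime.pow_left m ((hp.out.coprime_iff_not_dvd).2 fun hd => by
      have := Nat.le_of_dvd ha1 hd; omega)).symm
  -- the multipliers found in the basic set of `u` are not all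
  obtain ⟨b0, hb01, hb0p, hb0⟩ :
      ∃ b, 1 ≤ b ∧ b < p ∧ (b : ZMod (p ^ m)) * u ∉ orb Γ u := by
    by_contra hall
    push Not at hall
    obtain ⟨x, y, hx, hy, hxy⟩ := h2
    have : ∀ z : ZMod (p ^ m), z ≠ 0 → orb Γ z = orb Γ u := by
      intro z hz
      obtain ⟨a, ha1, hap, ha⟩ := hmeet z hz
      exact (orb_eq_of_mem htr ha).symm.trans (orb_eq_of_mem htr (hall a ha1 hap))
    exact hxy (by rw [this x hx, ← this y hy]; exact mem_orb_self y)
  -- characters
  set e : AddChar (ZMod (p ^ m)) ℂ := ZMod.stdAddChar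
  have heinj : Function.Injective e := ZMod.injective_stdAddChar
  set ζ : ℂ := e u with hζdef
  have he0 : e 0 = 1 := AddChar.map_zero_eq_one e
  have hζ : IsPrimitiveRoot ζ p := by
    refine IsPrimitiveRoot.iff_def _ _ |>.2 ⟨?_, fun l hl => ?_⟩
    · rw [hζdef, ← AddChar.map_nsmul_eq_pow, nsmul_eq_mul, hpu, he0]
    · rw [hζdef, ← AddChar.map_nsmul_eq_pow, nsmul_eq_mul, ← he0] at hl
      have h3 := heinj hl
      have h4 : p ^ m ∣ l * p ^ (m - 1) := by
        rw [← ZMod.natCast_eq_zero_iff]; push_cast; simpa [hu] using h3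
      have h5 : p * p ^ (m - 1) ∣ l * p ^ (m - 1) := by
        rwa [← pow_succ', Nat.sub_add_cancel hm1]
      exact Nat.dvd_of_mul_dvd_mul_right (pow_pos hp.out.pos _) h5
  have hew : ∀ (a : ℕ), e ((a : ZMod (p ^ m)) * u) = ζ ^ a := fun a => by
    rw [hζdef, ← AddChar.map_nsmul_eq_pow, nsmul_eq_mul]
  have hζmod : ∀ a : ℕ, ζ ^ a = ζ ^ (a % p) := fun a => by
    conv_lhs => rw [← Nat.mod_add_div a p, pow_add, pow_mul, hζ.pow_eq_one, one_pow, mul_one]
  let ev : ZMod (p ^ m) → AddMonoidAlgebra ℂ (ZMod (p ^ m)) →ₐ[ℂ] ℂ := fun c =>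
    AddMonoidAlgebra.lift ℂ ℂ (ZMod (p ^ m)) (AddChar.mulShift e c).toMonoidHom
  have hev : ∀ c X, ev c X = ∑ x, X.coeff x * e (c * x) := by
    intro c X
    simp only [ev, AddMonoidAlgebra.lift_apply, smul_eq_mul]
    rw [Finsupp.sum_fintype _ _ (fun _ => zero_mul _)]
    exact Finset.sum_congr rfl fun x _ => rfl
  set P : Finset (ZMod (p ^ m)) := univ.filter (fun x => (p : ZMod (p ^ m)) * x = 0) with hP
  have hPimg : P = (range p).image (fun a : ℕ => (a : ZMod (p ^ m)) * u) := by
    ext z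
    simp only [hP, mem_filter, mem_univ, true_and, mem_image, mem_range]
    constructor
    · intro hz
      obtain ⟨a, ha, rfl⟩ := mul_eq_zero_cases (p := p) hm1 hz
      exact ⟨a, ha, rfl⟩
    · rintro ⟨a, -, rfl⟩
      rw [mul_left_comm, hpu, mul_zero]
  -- a faithful character only sees the subgroup of order `p`
  have hrestrict : ∀ (X : AddMonoidAlgebra ℂ (ZMod (p ^ m))), InvA Γ X →
      ∀ j, 1 ≤ j → j < p → ev (j : ZMod (p ^ m)) X =
        ∑ a ∈ range p, X.coeff ((a : ZMod (p ^ m)) * u) * ζ ^ (j * a) := by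
    intro X hX j hj1 hjp
    rw [hev, ← Finset.sum_add_sum_compl P]
    have hzero : ∑ x ∈ Pᶜ, X.coeff x * e ((j : ZMod (p ^ m)) * x) = 0 := by
      set S := ∑ x ∈ Pᶜ, X.coeff x * e ((j : ZMod (p ^ m)) * x) with hS
      have hshift : ∀ x ∈ Pᶜ, X.coeff (x + u) = X.coeff x := by
        intro x hx
        exact hperiodic {z | X.coeff z = X.coeff x} (hX.comp (· = X.coeff x)) x rfl
          (by simpa [hP] using hx)
      have h1 : S = S * ζ ^ j := by
        rw [hS, Finset.sum_mul]
        refine (Finset.sum_equiv (Equiv.addRight u) ?_ ?_).symm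
        · intro x; simp [hP, mul_add, hpu]
        · intro x hx
          simp only [Equiv.coe_addRight]
          rw [hshift x hx, mul_add, AddChar.map_add_eq_mul, hew, mul_assoc]
      have h3 : ζ ^ j ≠ 1 := by
        rw [Ne, hζ.pow_eq_one_iff_dvd]
        intro hd; have := Nat.le_of_dvd hj1 hd; omega
      have : S * (1 - ζ ^ j) = 0 := by rw [mul_sub, mul_one, ← h1, sub_self]
      exact (mul_eq_zero.1 this).resolve_right (sub_ne_zero.2 (Ne.symm h3))
    rw [hzero, add_zero, hPimg, Finset.sum_image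
      (fun a ha b hb hab => natCast_mul_injOn hm1 (mem_range.1 ha) (mem_range.1 hb) hab)]
    refine Finset.sum_congr rfl fun a _ => ?_
    rw [show (j : ZMod (p ^ m)) * ((a : ZMod (p ^ m)) * u) =
      ((j * a : ℕ) : ZMod (p ^ m)) * u by push_cast; ring, hew]
  have hinj : ∀ X : AddMonoidAlgebra ℂ (ZMod (p ^ m)), InvA Γ X → ev 0 X = 0 →
      (∀ j : ℕ, 1 ≤ j → j < p → ev (j : ZMod (p ^ m)) X = 0) → X = 0 := by
    intro X hX h0 hj
    have hc : ∀ b, b < p → (p : ℂ) * X.coeff ((b : ZMod (p ^ m)) * u) =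
        ∑ a ∈ range p, X.coeff ((a : ZMod (p ^ m)) * u) := fun b hb =>
      const_of_sums_eq_zero hp.out.ne_zero hζ (fun a => X.coeff ((a : ZMod (p ^ m)) * u))
        (fun j h1 h2 => by rw [← hrestrict X hX j h1 h2]; exact hj j h1 h2) hb
    have hall : ∀ x, X.coeff x = X.coeff 0 := by
      intro x
      rcases eq_or_ne x 0 with rfl | hx
      · rfl
      obtain ⟨a, -, hap, ha⟩ := hmeet x hx
      have h1 : X.coeff ((a : ZMod (p ^ m)) * u) = X.coeff x :=
        eq_of_mem_orb htr (R := ℂ) (f := fun d => X.coeff d) hX ha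
      have h2 := (hc a hap).trans (hc 0 hp.out.pos).symm
      rw [← h1]
      simpa [hp.out.ne_zero] using h2
    rw [hev] at h0
    simp only [zero_mul, he0, mul_one, hall] at h0
    rw [Finset.sum_const, Finset.card_univ, nsmul_eq_mul, mul_eq_zero] at h0
    have h00 : X.coeff 0 = 0 :=
      h0.resolve_left (Nat.cast_ne_zero.2 Fintype.card_ne_zero)
    apply AddMonoidAlgebra.coeff_injective
    ext x
    simp [hall x, h00]
  -- the character of order `p` agrees with a faithful one
  obtain ⟨j, hj1, hjp, hagree⟩ : ∃ j : ℕ, 1 ≤ j ∧ j < p ∧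
      ∀ X : AddMonoidAlgebra ℂ (ZMod (p ^ m)), InvA Γ X → ev u X = ev (j : ZMod (p ^ m)) X := by
    by_contra hne
    push Not at hne
    choose Y hY hYne using hne
    let f : ℕ → AddMonoidAlgebra ℂ (ZMod (p ^ m)) := fun j =>
      if h : 1 ≤ j ∧ j < p then Y j h.1 h.2 - ev (j : ZMod (p ^ m)) (Y j h.1 h.2) • 1 else 1
    let J : AddMonoidAlgebra ℂ (ZMod (p ^ m)) := ind ℂ Set.univ
    let Z := (J - ev 0 J • 1) * ∏ j ∈ Finset.Ico 1 p, f j
    have hJ : InvA Γ J := invA_ind (fun _ _ _ _ => rfl)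
    have hZ : InvA Γ Z := invA_mul (invA_sub_smul hJ _) (invA_prod _ _ fun j _ => by
      simp only [f]; split_ifs with h
      · exact invA_sub_smul (hY j h.1 h.2) _
      · exact invA_one)
    have hZ0 : Z = 0 := by
      refine hinj Z hZ (by simp [Z]) fun j h1 h2 => ?_
      rw [map_mul, map_prod]
      refine mul_eq_zero_of_right _ (Finset.prod_eq_zero (Finset.mem_Ico.2 ⟨h1, h2⟩) ?_)
      simp [f, h1, h2]
    have hne : ev u Z ≠ 0 := by
      rw [map_mul, map_prod]
      refine mul_ne_zero ?_ (Finset.prod_ne_zero_iff.2 fun j hj => ?_)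
      · have hsum : ev u J = 0 := by
          rw [hev]
          simp only [J, coeff_ind, Set.mem_univ, if_true, one_mul]
          exact AddChar.sum_eq_zero_of_ne_one (ψ := AddChar.mulShift e u)
            (ZMod.isPrimitive_stdAddChar _ hu0)
        have hsum0 : ev 0 J = (Fintype.card (ZMod (p ^ m)) : ℂ) := by
          rw [hev]
          simp [J, coeff_ind, he0]
        simp [map_sub, hsum, hsum0, hp.out.ne_zero]
      · obtain ⟨h1, h2⟩ := Finset.mem_Ico.1 hj
        simp only [f, h1, h2, and_self, dif_pos, map_sub, map_smul, map_one, smul_eq_mul, mul_one]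
        exact sub_ne_zero.2 (hYne j h1 h2)
    exact hne (by rw [hZ0, map_zero])
  -- contradiction from the values on the basic set of `u`
  set T := orb Γ u
  have hT : Inv Γ (· ∈ T) := inv_orb htr u
  have hag := hagree (ind ℂ T) (invA_ind hT)
  let D : ℕ → ℕ := fun a =>
    (univ.filter (fun x : ZMod (p ^ m) => x ∈ T ∧ x.val % p = a)).card
  let E : ℕ → ℕ := fun a =>
    ((range p).filter (fun b : ℕ => (b : ZMod (p ^ m)) * u ∈ T ∧ j * b % p = a)).card
  have hlhs : ev u (ind ℂ T) = ∑ a ∈ range p, (D a : ℂ) * ζ ^ a := by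
    rw [hev]
    simp only [coeff_ind, ite_mul, one_mul, zero_mul]
    rw [← Finset.sum_filter]
    have : ∀ x : ZMod (p ^ m), e (u * x) = ζ ^ (x.val % p) := fun x => by
      rw [← hζmod, ← hew, ZMod.natCast_zmod_val, mul_comm]
    simp only [this]
    rw [← Finset.sum_fiberwise_of_maps_to (g := fun x : ZMod (p ^ m) => x.val % p) (t := range p)
      (fun x _ => mem_range.2 (Nat.mod_lt _ hp.out.pos))]
    refine Finset.sum_congr rfl fun a _ => ?_
    rw [Finset.sum_congr rfl (fun x hx => congrArg (ζ ^ ·) (Finset.mem_filter.1 hx).2),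
      Finset.sum_const, nsmul_eq_mul, Finset.filter_filter]
  have hrhs : ev (j : ZMod (p ^ m)) (ind ℂ T) = ∑ a ∈ range p, (E a : ℂ) * ζ ^ a := by
    rw [hrestrict _ (invA_ind hT) j hj1 hjp]
    simp only [coeff_ind, ite_mul, one_mul, zero_mul]
    rw [← Finset.sum_filter,
      ← Finset.sum_fiberwise_of_maps_to (g := fun b : ℕ => j * b % p) (t := range p)
      (fun x _ => mem_range.2 (Nat.mod_lt _ hp.out.pos))]
    refine Finset.sum_congr rfl fun a _ => ?_
    rw [Finset.sum_congr rfl (fun b hb => (hζmod (j * b)).trans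
      (congrArg (ζ ^ ·) (Finset.mem_filter.1 hb).2)),
      Finset.sum_const, nsmul_eq_mul, Finset.filter_filter]
  have hFc : ∀ a b, a < p → b < p → (D a : ℤ) - E a = (D b : ℤ) - E b := by
    intro a b ha hb
    refine int_const_of_sum_eq_zero hp.out hζ (fun a => (D a : ℤ) - E a) ?_ ha hb
    have := hlhs.symm.trans (hag.trans hrhs)
    simp only [Int.cast_sub, Int.cast_natCast, sub_mul, Finset.sum_sub_distrib]
    rw [this, sub_self]
  have hD : ∀ a, 1 ≤ a → a < p → p ∣ D a := by
    intro a ha1 hap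
    simp only [D]
    rw [Finset.card_eq_sum_card_fiberwise (f := fun x : ZMod (p ^ m) => (p : ZMod (p ^ m)) * x)
      (t := univ) (fun x _ => Finset.mem_univ _)]
    refine Finset.dvd_sum fun y _ => ?_
    rw [Finset.filter_filter]
    by_cases hne : (univ.filter (fun x : ZMod (p ^ m) =>
        (x ∈ T ∧ x.val % p = a) ∧ (p : ZMod (p ^ m)) * x = y)).Nonempty
    · obtain ⟨x, hx⟩ := hne
      simp only [mem_filter, mem_univ, true_and] at hx
      obtain ⟨⟨hxT, hxa⟩, hxy⟩ := hx
      have hval : ∀ z : ZMod (p ^ m), ((z.val : ℕ) : ZMod p) = π z := fun z => by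
        conv_rhs => rw [← ZMod.natCast_zmod_val z, map_natCast]
      have hy : y ≠ 0 := by
        intro h0
        obtain ⟨b, -, hb⟩ := mul_eq_zero_cases (p := p) hm1 (hxy.trans h0)
        have h1 : π x = 0 := by rw [hb, map_mul, ← hu, hπu, mul_zero]
        rw [← hval, ZMod.natCast_eq_zero_iff] at h1
        have := Nat.mod_eq_zero_of_dvd h1
        omega
      have heq : univ.filter (fun z : ZMod (p ^ m) =>
          (z ∈ T ∧ z.val % p = a) ∧ (p : ZMod (p ^ m)) * z = y) =
          univ.filter (fun z => z ∈ T ∧ (p : ZMod (p ^ m)) * z = y) := by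
        ext z
        simp only [mem_filter, mem_univ, true_and]
        refine ⟨fun h => ⟨h.1.1, h.2⟩, fun h => ⟨⟨h.1, ?_⟩, h.2⟩⟩
        have hz : z ∈ univ.filter (fun w => (p : ZMod (p ^ m)) * w = (p : ZMod (p ^ m)) * x) := by
          simp [h.2, hxy]
        obtain ⟨b, -, hb⟩ := mem_image.1 (hfib x hz)
        have h3 : π z = π x := by rw [← hb, map_add, map_mul, hπu, mul_zero, add_zero]
        rw [← hval, ← hval, ZMod.natCast_eq_natCast_iff'] at h3
        omega
      rw [heq]
      exact hcount T hT y hy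
    · rw [Finset.not_nonempty_iff_eq_empty.1 hne]; simp
  have hjinj : ∀ b b' : ℕ, b < p → b' < p → j * b % p = j * b' % p → b = b' := by
    intro b b' hb hb' h
    have hjc : Nat.Coprime p j := (hp.out.coprime_iff_not_dvd).2 fun hd => by
      have := Nat.le_of_dvd hj1 hd; omega
    have h' : j * b ≡ j * b' [MOD p] := h
    exact (Nat.ModEq.cancel_left_of_coprime hjc h').eq_of_lt_of_lt hb hb'
  have hpos : ∀ b, 1 ≤ b → b < p → 1 ≤ j * b % p := by
    intro b hb1 hbp
    rcases Nat.eq_zero_or_pos (j * b % p) with h0 | h0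
    · have := hjinj b 0 hbp hp.out.pos (by simpa using h0)
      omega
    · exact h0
  have hE1 : E (j * 1 % p) = 1 := by
    simp only [E]
    rw [Finset.card_eq_one]
    refine ⟨1, ?_⟩
    ext b
    simp only [mem_filter, mem_range, mem_singleton]
    constructor
    · rintro ⟨hb, -, h⟩; exact hjinj b 1 hb hp.out.one_lt h
    · rintro rfl; exact ⟨hp.out.one_lt, by simpa [T] using mem_orb_self u, rfl⟩
  have hE0 : E (j * b0 % p) = 0 := by
    simp only [E]
    rw [Finset.card_eq_zero]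
    ext b
    simp only [mem_filter, mem_range, notMem_empty, iff_false]
    rintro ⟨hb, hbT, h⟩
    obtain rfl := hjinj b b0 hb hb0p h
    exact hb0 hbT
  have hk := hFc _ _ (Nat.mod_lt (j * 1) hp.out.pos) (Nat.mod_lt (j * b0) hp.out.pos)
  rw [hE1, hE0] at hk
  have hd1 : (p : ℤ) ∣ (D (j * 1 % p) : ℤ) :=
    Int.natCast_dvd_natCast.2 (hD _ (hpos 1 le_rfl hp.out.one_lt) (Nat.mod_lt _ hp.out.pos))
  have hd2 : (p : ℤ) ∣ (D (j * b0 % p) : ℤ) :=
    Int.natCast_dvd_natCast.2 (hD _ (hpos b0 hb01 hb0p) (Nat.mod_lt _ hp.out.pos))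
  have hd3 := dvd_sub hd1 hd2
  rw [show (D (j * 1 % p) : ℤ) - (D (j * b0 % p) : ℤ) = 1 by push_cast at hk; linarith] at hd3
  exact hp.out.one_lt.ne' (by exact_mod_cast Int.eq_one_of_dvd_one (by positivity) hd3)

end Main

end Cfsg.Agent.SchurCyclic
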