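import Cfsg.Agent.Lib.PGroup.NormalRankOne
import Cfsg.Agent.Lib.Invol.Quaternion
import Cfsg.Agent.Lib.SmallGroups.PrimeTransitive
import Cfsg.Agent.S0205
import Cfsg.Agent.S0675
import Cfsg.Agent.S3972

/-!
# Coprime linear groups all of whose orbits have prime power size

A finite group acting faithfully and coprimely on a finite elementary abelian group, all orbit sizes
being powers of one prime `p`, is solvable. A Sylow `p`-subgroup has the same orbits, so it has the
same invariant subgroups and the same systems of imprimitivity; a primitive irreducible `p`-group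
is cyclic or, for `p = 2`, quaternion, and these two cases are done by hand.
-/

set_option autoImplicit false
set_option linter.style.haveILetI false
set_option linter.unusedSectionVars false

open Subgroup MulAction
open scoped Pointwise

namespace Cfsg.Agent.PrimePowerOrbits

universe u

/-! ### Generalities -/

theorem relIndex_dvd_index {G : Type*} [Group G] [Finite G] (N C : Subgroup G) [N.Normal] :
    C.relIndex N ∣ C.index := by
  have e1 : Nat.card (N ⊓ C : Subgroup G) * C.relIndex N = Nat.card N := by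
    rw [← Subgroup.inf_relIndex_left, ← Subgroup.relIndex_bot_left (N ⊓ C),
      ← Subgroup.relIndex_bot_left N, Subgroup.relIndex_mul_relIndex ⊥ _ N bot_le inf_le_left]
  have e2 : Nat.card C = Nat.card (N ⊓ C : Subgroup G) * N.relIndex C := by
    rw [← Subgroup.inf_relIndex_right, ← Subgroup.relIndex_bot_left (N ⊓ C),
      ← Subgroup.relIndex_bot_left C, Subgroup.relIndex_mul_relIndex ⊥ _ C bot_le inf_le_right]
  obtain ⟨d, hd⟩ := Subgroup.relIndex_dvd_index_of_normal N C
  refine ⟨d, ?_⟩
  have hk : 0 < Nat.card (N ⊓ C : Subgroup G) := Nat.card_pos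
  have hj : 0 < N.relIndex C := Nat.pos_of_ne_zero Subgroup.index_ne_zero_of_finite
  have h3 : Nat.card N * N.index = Nat.card C * C.index := by
    rw [N.card_mul_index, C.card_mul_index]
  rw [← e1, e2, hd] at h3
  apply Nat.eq_of_mul_eq_mul_left (Nat.mul_pos hk hj)
  rw [← h3]; ring

theorem isSolvable_perm_three {α : Type*} [Fintype α] [DecidableEq α] (h : Fintype.card α ≤ 3) :
    Group.IsSolvable (Equiv.Perm α) := by
  haveI : IsZGroup (Equiv.Perm α) := IsZGroup.of_squarefree (by
    rw [Nat.card_perm, Nat.card_eq_fintype_card]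
    generalize Fintype.card α = m at h ⊢
    interval_cases m
    · simp
    · simp
    · simpa [Nat.factorial] using Nat.prime_two.squarefree
    · have h6 : Squarefree (2 * 3) :=
        Nat.squarefree_mul_iff.2 ⟨by norm_num, Nat.prime_two.squarefree, Nat.prime_three.squarefree⟩
      simpa [Nat.factorial] using h6)
  infer_instance

/-! ### Perfect groups -/

theorem hom_eq_one {H : Type*} [Group H] (hperf : commutator H = ⊤) {A : Type*} [CommGroup A]
    (f : H →* A) (h : H) : f h = 1 := by
  have h1 : commutator H ≤ f.ker := Abelianization.commutator_subset_ker f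
  exact h1 (hperf ▸ Subgroup.mem_top h)

theorem hom_eq_one_of_solvable {H : Type*} [Group H] (hperf : commutator H = ⊤) {A : Type*}
    [Group A] (f : H →* A) (hs : Group.IsSolvable f.range) (h : H) : f h = 1 := by
  have hder : ∀ n, derivedSeries H n = ⊤ := by
    intro n
    induction n with
    | zero => rfl
    | succ n ih =>
      rw [derivedSeries_succ, ih]
      exact hperf
  obtain ⟨n, hn⟩ := (Group.isSolvable_def _).1 hs
  have h1 := derivedSeries_le_map_derivedSeries (f := f.rangeRestrict) f.rangeRestrict_surjective n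
  have h2 := map_derivedSeries_le_derivedSeries (f := f.rangeRestrict) n
  rw [hn, hder, le_bot_iff] at h2
  have h3 : f.rangeRestrict h ∈ (⊤ : Subgroup H).map f.rangeRestrict := ⟨h, Subgroup.mem_top h, rfl⟩
  rw [h2, Subgroup.mem_bot] at h3
  exact congrArg Subtype.val h3

/-- A perfect group has no central element in an abelian Sylow subgroup. -/
theorem eq_one_of_abelian_sylow {H : Type*} [Group H] [Finite H] (hperf : commutator H = ⊤)
    {p : ℕ} [hp : Fact p.Prime] (P : Sylow p H)
    (hab : ∀ a ∈ (P : Subgroup H), ∀ b ∈ (P : Subgroup H), a * b = b * a) {z : H}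
    (hz : z ∈ (P : Subgroup H)) (hzc : z ∈ center H) : z = 1 := by
  haveI : IsMulCommutative ↥(P : Subgroup H) :=
    ⟨⟨fun a b => Subtype.ext (hab a a.2 b b.2)⟩⟩
  open scoped IsMulCommutative in
  have key : ∀ (k : ℕ) (g₀ : H), g₀⁻¹ * z ^ k * g₀ ∈ (P : Subgroup H) →
      g₀⁻¹ * z ^ k * g₀ = z ^ k := fun k g₀ _ => by
    rw [mul_assoc, ← Subgroup.mem_center_iff.1 (pow_mem hzc k) g₀, inv_mul_cancel_left]
  open scoped IsMulCommutative in
  have h1 : (MonoidHom.transfer (MonoidHom.id ↥(P : Subgroup H))) z = 1 := hom_eq_one hperf _ z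
  rw [MonoidHom.transfer_eq_pow _ _ key] at h1
  have h2 : z ^ (P : Subgroup H).index = 1 := congrArg Subtype.val h1
  obtain ⟨k, hk⟩ := (IsPGroup.iff_orderOf.1 P.isPGroup') ⟨z, hz⟩
  rw [Subgroup.orderOf_mk] at hk
  refine orderOf_eq_one_iff.1 (Nat.eq_one_of_dvd_coprimes ?_ hk.dvd (orderOf_dvd_of_pow_eq_one h2))
  exact ((Nat.Prime.coprime_iff_not_dvd hp.out).2 P.not_dvd_index).pow_left k

/-- Thompson transfer in a perfect group: an involution of a Sylow 2-subgroup has a conjugate in
each subgroup of index two of it. -/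
theorem exists_conj_of_relIndex_two {H : Type*} [Group H] [Finite H] (hperf : commutator H = ⊤)
    (P : Sylow 2 H) (M : Subgroup H) (hMP : M ≤ (P : Subgroup H))
    (hMi : M.relIndex (P : Subgroup H) = 2) {s : H} (hs : orderOf s = 2) :
    ∃ g : H, g⁻¹ * s * g ∈ M := by
  classical
  haveI : Fact (Nat.Prime 2) := ⟨Nat.prime_two⟩
  by_contra hno
  push Not at hno
  haveI := Fintype.ofFinite (H ⧸ M)
  set σ := MulAction.toPermHom H (H ⧸ M) s with hσ
  have hfix : ∀ c : H ⧸ M, σ c ≠ c := by
    intro c hc
    obtain ⟨g, rfl⟩ := QuotientGroup.mk_surjective c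
    refine hno g ?_
    have h1 : s • (g : H ⧸ M) = g := hc
    rw [MulAction.Quotient.smul_coe, smul_eq_mul, eq_comm, QuotientGroup.eq] at h1
    rwa [mul_assoc]
  have hσo : orderOf σ = 2 := by
    refine orderOf_eq_prime ?_ fun h1 => hfix (QuotientGroup.mk 1) (by rw [h1]; rfl)
    rw [hσ, ← map_pow, ← hs, pow_orderOf_eq_one, map_one]
  obtain ⟨m, hm⟩ := Equiv.Perm.cycleType_prime_order (hσo ▸ Nat.prime_two)
  rw [hσo] at hm
  have hsum := σ.sum_cycleType
  rw [hm, Multiset.sum_replicate, smul_eq_mul] at hsum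
  have hsupp : σ.support = Finset.univ :=
    Finset.eq_univ_of_forall fun c => Equiv.Perm.mem_support.2 (hfix c)
  rw [hsupp, Finset.card_univ, ← Nat.card_eq_fintype_card, ← Subgroup.index_eq_card] at hsum
  have hidx : M.index = 2 * (P : Subgroup H).index := by
    rw [← Subgroup.relIndex_mul_index hMP, hMi]
  have hodd : Odd (m + 1) := by
    rw [← Nat.not_even_iff_odd, even_iff_two_dvd]
    intro hd
    refine P.not_dvd_index ?_
    rwa [show (P : Subgroup H).index = m + 1 by omega]
  have h1 : Equiv.Perm.sign σ = -1 := by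
    rw [Equiv.Perm.sign_of_cycleType, hm, Multiset.sum_replicate, Multiset.card_replicate,
      smul_eq_mul]
    refine Odd.neg_one_pow ?_
    obtain ⟨k, hk⟩ := hodd
    exact ⟨3 * k + 1, by omega⟩
  have h2 := hom_eq_one hperf (Equiv.Perm.sign.comp (MulAction.toPermHom H (H ⧸ M))) s
  rw [MonoidHom.comp_apply, ← hσ, h1] at h2
  exact absurd h2 (by decide)

/-! ### Actions on sets with orbits on subsets of prime power size -/

theorem prime_degree_false {H : Type*} [Group H] [Finite H] (hperf : commutator H = ⊤) {p : ℕ}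
    [hp : Fact p.Prime] {X : Type*} [Fintype X] [DecidableEq X] [MulAction H X]
    [MulAction.IsPretransitive H X] (hX : Fintype.card X = p)
    (hS : ∀ S : Finset X, ∃ k, (stabilizer H S).index = p ^ k) : False := by
  classical
  set φ := MulAction.toPermHom H X with hφ
  haveI : MulAction.IsPretransitive φ.range X := ⟨fun a b => by
    obtain ⟨g, hg⟩ := MulAction.exists_smul_eq H a b
    exact ⟨⟨φ g, g, rfl⟩, hg⟩⟩
  suffices hsol : Group.IsSolvable φ.range by
    obtain ⟨a, b, hab⟩ := Fintype.exists_pair_of_one_lt_card (hX ▸ hp.out.one_lt)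
    obtain ⟨g, hg⟩ := MulAction.exists_smul_eq H a b
    have h1 : φ g = 1 := hom_eq_one_of_solvable hperf φ hsol g
    exact hab ((congrArg (fun t : Equiv.Perm X => t a) h1).symm.trans hg)
  obtain ⟨σ, hσ, hσo⟩ :=
    CfsgLib.SmallGroups.exists_orderOf_eq_of_isPretransitive hX φ.range
  obtain ⟨a₀⟩ : Nonempty X := Fintype.card_pos_iff.1 (hX ▸ hp.out.pos)
  obtain ⟨e, -, he⟩ := CfsgLib.SmallGroups.exists_coord hX hσo a₀
  refine CfsgLib.SmallGroups.isSolvable_normalizer hX hσo ?_
  rcases Nat.lt_or_ge p 4 with hsmall | hbig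
  · -- the cycle generates a normal subgroup
    have hc : Nat.card φ.range ∣ Nat.card (Equiv.Perm X) := Subgroup.card_subgroup_dvd_card _
    rw [Nat.card_perm, show Nat.card X = p by rw [Nat.card_eq_fintype_card, hX]] at hc
    intro t ht
    have hle : Subgroup.zpowers σ ≤ φ.range := Subgroup.zpowers_le.2 hσ
    have hN : ((Subgroup.zpowers σ).subgroupOf φ.range).Normal := by
      have hcard : Nat.card (Subgroup.zpowers σ) = p := by rw [Nat.card_zpowers, hσo]
      have hidx : ((Subgroup.zpowers σ).subgroupOf φ.range).index * p = Nat.card φ.range := by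
        rw [mul_comm]
        conv_rhs => rw [← ((Subgroup.zpowers σ).subgroupOf φ.range).card_mul_index]
        rw [Nat.card_congr (Subgroup.subgroupOfEquivOfLe hle).toEquiv, hcard]
      have hp23 : p = 2 ∨ p = 3 := by have := hp.out.two_le; omega
      rcases hp23 with rfl | rfl
      · rw [show Nat.factorial 2 = 2 from rfl] at hc
        have h1 : ((Subgroup.zpowers σ).subgroupOf φ.range).index = 1 := by
          have := Nat.le_of_dvd (by norm_num) hc
          have := Nat.pos_of_ne_zero
            (Subgroup.index_ne_zero_of_finite (H := (Subgroup.zpowers σ).subgroupOf φ.range))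
          omega
        rw [Subgroup.index_eq_one.1 h1]; infer_instance
      · rw [show Nat.factorial 3 = 6 from rfl] at hc
        have h1 : ((Subgroup.zpowers σ).subgroupOf φ.range).index = 1 ∨
            ((Subgroup.zpowers σ).subgroupOf φ.range).index = 2 := by
          have := Nat.le_of_dvd (by norm_num) hc
          have := Nat.pos_of_ne_zero
            (Subgroup.index_ne_zero_of_finite (H := (Subgroup.zpowers σ).subgroupOf φ.range))
          omega
        rcases h1 with h1 | h1
        · rw [Subgroup.index_eq_one.1 h1]; infer_instance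
        · exact Subgroup.normal_of_index_eq_two h1
    haveI := hN
    exact Subgroup.normal_subgroupOf_iff_le_normalizer hle |>.1 hN ht
  -- the edges of the cycle are permuted
  set E0 : Finset X := {e 0, e 1} with hE0
  obtain ⟨k, hk⟩ := hS E0
  have hne : ∀ j : ZMod p, e j ≠ e (j + 1) := fun j h => by
    have := e.injective h
    simp at this
  have horbit : Nat.card (MulAction.orbit H E0) = p ^ k := by
    rw [Nat.card_congr (MulAction.orbitEquivQuotientStabilizer H E0), ← Subgroup.index_eq_card, hk]
  obtain ⟨g₀, hg₀⟩ := hσ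
  have hpow : ∀ n : ℕ, (g₀ ^ n) • E0 = ({e n, e (n + 1)} : Finset X) := by
    intro n
    have h1 : ∀ (n : ℕ) (j : ZMod p), (g₀ ^ n) • e j = e (j + n) := by
      intro n
      induction n with
      | zero => intro j; simp
      | succ n ih =>
        intro j
        rw [pow_succ, mul_smul, show g₀ • e j = σ (e j) by rw [← hg₀]; rfl, he, ih]
        congr 1
        push_cast
        ring
    rw [hE0, Finset.smul_finset_insert, Finset.smul_finset_singleton, h1, h1, zero_add, add_comm]
  let Ed : Finset (Finset X) := Finset.univ.image fun j : ZMod p => ({e j, e (j + 1)} : Finset X)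
  have h2ne : (2 : ZMod p) ≠ 0 := fun h => by
    have h' : ((2 : ℕ) : ZMod p) = 0 := by exact_mod_cast h
    rw [ZMod.natCast_eq_zero_iff] at h'
    have := Nat.le_of_dvd (by norm_num) h'
    omega
  have hEdcard : Ed.card = p := by
    rw [Finset.card_image_of_injective, Finset.card_univ, ZMod.card]
    intro i j hij
    simp only at hij
    have h1 : e i ∈ ({e j, e (j + 1)} : Finset X) := hij ▸ Finset.mem_insert_self _ _
    rw [Finset.mem_insert, Finset.mem_singleton] at h1
    rcases h1 with h1 | h1
    · exact e.injective h1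
    have h2 : e (i + 1) ∈ ({e j, e (j + 1)} : Finset X) :=
      hij ▸ Finset.mem_insert_of_mem (Finset.mem_singleton_self _)
    rw [Finset.mem_insert, Finset.mem_singleton] at h2
    rcases h2 with h2 | h2
    · exact absurd (show (2 : ZMod p) = 0 by
        linear_combination e.injective h2 - e.injective h1) h2ne
    · exact add_right_cancel (e.injective h2)
  have hsub : (Ed : Set (Finset X)) ⊆ MulAction.orbit H E0 := by
    intro S hS'
    obtain ⟨j, -, rfl⟩ := Finset.mem_image.1 hS'
    exact ⟨g₀ ^ j.val, by show g₀ ^ j.val • E0 = _; rw [hpow, ZMod.natCast_zmod_val]⟩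
  have hle2 : Nat.card (MulAction.orbit H E0) ≤ p.choose 2 := by
    rw [Nat.card_coe_set_eq]
    refine le_trans (Set.ncard_le_ncard (t := ((Finset.univ : Finset X).powersetCard 2 : Set _)) ?_) ?_
    · rintro _ ⟨g, rfl⟩
      refine Finset.mem_powersetCard.2 ⟨Finset.subset_univ _, ?_⟩
      rw [Finset.card_smul_finset, hE0, Finset.card_pair (by simpa using hne 0)]
    · rw [Set.ncard_coe_finset, Finset.card_powersetCard, Finset.card_univ, hX]
  have hk1 : k = 1 := by
    have hp2 := hp.out.two_le
    have h1 : p ≤ p ^ k := by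
      rw [← horbit, Nat.card_coe_set_eq, ← hEdcard, ← Set.ncard_coe_finset]
      exact Set.ncard_le_ncard hsub
    have h2 : p ^ k < p ^ 2 := by
      rw [← horbit]
      refine lt_of_le_of_lt hle2 ?_
      rw [Nat.choose_two_right]
      refine lt_of_le_of_lt (Nat.div_le_self _ _) ?_
      rw [sq]
      exact Nat.mul_lt_mul_of_pos_left (by omega) (by omega)
    have h3 := (Nat.pow_lt_pow_iff_right hp.out.one_lt).1 h2
    rcases (show k = 0 ∨ k = 1 by omega) with rfl | rfl
    · rw [pow_zero] at h1; omega
    · rfl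
  have horb : (Ed : Set (Finset X)) = MulAction.orbit H E0 :=
    Set.eq_of_subset_of_ncard_le hsub (by
      rw [Set.ncard_coe_finset, hEdcard, ← Nat.card_coe_set_eq, horbit, hk1, pow_one])
  rintro _ ⟨g, rfl⟩
  set f : ZMod p → ZMod p := fun j => e.symm (φ g (e j)) with hf
  have hfe : ∀ j, e (f j) = φ g (e j) := fun j => e.apply_symm_apply _
  have hstep : ∀ j, f (j + 1) = f j + 1 ∨ f (j + 1) = f j - 1 := by
    intro j
    have hmem : g • ({e j, e (j + 1)} : Finset X) ∈ (Ed : Set (Finset X)) := by
      rw [horb]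
      exact MulAction.mem_orbit_of_mem_orbit g (hsub (Finset.mem_coe.2
        (Finset.mem_image.2 ⟨j, Finset.mem_univ _, rfl⟩)))
    obtain ⟨i, -, hi⟩ := Finset.mem_image.1 hmem
    rw [Finset.smul_finset_insert, Finset.smul_finset_singleton] at hi
    have h1 : e (f j) ∈ ({e i, e (i + 1)} : Finset X) := by
      rw [hi, hfe]; exact Finset.mem_insert_self _ _
    have h2 : e (f (j + 1)) ∈ ({e i, e (i + 1)} : Finset X) := by
      rw [hi, hfe]; exact Finset.mem_insert_of_mem (Finset.mem_singleton_self _)
    rw [Finset.mem_insert, Finset.mem_singleton] at h1 h2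
    have hne' : f j ≠ f (j + 1) := fun h => hne j (by
      have := congrArg e h
      rw [hfe, hfe] at this
      exact (φ g).injective this)
    rcases h1 with h1 | h1 <;> rcases h2 with h2 | h2 <;>
      replace h1 := e.injective h1 <;> replace h2 := e.injective h2
    · exact absurd (h1.trans h2.symm) hne'
    · left; rw [h1, h2]
    · right; rw [h1, h2]; ring
    · exact absurd (h1.trans h2.symm) hne'
  have hconst : ∀ j, f (j + 1) - f j = f 1 - f 0 := by
    have h1 : ∀ j, f (j + 1 + 1) - f (j + 1) = f (j + 1) - f j := by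
      intro j
      have hinj : f (j + 1 + 1) ≠ f j := fun h => by
        have := congrArg e h
        rw [hfe, hfe] at this
        exact h2ne (by linear_combination e.injective ((φ g).injective this))
      rcases hstep j with a | a <;> rcases hstep (j + 1) with b | b
      · rw [b, a]; ring
      · exact absurd (by rw [b, a]; ring) hinj
      · exact absurd (by rw [b, a]; ring) hinj
      · rw [b, a]; ring
    intro j
    have : ∀ n : ℕ, f ((n : ZMod p) + 1) - f n = f 1 - f 0 := by
      intro n
      induction n with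
      | zero => simp
      | succ n ih => push_cast; rw [h1, ih]
    have h2 := this j.val
    rwa [ZMod.natCast_zmod_val] at h2
  have hd : f 1 - f 0 = 1 ∨ f 1 - f 0 = -1 := by
    rcases hstep 0 with h | h <;> rw [zero_add] at h
    · left; rw [h]; ring
    · right; rw [h]; ring
  have hσmem : φ g * σ * (φ g)⁻¹ ∈ Subgroup.zpowers σ := by
    have h1 : ∀ j, φ g (σ (e j)) = e (f j + (f 1 - f 0)) := fun j => by
      rw [he, ← hfe, ← hconst j, add_sub_cancel]
    rcases hd with hd | hd
    · suffices h2 : φ g * σ * (φ g)⁻¹ = σ by rw [h2]; exact Subgroup.mem_zpowers σ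
      rw [mul_inv_eq_iff_eq_mul]
      refine Equiv.ext fun x => ?_
      obtain ⟨j, rfl⟩ := e.surjective x
      rw [Equiv.Perm.mul_apply, Equiv.Perm.mul_apply, h1, hd, ← he, hfe]
    · suffices h2 : φ g * σ * (φ g)⁻¹ = σ⁻¹ by rw [h2]; exact inv_mem (Subgroup.mem_zpowers σ)
      rw [mul_inv_eq_iff_eq_mul]
      refine Equiv.ext fun x => ?_
      obtain ⟨j, rfl⟩ := e.surjective x
      rw [Equiv.Perm.mul_apply, Equiv.Perm.mul_apply, h1, hd, Equiv.Perm.eq_inv_iff_eq, he,
        neg_add_cancel_right, hfe]
  have hle : (Subgroup.zpowers σ).map (MulAut.conj (φ g)).toMonoidHom ≤ Subgroup.zpowers σ := by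
    rw [MonoidHom.map_zpowers, Subgroup.zpowers_le]
    exact hσmem
  have heq : (Subgroup.zpowers σ).map (MulAut.conj (φ g)).toMonoidHom = Subgroup.zpowers σ :=
    Subgroup.eq_of_le_of_card_ge hle
      (by rw [Subgroup.card_map_of_injective (MulAut.conj (φ g)).injective])
  refine Subgroup.mem_normalizer_iff.2 fun x => ⟨fun hx => heq.le ⟨x, hx, rfl⟩, fun hx => ?_⟩
  obtain ⟨y, hy, hye⟩ := heq.ge hx
  rwa [show x = y from ((MulAut.conj (φ g)).injective hye).symm]

/-- A perfect group whose orbits on subsets all have `p`-power size acts trivially. -/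
theorem perfect_smul_eq_self {H : Type*} [Group H] [Finite H] (hperf : commutator H = ⊤) {p : ℕ}
    [hp : Fact p.Prime] {ι : Type*} [Fintype ι] [DecidableEq ι] [MulAction H ι]
    (hS : ∀ S : Finset ι, ∃ k, (stabilizer H S).index = p ^ k) (h : H) (i : ι) : h • i = i := by
  classical
  by_contra hmove
  obtain ⟨P⟩ : Nonempty (Sylow p H) := inferInstance
  -- the Sylow subgroup has the same orbits
  have hsame : ∀ (S : Finset ι) (g : H), ∃ u ∈ (P : Subgroup H), u • S = g • S := by
    intro S g
    obtain ⟨k, hk⟩ := hS S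
    have hsub : MulAction.orbit (P : Subgroup H) S ⊆ MulAction.orbit H S := by
      rintro _ ⟨u, rfl⟩; exact ⟨(u : H), rfl⟩
    have hcard : Nat.card (MulAction.orbit H S) ≤ Nat.card (MulAction.orbit (P : Subgroup H) S) := by
      rw [Nat.card_congr (MulAction.orbitEquivQuotientStabilizer H S), ← Subgroup.index_eq_card,
        Nat.card_congr (MulAction.orbitEquivQuotientStabilizer (P : Subgroup H) S),
        ← Subgroup.index_eq_card, hk]
      set C := stabilizer H S with hC
      have hst : stabilizer (P : Subgroup H) S = C.subgroupOf (P : Subgroup H) := by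
        ext u; rfl
      rw [hst]
      obtain ⟨c, hc⟩ := IsPGroup.iff_card.1 (P.isPGroup'.to_subgroup (C.subgroupOf (P : Subgroup H)))
      have h1 := (C.subgroupOf (P : Subgroup H)).card_mul_index
      rw [hc, P.card_eq_multiplicity] at h1
      have h2 : c ≤ (Nat.card C).factorization p := by
        rw [← hp.out.pow_dvd_iff_le_factorization Nat.card_pos.ne', ← hc]
        refine Subgroup.card_dvd_of_injective
          (((P : Subgroup H).subtype.comp (C.subgroupOf (P : Subgroup H)).subtype).codRestrict C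
            fun x => x.2) fun a b hab => ?_
        have := congrArg Subtype.val hab
        exact Subtype.ext (Subtype.ext this)
      have h3 : (Nat.card H).factorization p = (Nat.card C).factorization p + k := by
        rw [← C.card_mul_index, hk, Nat.factorization_mul Nat.card_pos.ne' (pow_ne_zero _ hp.out.ne_zero),
          Finsupp.add_apply, hp.out.factorization_pow, Finsupp.single_eq_same]
      have h4 : p ^ c * p ^ k ≤ p ^ c * (C.subgroupOf (P : Subgroup H)).index := by
        rw [h1, ← pow_add]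
        exact Nat.pow_le_pow_right hp.out.pos (by omega)
      exact Nat.le_of_mul_le_mul_left h4 (pow_pos hp.out.pos c)
    have heq := Set.eq_of_subset_of_ncard_le hsub (by
      rwa [← Nat.card_coe_set_eq, ← Nat.card_coe_set_eq])
    obtain ⟨u, hu⟩ := heq.ge ⟨g, rfl⟩
    exact ⟨u, u.2, hu⟩
  -- a maximal subgroup above a point stabilizer
  obtain ⟨u, hu, hue⟩ := hsame {i} h
  rw [Finset.smul_finset_singleton, Finset.smul_finset_singleton, Finset.singleton_inj] at hue
  have hstne : stabilizer (P : Subgroup H) i ≠ ⊤ := fun e => hmove (by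
    rw [← hue]
    exact MulAction.mem_stabilizer_iff.1 (show (⟨u, hu⟩ : (P : Subgroup H)) ∈ stabilizer (P : Subgroup H) i by
      rw [e]; exact Subgroup.mem_top _))
  obtain ⟨M, hM, hiM⟩ := (eq_top_or_exists_le_coatom _).resolve_left hstne
  haveI : Group.IsNilpotent (P : Subgroup H) := P.isPGroup'.isNilpotent
  haveI hMn : M.Normal := Group.normalizerCondition_of_isNilpotent.normal_of_coatom M hM
  have hMidx : M.index = p := by
    obtain ⟨k, hk⟩ := P.isPGroup'.index M
    have hne1 : M.index ≠ 1 := fun e => hM.1 (Subgroup.index_eq_one.1 e)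
    rcases Nat.eq_zero_or_pos k with rfl | hk0
    · exact absurd hk (by simpa using hne1)
    obtain ⟨x, hx⟩ := exists_prime_orderOf_dvd_card' p (G := (P : Subgroup H) ⧸ M)
      (by rw [← Subgroup.index_eq_card, hk]; exact dvd_pow_self p hk0.ne')
    have htop : Subgroup.zpowers x = ⊤ := by
      have hlt : M < (Subgroup.zpowers x).comap (QuotientGroup.mk' M) := by
        refine lt_of_le_of_ne (fun m hm => ?_) fun e => ?_
        · rw [Subgroup.mem_comap, show QuotientGroup.mk' M m = 1 from (QuotientGroup.eq_one_iff m).2 hm]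
          exact one_mem _
        · obtain ⟨y, rfl⟩ := QuotientGroup.mk'_surjective M x
          have hy : y ∈ M := by rw [e]; exact Subgroup.mem_zpowers _
          rw [show QuotientGroup.mk' M y = 1 from (QuotientGroup.eq_one_iff y).2 hy, orderOf_one] at hx
          exact hp.out.one_lt.ne hx
      have h1 := hM.2 _ hlt
      rw [← Subgroup.map_comap_eq_self_of_surjective (QuotientGroup.mk'_surjective M) (Subgroup.zpowers x),
        h1, Subgroup.map_top_of_surjective _ (QuotientGroup.mk'_surjective M)]
    rw [Subgroup.index_eq_card, ← Subgroup.card_top, ← htop, Nat.card_zpowers, hx]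
  let B : Finset ι := (Finset.univ.filter fun j => ∃ m ∈ M, (m : H) • i = j)
  have hB : ∀ j, j ∈ B ↔ ∃ m ∈ M, (m : H) • i = j := fun j => by
    simp only [B, Finset.mem_filter, Finset.mem_univ, true_and]
  have hiB : i ∈ B := (hB i).2 ⟨1, one_mem M, one_smul _ _⟩
  have hmemB : ∀ g : (P : Subgroup H), (g : H) • i ∈ B → g ∈ M := by
    intro g hg
    obtain ⟨m, hm, hme⟩ := (hB _).1 hg
    have h1 : m⁻¹ * g ∈ stabilizer (P : Subgroup H) i := by
      refine MulAction.mem_stabilizer_iff.2 ?_
      show ((m⁻¹ * g : (P : Subgroup H)) : H) • i = i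
      rw [Subgroup.coe_mul, Subgroup.coe_inv, mul_smul, ← hme, inv_smul_smul]
    have := mul_mem hm (hiM h1)
    rwa [mul_inv_cancel_left] at this
  have hstB : stabilizer (P : Subgroup H) B = M := by
    refine le_antisymm (fun g hg => hmemB g ?_) fun g hg => ?_
    · have h1 : (g : H) • i ∈ (g : H) • B := Finset.smul_mem_smul_finset hiB
      rwa [show (g : H) • B = B from hg] at h1
    · refine MulAction.mem_stabilizer_iff.2 (Finset.ext fun j => ?_)
      show j ∈ (g : H) • B ↔ j ∈ B
      constructor
      · intro hj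
        obtain ⟨j', hj', rfl⟩ := Finset.mem_smul_finset.1 hj
        obtain ⟨m, hm, rfl⟩ := (hB _).1 hj'
        exact (hB _).2 ⟨g * m, mul_mem hg hm, by rw [Subgroup.coe_mul, mul_smul]⟩
      · intro hj
        obtain ⟨m, hm, rfl⟩ := (hB _).1 hj
        refine Finset.mem_smul_finset.2 ⟨((g⁻¹ * m : (P : Subgroup H)) : H) • i,
          (hB _).2 ⟨g⁻¹ * m, mul_mem (inv_mem hg) hm, rfl⟩, ?_⟩
        rw [Subgroup.coe_mul, Subgroup.coe_inv, mul_smul, smul_inv_smul]
  let X := MulAction.orbit H B
  haveI : Fintype X := Fintype.ofFinite _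
  have hXcard : Fintype.card X = p := by
    rw [← Nat.card_eq_fintype_card, ← hMidx, ← hstB]
    have heq : MulAction.orbit H B = MulAction.orbit (P : Subgroup H) B := by
      refine Set.Subset.antisymm ?_ ?_
      · rintro _ ⟨g, rfl⟩
        obtain ⟨v, hv, hve⟩ := hsame B g
        exact ⟨⟨v, hv⟩, hve⟩
      · rintro _ ⟨v, rfl⟩; exact ⟨(v : H), rfl⟩
    show Nat.card (MulAction.orbit H B) = _
    rw [heq, Nat.card_congr (MulAction.orbitEquivQuotientStabilizer (P : Subgroup H) B),
      ← Subgroup.index_eq_card]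
  have hdisj : ∀ x y : X, ∀ j, j ∈ (x : Finset ι) → j ∈ (y : Finset ι) → x = y := by
    rintro ⟨_, g₁, rfl⟩ ⟨_, g₂, rfl⟩ j h1 h2
    obtain ⟨v₁, hv₁, e₁⟩ := hsame B g₁
    obtain ⟨v₂, hv₂, e₂⟩ := hsame B g₂
    apply Subtype.ext
    show g₁ • B = g₂ • B
    rw [← e₁, ← e₂]
    change j ∈ g₁ • B at h1
    change j ∈ g₂ • B at h2
    rw [← e₁] at h1
    rw [← e₂] at h2
    obtain ⟨j₁, hj₁, rfl⟩ := Finset.mem_smul_finset.1 h1
    obtain ⟨j₂, hj₂, hje⟩ := Finset.mem_smul_finset.1 h2
    obtain ⟨m₁, hm₁, rfl⟩ := (hB _).1 hj₁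
    obtain ⟨m₂, hm₂, rfl⟩ := (hB _).1 hj₂
    set w₁ : (P : Subgroup H) := ⟨v₁, hv₁⟩
    set w₂ : (P : Subgroup H) := ⟨v₂, hv₂⟩
    have h3 : m₂⁻¹ * w₂⁻¹ * w₁ * m₁ ∈ stabilizer (P : Subgroup H) i := by
      refine MulAction.mem_stabilizer_iff.2 ?_
      show ((m₂⁻¹ * w₂⁻¹ * w₁ * m₁ : (P : Subgroup H)) : H) • i = i
      simp only [Subgroup.coe_mul, Subgroup.coe_inv, mul_smul]
      rw [inv_smul_eq_iff, inv_smul_eq_iff]
      exact hje.symm
    have h4 : w₂⁻¹ * w₁ ∈ M := by
      have := mul_mem (mul_mem hm₂ (hiM h3)) (inv_mem hm₁)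
      rwa [show m₂ * (m₂⁻¹ * w₂⁻¹ * w₁ * m₁) * m₁⁻¹ = w₂⁻¹ * w₁ by group] at this
    rw [← hstB] at h4
    have h5 : ((w₂⁻¹ * w₁ : (P : Subgroup H)) : H) • B = B := h4
    rw [Subgroup.coe_mul, Subgroup.coe_inv, mul_smul, inv_smul_eq_iff] at h5
    exact h5
  have hne : ∀ x : X, (x : Finset ι).Nonempty := by
    rintro ⟨_, g, rfl⟩
    exact ⟨g • i, Finset.smul_mem_smul_finset hiB⟩
  refine prime_degree_false hperf (p := p) hXcard fun S => ?_
  obtain ⟨k, hk⟩ := hS (S.biUnion fun x : X => (x : Finset ι))
  have hst : stabilizer H S = stabilizer H (S.biUnion fun x : X => (x : Finset ι)) := by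
    ext g
    have hmap : g • (S.biUnion fun x : X => (x : Finset ι)) =
        (g • S).biUnion fun x : X => (x : Finset ι) := by
      ext j
      simp only [Finset.mem_smul_finset, Finset.mem_biUnion]
      constructor
      · rintro ⟨j', ⟨x, hx, hj'⟩, rfl⟩
        exact ⟨g • x, ⟨x, hx, rfl⟩, Finset.smul_mem_smul_finset hj'⟩
      · rintro ⟨_, ⟨x, hx, rfl⟩, hj⟩
        obtain ⟨j', hj', rfl⟩ := Finset.mem_smul_finset.1
          (show j ∈ g • (x : Finset ι) from hj)
        exact ⟨j', ⟨x, hx, hj'⟩, rfl⟩
    rw [MulAction.mem_stabilizer_iff, MulAction.mem_stabilizer_iff, hmap]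
    refine ⟨fun h => by rw [h], fun h => ?_⟩
    ext x
    obtain ⟨j, hj⟩ := hne x
    constructor
    · intro hx
      have : j ∈ S.biUnion fun x : X => (x : Finset ι) := h ▸ Finset.mem_biUnion.2 ⟨x, hx, hj⟩
      obtain ⟨y, hy, hjy⟩ := Finset.mem_biUnion.1 this
      rwa [hdisj x y j hj hjy]
    · intro hx
      have : j ∈ (g • S).biUnion fun x : X => (x : Finset ι) :=
        h.symm ▸ Finset.mem_biUnion.2 ⟨x, hx, hj⟩
      obtain ⟨y, hy, hjy⟩ := Finset.mem_biUnion.1 this
      rwa [hdisj x y j hj hjy]
  exact ⟨k, hst ▸ hk⟩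

/-! ### The linear situation -/

section Linear

variable (q p : ℕ) [hq : Fact q.Prime] [hp : Fact p.Prime]

/-- Coprime faithful action with orbits of `p`-power size. -/
structure Hyp (H : Type u) [Group H] (V : Type u) [AddCommGroup V] [DistribMulAction H V] : Prop where
  coprime : ¬ q ∣ Nat.card H
  faithful : ∀ h : H, (∀ v : V, h • v = v) → h = 1
  orbit : ∀ v : V, ∃ k, (stabilizer H v).index = p ^ k

variable {q p} {H : Type u} [Group H] [Finite H] {V : Type u} [AddCommGroup V] [Finite V]
  [Module (ZMod q) V] [DistribMulAction H V]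

theorem nsmul_q (v : V) : q • v = 0 := by
  rw [← Nat.cast_smul_eq_nsmul (ZMod q), ZMod.natCast_self, zero_smul]

theorem eq_zero_of_nsmul {n : ℕ} (hn : ¬ q ∣ n) {v : V} (h : n • v = 0) : v = 0 := by
  rw [← Nat.cast_smul_eq_nsmul (ZMod q)] at h
  exact (smul_eq_zero.1 h).resolve_left fun h0 => hn ((ZMod.natCast_eq_zero_iff n q).1 h0)

theorem Hyp.same_orbit (hyp : Hyp q p H V) (P : Sylow p H) (g : H) (v : V) :
    ∃ u ∈ (P : Subgroup H), u • v = g • v := by
  obtain ⟨k, hk⟩ := hyp.orbit v
  have hsub : MulAction.orbit (P : Subgroup H) v ⊆ MulAction.orbit H v := by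
    rintro _ ⟨u, rfl⟩; exact ⟨(u : H), rfl⟩
  have hcard : Nat.card (MulAction.orbit H v) ≤ Nat.card (MulAction.orbit (P : Subgroup H) v) := by
    rw [Nat.card_congr (MulAction.orbitEquivQuotientStabilizer H v), ← Subgroup.index_eq_card,
      Nat.card_congr (MulAction.orbitEquivQuotientStabilizer (P : Subgroup H) v),
      ← Subgroup.index_eq_card, hk]
    set C := stabilizer H v with hC
    have hst : stabilizer (P : Subgroup H) v = C.subgroupOf (P : Subgroup H) := by
      ext u; rfl
    rw [hst]
    obtain ⟨c, hc⟩ := IsPGroup.iff_card.1 (P.isPGroup'.to_subgroup (C.subgroupOf (P : Subgroup H)))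
    have h1 := (C.subgroupOf (P : Subgroup H)).card_mul_index
    rw [hc, P.card_eq_multiplicity] at h1
    have h2 : c ≤ (Nat.card C).factorization p := by
      rw [← hp.out.pow_dvd_iff_le_factorization Nat.card_pos.ne', ← hc]
      refine Subgroup.card_dvd_of_injective
        (((P : Subgroup H).subtype.comp (C.subgroupOf (P : Subgroup H)).subtype).codRestrict C
          fun x => x.2) fun a b hab => ?_
      have := congrArg Subtype.val hab
      exact Subtype.ext (Subtype.ext this)
    have h3 : (Nat.card H).factorization p = (Nat.card C).factorization p + k := by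
      rw [← C.card_mul_index, hk,
        Nat.factorization_mul Nat.card_pos.ne' (pow_ne_zero _ hp.out.ne_zero),
        Finsupp.add_apply, hp.out.factorization_pow, Finsupp.single_eq_same]
    have h4 : p ^ c * p ^ k ≤ p ^ c * (C.subgroupOf (P : Subgroup H)).index := by
      rw [h1, ← pow_add]
      exact Nat.pow_le_pow_right hp.out.pos (by omega)
    exact Nat.le_of_mul_le_mul_left h4 (pow_pos hp.out.pos c)
  have heq := Set.eq_of_subset_of_ncard_le hsub (by
    rwa [← Nat.card_coe_set_eq, ← Nat.card_coe_set_eq])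
  obtain ⟨u, hu⟩ := heq.ge ⟨g, rfl⟩
  exact ⟨u, u.2, hu⟩

/-- `H` is irreducible. -/
def Irred (H : Type u) [Group H] (V : Type u) [AddCommGroup V] [DistribMulAction H V] : Prop :=
  ∀ W : AddSubgroup V, (∀ (h : H), ∀ w ∈ W, h • w ∈ W) → W = ⊥ ∨ W = ⊤

theorem Hyp.sylow_irred (hyp : Hyp q p H V) (hirr : Irred H V) (P : Sylow p H) (W : AddSubgroup V)
    (hW : ∀ u ∈ (P : Subgroup H), ∀ w ∈ W, u • w ∈ W) : W = ⊥ ∨ W = ⊤ :=
  hirr W fun h w hw => by
    obtain ⟨u, hu, hue⟩ := hyp.same_orbit P h w
    exact hue ▸ hW u hu w hw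

/-- The Sylow subgroup permutes no nontrivial system of independent subgroups. -/
theorem Hyp.no_system (hyp : Hyp q p H V) (hirr : Irred H V) (hperf : commutator H = ⊤)
    (P : Sylow p H) {ι : Type*} [Fintype ι] [Nontrivial ι] (W : ι → AddSubgroup V)
    (hne : ∀ i, W i ≠ ⊥) (hind : ∀ f : ι → V, (∀ i, f i ∈ W i) → ∑ i, f i = 0 → ∀ i, f i = 0)
    (hP : ∀ u ∈ (P : Subgroup H), ∀ i, ∃ j, ∀ w ∈ W i, u • w ∈ W j) : False := by
  classical
  have huniq : ∀ {j k : ι} {w : V}, w ∈ W j → w ∈ W k → w ≠ 0 → j = k := by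
    intro j k w hj hk hw
    by_contra hjk
    have h := hind (Function.update (Function.update (fun _ => 0) j w) k (-w))
      (fun i => by
        rcases eq_or_ne i k with rfl | hik
        · rw [Function.update_self]; exact neg_mem hk
        rw [Function.update_of_ne hik]
        rcases eq_or_ne i j with rfl | hij
        · rw [Function.update_self]; exact hj
        rw [Function.update_of_ne hij]; exact zero_mem _)
      (by
        rw [Fintype.sum_eq_add j k hjk fun i ⟨hij, hik⟩ => by
          rw [Function.update_of_ne hik, Function.update_of_ne hij]]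
        rw [Function.update_of_ne hjk, Function.update_self, Function.update_self, add_neg_cancel]) j
    rw [Function.update_of_ne hjk, Function.update_self] at h
    exact hw h
  have hmove : ∀ (h : H) i, ∃ j, ∀ w ∈ W i, h • w ∈ W j := by
    intro h i
    obtain ⟨w₀, hw₀, hw₀0⟩ := (W i).bot_or_exists_ne_zero.resolve_left (hne i)
    have hsome : ∀ w ∈ W i, ∃ j, h • w ∈ W j := fun w hw => by
      obtain ⟨u, hu, hue⟩ := hyp.same_orbit P h w
      obtain ⟨j, hj⟩ := hP u hu i
      exact ⟨j, hue ▸ hj w hw⟩
    obtain ⟨j, hj⟩ := hsome w₀ hw₀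
    refine ⟨j, fun w hw => ?_⟩
    obtain ⟨k, hk⟩ := hsome w hw
    by_contra hwj
    have hjk : j ≠ k := fun e => hwj (e ▸ hk)
    obtain ⟨l, hl⟩ := hsome (w₀ + w) (add_mem hw₀ hw)
    rw [smul_add] at hl
    have hw0' : h • w₀ ≠ 0 := fun e => hw₀0 ((smul_eq_zero_iff_eq h).1 e)
    have hwn : h • w ≠ 0 := fun e => hwj (e ▸ zero_mem _)
    rcases eq_or_ne l j with rfl | hlj
    · have := sub_mem hl hj
      rw [add_sub_cancel_left] at this
      exact hwj this
    rcases eq_or_ne l k with rfl | hlk
    · have := sub_mem hl hk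
      rw [add_sub_cancel_right] at this
      exact hlj (huniq this hj hw0')
    have hsum := hind (fun i => (if i = j then h • w₀ else 0) + (if i = k then h • w else 0) +
        (if i = l then -(h • w₀ + h • w) else 0))
      (fun i => add_mem (add_mem (by split_ifs with e <;> [exact e ▸ hj; exact zero_mem _])
        (by split_ifs with e <;> [exact e ▸ hk; exact zero_mem _]))
        (by split_ifs with e <;> [exact e ▸ neg_mem hl; exact zero_mem _]))
      (by
        simp only [Finset.sum_add_distrib, Finset.sum_ite_eq', Finset.mem_univ, if_true]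
        abel) j
    simp only [if_true, if_neg hjk, if_neg (Ne.symm hlj), add_zero] at hsum
    exact hw0' hsum
  choose act hact using hmove
  have hactu : ∀ (h : H) i j, (∀ w ∈ W i, h • w ∈ W j) → act h i = j := by
    intro h i j hj
    obtain ⟨w₀, hw₀, hw₀0⟩ := (W i).bot_or_exists_ne_zero.resolve_left (hne i)
    exact huniq (hact h i w₀ hw₀) (hj w₀ hw₀) fun e => hw₀0 ((smul_eq_zero_iff_eq h).1 e)
  letI : MulAction H ι :=
    { smul := act
      one_smul := fun i => hactu 1 i i fun w hw => by rwa [one_smul]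
      mul_smul := fun g h i => hactu (g * h) i _ fun w hw => by
        rw [mul_smul]; exact hact g _ _ (hact h i w hw) }
  choose w₀ hw₀ hw₀0 using fun i => (W i).bot_or_exists_ne_zero.resolve_left (hne i)
  have htriv := perfect_smul_eq_self hperf (p := p) (ι := ι) (fun S => by
    obtain ⟨k, hk⟩ := hyp.orbit (∑ i ∈ S, w₀ i)
    have hle : stabilizer H (∑ i ∈ S, w₀ i) ≤ stabilizer H S := by
      intro h hh
      refine MulAction.mem_stabilizer_iff.2 (Finset.eq_of_subset_of_card_le (fun j hj => ?_)
        (by rw [Finset.card_smul_finset]))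
      obtain ⟨i, hi, rfl⟩ := Finset.mem_smul_finset.1 hj
      by_contra hnot
      have hh' : ∑ i ∈ S, h • w₀ i = ∑ i ∈ S, w₀ i := by
        rw [← Finset.smul_sum]; exact hh
      have := hind (fun l => (∑ i ∈ S.filter (fun i => h • i = l), h • w₀ i) -
          (if l ∈ S then w₀ l else 0))
        (fun l => sub_mem (AddSubgroup.sum_mem _ fun i hi => by
          rw [Finset.mem_filter] at hi
          exact hi.2 ▸ hact h i _ (hw₀ i))
          (by split_ifs <;> [exact hw₀ l; exact zero_mem _]))
        (by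
          rw [Finset.sum_sub_distrib,
            show (∑ x : ι, ∑ i ∈ S.filter (fun i => h • i = x), h • w₀ i) = ∑ i ∈ S, h • w₀ i from
              Finset.sum_fiberwise S (fun i => h • i) (fun i => h • w₀ i), hh', Finset.sum_ite_mem,
            Finset.univ_inter, sub_self]) (h • i)
      rw [if_neg hnot, sub_zero] at this
      have hfil : S.filter (fun l => h • l = h • i) = {i} := by
        ext l
        simp only [Finset.mem_filter, Finset.mem_singleton]
        exact ⟨fun hl => MulAction.injective h hl.2, fun hl => ⟨hl ▸ hi, by rw [hl]⟩⟩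
      rw [hfil, Finset.sum_singleton] at this
      exact hw₀0 i ((smul_eq_zero_iff_eq h).1 this)
    obtain ⟨j, -, hj⟩ := (Nat.dvd_prime_pow hp.out).1 (hk ▸ Subgroup.index_dvd_of_le hle)
    exact ⟨j, hj⟩)
  obtain ⟨i, i', hii⟩ := exists_pair_ne ι
  rcases hirr (W i) (fun h w hw => by
    have := hact h i w hw
    rwa [show act h i = i from htriv h i] at this) with h | h
  · exact hne i h
  · exact hii (huniq (h ▸ AddSubgroup.mem_top (w₀ i')) (hw₀ i') (hw₀0 i'))

/-- Fixed vectors of a set of elements. -/
def fix (V : Type u) [AddCommGroup V] [DistribMulAction H V] (S : Set H) : AddSubgroup V where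
  carrier := {v | ∀ h ∈ S, h • v = v}
  zero_mem' := fun h _ => smul_zero h
  add_mem' := fun {a b} ha hb h hh => by rw [smul_add, ha h hh, hb h hh]
  neg_mem' := fun {a} ha h hh => by rw [smul_neg, ha h hh]

theorem mem_fix {S : Set H} {v : V} : v ∈ fix V S ↔ ∀ h ∈ S, h • v = v := Iff.rfl

/-- A nontrivial central element of the Sylow subgroup fixes only zero. -/
theorem Hyp.fpf_of_normal (hyp : Hyp q p H V) (hirr : Irred H V) (P : Sylow p H) (S : Set H)
    (hS : ∀ u ∈ (P : Subgroup H), ∀ s ∈ S, u⁻¹ * s * u ∈ S) (hne : ∃ s ∈ S, s ≠ 1) :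
    fix V S = ⊥ := by
  refine (hyp.sylow_irred hirr P _ fun u hu w hw => mem_fix.2 fun s hs => ?_).resolve_right ?_
  · have := mem_fix.1 hw _ (hS u hu s hs)
    rw [mul_smul, mul_smul, inv_smul_eq_iff] at this
    exact this
  · intro htop
    obtain ⟨s, hs, hs1⟩ := hne
    exact hs1 (hyp.faithful s fun v => mem_fix.1 (htop ▸ AddSubgroup.mem_top v) s hs)

/-- No noncyclic elementary abelian normal subgroup of the Sylow subgroup. -/
theorem Hyp.cyclic_of_normal (hpq : p ≠ q) (hyp : Hyp q p H V) (hirr : Irred H V)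
    (hperf : commutator H = ⊤) (P : Sylow p H) (B : Subgroup H) (hBP : B ≤ (P : Subgroup H))
    (hBn : ∀ u ∈ (P : Subgroup H), ∀ b ∈ B, u⁻¹ * b * u ∈ B)
    (hBab : ∀ a ∈ B, ∀ b ∈ B, a * b = b * a) (hBexp : ∀ b ∈ B, b ^ p = 1) : IsCyclic B := by
  classical
  by_contra hnc
  have hBne : ∃ b ∈ B, b ≠ 1 := by
    by_contra hc
    push Not at hc
    refine hnc ?_
    haveI : Subsingleton B := ⟨fun a b => Subtype.ext (by rw [hc a a.2, hc b b.2])⟩
    exact isCyclic_of_subsingleton
  have hfixB : fix V (B : Set H) = ⊥ := hyp.fpf_of_normal hirr P _ hBn hBne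
  obtain ⟨v₀, hv₀⟩ : ∃ v : V, v ≠ 0 := by
    by_contra hc
    push Not at hc
    obtain ⟨b, -, hb⟩ := hBne
    exact hb (hyp.faithful b fun v => by rw [hc v, smul_zero])
  -- maximal subgroups with fixed vectors
  have hbot : fix V ((⊥ : Subgroup H) : Set H) ≠ ⊥ := fun e => hv₀ (by
    rw [← AddSubgroup.mem_bot, ← e]
    exact mem_fix.2 fun h hh => by rw [Subgroup.mem_bot.1 hh, one_smul])
  have hB0 : (⊥ : Subgroup H) < B := bot_lt_iff_ne_bot.2 fun e => by
    obtain ⟨b, hb, hb1⟩ := hBne
    exact hb1 (Subgroup.mem_bot.1 (e ▸ hb))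
  have hexmax : ∃ K : Subgroup H, K < B ∧ fix V (K : Set H) ≠ ⊥ ∧
      ∀ a ∈ B, a ∉ K → K ⊔ Subgroup.zpowers a = B := by
    obtain ⟨K, ⟨hKB, hKfix⟩, hKmax⟩ := Set.Finite.exists_maximal
      (s := {K : Subgroup H | K < B ∧ fix V (K : Set H) ≠ ⊥}) (Set.toFinite _) ⟨⊥, hB0, hbot⟩
    refine ⟨K, hKB, hKfix, fun a ha haK => ?_⟩
    by_contra hne
    set K' := K ⊔ Subgroup.zpowers a with hK'
    have hK'B : K' < B := lt_of_le_of_ne (sup_le hKB.le (Subgroup.zpowers_le.2 ha)) hne
    obtain ⟨b, hb, hbK'⟩ := SetLike.exists_of_lt hK'B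
    obtain ⟨v, hv, hv0⟩ := (fix V (K : Set H)).bot_or_exists_ne_zero.resolve_left hKfix
    have hsum : ∀ x ∈ B, x ∉ K → ∀ w ∈ fix V (K : Set H),
        ∑ i ∈ Finset.range p, (x ^ i) • w = 0 := by
      intro x hx hxK w hw
      set s := ∑ i ∈ Finset.range p, (x ^ i) • w with hs
      have hxs : x • s = s := by
        rw [hs, Finset.smul_sum]
        simp_rw [← mul_smul, ← pow_succ']
        have h1 := Finset.sum_range_succ' (fun i => (x ^ i) • w) p
        have h2 := Finset.sum_range_succ (fun i => (x ^ i) • w) p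
        simp only [hBexp x hx, pow_zero] at h1 h2
        exact add_right_cancel (h1.symm.trans h2)
      have hsK : ∀ k ∈ (K : Set H), k • s = s := fun k hk => by
        rw [hs, Finset.smul_sum]
        refine Finset.sum_congr rfl fun i _ => ?_
        rw [← mul_smul, hBab k (hKB.le hk) _ (pow_mem hx i), mul_smul, mem_fix.1 hw k hk]
      have hmem : s ∈ fix V ((K ⊔ Subgroup.zpowers x : Subgroup H) : Set H) := by
        have hle : K ⊔ Subgroup.zpowers x ≤ stabilizer H s :=
          sup_le (fun k hk => hsK k hk) (Subgroup.zpowers_le.2 hxs)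
        exact mem_fix.2 fun k hk => hle hk
      by_contra hs0
      have hle : K ⊔ Subgroup.zpowers x ≤ B := sup_le hKB.le (Subgroup.zpowers_le.2 hx)
      rcases hle.lt_or_eq with hlt | heq
      · have := hKmax ⟨hlt, fun e => hs0 (AddSubgroup.mem_bot.1 (e ▸ hmem))⟩ le_sup_left
        exact hxK (this ((le_sup_right : _ ≤ K ⊔ Subgroup.zpowers x) (Subgroup.mem_zpowers x)))
      · rw [heq, hfixB] at hmem
        exact hs0 (AddSubgroup.mem_bot.1 hmem)
    refine hv0 (eq_zero_of_nsmul (q := q) (n := p)
      (fun hd => hpq ((Nat.prime_dvd_prime_iff_eq hq.out hp.out).1 hd).symm) ?_)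
    have hbK : b ∉ K := fun h => hbK' ((le_sup_left : K ≤ K') h)
    -- each line through `a * b ^ j` contributes zero
    have hline : ∀ j ∈ Finset.range p,
        ∑ i ∈ Finset.range p, ((a * b ^ j) ^ i) • v = 0 := by
      intro j hj
      refine hsum _ (mul_mem ha (pow_mem hb j)) (fun hmem => ?_) v hv
      rcases Nat.eq_zero_or_pos j with rfl | hj0
      · rw [pow_zero, mul_one] at hmem; exact haK hmem
      have hbj : b ^ j ∈ K' := by
        have := mul_mem (inv_mem ((le_sup_right : _ ≤ K') (Subgroup.mem_zpowers a)))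
          ((le_sup_left : K ≤ K') hmem)
        rwa [inv_mul_cancel_left] at this
      obtain ⟨m, hm⟩ := exists_pow_eq_self_of_coprime (x := b) (n := j) (by
        refine Nat.Coprime.coprime_dvd_right (orderOf_dvd_of_pow_eq_one (hBexp b hb)) ?_
        exact Nat.Coprime.symm ((Nat.Prime.coprime_iff_not_dvd hp.out).2 fun hd =>
          absurd (Nat.le_of_dvd hj0 hd) (not_le.2 (Finset.mem_range.1 hj))))
      exact hbK' (hm ▸ pow_mem hbj m)
    have hinner : ∀ i ∈ Finset.range p, (∑ j ∈ Finset.range p, ((a * b ^ j) ^ i) • v) =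
        if i = 0 then p • v else 0 := by
      intro i hi
      split_ifs with h0
      · simp [h0]
      · have e : ∀ j, ((a * b ^ j) ^ i) • v = (a ^ i) • (((b ^ i) ^ j) • v) := fun j => by
          rw [(show Commute a (b ^ j) from hBab a ha _ (pow_mem hb j)).mul_pow, ← pow_mul, ← pow_mul,
            mul_comm j i, mul_smul]
        simp_rw [e]
        rw [← Finset.smul_sum, hsum _ (pow_mem hb i) (fun hmem => hbK ?_) v hv, smul_zero]
        obtain ⟨m, hm⟩ := exists_pow_eq_self_of_coprime (x := b) (n := i) (by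
          refine Nat.Coprime.coprime_dvd_right (orderOf_dvd_of_pow_eq_one (hBexp b hb)) ?_
          exact Nat.Coprime.symm ((Nat.Prime.coprime_iff_not_dvd hp.out).2 fun hd =>
            absurd (Nat.le_of_dvd (Nat.pos_of_ne_zero h0) hd) (not_le.2 (Finset.mem_range.1 hi))))
        exact hm ▸ pow_mem hmem m
    have htot := Finset.sum_comm (s := Finset.range p) (t := Finset.range p)
      (f := fun j i => ((a * b ^ j) ^ i) • v)
    rw [Finset.sum_eq_zero hline, Finset.sum_congr rfl hinner, Finset.sum_ite_eq',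
      if_pos (Finset.mem_range.2 hp.out.pos)] at htot
    exact htot.symm
  let T := {K : Subgroup H // K < B ∧ fix V (K : Set H) ≠ ⊥ ∧
    ∀ a ∈ B, a ∉ K → K ⊔ Subgroup.zpowers a = B}
  haveI : Fintype T := Fintype.ofFinite T
  have hconj : ∀ u ∈ (P : Subgroup H), ∀ K : T, ∃ K' : T,
      ∀ w ∈ fix V ((K : Subgroup H) : Set H), u • w ∈ fix V ((K' : Subgroup H) : Set H) := by
    intro u hu K
    let c := (MulAut.conj u).toMonoidHom
    have hBc : B.map c = B := by
      refine Subgroup.eq_of_le_of_card_ge ?_ (by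
        rw [Subgroup.card_map_of_injective (MulAut.conj u).injective])
      rintro _ ⟨b, hb, rfl⟩
      have := hBn u⁻¹ (inv_mem hu) b hb
      rwa [inv_inv] at this
    have hfixc : ∀ w ∈ fix V ((K : Subgroup H) : Set H),
        u • w ∈ fix V (((K : Subgroup H).map c : Subgroup H) : Set H) := by
      intro w hw
      refine mem_fix.2 ?_
      rintro _ ⟨k, hk, rfl⟩
      show (u * k * u⁻¹) • u • w = u • w
      rw [← mul_smul, inv_mul_cancel_right, mul_smul, mem_fix.1 hw k hk]
    refine ⟨⟨(K : Subgroup H).map c, ?_, ?_, ?_⟩, hfixc⟩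
    · exact lt_of_lt_of_eq
        ((Subgroup.map_lt_map_iff_of_injective (MulAut.conj u).injective).2 K.2.1) hBc
    · intro e
      obtain ⟨w, hw, hw0⟩ := (fix V ((K : Subgroup H) : Set H)).bot_or_exists_ne_zero.resolve_left K.2.2.1
      have := hfixc w hw
      rw [e, AddSubgroup.mem_bot] at this
      exact hw0 ((smul_eq_zero_iff_eq u).1 this)
    · intro a ha haK
      have ha2 : a ∈ B.map c := by rw [hBc]; exact ha
      obtain ⟨a', ha', rfl⟩ := ha2
      rw [← MonoidHom.map_zpowers, ← Subgroup.map_sup,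
        K.2.2.2 a' ha' fun h => haK ⟨a', h, rfl⟩, hBc]
  have hind : ∀ f : T → V, (∀ K : T, f K ∈ fix V ((K : Subgroup H) : Set H)) → ∑ K, f K = 0 →
      ∀ K, f K = 0 := by
    intro f hf hsum K
    haveI := Fintype.ofFinite (K : Subgroup H)
    let S : V →+ V :=
      { toFun := fun w => ∑ k : (K : Subgroup H), (k : H) • w
        map_zero' := by simp
        map_add' := fun a b => by simp [smul_add, Finset.sum_add_distrib] }
    have hSK : ∀ w ∈ fix V ((K : Subgroup H) : Set H),
        S w = Fintype.card (K : Subgroup H) • w := by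
      intro w hw
      show ∑ k : (K : Subgroup H), (k : H) • w = _
      rw [Finset.sum_congr rfl fun k _ => mem_fix.1 hw _ k.2, Finset.sum_const, Finset.card_univ]
    have hSne : ∀ K' : T, K' ≠ K → S (f K') = 0 := by
      intro K' hK'
      have hle : B ≤ stabilizer H (S (f K')) := by
        have h1 : (K : Subgroup H) ≤ stabilizer H (S (f K')) := by
          intro k hk
          show k • ∑ x : (K : Subgroup H), (x : H) • f K' = _
          rw [Finset.smul_sum]
          refine (Fintype.sum_equiv (Equiv.mulLeft ⟨k, hk⟩) _ _ fun x => ?_)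
          rw [← mul_smul]; rfl
        have h2 : (K' : Subgroup H) ≤ stabilizer H (S (f K')) := by
          intro k hk
          show k • ∑ x : (K : Subgroup H), (x : H) • f K' = _
          rw [Finset.smul_sum]
          refine Finset.sum_congr rfl fun x _ => ?_
          rw [← mul_smul, hBab k (K'.2.1.le hk) x (K.2.1.le x.2), mul_smul,
            mem_fix.1 (hf K') k hk]
        by_cases hKK : (K' : Subgroup H) ≤ (K : Subgroup H)
        · obtain ⟨a, ha, haK'⟩ := SetLike.exists_of_lt
            (lt_of_le_of_ne hKK fun e => hK' (Subtype.ext e))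
          rw [← K'.2.2.2 a (K.2.1.le ha) haK']
          exact sup_le h2 (Subgroup.zpowers_le.2 (h1 ha))
        · obtain ⟨a, ha, haK⟩ := SetLike.not_le_iff_exists.1 hKK
          rw [← K.2.2.2 a (K'.2.1.le ha) haK]
          exact sup_le h1 (Subgroup.zpowers_le.2 (h2 ha))
      have : S (f K') ∈ fix V (B : Set H) := mem_fix.2 fun b hb => hle hb
      rwa [hfixB, AddSubgroup.mem_bot] at this
    have h0 : S (∑ K', f K') = 0 := by rw [hsum, map_zero]
    rw [map_sum, Finset.sum_eq_single_of_mem K (Finset.mem_univ K) fun K' _ h => hSne K' h,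
      hSK _ (hf K)] at h0
    exact eq_zero_of_nsmul (q := q) (fun hd => hyp.coprime (hd.trans (by
      rw [← Nat.card_eq_fintype_card]; exact Subgroup.card_subgroup_dvd_card _))) h0
  obtain ⟨K₀, hK₀⟩ := hexmax
  rcases subsingleton_or_nontrivial T with hT | hT
  · rcases hyp.sylow_irred hirr P (fix V (K₀ : Set H)) (fun u hu w hw => by
      obtain ⟨K', hK'⟩ := hconj u hu ⟨K₀, hK₀⟩
      have := hK' w hw
      rwa [Subsingleton.elim K' ⟨K₀, hK₀⟩] at this) with h | h
    · exact hK₀.2.1 h
    · have hK₀bot : K₀ = ⊥ := (Subgroup.eq_bot_iff_forall _).2 fun k hk =>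
        hyp.faithful k fun v => mem_fix.1 (h ▸ AddSubgroup.mem_top v) k hk
      obtain ⟨b, hb, hb1⟩ := hBne
      have := hK₀.2.2 b hb (by rw [hK₀bot, Subgroup.mem_bot]; exact hb1)
      rw [hK₀bot, bot_sup_eq] at this
      exact hnc (this ▸ inferInstance)
  · exact hyp.no_system hirr hperf P (fun K : T => fix V ((K : Subgroup H) : Set H))
      (fun K => K.2.2.1) hind hconj

/-- Every abelian normal subgroup of the Sylow subgroup is cyclic. -/
theorem Hyp.normal_abelian_cyclic (hpq : p ≠ q) (hyp : Hyp q p H V) (hirr : Irred H V)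
    (hperf : commutator H = ⊤) (P : Sylow p H) (A : Subgroup ↥(P : Subgroup H)) (hAn : A.Normal)
    (hAc : IsMulCommutative A) : IsCyclic A := by
  have hcomm : ∀ x y : A, x * y = y * x := hAc.is_comm.comm
  let B₀ : Subgroup A :=
    { carrier := {x | x ^ p = 1}
      one_mem' := one_pow _
      mul_mem' := fun {x y} hx hy => by
        show (x * y) ^ p = 1
        rw [(show Commute x y from hcomm x y).mul_pow, hx, hy, one_mul]
      inv_mem' := fun {x} hx => by
        show x⁻¹ ^ p = 1
        rw [inv_pow, hx, inv_one] }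
  set ι := (P : Subgroup H).subtype.comp A.subtype with hι
  have hιinj : Function.Injective ι :=
    (P : Subgroup H).subtype_injective.comp A.subtype_injective
  have hcyc : IsCyclic (B₀.map ι) := by
    refine hyp.cyclic_of_normal hpq hirr hperf P _ ?_ ?_ ?_ ?_
    · rintro _ ⟨b, -, rfl⟩; exact (b : ↥(P : Subgroup H)).2
    · rintro u hu _ ⟨b, hb, rfl⟩
      have hmem : (⟨u, hu⟩⁻¹ * (b : ↥(P : Subgroup H)) * ⟨u, hu⟩) ∈ A := by
        have := hAn.conj_mem b b.2 (⟨u, hu⟩⁻¹)
        rwa [inv_inv] at this
      refine ⟨⟨_, hmem⟩, Subtype.ext ?_, rfl⟩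
      show (⟨u, hu⟩⁻¹ * (b : ↥(P : Subgroup H)) * ⟨u, hu⟩) ^ p = 1
      have hb' : (b : ↥(P : Subgroup H)) ^ p = 1 := by
        have := congrArg Subtype.val (show b ^ p = 1 from hb)
        simpa using this
      have e := conj_pow (a := (⟨u, hu⟩ : ↥(P : Subgroup H))⁻¹) (b := (b : ↥(P : Subgroup H))) (i := p)
      rw [inv_inv] at e
      rw [e, hb', mul_one, inv_mul_cancel]
    · rintro _ ⟨a, -, rfl⟩ _ ⟨b, -, rfl⟩
      rw [← map_mul, ← map_mul, hcomm]
    · rintro _ ⟨b, hb, rfl⟩
      rw [← map_pow, show b ^ p = 1 from hb, map_one]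
  have hpA : IsPGroup p A := P.isPGroup'.to_subgroup A
  refine CfsgLib.Solvable.isCyclic_of_unique_of_comm hpA hcomm fun x y hx hy => ?_
  haveI : IsCyclic B₀ :=
    isCyclic_of_surjective (B₀.equivMapOfInjective ι hιinj).symm.toMonoidHom
      (B₀.equivMapOfInjective ι hιinj).symm.surjective
  have hxB : x ∈ B₀ := show x ^ p = 1 from orderOf_dvd_iff_pow_eq_one.1 hx.dvd
  have hyB : y ∈ B₀ := show y ^ p = 1 from orderOf_dvd_iff_pow_eq_one.1 hy.dvd
  obtain ⟨g, hg⟩ := IsCyclic.exists_generator (α := B₀)
  have hgp : (g : A) ^ p = 1 := g.2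
  obtain ⟨i, hi⟩ := hg ⟨x, hxB⟩
  obtain ⟨j, hj⟩ := hg ⟨y, hyB⟩
  have hle : Subgroup.zpowers y ≤ Subgroup.zpowers (g : A) := Subgroup.zpowers_le.2
    ⟨j, by simpa using congrArg Subtype.val hj⟩
  have heq : Subgroup.zpowers y = Subgroup.zpowers (g : A) :=
    Subgroup.eq_of_le_of_card_ge hle (by
      rw [Nat.card_zpowers, Nat.card_zpowers, hy]
      exact Nat.le_of_dvd hp.out.pos (orderOf_dvd_of_pow_eq_one hgp))
  rw [heq]
  exact ⟨i, by simpa using congrArg Subtype.val hi⟩

/-- A central involution of the Sylow 2-subgroup is minus one. -/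
theorem Hyp.involution_neg (hyp : Hyp q p H V) (hirr : Irred H V) (P : Sylow p H) {z : H}
    (hzc : ∀ u ∈ (P : Subgroup H), u * z = z * u) (hz : orderOf z = 2) :
    (∀ v : V, z • v = -v) ∧ z ∈ center H := by
  have hz1 : z ≠ 1 := fun e => by rw [e, orderOf_one] at hz; norm_num at hz
  have hfix : fix V ({z} : Set H) = ⊥ := hyp.fpf_of_normal hirr P _ (fun u hu s hs => by
    rw [Set.mem_singleton_iff] at hs ⊢
    rw [hs, mul_assoc, ← hzc u hu, inv_mul_cancel_left]) ⟨z, rfl, hz1⟩
  have hzz : z * z = 1 := by rw [← pow_two, ← hz, pow_orderOf_eq_one]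
  have hneg : ∀ v : V, z • v = -v := fun v => by
    have h1 : v + z • v ∈ fix V ({z} : Set H) := mem_fix.2 fun s hs => by
      rw [Set.mem_singleton_iff] at hs
      rw [hs, smul_add, ← mul_smul, hzz, one_smul, add_comm]
    rw [hfix, AddSubgroup.mem_bot] at h1
    exact (neg_eq_of_add_eq_zero_right h1).symm
  refine ⟨hneg, Subgroup.mem_center_iff.2 fun g => ?_⟩
  rw [← mul_inv_eq_one]
  refine hyp.faithful _ fun v => ?_
  simp only [mul_inv_rev, mul_smul]
  rw [hneg, smul_neg, smul_inv_smul]
  have h2 : z⁻¹ = z := inv_eq_of_mul_eq_one_right hzz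
  rw [h2, hneg, neg_neg]

/-- A field of endomorphisms generated by an element with no invariant subgroup. -/
theorem exists_isField (T : Module.End (ZMod q) V) [Nontrivial V]
    (hT : ∀ W : AddSubgroup V, (∀ w ∈ W, T w ∈ W) → W = ⊥ ∨ W = ⊤) :
    IsField (Algebra.adjoin (ZMod q) ({T} : Set (Module.End (ZMod q) V))) := by
  set D := Algebra.adjoin (ZMod q) ({T} : Set (Module.End (ZMod q) V))
  haveI : Finite (Module.End (ZMod q) V) := Finite.of_injective _ DFunLike.coe_injective
  haveI : Finite D := inferInstance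
  haveI : Nontrivial (Module.End (ZMod q) V) := by
    obtain ⟨v, hv⟩ := exists_ne (0 : V)
    exact ⟨⟨1, 0, fun e => hv (by simpa using congrArg (fun f : Module.End (ZMod q) V => f v) e)⟩⟩
  haveI : Nontrivial D := ⟨⟨1, 0, fun e => one_ne_zero (congrArg Subtype.val e)⟩⟩
  haveI : NoZeroDivisors D := ⟨fun {a b} hab => by
    rcases eq_or_ne a 0 with ha | ha
    · exact Or.inl ha
    refine Or.inr (Subtype.ext (LinearMap.ext fun v => ?_))
    have hcT : ∀ w, T ((a : Module.End (ZMod q) V) w) = (a : Module.End (ZMod q) V) (T w) := fun w =>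
      congrArg (fun f : Module.End (ZMod q) V => f w)
        (Algebra.commute_of_mem_adjoin_singleton_of_commute a.2 (Commute.refl T)).eq
    let W : AddSubgroup V := (a : Module.End (ZMod q) V).toAddMonoidHom.ker
    rcases hT W (fun w hw => by
      rw [AddMonoidHom.mem_ker] at hw ⊢
      show (a : Module.End (ZMod q) V) (T w) = 0
      rw [← hcT, show (a : Module.End (ZMod q) V) w = 0 from hw, map_zero]) with h | h
    · have h1 : (b : Module.End (ZMod q) V) v ∈ W :=
        congrArg (fun f : D => (f : Module.End (ZMod q) V) v) hab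
      rwa [h, AddSubgroup.mem_bot] at h1
    · exact absurd (Subtype.ext (LinearMap.ext fun w =>
        show (a : Module.End (ZMod q) V) w = 0 from (h ▸ AddSubgroup.mem_top w : w ∈ W))) ha⟩
  haveI : IsDomain D := NoZeroDivisors.to_isDomain D
  exact Finite.isDomain_to_isField D

/-- The quaternion case. -/
theorem Hyp.quaternion_false [hp2 : Fact (Nat.Prime 2)] (hq2 : q ≠ 2) (hyp : Hyp q 2 H V)
    (hirr : Irred H V) (hperf : commutator H = ⊤) (hns : ¬ Group.IsSolvable H) (P : Sylow 2 H)
    {n : ℕ} (hn : 1 ≤ n) {a j : H} (ha : a ∈ (P : Subgroup H)) (hj : j ∈ (P : Subgroup H))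
    (hao : orderOf a = 2 ^ n) (hja : j * a * j⁻¹ = a⁻¹) (hjj : j * j ∈ Subgroup.zpowers a)
    (hgen : ∀ s ∈ (P : Subgroup H), ∃ i : ℕ, s = a ^ i ∨ s = j * a ^ i) : False := by
  classical
  haveI : SMulCommClass H (ZMod q) V :=
    ⟨fun h c v => ZMod.map_smul (DistribSMul.toAddMonoidHom V h) c v⟩
  haveI : SMulCommClass (ZMod q) H V := SMulCommClass.symm _ _ _
  let L := DistribMulAction.toModuleEnd (ZMod q) (S := H) V
  have hL : ∀ (h : H) (v : V), L h v = h • v := fun _ _ => rfl
  haveI : Nontrivial V := by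
    by_contra hc
    rw [not_nontrivial_iff_subsingleton] at hc
    haveI : Subsingleton H := ⟨fun x y => mul_inv_eq_one.1 (hyp.faithful _ fun v => Subsingleton.elim _ _)⟩
    exact hns inferInstance
  have hAP : ∀ w : AddSubgroup V, (∀ v ∈ w, a • v ∈ w) → (∀ v ∈ w, j • v ∈ w) → w = ⊥ ∨ w = ⊤ := by
    intro w h1 h2
    refine hyp.sylow_irred hirr P w fun u hu v hv => ?_
    have hpow : ∀ (i : ℕ) v, v ∈ w → (a ^ i) • v ∈ w := by
      intro i
      induction i with
      | zero => intro v hv; rwa [pow_zero, one_smul]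
      | succ i ih => intro v hv; rw [pow_succ', mul_smul]; exact h1 _ (ih v hv)
    obtain ⟨i, rfl | rfl⟩ := hgen u hu
    · exact hpow i v hv
    · rw [mul_smul]; exact h2 _ (hpow i v hv)
  have haU : ∀ U : AddSubgroup V, (∀ v ∈ U, a • v ∈ U) → ∀ (i : ℤ), ∀ v ∈ U, (a ^ i) • v ∈ U := by
    intro U hU i v hv
    obtain ⟨k, hk⟩ : ∃ k : ℕ, a ^ i = a ^ k := by
      obtain ⟨k, hk⟩ := mem_powers_iff_mem_zpowers.2 (Subgroup.mem_zpowers_iff.2 ⟨i, rfl⟩ :
        a ^ i ∈ Subgroup.zpowers a)
      exact ⟨k, hk.symm⟩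
    rw [hk]
    clear hk
    induction k with
    | zero => rwa [pow_zero, one_smul]
    | succ k ih => rw [pow_succ', mul_smul]; exact hU _ ih
  -- `a` is irreducible
  have hairr : ∀ W : AddSubgroup V, (∀ w ∈ W, a • w ∈ W) → W = ⊥ ∨ W = ⊤ := by
    intro W hW
    by_contra hcon
    push Not at hcon
    obtain ⟨U, ⟨hUinv, hU0, hUT⟩, hUmin⟩ := Set.Finite.exists_minimal
      (s := {U : AddSubgroup V | (∀ v ∈ U, a • v ∈ U) ∧ U ≠ ⊥ ∧ U ≠ ⊤}) (Set.toFinite _)
      ⟨W, hW, hcon.1, hcon.2⟩
    let U' : AddSubgroup V := U.map (DistribSMul.toAddMonoidHom V j)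
    have hU'inv : ∀ v ∈ U', a • v ∈ U' := by
      rintro _ ⟨v, hv, rfl⟩
      refine ⟨(a ^ (-1 : ℤ)) • v, haU U hUinv _ v hv, ?_⟩
      show j • (a ^ (-1 : ℤ)) • v = a • j • v
      have haj : a * j = j * a⁻¹ := by
        calc a * j = (j * a * j⁻¹)⁻¹ * j := by rw [hja, inv_inv]
          _ = j * a⁻¹ := by group
      rw [← mul_smul, ← mul_smul, zpow_neg_one, haj]
    have hjU' : ∀ v ∈ U', j • v ∈ U := by
      rintro _ ⟨v, hv, rfl⟩
      show j • j • v ∈ U
      obtain ⟨i, hi⟩ := hjj
      rw [← mul_smul, ← hi]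
      exact haU U hUinv i v hv
    have hdisj : ∀ v, v ∈ U → v ∈ U' → v = 0 := by
      intro v hv hv'
      by_contra hv0
      have hle := hUmin (y := U ⊓ U')
        ⟨fun w hw => AddSubgroup.mem_inf.2 ⟨hUinv w (AddSubgroup.mem_inf.1 hw).1,
          hU'inv w (AddSubgroup.mem_inf.1 hw).2⟩,
        fun e => hv0 (AddSubgroup.mem_bot.1 (e ▸ AddSubgroup.mem_inf.2 ⟨hv, hv'⟩)),
        fun e => hUT (top_le_iff.1 (e.ge.trans inf_le_left))⟩ inf_le_left
      rcases hAP U hUinv (fun w hw => hjU' w (AddSubgroup.mem_inf.1 (hle hw)).2) with h | h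
      · exact hU0 h
      · exact hUT h
    refine hyp.no_system hirr hperf P (ι := Bool) (fun b => if b then U' else U) ?_ ?_ ?_
    · intro b
      cases b
      · exact hU0
      · intro e
        obtain ⟨v, hv, hv0⟩ := U.bot_or_exists_ne_zero.resolve_left hU0
        have : j • v ∈ U' := ⟨v, hv, rfl⟩
        simp only [if_true] at e
        rw [e, AddSubgroup.mem_bot] at this
        exact hv0 ((smul_eq_zero_iff_eq j).1 this)
    · intro f hf hsum
      rw [Fintype.sum_bool] at hsum
      have h1 : f false ∈ U' := by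
        rw [show f false = -f true from (neg_eq_of_add_eq_zero_right hsum).symm]
        exact neg_mem (hf true)
      have h2 := hdisj _ (hf false) h1
      rw [h2, add_zero] at hsum
      intro b; cases b
      · exact h2
      · exact hsum
    · intro u hu b
      obtain ⟨i, rfl | rfl⟩ := hgen u hu
      · refine ⟨b, fun v hv => ?_⟩
        cases b
        · have := haU U hUinv i v hv; rwa [zpow_natCast] at this
        · have := haU U' hU'inv i v hv; rwa [zpow_natCast] at this
      · refine ⟨!b, fun v hv => ?_⟩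
        cases b
        · refine ⟨(a ^ i) • v, ?_, (mul_smul _ _ _).symm⟩
          have := haU U hUinv i v hv; rwa [zpow_natCast] at this
        · show (j * a ^ i) • v ∈ U
          rw [mul_smul]
          refine hjU' _ ?_
          have := haU U' hU'inv i v hv; rwa [zpow_natCast] at this
  -- `a + a⁻¹` is a scalar
  set D := Algebra.adjoin (ZMod q) ({L a} : Set (Module.End (ZMod q) V)) with hD
  have hDf : IsField D := exists_isField (L a) hairr
  letI : Field D := hDf.toField
  haveI : Finite (Module.End (ZMod q) V) := Finite.of_injective _ DFunLike.coe_injective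
  haveI : Finite D := inferInstance
  let A : D := ⟨L a, Algebra.self_mem_adjoin_singleton _ _⟩
  have hApow : ∀ k : ℕ, ((A ^ k : D) : Module.End (ZMod q) V) = L (a ^ k) := fun k => by
    rw [map_pow]; rfl
  have hLinj : ∀ x : H, L x = 1 → x = 1 := fun x hx =>
    hyp.faithful x fun v => by rw [← hL, hx]; rfl
  have hA1 : A ^ (2 ^ n) = 1 := Subtype.ext (by
    rw [hApow, ← hao, pow_orderOf_eq_one, map_one]; rfl)
  obtain ⟨i, hi⟩ : ∃ i : ℕ, A ^ (q ^ i) = A⁻¹ := by
    let cj : Module.End (ZMod q) V →ₐ[ZMod q] Module.End (ZMod q) V :=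
      { toFun := fun f => L j * f * L j⁻¹
        map_one' := by rw [mul_one, ← map_mul, mul_inv_cancel, map_one]
        map_mul' := fun f g => by
          have : L j⁻¹ * L j = 1 := by rw [← map_mul, inv_mul_cancel, map_one]
          simp only [mul_assoc]
          rw [← mul_assoc (L j⁻¹) (L j), this, one_mul]
        map_zero' := by simp
        map_add' := fun f g => by simp [mul_add, add_mul]
        commutes' := fun c => by
          rw [← Algebra.commutes, mul_assoc, ← map_mul, mul_inv_cancel, map_one, mul_one] }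
    have hmem : ∀ d : D, cj d ∈ D := by
      have : D.map cj ≤ D := by
        rw [hD, AlgHom.map_adjoin_singleton, Algebra.adjoin_le_iff, Set.singleton_subset_iff]
        show L j * L a * L j⁻¹ ∈ Algebra.adjoin (ZMod q) {L a}
        rw [← map_mul, ← map_mul, hja]
        have hinv : a⁻¹ = a ^ (2 ^ n - 1) := by
          refine inv_eq_of_mul_eq_one_right ?_
          rw [← pow_succ', Nat.sub_add_cancel Nat.one_le_two_pow, ← hao, pow_orderOf_eq_one]
        rw [hinv, map_pow]
        exact pow_mem (Algebra.self_mem_adjoin_singleton _ _) _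
      exact fun d => this ⟨d, d.2, rfl⟩
    let σ : D →ₐ[ZMod q] D := (cj.comp D.val).codRestrict D hmem
    obtain ⟨i, hi⟩ := (FiniteField.bijective_frobeniusAlgHom_pow (ZMod q) D).2 σ
    refine ⟨i.1, ?_⟩
    have hσA : σ A * A = 1 := Subtype.ext (by
      show L j * L a * L j⁻¹ * L a = 1
      rw [← map_mul, ← map_mul, ← map_mul, hja, inv_mul_cancel, map_one])
    have hit : ∀ (k : ℕ) (x : D), (FiniteField.frobeniusAlgHom (ZMod q) D ^ k) x = x ^ q ^ k := by
      intro k
      induction k with
      | zero => intro x; simp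
      | succ k ih =>
        intro x
        rw [pow_succ, AlgHom.mul_apply, ih, FiniteField.coe_frobeniusAlgHom]
        simp only [ZMod.card]
        rw [← pow_mul, pow_succ']
    rw [← eq_inv_of_mul_eq_one_left hσA, ← hit, ← hi]
  have hA0 : A ≠ 0 := fun e => by
    rw [e, zero_pow (by positivity)] at hA1; exact zero_ne_one hA1
  have hdvd : 2 ^ n ∣ q ^ i + 1 := by
    rw [← hao, orderOf_dvd_iff_pow_eq_one]
    refine hLinj _ ?_
    rw [← hApow, pow_succ, hi, inv_mul_cancel₀ hA0]
    rfl
  have hqA : A ^ q = A⁻¹ := by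
    have hqodd : Odd q := hq.out.odd_of_ne_two hq2
    have hdq : 2 ^ n ∣ q + 1 := by
      rcases Nat.lt_or_ge n 2 with hn2 | hn2
      · obtain rfl : n = 1 := by omega
        obtain ⟨k, hk⟩ := hqodd
        exact ⟨k + 1, by omega⟩
      rcases Nat.even_or_odd i with ⟨m, hm⟩ | hi'
      · exfalso
        have h4 : 4 ∣ q ^ i + 1 := (by norm_num : (4 : ℕ) = 2 ^ 2) ▸ (pow_dvd_pow 2 hn2).trans hdvd
        obtain ⟨s, hs⟩ := hqodd.pow (n := m)
        rw [hm, pow_add, hs] at h4
        obtain ⟨c, hc⟩ := h4
        have : (2 * s + 1) * (2 * s + 1) = 4 * (s * s + s) + 1 := by ring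
        omega
      · obtain ⟨m, hm⟩ := hi'
        have hgeom : (∑ k ∈ Finset.range i, (-(q : ℤ)) ^ k) * (-(q : ℤ) - 1) = (-(q : ℤ)) ^ i - 1 :=
          geom_sum_mul _ _
        have hpar : ∀ l : ℕ, Odd (∑ k ∈ Finset.range l, (-(q : ℤ)) ^ k) ↔ Odd l := by
          intro l
          induction l with
          | zero => simp
          | succ l ih =>
            have hodd' : Odd ((-(q : ℤ)) ^ l) := ((Int.odd_coe_nat q).2 hqodd).neg.pow
            rw [Finset.sum_range_succ, Int.odd_add, ih, Nat.odd_add_one,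
              iff_false_intro (Int.not_even_iff_odd.2 hodd'), iff_false]
        have hSodd : Odd (∑ k ∈ Finset.range i, (-(q : ℤ)) ^ k) := (hpar i).2 ⟨m, hm⟩
        have hneg : (-(q : ℤ)) ^ i = -(q : ℤ) ^ i := Odd.neg_pow ⟨m, hm⟩ _
        have h5 : ((2 : ℤ) ^ n) ∣ (∑ k ∈ Finset.range i, (-(q : ℤ)) ^ k) * ((q : ℤ) + 1) := by
          have : (∑ k ∈ Finset.range i, (-(q : ℤ)) ^ k) * ((q : ℤ) + 1) = (q : ℤ) ^ i + 1 := by
            linear_combination -hgeom - hneg
          rw [this]
          exact_mod_cast hdvd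
        have hcop : IsCoprime ((2 : ℤ) ^ n) (∑ k ∈ Finset.range i, (-(q : ℤ)) ^ k) := by
          refine IsCoprime.pow_left ?_
          rw [Int.prime_two.coprime_iff_not_dvd]
          intro hd
          exact Int.not_even_iff_odd.2 hSodd (even_iff_two_dvd.2 hd)
        exact_mod_cast hcop.dvd_of_dvd_mul_left h5
    obtain ⟨c, hc⟩ := hdq
    refine eq_inv_of_mul_eq_one_left ?_
    rw [← pow_succ, hc, pow_mul, hA1, one_pow]
  haveI : CharP D q := charP_of_injective_algebraMap (algebraMap (ZMod q) D).injective q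
  obtain ⟨c, hc⟩ : ∃ c : ZMod q, A + A⁻¹ = algebraMap (ZMod q) D c := by
    set α := A + A⁻¹
    have hfix : α ^ q = α := by
      rw [add_pow_char, inv_pow, hqA, inv_inv, add_comm]
    haveI := Fintype.ofFinite D
    by_contra hno
    push Not at hno
    have hmem : ∀ x ∈ insert α (Finset.univ.image (algebraMap (ZMod q) D)), x ^ q = x := by
      intro x hx
      rcases Finset.mem_insert.1 hx with rfl | hx
      · exact hfix
      · obtain ⟨c, -, rfl⟩ := Finset.mem_image.1 hx
        rw [← map_pow, ZMod.pow_card]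
    have hsub : insert α (Finset.univ.image (algebraMap (ZMod q) D)) ⊆
        ((Polynomial.X ^ q - Polynomial.X : Polynomial D)).roots.toFinset := by
      intro x hx
      rw [Multiset.mem_toFinset, Polynomial.mem_roots (FiniteField.X_pow_card_sub_X_ne_zero D hq.out.one_lt)]
      simp [hmem x hx]
    have h1 := Finset.card_le_card hsub
    rw [Finset.card_insert_of_notMem (fun hx => by
      obtain ⟨c, -, hc⟩ := Finset.mem_image.1 hx
      exact hno c hc.symm), Finset.card_image_of_injective _ (algebraMap (ZMod q) D).injective,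
      Finset.card_univ, ZMod.card] at h1
    have h2 := (Multiset.toFinset_card_le _).trans'
      (le_refl ((Polynomial.X ^ q - Polynomial.X : Polynomial D)).roots.toFinset.card)
    have h3 := Polynomial.card_roots' (Polynomial.X ^ q - Polynomial.X : Polynomial D)
    rw [FiniteField.X_pow_card_sub_X_natDegree_eq D hq.out.one_lt] at h3
    omega
  -- the dimension is at most two
  obtain ⟨v, hv⟩ := exists_ne (0 : V)
  have hquad : ∀ w : V, a • a • w = c • (a • w) - w := by
    intro w
    have h1 : A * A = algebraMap (ZMod q) D c * A - 1 := by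
      rw [← hc, add_mul, inv_mul_cancel₀ hA0, add_sub_cancel_right]
    have h2 := congrArg (fun d : D => (d : Module.End (ZMod q) V) w) h1
    simpa [hL, A] using h2
  let W : Submodule (ZMod q) V := Submodule.span (ZMod q) {v, a • v}
  have hWtop : W = ⊤ := by
    rcases hairr W.toAddSubgroup (fun w hw => by
      have hw' : w ∈ W := hw
      show a • w ∈ W
      obtain ⟨x, y, rfl⟩ := Submodule.mem_span_pair.1 hw'
      rw [smul_add, smul_comm a x, smul_comm a y, hquad]
      exact add_mem (W.smul_mem _ (Submodule.subset_span (by simp)))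
        (W.smul_mem _ (sub_mem (W.smul_mem _ (Submodule.subset_span (by simp)))
          (Submodule.subset_span (by simp))))) with h | h
    · exfalso
      refine hv (AddSubgroup.mem_bot.1 (h ▸ ?_))
      exact Submodule.subset_span (by simp)
    · exact Submodule.toAddSubgroup_injective h
  -- stabilizers are trivial
  refine hns ?_
  haveI : Module.Finite (ZMod q) V := Module.Finite.of_finite
  have hdet : ∀ h : H, LinearMap.det (L h) = 1 := by
    intro h
    exact congrArg Units.val
      (hom_eq_one hperf ((LinearMap.det : Module.End (ZMod q) V →* ZMod q).comp L).toHomUnits h)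
  have hst : stabilizer H v = ⊥ := by
    rw [Subgroup.eq_bot_iff_forall]
    intro h hh
    have hhv : h • v = v := hh
    by_cases hli : LinearIndependent (ZMod q) ![v, a • v]
    · let b : Module.Basis (Fin 2) (ZMod q) V := Module.Basis.mk hli (by
        rw [Matrix.range_cons_cons_empty]; exact hWtop.ge)
      have hb0 : b 0 = v := by simp [b]
      have hd := hdet h
      rw [← LinearMap.det_toMatrix b, Matrix.det_fin_two] at hd
      have h0 : LinearMap.toMatrix b b (L h) 0 0 = 1 ∧ LinearMap.toMatrix b b (L h) 1 0 = 0 := by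
        constructor <;> rw [LinearMap.toMatrix_apply, hL, hb0, hhv, ← hb0, b.repr_self] <;> simp
      rw [h0.1, h0.2, one_mul, mul_zero, sub_zero] at hd
      set e := LinearMap.toMatrix b b (L h) 0 1 with he
      have hb1 : h • b 1 = b 1 + e • v := by
        have h1 := (b.sum_repr (L h (b 1))).symm
        rw [Fin.sum_univ_two] at h1
        rw [LinearMap.toMatrix_apply] at hd
        rw [LinearMap.toMatrix_apply] at he
        rw [hL] at h1 hd he
        rw [hd, ← he, one_smul, hb0, add_comm] at h1
        exact h1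
      have hiter : ∀ k : ℕ, (h ^ k) • b 1 = b 1 + k • (e • v) := by
        intro k
        induction k with
        | zero => simp
        | succ k ih =>
          rw [pow_succ', mul_smul, ih, smul_add, hb1, smul_comm h k, smul_comm h e, hhv, succ_nsmul']
          abel
      have hpow : h ^ q = 1 := by
        refine hyp.faithful _ fun w => ?_
        have hf : ∀ k : ℕ, (h ^ k) • v = v := fun k => by
          induction k with
          | zero => simp
          | succ k ih => rw [pow_succ', mul_smul, ih, hhv]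
        rw [← b.sum_repr w, Fin.sum_univ_two, smul_add, smul_comm (h ^ q) (b.repr w 0),
          smul_comm (h ^ q) (b.repr w 1), hb0, hf, hiter, nsmul_q (q := q), add_zero]
      rcases (Nat.dvd_prime hq.out).1 (orderOf_dvd_of_pow_eq_one hpow) with h1 | h1
      · exact orderOf_eq_one_iff.1 h1
      · exact absurd (h1 ▸ orderOf_dvd_natCard h) hyp.coprime
    · rw [LinearIndependent.pair_iff' hv] at hli
      push Not at hli
      obtain ⟨x, hx⟩ := hli
      have hV : ∀ w : V, ∃ y : ZMod q, w = y • v := by
        intro w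
        obtain ⟨r, s, rfl⟩ := Submodule.mem_span_pair.1 (show w ∈ W from hWtop ▸ Submodule.mem_top)
        exact ⟨r + s * x, by rw [← hx, add_smul, mul_smul]⟩
      refine hyp.faithful h fun w => ?_
      obtain ⟨y, rfl⟩ := hV w
      rw [smul_comm, hhv]
  obtain ⟨k, hk⟩ := hyp.orbit v
  rw [hst, Subgroup.index_bot] at hk
  haveI : Group.IsNilpotent H := (IsPGroup.of_card hk).isNilpotent
  infer_instance

/-- The odd case: a cyclic Sylow subgroup. -/
theorem Hyp.cyclic_false (hpq : p ≠ q) (hp2 : p ≠ 2) (hq2 : q ≠ 2) (hyp : Hyp q p H V)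
    (hirr : Irred H V) (hperf : commutator H = ⊤) (hns : ¬ Group.IsSolvable H)
    (hmin : ∀ N : Subgroup H, N.Normal → N ≠ ⊤ → Group.IsSolvable N)
    (P : Sylow p H) {g : H} (hgen : Subgroup.zpowers g = (P : Subgroup H)) : False := by
  classical
  have hPab : ∀ a ∈ (P : Subgroup H), ∀ b ∈ (P : Subgroup H), a * b = b * a := by
    rw [← hgen]
    rintro _ ⟨i, rfl⟩ _ ⟨j, rfl⟩
    exact (Commute.zpow_zpow (Commute.refl g) i j).eq
  -- `H` is simple
  haveI : IsSimpleGroup H := by
    haveI : Nontrivial H := by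
      by_contra hc
      rw [not_nontrivial_iff_subsingleton] at hc
      exact hns inferInstance
    refine ⟨fun N hN => or_iff_not_imp_right.2 fun htop => ?_⟩
    haveI := hN
    by_contra hbot
    haveI := hmin N hN htop
    obtain ⟨B, hBn, hB0, hBN, hBmin⟩ := CfsgLib.Solvable.exists_minimal_normal_le N hbot
    haveI := hBn
    haveI : Group.IsSolvable B := Group.isSolvable_of_isSolvable_injective
      (f := Subgroup.inclusion hBN) (Subgroup.inclusion_injective hBN)
    obtain ⟨r, c, hr, hc, hrg, hcard⟩ :=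
      CfsgLib.Solvable.exists_pow_card_of_minimal_normal B hB0 hBmin inferInstance
    by_cases hrp : r = p
    · subst hrp
      obtain ⟨R, hR⟩ := hrg.exists_le_sylow
      obtain ⟨x, hx⟩ := MulAction.exists_smul_eq H R P
      have hBP : B ≤ (P : Subgroup H) := by
        intro b hb
        rw [← hx, Sylow.coe_subgroup_smul, Subgroup.mem_smul_pointwise_iff_exists]
        refine ⟨x⁻¹ * b * x, hR ?_, by simp [mul_assoc]⟩
        have := hBn.conj_mem b hb x⁻¹
        rwa [inv_inv] at this
      have hBc : IsCyclic B := by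
        haveI : IsCyclic (P : Subgroup H) := hgen ▸ inferInstance
        exact isCyclic_of_injective (Subgroup.inclusion hBP) (Subgroup.inclusion_injective _)
      let ψ : H →* MulAut B := MulAut.conjNormal
      have hcen : B ≤ center H := by
        intro b hb
        refine Subgroup.mem_center_iff.2 fun h => ?_
        have h1 : ψ h = 1 := by
          haveI := hBc
          refine hom_eq_one_of_solvable hperf ψ ?_ h
          exact Group.isSolvable_of_comm fun s t => Subtype.ext
            ((IsCyclic.mulAutMulEquiv B).injective (by rw [Subgroup.coe_mul, Subgroup.coe_mul, map_mul, map_mul, mul_comm]))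
        have h2 : h * b * h⁻¹ = b :=
          congrArg (fun t : MulAut B => ((t ⟨b, hb⟩ : B) : H)) h1
        exact mul_inv_eq_iff_eq_mul.1 h2
      exact hB0 ((Subgroup.eq_bot_iff_forall B).2 fun b hb =>
        eq_one_of_abelian_sylow hperf P hPab (hBP hb) (hcen hb))
    · refine hB0 ((Subgroup.eq_bot_iff_forall B).2 fun b hb => hyp.faithful b fun v => ?_)
      obtain ⟨k, hk⟩ := hyp.orbit v
      have h1 : (stabilizer H v).relIndex B ∣ p ^ k :=
        hk ▸ Cfsg.Agent.PrimePowerOrbits.relIndex_dvd_index B _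
      have h2 : (stabilizer H v).relIndex B ∣ r ^ c := hcard ▸ Subgroup.relIndex_dvd_card _ _
      have h3 := Nat.eq_one_of_dvd_coprimes
        (((Nat.coprime_primes hp.out hr).2 (Ne.symm hrp)).pow _ _) h1 h2
      exact Subgroup.relIndex_eq_one.1 h3 hb
  set n := Nat.card (P : Subgroup H) with hn
  obtain ⟨e, he⟩ := IsPGroup.iff_card.1 P.isPGroup'
  have hgo : orderOf g = n := by rw [hn, ← hgen, Nat.card_zpowers]
  haveI : Nontrivial V := by
    by_contra hc
    rw [not_nontrivial_iff_subsingleton] at hc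
    haveI : Subsingleton H := ⟨fun x y => mul_inv_eq_one.1 (hyp.faithful _ fun v => Subsingleton.elim _ _)⟩
    exact hns inferInstance
  obtain ⟨v, hv⟩ := exists_ne (0 : V)
  -- semiregularity
  have hfpf : ∀ u ∈ (P : Subgroup H), u • v = v → u = 1 := by
    intro u hu huv
    by_contra hu1
    have := hyp.fpf_of_normal hirr P ({u} : Set H) (fun w hw s hs => by
      rw [Set.mem_singleton_iff] at hs ⊢
      rw [hs, mul_assoc, hPab u hu w hw, inv_mul_cancel_left]) ⟨u, rfl, hu1⟩
    exact hv (AddSubgroup.mem_bot.1 (this ▸ mem_fix.2 fun s hs => by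
      rw [Set.mem_singleton_iff] at hs; rw [hs]; exact huv))
  have horbit : ∀ h : H, ∃ k : ℕ, h • v = (g ^ k) • v := by
    intro h
    obtain ⟨u, hu, hue⟩ := hyp.same_orbit P h v
    rw [← hgen] at hu
    obtain ⟨k, hk⟩ := mem_powers_iff_mem_zpowers.2 hu
    exact ⟨k, by rw [← hue, ← hk]⟩
  let O := MulAction.orbit H v
  haveI : Fintype O := Fintype.ofFinite _
  have hOcard : Fintype.card O = n := by
    rw [← Nat.card_eq_fintype_card, hn]
    symm
    refine Nat.card_eq_of_bijective
      (fun u : (P : Subgroup H) => (⟨(u : H) • v, (u : H), rfl⟩ : O)) ⟨?_, ?_⟩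
    · intro u w huw
      have h1 : (u : H) • v = (w : H) • v := congrArg Subtype.val huw
      refine (inv_mul_eq_one.1 (Subtype.ext (hfpf _ (u⁻¹ * w).2 ?_)))
      rw [Subgroup.coe_mul, Subgroup.coe_inv, mul_smul, ← h1, inv_smul_smul]
    · rintro ⟨_, h, rfl⟩
      obtain ⟨u, hu, hue⟩ := hyp.same_orbit P h v
      exact ⟨⟨u, hu⟩, Subtype.ext hue⟩
  have hn3 : 3 ≤ n := by
    rcases Nat.eq_zero_or_pos e with rfl | he0
    · exfalso
      rw [pow_zero] at he
      obtain ⟨k, hk⟩ := hyp.orbit v
      have htriv : ∀ w : V, ∀ h : H, h • w = w := by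
        intro w h
        obtain ⟨u, hu, hue⟩ := hyp.same_orbit P h w
        rw [Subgroup.card_eq_one.1 (hn.symm.trans (hn ▸ he)), Subgroup.mem_bot] at hu
        rw [← hue, hu, one_smul]
      haveI : Subsingleton H := ⟨fun x y =>
        mul_inv_eq_one.1 (hyp.faithful _ fun w => htriv w _)⟩
      exact hns inferInstance
    · rw [hn, he]
      have h3 : 3 ≤ p := by have := hp.out.two_le; omega
      exact h3.trans (Nat.le_self_pow he0.ne' p)
  -- the action on the orbit
  let φ := MulAction.toPermHom H O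
  have hφinj : Function.Injective φ := by
    rw [← MonoidHom.ker_eq_bot_iff]
    refine (IsSimpleGroup.eq_bot_or_eq_top_of_normal φ.ker inferInstance).resolve_right fun h => ?_
    have hg1 : g • v = v := congrArg (fun t : Equiv.Perm O => ((t ⟨v, 1, one_smul H v⟩ : O) : V))
      (MonoidHom.mem_ker.1 (h ▸ Subgroup.mem_top g : g ∈ φ.ker))
    have := hfpf g (hgen ▸ Subgroup.mem_zpowers g) hg1
    rw [this, orderOf_one] at hgo
    omega
  haveI : MulAction.IsPretransitive φ.range O := ⟨fun x y => by
    obtain ⟨h, hh⟩ := MulAction.exists_smul_eq H x y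
    exact ⟨⟨φ h, h, rfl⟩, hh⟩⟩
  have h2tr : MulAction.IsMultiplyPretransitive φ.range O 2 := by
    have he0 : e ≠ 0 := fun h0 => by rw [h0, pow_zero] at he; omega
    rcases Nat.lt_or_ge e 2 with he2 | he2
    · obtain rfl : e = 1 := by omega
      rw [pow_one] at he
      refine (Cfsg.Agent.S0675.result (by rw [hOcard, hn, he]; exact hp.out) φ.range).resolve_left
        fun hs => hns ?_
      exact Group.isSolvable_of_isSolvable_injective (f := φ.rangeRestrict)
        (fun x y hxy => hφinj (congrArg Subtype.val hxy))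
    by_contra h2
    have hgp : orderOf (⟨φ g, g, rfl⟩ : φ.range) = p ^ e := by
      rw [← Subgroup.orderOf_coe]
      show orderOf (φ g) = _
      rw [orderOf_injective φ hφinj, hgo, hn, he]
    refine (Cfsg.Agent.S3972.result p e hp.out he2 (by rw [hOcard, hn, he]) φ.range inferInstance h2
      ⟨φ g, g, rfl⟩ hgp).1 ?_
    -- maximality of the stabilizer
    haveI : Nontrivial O := Fintype.one_lt_card_iff_nontrivial.1 (by rw [hOcard]; omega)
    rw [← MulAction.isCoatom_stabilizer_iff_preprimitive φ.range (⟨v, 1, one_smul H v⟩ : O)]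
    refine ⟨fun htop => ?_, fun K hK => ?_⟩
    · have h1 : g • v = v := congrArg Subtype.val (show φ g ⟨v, 1, one_smul H v⟩ = _ from
        (htop ▸ Subgroup.mem_top (⟨φ g, g, rfl⟩ : φ.range) :
          (⟨φ g, g, rfl⟩ : φ.range) ∈ stabilizer φ.range (⟨v, 1, one_smul H v⟩ : O)))
      have := hfpf g (hgen ▸ Subgroup.mem_zpowers g) h1
      rw [this, orderOf_one] at hgo
      omega
    · by_contra hKtop
      set K' := K.comap φ.rangeRestrict with hK'
      have hK'top : K' ≠ ⊤ := fun h => hKtop (by
        rw [← Subgroup.map_comap_eq_self_of_surjective φ.rangeRestrict_surjective K, ← hK', h,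
          Subgroup.map_top_of_surjective _ φ.rangeRestrict_surjective])
      have hlt : stabilizer H v < K' := by
        refine lt_of_le_of_ne (fun x hx => hK.le ?_) fun heq => hK.ne ?_
        · exact MulAction.mem_stabilizer_iff.2 (Subtype.ext (show x • v = v from hx))
        · rw [← Subgroup.map_comap_eq_self_of_surjective φ.rangeRestrict_surjective K, ← hK', ← heq]
          ext y
          constructor
          · intro hy
            obtain ⟨x, rfl⟩ := φ.rangeRestrict_surjective y
            exact ⟨x, congrArg Subtype.val (show φ.rangeRestrict x • (⟨v, 1, one_smul H v⟩ : O) =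
              ⟨v, 1, one_smul H v⟩ from hy), rfl⟩
          · rintro ⟨x, hx, rfl⟩
            exact MulAction.mem_stabilizer_iff.2 (Subtype.ext (show x • v = v from hx))
      -- the Sylow subgroup is transitive on the cosets
      have htrans : ∀ x : H, ∃ u ∈ (P : Subgroup H), u⁻¹ * x ∈ K' := fun x => by
        obtain ⟨u, hu, hue⟩ := hyp.same_orbit P x v
        refine ⟨u, hu, hlt.le ?_⟩
        show (u⁻¹ * x) • v = v
        rw [mul_smul, ← hue, inv_smul_smul]
      have hfree : ∀ w ∈ (P : Subgroup H), w ∈ K' → w = 1 := by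
        intro w hw hwK
        have hcore : w ∈ K'.normalCore := by
          intro x
          obtain ⟨u, hu, hux⟩ := htrans x⁻¹
          have h1 : x * w * x⁻¹ = (u⁻¹ * x⁻¹)⁻¹ * w * (u⁻¹ * x⁻¹) := by
            have hc : u * w * u⁻¹ = w := by rw [hPab u hu w hw, mul_inv_cancel_right]
            calc x * w * x⁻¹ = x * (u * w * u⁻¹) * x⁻¹ := by rw [hc]
              _ = _ := by group
          rw [h1]
          exact mul_mem (mul_mem (inv_mem hux) hwK) hux
        rcases IsSimpleGroup.eq_bot_or_eq_top_of_normal K'.normalCore inferInstance with h | h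
        · rwa [h, Subgroup.mem_bot] at hcore
        · exact absurd (top_le_iff.1 (h ▸ K'.normalCore_le)) hK'top
      obtain ⟨x, hxK, hxs⟩ := SetLike.exists_of_lt hlt
      obtain ⟨u, hu, hue⟩ := hyp.same_orbit P x v
      have hmem : u⁻¹ * x ∈ stabilizer H v := by
        show (u⁻¹ * x) • v = v
        rw [mul_smul, ← hue, inv_smul_smul]
      have hu' : u ∈ K' := by
        have := mul_mem hxK (inv_mem (hlt.le hmem))
        rwa [show x * (u⁻¹ * x)⁻¹ = u by group] at this
      rw [hfree u hu hu', inv_one, one_mul] at hmem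
      exact hxs hmem
  -- sums of two points of the orbit
  haveI : SMulCommClass H (ZMod q) V :=
    ⟨fun h c w => ZMod.map_smul (DistribSMul.toAddMonoidHom V h) c w⟩
  haveI : SMulCommClass (ZMod q) H V := SMulCommClass.symm _ _ _
  let L := DistribMulAction.toModuleEnd (ZMod q) (S := H) V
  have hgirr : ∀ W : AddSubgroup V, (∀ w ∈ W, (L g) w ∈ W) → W = ⊥ ∨ W = ⊤ := by
    intro W hW
    refine hyp.sylow_irred hirr P W fun u hu w hw => ?_
    rw [← hgen] at hu
    obtain ⟨k, rfl⟩ := mem_powers_iff_mem_zpowers.2 hu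
    simp only
    clear hu
    induction k with
    | zero => rwa [pow_zero, one_smul]
    | succ k ih => rw [pow_succ', mul_smul]; exact hW _ ih
  set D := Algebra.adjoin (ZMod q) ({L g} : Set (Module.End (ZMod q) V)) with hD
  have hDf : IsField D := exists_isField (L g) hgirr
  letI : Field D := hDf.toField
  let T : D := ⟨L g, Algebra.self_mem_adjoin_singleton _ _⟩
  have hTpow : ∀ k : ℕ, ((T ^ k : D) : Module.End (ZMod q) V) = L (g ^ k) := fun k => by
    rw [map_pow]; rfl
  have hTapp : ∀ (k : ℕ) (w : V), ((T ^ k : D) : Module.End (ZMod q) V) w = (g ^ k) • w :=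
    fun k w => by rw [hTpow]; rfl
  have hT1 : T ^ n = 1 := Subtype.ext (by rw [hTpow, ← hgo, pow_orderOf_eq_one, map_one]; rfl)
  have hTne : ∀ k, 0 < k → k < n → T ^ k ≠ 1 := by
    intro k hk0 hkn h1
    have h2 : g ^ k = 1 := hyp.faithful _ fun w => by
      rw [← hTapp, h1]; rfl
    exact absurd (Nat.le_of_dvd hk0 (orderOf_dvd_of_pow_eq_one h2)) (by omega)
  have hzero : ∀ d : D, (d : Module.End (ZMod q) V) v = 0 → d = 0 := by
    intro d hd
    by_contra hd0
    have h1 : ((d⁻¹ * d : D) : Module.End (ZMod q) V) v = v := by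
      rw [inv_mul_cancel₀ hd0]; rfl
    rw [MulMemClass.coe_mul, Module.End.mul_apply, hd, map_zero] at h1
    exact hv h1.symm
  set c0 := (1 + T) ^ n with hc0
  have hroot : ∀ j, 0 < j → j < n → (1 + T ^ j) ^ n = c0 := by
    intro j hj0 hjn
    let x₀ : O := ⟨v, 1, one_smul H v⟩
    let x₁ : O := ⟨g • v, g, rfl⟩
    let x₂ : O := ⟨(g ^ j) • v, g ^ j, rfl⟩
    have hne1 : x₀ ≠ x₁ := fun h => by
      have h1 : v = g • v := congrArg Subtype.val h
      have := hfpf g (hgen ▸ Subgroup.mem_zpowers g) h1.symm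
      rw [this, orderOf_one] at hgo; omega
    have hne2 : x₀ ≠ x₂ := fun h => by
      have h1 : v = (g ^ j) • v := congrArg Subtype.val h
      have h2 := hfpf _ (hgen ▸ Subgroup.npow_mem_zpowers g j) h1.symm
      exact absurd (Nat.le_of_dvd hj0 (orderOf_dvd_of_pow_eq_one h2)) (by omega)
    obtain ⟨⟨_, h, rfl⟩, hh1, hh2⟩ := MulAction.is_two_pretransitive_iff.1 h2tr hne1 hne2
    have e1 : h • v = v := congrArg Subtype.val hh1
    have e2 : h • g • v = (g ^ j) • v := congrArg Subtype.val hh2
    obtain ⟨u, hu, hue⟩ := hyp.same_orbit P h (v + g • v)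
    rw [← hgen] at hu
    obtain ⟨k, rfl⟩ := mem_powers_iff_mem_zpowers.2 hu
    simp only at hue
    rw [smul_add, smul_add, e1, e2] at hue
    have hd : (1 + T ^ j) - T ^ k * (1 + T) = 0 := by
      refine hzero _ ?_
      have h0 : ((T : D) : Module.End (ZMod q) V) v = g • v := rfl
      rw [AddSubgroupClass.coe_sub, LinearMap.sub_apply, AddMemClass.coe_add,
        LinearMap.add_apply, MulMemClass.coe_mul, Module.End.mul_apply, AddMemClass.coe_add,
        LinearMap.add_apply, hTapp, hTapp, h0, OneMemClass.coe_one, Module.End.one_apply, smul_add,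
        ← hue, sub_self]
    rw [sub_eq_zero.1 hd, mul_pow, ← pow_mul, mul_comm k n, pow_mul, hT1, one_pow, one_mul]
  haveI : CharP D q := charP_of_injective_algebraMap (algebraMap (ZMod q) D).injective q
  -- a polynomial with too many roots
  open Polynomial in
  have hcoef : ∀ i, i + 1 < n → 0 < i → ((n.choose i : D) - (n.choose (i + 1) : D)) = 0 := by
    intro i hin hi0
    let Q : D[X] := ((1 + X) ^ n - C c0) * (X - C 1) - (X ^ n - 1) * (X + C ((n : D) - 1))
    have hQd : ∀ m, n ≤ m → Q.coeff m = 0 := by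
      intro m hm
      obtain ⟨m', rfl⟩ : ∃ m', m = m' + 1 := ⟨m - 1, by omega⟩
      simp only [Q, coeff_sub, mul_sub, mul_add, sub_mul, mul_one, one_mul, coeff_add, coeff_mul_X,
        coeff_mul_C, coeff_C, coeff_one_add_X_pow, coeff_X_pow, coeff_X, map_one, coeff_one]
      rcases (show m' + 1 = n ∨ m' = n ∨ n < m' by omega) with h | h | h
      · rw [← h]
        simp only [Nat.choose_self, Nat.cast_one]
        rw [Nat.choose_succ_self_right]
        simp [Nat.ne_of_lt, show m' ≠ 0 by omega, show ¬ (1 = m' + 1) by omega]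
      · rw [h]
        simp [show n + 1 ≠ 0 by omega, show n ≠ 0 by omega, show ¬ (1 = n + 1) by omega]
      · simp [Nat.choose_eq_zero_of_lt (show n < m' + 1 by omega), Nat.choose_eq_zero_of_lt h,
          show m' + 1 ≠ 0 by omega, show m' ≠ 0 by omega, show ¬ (1 = m' + 1) by omega,
          show m' + 1 ≠ n by omega, show m' ≠ n by omega]
    have hroots : ∀ j : Fin n, Q.eval (T ^ (j : ℕ)) = 0 := by
      intro j
      have hjn : (T ^ (j : ℕ)) ^ n = 1 := by rw [← pow_mul, mul_comm, pow_mul, hT1, one_pow]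
      simp only [Q, eval_sub, eval_mul, eval_pow, eval_add, eval_one, eval_X, eval_C, hjn, sub_self,
        zero_mul, sub_zero]
      rcases Nat.eq_zero_or_pos (j : ℕ) with h0 | h0
      · rw [h0, pow_zero, sub_self, mul_zero]
      · rw [hroot _ h0 j.2, sub_self, zero_mul]
    have hQ0 : Q = 0 := by
      by_contra hne
      have hdeg : Q.natDegree < n := by
        by_contra hle
        push Not at hle
        exact hne (leadingCoeff_eq_zero.1 (hQd _ hle))
      have hinj : Function.Injective fun j : Fin n => T ^ (j : ℕ) := by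
        intro x y hxy
        simp only at hxy
        by_contra hne'
        have hT0 : T ≠ 0 := fun h0 => by
          rw [h0, zero_pow (by omega)] at hT1; exact zero_ne_one hT1
        rcases Nat.lt_or_gt_of_ne (Fin.val_injective.ne hne') with h | h
        · refine hTne ((y : ℕ) - x) (by omega) (by omega) ?_
          rw [pow_sub₀ T hT0 h.le, ← hxy, mul_inv_cancel₀ (pow_ne_zero _ hT0)]
        · refine hTne ((x : ℕ) - y) (by omega) (by omega) ?_
          rw [pow_sub₀ T hT0 h.le, hxy, mul_inv_cancel₀ (pow_ne_zero _ hT0)]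
      exact hne (Polynomial.eq_zero_of_natDegree_lt_card_of_eval_eq_zero Q hinj hroots
        (by rwa [Fintype.card_fin]))
    have := congrArg (fun r : D[X] => r.coeff (i + 1)) hQ0
    simp only [Q, coeff_sub, mul_sub, mul_add, sub_mul, mul_one, one_mul, coeff_add, coeff_mul_X,
      coeff_mul_C, coeff_C, coeff_one_add_X_pow, coeff_X_pow, coeff_X, map_one, coeff_one,
      coeff_zero] at this
    simp [show i ≠ 0 by omega, show i ≠ n by omega, show i + 1 ≠ n by omega,
      show ¬ (1 = i + 1) by omega] at this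
    linear_combination this
  have hn0 : (n : D) ≠ 0 := by
    rw [Ne, CharP.cast_eq_zero_iff D q, hn, he]
    exact fun hd => hpq ((Nat.prime_dvd_prime_iff_eq hq.out hp.out).1 (hq.out.dvd_of_dvd_pow hd)).symm
  have hnodd : Odd n := by rw [hn, he]; exact (hp.out.odd_of_ne_two hp2).pow
  rcases (show n = 3 ∨ 5 ≤ n by obtain ⟨k, hk⟩ := hnodd; omega) with h3 | h5
  · -- three points
    haveI : Group.IsSolvable (Equiv.Perm O) := by
      exact Cfsg.Agent.PrimePowerOrbits.isSolvable_perm_three (by omega)
    exact hns (Group.isSolvable_of_isSolvable_injective (f := φ) hφinj)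
  have e1 := hcoef (n - 2) (by omega) (by omega)
  have e2 := hcoef (n - 3) (by omega) (by omega)
  rw [show n - 2 + 1 = n - 1 by omega] at e1
  rw [show n - 3 + 1 = n - 2 by omega] at e2
  rw [Nat.choose_symm (show 1 ≤ n by omega), Nat.choose_one_right,
    Nat.choose_symm (show 2 ≤ n by omega)] at e1
  rw [Nat.choose_symm (show 3 ≤ n by omega), Nat.choose_symm (show 2 ≤ n by omega)] at e2
  have hC2 : (2 : D) * (n.choose 2 : D) = (n : D) * ((n : D) - 1) := by
    have h := Nat.choose_succ_right_eq n 1
    rw [Nat.choose_one_right] at h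
    have h' : ((n.choose 2 * 2 : ℕ) : D) = ((n * (n - 1) : ℕ) : D) := by rw [← h]
    push_cast [Nat.cast_sub (show 1 ≤ n by omega)] at h'
    linear_combination h'
  have hC3 : (3 : D) * (n.choose 3 : D) = (n.choose 2 : D) * ((n : D) - 2) := by
    have h := Nat.choose_succ_right_eq n 2
    have h' : ((n.choose 3 * 3 : ℕ) : D) = ((n.choose 2 * (n - 2) : ℕ) : D) := by rw [← h]
    push_cast [Nat.cast_sub (show 2 ≤ n by omega)] at h'
    linear_combination h'
  have hn1 : (n : D) = 3 := by
    have : (n : D) * ((n : D) - 3) = 0 := by linear_combination 2 * e1 - hC2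
    exact sub_eq_zero.1 ((mul_eq_zero.1 this).resolve_left hn0)
  have h20 : (2 : D) = 0 := by
    have : (n : D) * 2 = 0 := by
      linear_combination (n : D) * hn1 - 3 * e2 + hC3 + ((n : D) - 5) * e1
    exact (mul_eq_zero.1 this).resolve_left hn0
  have h2' : ((2 : ℕ) : D) = 0 := by exact_mod_cast h20
  rw [CharP.cast_eq_zero_iff D q] at h2'
  exact hq2 ((Nat.prime_dvd_prime_iff_eq hq.out Nat.prime_two).1 h2')

end Linear

/-! ### The main theorem -/

theorem isSolvable_prod' {A B : Type*} [Group A] [Group B] (hA : Group.IsSolvable A)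
    (hB : Group.IsSolvable B) : Group.IsSolvable (A × B) := by
  haveI := hA
  haveI := hB
  infer_instance

theorem mem_zpowers_of_isCyclic {G : Type*} [Group G] [Finite G] {p : ℕ} [hp : Fact p.Prime]
    (C : Subgroup G) (hC : IsCyclic C) {x y : G} (hx : x ∈ C) (hy : y ∈ C) (hxo : orderOf x = p)
    (hyo : orderOf y = p) : x ∈ Subgroup.zpowers y := by
  classical
  haveI := Fintype.ofFinite C
  haveI := hC
  by_contra hxy
  have hle := IsCyclic.card_pow_eq_one_le (α := C) (n := p) hp.out.pos
  have hsub : insert (⟨x, hx⟩ : C) ((Finset.range p).image fun i => (⟨y, hy⟩ : C) ^ i) ⊆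
      Finset.univ.filter fun a : C => a ^ p = 1 := by
    intro a ha
    refine Finset.mem_filter.2 ⟨Finset.mem_univ _, ?_⟩
    rcases Finset.mem_insert.1 ha with rfl | ha
    · exact Subtype.ext (by simpa using (orderOf_dvd_iff_pow_eq_one.1 hxo.dvd))
    · obtain ⟨i, -, rfl⟩ := Finset.mem_image.1 ha
      rw [← pow_mul, mul_comm, pow_mul,
        show (⟨y, hy⟩ : C) ^ p = 1 from
          Subtype.ext (by simpa using (orderOf_dvd_iff_pow_eq_one.1 hyo.dvd)), one_pow]
  have h1 := (Finset.card_le_card hsub).trans hle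
  rw [Finset.card_insert_of_notMem, Finset.card_image_of_injOn, Finset.card_range] at h1
  · omega
  · intro i hi j hj hij
    refine pow_injOn_Iio_orderOf (x := y) ?_ ?_ (by simpa using congrArg Subtype.val hij)
    · rw [hyo]; exact Finset.mem_range.1 hi
    · rw [hyo]; exact Finset.mem_range.1 hj
  · intro h
    obtain ⟨i, -, hi⟩ := Finset.mem_image.1 h
    exact hxy (by
      rw [show x = y ^ i by simpa using (congrArg Subtype.val hi).symm]
      exact Subgroup.npow_mem_zpowers y i)

variable {q p : ℕ} [hq : Fact q.Prime] [hp : Fact p.Prime]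

/-- The primitive part of the argument. -/
theorem irred_false {H : Type u} [Group H] [Finite H] {V : Type u} [AddCommGroup V] [Finite V]
    [Module (ZMod q) V] [DistribMulAction H V] (hpq : p ≠ q) (hq2 : q ≠ 2) (hyp : Hyp q p H V)
    (hirr : Irred H V) (hperf : commutator H = ⊤) (hns : ¬ Group.IsSolvable H)
    (hmin : ∀ N : Subgroup H, N.Normal → N ≠ ⊤ → Group.IsSolvable N) : False := by
  classical
  obtain ⟨P⟩ : Nonempty (Sylow p H) := inferInstance
  have hpP : IsPGroup p (P : Subgroup H) := P.isPGroup'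
  haveI : Nontrivial (P : Subgroup H) := by
    by_contra hc
    rw [not_nontrivial_iff_subsingleton] at hc
    haveI : Subsingleton H := ⟨fun x y => mul_inv_eq_one.1 (hyp.faithful _ fun v => by
      obtain ⟨u, hu, hue⟩ := hyp.same_orbit P (x * y⁻¹) v
      rw [← hue, show u = 1 from congrArg Subtype.val (Subsingleton.elim (⟨u, hu⟩ : (P : Subgroup H)) 1),
        one_smul])⟩
    exact hns inferInstance
  -- a central element of order `p` in the Sylow subgroup
  obtain ⟨z, hz⟩ : ∃ z : (P : Subgroup H), z ∈ center (P : Subgroup H) ∧ orderOf z = p := by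
    haveI := hpP.center_nontrivial
    obtain ⟨z, hz⟩ := exists_prime_orderOf_dvd_card' p
      (G := center (P : Subgroup H)) (by
        obtain ⟨k, hk⟩ := (hpP.to_subgroup (center (P : Subgroup H))).exists_card_eq
        rw [hk]
        refine dvd_pow_self p fun h0 => ?_
        rw [h0, pow_zero] at hk
        exact (Finite.one_lt_card (α := center (P : Subgroup H))).ne' hk)
    exact ⟨z, z.2, by rwa [Subgroup.orderOf_coe]⟩
  have hzc : ∀ u : (P : Subgroup H), u * z = z * u := Subgroup.mem_center_iff.1 hz.1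
  -- unique subgroup of order `p` once all abelian subgroups are cyclic
  have hcomm2 : ∀ x : (P : Subgroup H), IsMulCommutative (Subgroup.closure {x, z}) := fun x => by
    refine Subgroup.isMulCommutative_closure ?_
    rintro a (rfl | rfl) b (rfl | rfl)
    · rfl
    · exact hzc _
    · exact (hzc _).symm
    · rfl
  have hgood := CfsgLib.PGroup.NormalRankOne.good hpP
    (fun A hAn hAc => hyp.normal_abelian_cyclic hpq hirr hperf P A hAn hAc)
  by_cases hp2 : p = 2
  · subst hp2
    have hzneg : ∀ t : (P : Subgroup H), (∀ u : (P : Subgroup H), u * t = t * u) → orderOf t = 2 →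
        (∀ v : V, (t : H) • v = -v) ∧ (t : H) ∈ center H := fun t htc ht =>
      hyp.involution_neg hirr P
        (fun u hu => congrArg Subtype.val (htc ⟨u, hu⟩)) (by rwa [Subgroup.orderOf_coe])
    have hzu : ∀ t : (P : Subgroup H), (∀ u : (P : Subgroup H), u * t = t * u) → orderOf t = 2 →
        t = z := fun t htc ht => by
      refine Subtype.ext (mul_inv_eq_one.1 (hyp.faithful _ fun v => ?_))
      have h2 := (hzneg z hzc hz.2).1 ((z : H)⁻¹ • v)
      rw [smul_inv_smul] at h2
      rw [mul_smul, (hzneg t htc ht).1, ← h2]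
    by_cases hab : ∀ a ∈ (P : Subgroup H), ∀ b ∈ (P : Subgroup H), a * b = b * a
    · have h1 := eq_one_of_abelian_sylow hperf P hab z.2 (hzneg z hzc hz.2).2
      rw [show z = 1 from Subtype.ext h1, orderOf_one] at hz
      exact absurd hz.2 (by norm_num)
    by_cases huniq : ∀ s : (P : Subgroup H), orderOf s = 2 → s = z
    · rcases CfsgLib.Solvable.isCyclic_or_quaternion hpP (fun x y hx hy => by
        rw [huniq x hx, huniq y hy]; exact Subgroup.mem_zpowers z) with hc | ⟨-, n, ⟨e⟩⟩
      · exact hab fun a ha b hb => congrArg Subtype.val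
          (hc.commutative.is_comm.comm (⟨a, ha⟩ : (P : Subgroup H)) ⟨b, hb⟩)
      rcases n with _ | k
      · refine hab fun a ha b hb => congrArg Subtype.val
          (e.injective (a₁ := ⟨a, ha⟩ * ⟨b, hb⟩) (a₂ := ⟨b, hb⟩ * ⟨a, ha⟩) ?_)
        have key : ∀ c d : QuaternionGroup (2 ^ 0), c * d = d * c := by decide
        rw [map_mul, map_mul, key]
      obtain ⟨x, y, hx, hy, hxo, -, hyx, hyy, hgen⟩ :=
        CfsgLib.Invol.quaternion_gens (P : Subgroup H) k e
      exact hyp.quaternion_false hq2 hirr hperf hns P (show 1 ≤ k + 2 by omega) hx hy hxo hyx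
        (hyy ▸ Subgroup.npow_mem_zpowers x _) hgen
    · push Not at huniq
      obtain ⟨s, hs, hsz⟩ := huniq
      obtain ⟨-, ⟨a, b, m, r, hao, hai, -⟩, -⟩ := hgood ⟨Subgroup.closure {s, z}, hcomm2 s, fun hc =>
        hsz (by
          obtain ⟨i, hi⟩ := mem_zpowers_of_isCyclic _ hc
            (Subgroup.subset_closure (Set.mem_insert s _))
            (Subgroup.subset_closure (Set.mem_insert_of_mem _ (Set.mem_singleton z))) hs hz.2
          rcases Int.even_or_odd i with ⟨k, hk⟩ | ⟨k, hk⟩
          · exfalso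
            have : s = 1 := by
              rw [← hi]
              show z ^ i = 1
              rw [← orderOf_dvd_iff_zpow_eq_one, hz.2, hk]; exact ⟨k, by push_cast; ring⟩
            rw [this, orderOf_one] at hs; norm_num at hs
          · rw [← hi]
            show z ^ i = z
            rw [hk, zpow_add_one, zpow_mul, show z ^ (2 : ℤ) = 1 by
              rw [← orderOf_dvd_iff_zpow_eq_one, hz.2]; norm_num, one_zpow, one_mul])⟩
      -- the only involution of the cyclic subgroup of index two is `z`
      have haz : ∀ t ∈ Subgroup.zpowers a, orderOf t = 2 → t = z := by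
        intro t ht hto
        refine hzu t (fun u => ?_) hto
        have hn := Subgroup.normal_of_index_eq_two hai
        have hcy : IsCyclic (Subgroup.zpowers a) := inferInstance
        have hto' : orderOf (u * t * u⁻¹) = 2 := by
          rw [orderOf_eq_iff (by norm_num)]
          refine ⟨by rw [conj_pow, orderOf_dvd_iff_pow_eq_one.1 hto.dvd, mul_one, mul_inv_cancel],
            fun l hl hl0 h => ?_⟩
          obtain rfl : l = 1 := by omega
          rw [pow_one] at h
          have : t = 1 := conj_eq_one_iff.1 h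
          rw [this, orderOf_one] at hto; norm_num at hto
        obtain ⟨i, hi⟩ := mem_zpowers_of_isCyclic _ hcy (hn.conj_mem t ht u) ht hto' hto
        rw [← mul_inv_eq_iff_eq_mul, ← hi]
        show t ^ i = t
        rcases Int.even_or_odd i with ⟨k, hk⟩ | ⟨k, hk⟩
        · exfalso
          have : u * t * u⁻¹ = 1 := by
            rw [← hi]
            show t ^ i = 1
            rw [← orderOf_dvd_iff_zpow_eq_one, hto, hk]; exact ⟨k, by push_cast; ring⟩
          rw [this, orderOf_one] at hto'; norm_num at hto'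
        · rw [hk, zpow_add_one, zpow_mul, show t ^ (2 : ℤ) = 1 by
            rw [← orderOf_dvd_iff_zpow_eq_one, hto]; norm_num, one_zpow, one_mul]
      set M : Subgroup H := (Subgroup.zpowers a).map (P : Subgroup H).subtype with hM
      obtain ⟨g, hg⟩ := exists_conj_of_relIndex_two hperf P M
        (Subgroup.map_subtype_le _)
        (by
          rw [Subgroup.relIndex, Subgroup.subgroupOf,
            Subgroup.comap_map_eq_self_of_injective (P : Subgroup H).subtype_injective]
          exact hai) (s := (s : H)) (by rw [Subgroup.orderOf_coe]; exact hs)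
      obtain ⟨t, ht, hte⟩ := hg
      have hte' : (t : H) = g⁻¹ * (s : H) * g := hte
      have htz := haz t ht (by
        rw [← Subgroup.orderOf_coe, hte', orderOf_eq_iff (by norm_num)]
        refine ⟨?_, fun l hl hl0 h => ?_⟩
        · have e := conj_pow (a := g⁻¹) (b := (s : H)) (i := 2)
          rw [inv_inv] at e
          rw [e, orderOf_dvd_iff_pow_eq_one.1 (by rw [Subgroup.orderOf_coe, hs] :
            orderOf (s : H) ∣ 2), mul_one, inv_mul_cancel]
        · obtain rfl : l = 1 := by omega
          rw [pow_one] at h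
          have : (s : H) = 1 := by simpa [mul_assoc] using congrArg (fun w => g * w * g⁻¹) h
          rw [show s = 1 from Subtype.ext this, orderOf_one] at hs; norm_num at hs)
      refine hsz (Subtype.ext ?_)
      have hzcen := Subgroup.mem_center_iff.1 (hzneg z hzc hz.2).2 g
      rw [htz] at hte'
      calc (s : H) = g * (g⁻¹ * (s : H) * g) * g⁻¹ := by group
        _ = (z : H) := by rw [← hte', hzcen, mul_inv_cancel_right]
  · have hu : ∀ x : (P : Subgroup H), orderOf x = p → x ∈ Subgroup.zpowers z := by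
      intro x hx
      by_contra hxz
      refine hp2 (hgood ⟨Subgroup.closure {x, z}, hcomm2 x, fun hc => hxz ?_⟩).1
      exact mem_zpowers_of_isCyclic _ hc (Subgroup.subset_closure (Set.mem_insert x _))
        (Subgroup.subset_closure (Set.mem_insert_of_mem _ (Set.mem_singleton z))) hx hz.2
    rcases CfsgLib.Solvable.isCyclic_or_quaternion hpP (fun x y hx hy => by
      have hyz : Subgroup.zpowers y = Subgroup.zpowers z :=
        Subgroup.eq_of_le_of_card_ge (Subgroup.zpowers_le.2 (hu y hy))
          (by rw [Nat.card_zpowers, Nat.card_zpowers, hy, hz.2])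
      rw [hyz]; exact hu x hx) with hc | ⟨h2, -⟩
    · obtain ⟨g, hg⟩ := hc.exists_generator
      refine hyp.cyclic_false hpq hp2 hq2 hirr hperf hns hmin P (g := (g : H)) ?_
      refine le_antisymm (Subgroup.zpowers_le.2 g.2) fun x hx => ?_
      obtain ⟨i, hi⟩ := hg ⟨x, hx⟩
      exact ⟨i, by simpa using congrArg Subtype.val hi⟩
    · exact hp2 h2

set_option synthInstance.maxHeartbeats 100000 in
theorem isSolvable_aux (n : ℕ) : ∀ (H : Type u) [Group H] [Finite H] (V : Type u) [AddCommGroup V]
    [Finite V] [Module (ZMod q) V] [DistribMulAction H V], Hyp q p H V →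
    Nat.card H + Nat.card V ≤ n → Group.IsSolvable H := by
  induction n with
  | zero =>
    intro H _ _ V _ _ _ _ _ hle
    have := Nat.card_pos (α := H)
    omega
  | succ n ih =>
  intro H _ _ V _ _ _ _ hyp hle
  by_contra hns
  have hmin : ∀ N : Subgroup H, N.Normal → N ≠ ⊤ → Group.IsSolvable N := by
    intro N hN htop
    refine ih N V ⟨fun hd => hyp.coprime (hd.trans (Subgroup.card_subgroup_dvd_card N)),
      fun x hx => Subtype.ext (hyp.faithful x hx), fun v => ?_⟩ ?_
    · obtain ⟨k, hk⟩ := hyp.orbit v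
      have h1 : (stabilizer N v).index = (stabilizer H v).relIndex N := rfl
      obtain ⟨j, -, hj⟩ := (Nat.dvd_prime_pow hp.out).1
        (hk ▸ (h1 ▸ (haveI := hN; relIndex_dvd_index N (stabilizer H v))))
      exact ⟨j, hj⟩
    · have h1 : Nat.card N < Nat.card H := by
        rcases (Subgroup.card_le_card_group N).lt_or_eq with h | h
        · exact h
        · exact absurd (Subgroup.eq_top_of_card_eq N h) htop
      omega
  have hperf : commutator H = ⊤ := by
    by_contra hne
    haveI := hmin _ inferInstance hne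
    haveI : Group.IsSolvable (H ⧸ commutator H) := Group.isSolvable_of_comm fun a b => by
      refine QuotientGroup.induction_on a fun x => QuotientGroup.induction_on b fun y => ?_
      rw [← QuotientGroup.mk_mul, ← QuotientGroup.mk_mul, QuotientGroup.eq, commutator_eq_closure]
      exact Subgroup.subset_closure ⟨y⁻¹, x⁻¹, by rw [commutatorElement_def]; group⟩
    exact hns ((Group.isSolvable_iff_subgroup_quotient (commutator H)).2
      ⟨inferInstance, inferInstance⟩)
  have hpq : p ≠ q := by
    intro e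
    subst e
    haveI : Subsingleton H := ⟨fun x y => mul_inv_eq_one.1 (hyp.faithful _ fun v => by
      obtain ⟨k, hk⟩ := hyp.orbit v
      rcases Nat.eq_zero_or_pos k with rfl | hk0
      · rw [pow_zero, Subgroup.index_eq_one] at hk
        exact MulAction.mem_stabilizer_iff.1 (hk ▸ Subgroup.mem_top (x * y⁻¹))
      · exact absurd ((dvd_pow_self p hk0.ne').trans (hk ▸ Subgroup.index_dvd_card _)) hyp.coprime)⟩
    exact hns (Group.isSolvable_of_comm fun a b => Subsingleton.elim _ _)
  have hq2 : q ≠ 2 := by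
    intro e
    subst e
    exact hns (Cfsg.Agent.S0205.result (Nat.not_even_iff_odd.1 fun h => hyp.coprime h.two_dvd))
  refine irred_false hpq hq2 hyp ?_ hperf hns hmin
  intro W hW
  by_contra hcon
  push Not at hcon
  obtain ⟨hWb, hWt⟩ := hcon
  -- the action on `W`
  let f₁ : H →* AddMonoid.End W :=
    { toFun := fun h =>
        { toFun := fun w => ⟨h • (w : V), hW h w w.2⟩
          map_zero' := Subtype.ext (smul_zero h)
          map_add' := fun a b => Subtype.ext (smul_add h (a : V) b) }
      map_one' := AddMonoidHom.ext fun w => Subtype.ext (one_smul H (w : V))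
      map_mul' := fun a b => AddMonoidHom.ext fun w => Subtype.ext (mul_smul a b (w : V)) }
  -- the action on the quotient
  let f₂ : H →* AddMonoid.End (V ⧸ W) :=
    { toFun := fun h => QuotientAddGroup.map W W (DistribSMul.toAddMonoidHom V h) fun w hw => hW h w hw
      map_one' := AddMonoidHom.ext fun x => by
        induction x using QuotientAddGroup.induction_on with
        | _ v => exact congrArg _ (one_smul H v)
      map_mul' := fun a b => AddMonoidHom.ext fun x => by
        induction x using QuotientAddGroup.induction_on with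
        | _ v => exact congrArg _ (mul_smul a b v) }
  have hcard : Nat.card (V ⧸ W) * Nat.card W = Nat.card V :=
    (AddSubgroup.card_eq_card_quotient_mul_card_addSubgroup W).symm
  have hW1 : 1 < Nat.card W := by
    obtain ⟨w, hw, hw0⟩ := W.bot_or_exists_ne_zero.resolve_left hWb
    exact Finite.one_lt_card_iff_nontrivial.2 ⟨⟨⟨w, hw⟩, 0, fun e => hw0 (congrArg Subtype.val e)⟩⟩
  have hQ1 : 1 < Nat.card (V ⧸ W) := by
    rcases Nat.lt_or_ge 1 (Nat.card (V ⧸ W)) with h | h
    · exact h
    exfalso
    have := Nat.card_pos (α := V ⧸ W)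
    rw [show Nat.card (V ⧸ W) = 1 by omega, one_mul] at hcard
    exact hWt (AddSubgroup.eq_top_of_card_eq W hcard)
  have hquot : ∀ (M : Type u) [AddCommGroup M] [Finite M] (f : H →* AddMonoid.End M),
      Nat.card M < Nat.card V → (∀ m : M, q • m = 0) →
      (∀ m : M, ∃ k : ℕ, ∃ C : Subgroup H, (∀ h, h ∈ C ↔ f h m = m) ∧ C.index ∣ p ^ k) →
      Group.IsSolvable (H ⧸ f.ker) := by
    intro M _ _ f hlt hqM horb
    haveI : Module (ZMod q) M := AddCommGroup.zmodModule hqM
    letI : DistribMulAction (H ⧸ f.ker) M :=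
      DistribMulAction.compHom M (QuotientGroup.lift f.ker f le_rfl)
    have hsm : ∀ (h : H) (m : M), (h : H ⧸ f.ker) • m = f h m := fun _ _ => rfl
    refine ih (H ⧸ f.ker) M ⟨fun hd => hyp.coprime (hd.trans (Subgroup.card_quotient_dvd_card _)),
      fun x => ?_, fun m => ?_⟩ ?_
    · obtain ⟨h, rfl⟩ := QuotientGroup.mk_surjective x
      intro hx
      exact (QuotientGroup.eq_one_iff h).2 (MonoidHom.mem_ker.2 (AddMonoidHom.ext fun m => hx m))
    · obtain ⟨k, C, hC, hk⟩ := horb m
      have hcom : (stabilizer (H ⧸ f.ker) m).comap (QuotientGroup.mk' f.ker) = C := by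
        ext h
        exact (hC h).symm
      rw [← Subgroup.index_comap_of_surjective _ (QuotientGroup.mk'_surjective f.ker), hcom]
      obtain ⟨j, -, hj⟩ := (Nat.dvd_prime_pow hp.out).1 hk
      exact ⟨j, hj⟩
    · have := Nat.le_of_dvd Nat.card_pos (Subgroup.card_quotient_dvd_card f.ker)
      omega
  haveI h1 : Group.IsSolvable (H ⧸ f₁.ker) := hquot W f₁ (by nlinarith)
    (fun w => Subtype.ext (nsmul_q (q := q) (w : V))) fun w => by
      obtain ⟨k, hk⟩ := hyp.orbit (w : V)
      exact ⟨k, stabilizer H (w : V), fun h => ⟨fun e => Subtype.ext e, fun e => congrArg Subtype.val e⟩,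
        hk.dvd⟩
  haveI h2 : Group.IsSolvable (H ⧸ f₂.ker) := hquot (V ⧸ W) f₂ (by nlinarith)
    (fun x => by
      induction x using QuotientAddGroup.induction_on with
      | _ v => rw [← QuotientAddGroup.mk_nsmul, nsmul_q (q := q)]; rfl) fun x => by
      induction x using QuotientAddGroup.induction_on with
      | _ v =>
        obtain ⟨k, hk⟩ := hyp.orbit v
        let C : Subgroup H :=
          { carrier := {h | f₂ h (v : V ⧸ W) = (v : V ⧸ W)}
            one_mem' := by simp only [Set.mem_setOf_eq, map_one]; rfl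
            mul_mem' := fun {a b} ha hb => by
              simp only [Set.mem_setOf_eq, map_mul] at ha hb ⊢
              show f₂ a (f₂ b (v : V ⧸ W)) = _
              rw [hb, ha]
            inv_mem' := fun {a} ha => by
              simp only [Set.mem_setOf_eq] at ha ⊢
              have : f₂ a⁻¹ (f₂ a (v : V ⧸ W)) = (v : V ⧸ W) := by
                show (f₂ a⁻¹ * f₂ a) (v : V ⧸ W) = _
                rw [← map_mul, inv_mul_cancel, map_one]; rfl
              rwa [ha] at this }
        exact ⟨k, C, fun h => Iff.rfl, hk ▸ Subgroup.index_dvd_of_le (H := stabilizer H v) (K := C)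
          fun h hh => congrArg (QuotientAddGroup.mk (s := W)) (show h • v = v from hh)⟩
  haveI := isSolvable_prod' h1 h2
  refine hns (Group.isSolvable_of_isSolvable_injective
    (f := (QuotientGroup.mk' f₁.ker).prod (QuotientGroup.mk' f₂.ker)) ?_)
  rw [← MonoidHom.ker_eq_bot_iff, Subgroup.eq_bot_iff_forall]
  intro h hh
  rw [MonoidHom.mem_ker, MonoidHom.prod_apply, Prod.mk_eq_one] at hh
  have e1 : ∀ w ∈ W, h • w = w := fun w hw => congrArg Subtype.val
    (show f₁ h ⟨w, hw⟩ = ⟨w, hw⟩ by rw [MonoidHom.mem_ker.1 ((QuotientGroup.eq_one_iff h).1 hh.1)]; rfl)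
  have hpow : h ^ q = 1 := hyp.faithful _ fun v => by
    have e2 : -v + h • v ∈ W := by
      rw [← QuotientAddGroup.eq]
      exact ((show f₂ h (v : V ⧸ W) = v by
        rw [MonoidHom.mem_ker.1 ((QuotientGroup.eq_one_iff h).1 hh.2)]; rfl) : _).symm
    have hit : ∀ k : ℕ, (h ^ k) • v = v + k • (-v + h • v) := by
      intro k
      induction k with
      | zero => simp
      | succ k ihk =>
        rw [pow_succ', mul_smul, ihk, smul_add, smul_comm h k, e1 _ e2, succ_nsmul, ← add_assoc]
        abel
    rw [hit, nsmul_q (q := q), add_zero]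
  rcases (Nat.dvd_prime hq.out).1 (orderOf_dvd_of_pow_eq_one hpow) with h | h
  · exact orderOf_eq_one_iff.1 h
  · exact absurd (h ▸ orderOf_dvd_natCard _) hyp.coprime

/-- A coprime linear group all of whose orbits have `p`-power size is solvable. -/
theorem isSolvable {H : Type u} [Group H] [Finite H] {V : Type u} [AddCommGroup V] [Finite V]
    [Module (ZMod q) V] [DistribMulAction H V] (hyp : Hyp q p H V) : Group.IsSolvable H :=
  isSolvable_aux _ H V hyp le_rfl

end Cfsg.Agent.PrimePowerOrbits
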