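import Mathlib
import Cfsg.Prelude.Def_HallClasses
import Cfsg.Agent.Lib.Known.Pronormal

/-!
Pronormality of the overgroups of Sylow subgroups in extensions.
-/

set_option autoImplicit false

namespace CfsgLib.FGS.PronormalExt

variable {G : Type*} [Group G]

/-- Conjugate of a subgroup. -/
abbrev cj (g : G) (H : Subgroup G) : Subgroup G := H.map (MulAut.conj g).toMonoidHom

theorem mem_cj {g x : G} {H : Subgroup G} : x ∈ cj g H ↔ g⁻¹ * x * g ∈ H := by
  rw [Subgroup.mem_map_equiv, MulAut.conj_symm_apply]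

theorem cj_cj (a b : G) (H : Subgroup G) : cj a (cj b H) = cj (a * b) H := by
  ext x; simp only [mem_cj, mul_inv_rev, mul_assoc]

theorem cj_one (H : Subgroup G) : cj 1 H = H := by ext x; simp [mem_cj]

theorem cj_mono (g : G) {H K : Subgroup G} (h : H ≤ K) : cj g H ≤ cj g K := Subgroup.map_mono h

theorem cj_eq_iff {g : G} {H : Subgroup G} : cj g H = H ↔ g ∈ Subgroup.normalizer (H : Set G) := by
  rw [Subgroup.mem_normalizer_iff, SetLike.ext_iff]
  constructor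
  · intro h x
    rw [← h (g * x * g⁻¹), mem_cj]; simp [mul_assoc]
  · intro h x
    rw [mem_cj, h]; simp [mul_assoc]

theorem cj_le_of_mem {g : G} {H J : Subgroup G} (hg : g ∈ J) (h : H ≤ J) : cj g H ≤ J := by
  rintro _ ⟨x, hx, rfl⟩
  exact J.mul_mem (J.mul_mem hg (h hx)) (J.inv_mem hg)

theorem cj_eq_self {g : G} {H : Subgroup G} (hg : g ∈ H) : cj g H = H := cj_eq_iff.2 (Subgroup.le_normalizer hg)

theorem cj_sup (g : G) (H K : Subgroup G) : cj g (H ⊔ K) = cj g H ⊔ cj g K := Subgroup.map_sup H K _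

/-- Pronormality is invariant under conjugation. -/
theorem pronormal_of_cj {c : G} {H : Subgroup G} (h : Cfsg.IsPronormal (cj c H)) : Cfsg.IsPronormal H := by
  intro g
  obtain ⟨x, hx, he⟩ := h (c * g * c⁻¹)
  replace hx : x ∈ cj c H ⊔ cj (c * g * c⁻¹) (cj c H) := hx
  replace he : cj (c * g * c⁻¹) (cj c H) = cj x (cj c H) := he
  rw [cj_cj, show c * g * c⁻¹ * c = c * g by group] at hx he
  rw [cj_cj] at he
  refine ⟨c⁻¹ * x * c, ?_, ?_⟩
  · rw [← cj_cj, ← cj_sup, mem_cj] at hx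
    exact hx
  · show cj g H = cj (c⁻¹ * x * c) H
    have h1 := congrArg (cj c⁻¹) he
    rw [cj_cj, cj_cj] at h1
    rwa [show c⁻¹ * (c * g) = g by group, ← mul_assoc] at h1

variable [Finite G] {p : ℕ} [Fact p.Prime]

theorem image_overgroup (A : Subgroup G) [A.Normal] {K : Subgroup G} (S : Sylow p G) (hS : (S : Subgroup G) ≤ K) :
    ∃ P : Sylow p (G ⧸ A), (P : Subgroup (G ⧸ A)) ≤ K.map (QuotientGroup.mk' A) :=
  ⟨S.mapSurjective (QuotientGroup.mk'_surjective A), Subgroup.map_mono hS⟩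

/-- Sufficiency in the extension criterion. -/
theorem pronormal_of_conditions (A : Subgroup G) [A.Normal]
    (hA : ∀ K : Subgroup ↥A, (∃ P : Sylow p ↥A, (P : Subgroup ↥A) ≤ K) → Cfsg.IsPronormal K)
    (hQ : ∀ K : Subgroup (G ⧸ A), (∃ P : Sylow p (G ⧸ A), (P : Subgroup (G ⧸ A)) ≤ K) → Cfsg.IsPronormal K)
    (T : Subgroup G) (hT : ∃ P : Sylow p ↥A, (P : Subgroup ↥A).map A.subtype = T)
    [(T.subgroupOf (Subgroup.normalizer (T : Set G))).Normal]
    (hN : ∀ K : Subgroup (↥(Subgroup.normalizer (T : Set G)) ⧸ T.subgroupOf (Subgroup.normalizer (T : Set G))),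
      (∃ P : Sylow p (↥(Subgroup.normalizer (T : Set G)) ⧸ T.subgroupOf (Subgroup.normalizer (T : Set G))),
        (P : Subgroup (↥(Subgroup.normalizer (T : Set G)) ⧸ T.subgroupOf (Subgroup.normalizer (T : Set G)))) ≤ K) →
        Cfsg.IsPronormal K)
    (hii : ∀ K : Subgroup G, (∃ P : Sylow p G, (P : Subgroup G) ≤ K) →
      Subgroup.normalizer ((K.map (QuotientGroup.mk' A) : Subgroup (G ⧸ A)) : Set (G ⧸ A)) ≤
        (Subgroup.normalizer (K : Set G)).map (QuotientGroup.mk' A))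
    (H : Subgroup G) (hH : ∃ P : Sylow p G, (P : Subgroup G) ≤ H) : Cfsg.IsPronormal H := by
  obtain ⟨P₀, hP₀⟩ := hT
  obtain ⟨S, hS⟩ := hH
  have hTA : T ≤ A := hP₀ ▸ Subgroup.map_subtype_le _
  have hTp : IsPGroup p T := hP₀ ▸ P₀.2.map _
  have hTmax : ∀ U : Subgroup G, IsPGroup p U → T ≤ U → U ≤ A → U = T := by
    intro U hU hTU hUA
    refine le_antisymm (fun u hu => ?_) hTU
    have h1 : IsPGroup p (U.subgroupOf A) :=
      hU.of_equiv (Subgroup.subgroupOfEquivOfLe hUA).symm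
    have h2 : (P₀ : Subgroup ↥A) ≤ U.subgroupOf A := fun a ha => hTU (hP₀ ▸ ⟨a, ha, rfl⟩)
    rw [← hP₀]
    exact ⟨⟨u, hUA hu⟩, (P₀.3 h1 h2).le hu, rfl⟩
  -- move `T` into the Sylow subgroup
  obtain ⟨c, hc⟩ : ∃ c, T ≤ cj c (S : Subgroup G) := by
    obtain ⟨P, hP⟩ := hTp.exists_le_sylow
    obtain ⟨c, hc⟩ := MulAction.exists_smul_eq G S P
    refine ⟨c, hP.trans (le_of_eq ?_)⟩
    rw [← hc]; rfl
  refine pronormal_of_cj (c := c) ?_
  set S' : Sylow p G := c • S with hS'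
  replace hS : (S' : Subgroup G) ≤ cj c H := cj_mono c hS
  replace hc : T ≤ (S' : Subgroup G) := hc
  clear_value S'
  clear hS'
  generalize cj c H = H at hS
  clear S
  have hTH : T ≤ H := hc.trans hS
  have hSA : (S' : Subgroup G) ⊓ A = T :=
    hTmax _ (S'.2.to_le inf_le_left) (le_inf hc hTA) inf_le_right
  set N := Subgroup.normalizer (T : Set G) with hNd
  have hSN : (S' : Subgroup G) ≤ N := by
    intro s hs
    rw [hNd, ← cj_eq_iff]
    refine hTmax _ (hTp.map _) ?_ ?_ |>.trans rfl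
    · intro t ht
      rw [mem_cj, ← hSA]
      exact ⟨S'.1.mul_mem (S'.1.mul_mem (S'.1.inv_mem hs) (hc ht)) hs,
        by simpa using (inferInstance : A.Normal).conj_mem t (hTA ht) s⁻¹⟩
    · rintro _ ⟨t, ht, rfl⟩
      exact (inferInstance : A.Normal).conj_mem t (hTA ht) s
  intro g
  show ∃ x ∈ H ⊔ cj g H, cj g H = cj x H
  set J := H ⊔ cj g H with hJ
  -- step one: modulo `A`
  set π := QuotientGroup.mk' A
  obtain ⟨xb, hxb, hxe⟩ := hQ (H.map π) (image_overgroup A S' hS) (π g)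
  have hmapc : ∀ (a : G) (K : Subgroup G), (K.map π).map (MulAut.conj (π a)).toMonoidHom = (cj a K).map π := by
    intro a K
    rw [Subgroup.map_map, Subgroup.map_map]
    congr 1
  rw [hmapc, ← Subgroup.map_sup] at hxb
  obtain ⟨x, hx, rfl⟩ := hxb
  rw [hmapc, hmapc] at hxe
  have hn : π (x⁻¹ * g) ∈ Subgroup.normalizer ((H.map π : Subgroup (G ⧸ A)) : Set (G ⧸ A)) := by
    rw [← cj_eq_iff]
    show (H.map π).map _ = _
    rw [hmapc, ← cj_cj, ← hmapc, hxe, hmapc, cj_cj, inv_mul_cancel, cj_one]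
  obtain ⟨n, hn', hne⟩ := hii H ⟨S', hS⟩ hn
  set a₁ := x⁻¹ * g * n⁻¹ with ha₁d
  have ha₁ : a₁ ∈ A := by
    rw [← QuotientGroup.eq_one_iff]
    show π (x⁻¹ * g * n⁻¹) = 1
    rw [map_mul, ← hne, map_inv, mul_inv_cancel]
  have hga : cj g H = cj (x * a₁) H := by
    rw [← cj_cj, ha₁d]
    nth_rewrite 2 [← cj_eq_iff.2 hn']
    rw [cj_cj, cj_cj]
    congr 2
    group
  have hJ1 : cj a₁ H ≤ J := by
    have h1 := cj_le_of_mem (J.inv_mem hx) (le_sup_right : cj g H ≤ J)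
    rwa [hga, cj_cj, inv_mul_cancel_left] at h1
  -- step two: the intersection with `A`
  set B := H ⊓ A with hB
  have hTB : T ≤ B := le_inf hTH hTA
  obtain ⟨zA, hzA, hze⟩ := hA (B.subgroupOf A) ⟨P₀, fun a ha => hTB (hP₀ ▸ ⟨a, ha, rfl⟩)⟩ ⟨a₁, ha₁⟩
  have hmapA : ∀ (a : A) (K : Subgroup A), (K.map (MulAut.conj a).toMonoidHom).map A.subtype = cj (a : G) (K.map A.subtype) := by
    intro a K
    rw [Subgroup.map_map, cj, Subgroup.map_map]
    congr 1
  have hBA : (B.subgroupOf A).map A.subtype = B := Subgroup.map_subgroupOf_eq_of_le inf_le_right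
  have hz' : (zA : G) ∈ B ⊔ cj a₁ B := by
    have h1 := Subgroup.mem_map_of_mem A.subtype hzA
    rwa [Subgroup.map_sup, hmapA, hBA] at h1
  have hze' : cj a₁ B = cj (zA : G) B := by
    have h1 := congrArg (Subgroup.map A.subtype) hze
    rwa [hmapA, hmapA, hBA] at h1
  set z : G := (zA : G)
  have hzJ : z ∈ J := (sup_le (inf_le_left.trans le_sup_left) ((cj_mono _ inf_le_left).trans hJ1) : _ ≤ J) hz'
  set a₂ := z⁻¹ * a₁ with ha₂d
  have ha₂A : a₂ ∈ A := A.mul_mem (A.inv_mem zA.2) ha₁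
  have ha₂B : cj a₂ B = B := by rw [ha₂d, ← cj_cj, hze', cj_cj, inv_mul_cancel, cj_one]
  have hJ2 : cj a₂ H ≤ J := by
    rw [ha₂d, ← cj_cj]; exact cj_le_of_mem (J.inv_mem hzJ) hJ1
  -- step three: into the normalizer of `T`
  have frattini : ∀ u : G, cj u B = B → ∃ b ∈ B, b * u ∈ N := by
    intro u hu
    have h1 : cj u T ≤ B := (cj_mono u hTB).trans hu.le
    have hmk : ∀ U : Subgroup G, IsPGroup p U → U ≤ B → Nat.card U = Nat.card T →
        ∃ Q : Sylow p B, (Q : Subgroup B).map B.subtype = U := by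
      intro U hU hUB hcard
      obtain ⟨Q, hQ⟩ := (hU.of_equiv (Subgroup.subgroupOfEquivOfLe hUB).symm).exists_le_sylow
      refine ⟨Q, (Subgroup.eq_of_le_of_card_ge ?_ ?_).symm⟩
      · intro v hv; exact ⟨⟨v, hUB hv⟩, hQ hv, rfl⟩
      · rw [hcard]
        obtain ⟨P, hP⟩ := (hTp.of_equiv (Subgroup.subgroupOfEquivOfLe hTB).symm).exists_le_sylow
        have h2 : (P : Subgroup B).map B.subtype = T :=
          hTmax _ (P.2.map _) (fun t ht => ⟨⟨t, hTB ht⟩, hP ht, rfl⟩) ((Subgroup.map_subtype_le _).trans inf_le_right)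
        rw [← h2, Subgroup.card_map_of_injective B.subtype_injective, Subgroup.card_map_of_injective B.subtype_injective,
          Sylow.card_eq_multiplicity, Sylow.card_eq_multiplicity]
    obtain ⟨Q, hQ⟩ := hmk (cj u T) (hTp.map _) h1 (Subgroup.card_map_of_injective (MulAut.conj u).injective)
    obtain ⟨P, hP⟩ := hmk T hTp hTB rfl
    obtain ⟨b, hb⟩ := MulAction.exists_smul_eq B Q P
    refine ⟨b, b.2, ?_⟩
    rw [hNd, ← cj_eq_iff, ← cj_cj, ← hQ]
    conv_rhs => rw [← hP]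
    rw [← hb, Sylow.coe_subgroup_smul, cj, Subgroup.map_map]
    show _ = ((Q : Subgroup B).map (MulAut.conj b).toMonoidHom).map B.subtype
    rw [Subgroup.map_map]
    congr 1
  obtain ⟨b, hbB, hbN⟩ := frattini a₂ ha₂B
  set a₃ := b * a₂ with ha₃d
  have hbH : b ∈ H := hbB.1
  have ha₃B : cj a₃ B = B := by rw [ha₃d, ← cj_cj, ha₂B, cj_eq_self hbB]
  have hJ3 : cj a₃ H ≤ J := by rw [ha₃d, ← cj_cj]; exact cj_le_of_mem (le_sup_left (a := H) hbH) hJ2
  -- step four: pronormality in the normalizer section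
  set HN := H ⊓ N with hHN
  have hTN : T ≤ N := Subgroup.le_normalizer
  have hTHN : T ≤ HN := le_inf hTH hTN
  set ν := QuotientGroup.mk' (T.subgroupOf N)
  obtain ⟨yb, hyb, hye⟩ := hN ((HN.subgroupOf N).map ν)
    ⟨(S'.subtype hSN).mapSurjective (QuotientGroup.mk'_surjective _), Subgroup.map_mono (fun s hs => ⟨hS hs, s.2⟩)⟩
    (ν ⟨a₃, hbN⟩)
  have hmapn : ∀ (a : N) (K : Subgroup N), (K.map ν).map (MulAut.conj (ν a)).toMonoidHom = (K.map (MulAut.conj a).toMonoidHom).map ν := by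
    intro a K
    rw [Subgroup.map_map, Subgroup.map_map]
    congr 1
  have hmapN : ∀ (a : N) (K : Subgroup N), (K.map (MulAut.conj a).toMonoidHom).map N.subtype = cj (a : G) (K.map N.subtype) := by
    intro a K
    rw [Subgroup.map_map, cj, Subgroup.map_map]
    congr 1
  rw [hmapn, ← Subgroup.map_sup] at hyb
  obtain ⟨yN, hyN, rfl⟩ := hyb
  rw [hmapn, hmapn] at hye
  have hkle : ∀ a : N, ν.ker ≤ (HN.subgroupOf N).map (MulAut.conj a).toMonoidHom := by
    intro a t ht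
    rw [QuotientGroup.ker_mk'] at ht
    refine Subgroup.mem_map_equiv.2 ?_
    rw [MulAut.conj_symm_apply]
    exact hTHN (show ((a⁻¹ * t * a : N) : G) ∈ T from
      by simpa [Subgroup.mem_subgroupOf] using ((inferInstance : (T.subgroupOf N).Normal).conj_mem t ht a⁻¹))
  have hye' : cj a₃ HN = cj (yN : G) HN := by
    have h1 := congrArg (Subgroup.comap ν) hye
    rw [Subgroup.comap_map_eq, Subgroup.comap_map_eq, sup_eq_left.2 (hkle _), sup_eq_left.2 (hkle _)] at h1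
    have h2 := congrArg (Subgroup.map N.subtype) h1
    rwa [hmapN, hmapN, Subgroup.map_subgroupOf_eq_of_le inf_le_right] at h2
  have hy' : (yN : G) ∈ HN ⊔ cj a₃ HN := by
    have h1 := Subgroup.mem_map_of_mem N.subtype hyN
    rwa [Subgroup.map_sup, hmapN, Subgroup.map_subgroupOf_eq_of_le inf_le_right] at h1
  set y : G := (yN : G)
  have hyJ : y ∈ J := (sup_le (inf_le_left.trans le_sup_left) ((cj_mono _ inf_le_left).trans hJ3) : _ ≤ J) hy'
  have hHB : ∀ h ∈ H, cj h B = B := by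
    intro h hh
    refine cj_eq_iff.2 (Subgroup.mem_normalizer_iff.2 fun w => ?_)
    rw [hB, Subgroup.mem_inf, Subgroup.mem_inf]
    constructor
    · rintro ⟨hw, hwA⟩
      exact ⟨H.mul_mem (H.mul_mem hh hw) (H.inv_mem hh), (inferInstance : A.Normal).conj_mem w hwA h⟩
    · rintro ⟨hw, hwA⟩
      have h1 := H.mul_mem (H.mul_mem (H.inv_mem hh) hw) hh
      have h2 := (inferInstance : A.Normal).conj_mem _ hwA h⁻¹
      exact ⟨by simpa [mul_assoc] using h1, by simpa [mul_assoc] using h2⟩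
  have hyB : cj y B = B := by
    have : HN ⊔ cj a₃ HN ≤ Subgroup.normalizer (B : Set G) := by
      refine sup_le (fun h hh => cj_eq_iff.1 (hHB h hh.1)) ?_
      rintro _ ⟨h, hh, rfl⟩
      show a₃ * h * a₃⁻¹ ∈ _
      exact Subgroup.mul_mem _ (Subgroup.mul_mem _ (cj_eq_iff.1 ha₃B) (cj_eq_iff.1 (hHB h hh.1))) (Subgroup.inv_mem _ (cj_eq_iff.1 ha₃B))
    exact cj_eq_iff.2 (this hy')
  have hdec : H = B ⊔ HN := by
    refine le_antisymm (fun h hh => ?_) (sup_le inf_le_left inf_le_left)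
    obtain ⟨b', hb', hb'N⟩ := frattini h (hHB h hh)
    rw [show h = b'⁻¹ * (b' * h) by group]
    exact Subgroup.mul_mem _ (Subgroup.mem_sup_left (B.inv_mem hb')) (Subgroup.mem_sup_right ⟨H.mul_mem hb'.1 hh, hb'N⟩)
  have hfin : cj a₃ H = cj y H := by rw [hdec, cj_sup, cj_sup, ha₃B, hyB, hye']
  refine ⟨x * z * b⁻¹ * y, J.mul_mem (J.mul_mem (J.mul_mem hx hzJ) (J.inv_mem (le_sup_left (a := H) hbH))) hyJ, ?_⟩
  rw [hga, show x * a₁ = x * z * b⁻¹ * a₃ by rw [ha₃d, ha₂d]; group, ← cj_cj (x * z * b⁻¹) a₃, hfin, cj_cj]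

/-- Necessity: the section of the normalizer. -/
theorem normalizer_section (T : Subgroup G) [(T.subgroupOf (Subgroup.normalizer (T : Set G))).Normal]
    (hP : ∀ K : Subgroup G, (∃ P : Sylow p G, (P : Subgroup G) ≤ K) → Cfsg.IsPronormal K)
    (hS : ∃ S : Sylow p G, (S : Subgroup G) ≤ Subgroup.normalizer (T : Set G))
    (K : Subgroup (↥(Subgroup.normalizer (T : Set G)) ⧸ T.subgroupOf (Subgroup.normalizer (T : Set G))))
    (hK : ∃ P : Sylow p (↥(Subgroup.normalizer (T : Set G)) ⧸ T.subgroupOf (Subgroup.normalizer (T : Set G))),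
      (P : Subgroup (↥(Subgroup.normalizer (T : Set G)) ⧸ T.subgroupOf (Subgroup.normalizer (T : Set G)))) ≤ K) :
    Cfsg.IsPronormal K := by
  set N := Subgroup.normalizer (T : Set G)
  set ν := QuotientGroup.mk' (T.subgroupOf N)
  obtain ⟨P, hP'⟩ := hK
  obtain ⟨S, hSN⟩ := hS
  obtain ⟨q, hq⟩ := MulAction.exists_smul_eq (↥N ⧸ T.subgroupOf N) ((S.subtype hSN).mapSurjective (QuotientGroup.mk'_surjective (T.subgroupOf N))) P
  obtain ⟨n, rfl⟩ := QuotientGroup.mk'_surjective (T.subgroupOf N) q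
  set K₀ := (K.comap ν).map N.subtype with hK₀
  have hSK : ((n : G) • S : Sylow p G).1 ≤ K₀ := by
    rintro _ ⟨s, hs, rfl⟩
    refine ⟨n * ⟨s, hSN hs⟩ * n⁻¹, hP' ?_, rfl⟩
    rw [← hq]
    refine ⟨ν ⟨s, hSN hs⟩, ⟨⟨s, hSN hs⟩, hs, rfl⟩, ?_⟩
    show ν n * ν ⟨s, hSN hs⟩ * (ν n)⁻¹ = ν (n * ⟨s, hSN hs⟩ * n⁻¹)
    simp
  intro gb
  obtain ⟨g, rfl⟩ := QuotientGroup.mk'_surjective (T.subgroupOf N) gb
  obtain ⟨x, hx, he⟩ := hP K₀ ⟨_, hSK⟩ (g : G)
  replace hx : x ∈ K₀ ⊔ cj (g : G) K₀ := hx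
  replace he : cj (g : G) K₀ = cj x K₀ := he
  have hmapN : ∀ (a : N) (L : Subgroup N), (L.map (MulAut.conj a).toMonoidHom).map N.subtype = cj (a : G) (L.map N.subtype) := by
    intro a L
    rw [Subgroup.map_map, cj, Subgroup.map_map]
    congr 1
  rw [hK₀, ← hmapN, ← Subgroup.map_sup] at hx
  obtain ⟨xN, hxN, rfl⟩ := hx
  have hmapn : ∀ (a : N) (L : Subgroup N), (L.map ν).map (MulAut.conj (ν a)).toMonoidHom = (L.map (MulAut.conj a).toMonoidHom).map ν := by
    intro a L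
    rw [Subgroup.map_map, Subgroup.map_map]
    congr 1
  have hKK : K = (K.comap ν).map ν := (Subgroup.map_comap_eq_self_of_surjective (QuotientGroup.mk'_surjective _) _).symm
  refine ⟨ν xN, ?_, ?_⟩
  · rw [hKK, hmapn, ← Subgroup.map_sup]
    exact ⟨xN, hxN, rfl⟩
  · rw [hKK, hmapn, hmapn]
    congr 1
    refine Subgroup.map_injective N.subtype_injective ?_
    rw [hmapN, hmapN]
    exact he

/-- Necessity: normalizers cover normalizers of images. -/
theorem normalizer_map (A : Subgroup G) [A.Normal] (K : Subgroup G) (hK : Cfsg.IsPronormal K) :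
    Subgroup.normalizer ((K.map (QuotientGroup.mk' A) : Subgroup (G ⧸ A)) : Set (G ⧸ A)) ≤
      (Subgroup.normalizer (K : Set G)).map (QuotientGroup.mk' A) := by
  set π := QuotientGroup.mk' A
  intro gb hgb
  obtain ⟨g, rfl⟩ := QuotientGroup.mk'_surjective A gb
  obtain ⟨x, hx, he⟩ := hK g
  have hxK : π x ∈ K.map π := by
    have h1 : K ⊔ cj g K ≤ (K.map π).comap π := by
      refine sup_le (Subgroup.le_comap_map _ _) ?_
      rintro _ ⟨k, hk, rfl⟩
      show π (g * k * g⁻¹) ∈ K.map π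
      rw [map_mul, map_mul, map_inv]
      exact (Subgroup.mem_normalizer_iff.1 hgb _).1 ⟨k, hk, rfl⟩
    exact h1 hx
  obtain ⟨k, hk, hkx⟩ := hxK
  have h2 : x⁻¹ * g ∈ Subgroup.normalizer (K : Set G) := by
    rw [← cj_eq_iff, ← cj_cj, show cj g K = cj x K from he, cj_cj, inv_mul_cancel, cj_one]
  refine ⟨k * (x⁻¹ * g), Subgroup.mul_mem _ (Subgroup.le_normalizer hk) h2, ?_⟩
  rw [map_mul, map_mul, map_inv, hkx, mul_inv_cancel_left]

theorem sylow_le_normalizer (A : Subgroup G) [A.Normal] (T : Subgroup G)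
    (hT : ∃ P : Sylow p ↥A, (P : Subgroup ↥A).map A.subtype = T) :
    ∃ S : Sylow p G, (S : Subgroup G) ≤ Subgroup.normalizer (T : Set G) := by
  obtain ⟨P₀, hP₀⟩ := hT
  obtain ⟨S, hS⟩ := (hP₀ ▸ P₀.2.map _ : IsPGroup p T).exists_le_sylow
  refine ⟨S, ?_⟩
  have hSA : ((S : Subgroup G).subgroupOf A) = P₀ := by
    refine P₀.3 (S.2.comap_subtype) fun a ha => hS (hP₀ ▸ ⟨a, ha, rfl⟩)
  intro s hs
  rw [← hP₀, ← hSA, Subgroup.subgroupOf_map_subtype, ← cj_eq_iff]
  have h1 : cj s ((S : Subgroup G) ⊓ A) = cj s (S : Subgroup G) ⊓ cj s A :=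
    Subgroup.map_inf _ _ _ (MulAut.conj s).injective
  rw [h1, cj_eq_self hs, cj_eq_iff.2 (by rw [Subgroup.normalizer_eq_top]; trivial)]

end CfsgLib.FGS.PronormalExt
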