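import Mathlib
import Cfsg.Agent.Lib.Solvable.Frobenius
import Cfsg.Agent.Lib.Solvable.FrobeniusComplement
import Cfsg.Agent.Lib.Solvable.FrobeniusTheorem
import Cfsg.Agent.Lib.Solvable.UniqueSubgroup
import Cfsg.Agent.Lib.FGS.FPFComplement

/-!
Kernels of Frobenius groups whose complement has a non-cyclic Sylow subgroup have square order.
-/

set_option autoImplicit false

open scoped Matrix

namespace CfsgLib.FGS.QuatKernel

universe u

theorem isSquare_card : ∀ (n : ℕ) (K : Type u) [CommGroup K] [Finite K], Nat.card K = n → Odd n →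
    ∀ a b : K →* K, (∀ x, a (a x) = x⁻¹) → (∀ x, b (a x) = (a (b x))⁻¹) → Function.Injective b →
    IsSquare n := by
  intro n
  induction n using Nat.strong_induction_on with
  | _ n ih =>
  intro K _ _ hn hodd a b ha hab hb
  rcases eq_or_ne n 1 with rfl | hn1
  · exact ⟨1, rfl⟩
  obtain ⟨r, hr, hrn⟩ := Nat.exists_prime_and_dvd hn1
  haveI : Fact r.Prime := ⟨hr⟩
  let f : K →* K := powMonoidHom r
  have hmul := Subgroup.card_mul_index f.ker
  rw [Subgroup.index_ker, hn] at hmul
  have inv : ∀ (S : Subgroup K) (_ : ∀ x ∈ S, a x ∈ S) (_ : ∀ x ∈ S, b x ∈ S), Nat.card S < n →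
      Odd (Nat.card S) → IsSquare (Nat.card S) := fun S hSa hSb hlt ho =>
    ih _ hlt S rfl ho ((a.comp S.subtype).codRestrict S fun x => hSa x x.2)
      ((b.comp S.subtype).codRestrict S fun x => hSb x x.2)
      (fun x => Subtype.ext (ha x)) (fun x => Subtype.ext (hab x))
      (fun x y h => Subtype.ext (hb (congrArg Subtype.val h)))
  obtain ⟨z, hz⟩ := exists_prime_orderOf_dvd_card' (G := K) r (hn.symm ▸ hrn)
  have hzker : z ∈ f.ker := by
    rw [MonoidHom.mem_ker]; show z ^ r = 1; rw [← hz, pow_orderOf_eq_one]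
  by_cases hel : f.ker = ⊤
  swap
  · have hker1 : 1 < Nat.card f.ker := by
      rw [Subgroup.one_lt_card_iff_ne_bot]
      intro h
      rw [h, Subgroup.mem_bot] at hzker
      rw [hzker, orderOf_one] at hz
      exact hr.ne_one hz.symm
    have hkern : Nat.card f.ker < n := by
      rw [← hn]
      exact (Subgroup.card_le_card_group f.ker).lt_of_ne fun h => hel (Subgroup.eq_top_of_card_eq _ h)
    have hran : Nat.card f.range < n := by
      rw [← hmul]
      exact lt_mul_of_one_lt_left Nat.card_pos hker1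
    have ho := Nat.odd_mul.1 (hmul.symm ▸ hodd)
    obtain ⟨s, hs⟩ := inv f.ker (fun x hx => by
      rw [MonoidHom.mem_ker] at hx ⊢
      show (a x) ^ r = 1
      rw [← map_pow, show x ^ r = 1 from hx, map_one]) (fun x hx => by
      rw [MonoidHom.mem_ker] at hx ⊢
      show (b x) ^ r = 1
      rw [← map_pow, show x ^ r = 1 from hx, map_one]) hkern ho.1
    obtain ⟨t, ht⟩ := inv f.range (fun x hx => by
      obtain ⟨y, rfl⟩ := hx
      exact ⟨a y, (map_pow a y r).symm⟩) (fun x hx => by
      obtain ⟨y, rfl⟩ := hx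
      exact ⟨b y, (map_pow b y r).symm⟩) hran ho.2
    exact ⟨s * t, by rw [← hmul, hs, ht]; ring⟩
  have hexp : ∀ x : K, x ^ r = 1 := fun x => (MonoidHom.mem_ker).1 (hel ▸ Subgroup.mem_top x : x ∈ f.ker)
  have hr2 : r ≠ 2 := fun h => (Nat.not_even_iff_odd.2 hodd) (even_iff_two_dvd.2 (h ▸ hrn))
  have hKp : IsPGroup r K := fun x => ⟨1, by rw [pow_one]; exact hexp x⟩
  obtain ⟨d, hd⟩ := IsPGroup.iff_card.1 hKp
  rw [hn] at hd
  have hroot : ∀ x : K, x * x = 1 → x = 1 := fun x hx =>
    orderOf_eq_one_iff.1 (Nat.eq_one_of_dvd_coprimes ((Nat.coprime_primes Nat.prime_two hr).2 (Ne.symm hr2))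
      (orderOf_dvd_of_pow_eq_one (by rw [pow_two]; exact hx)) (orderOf_dvd_of_pow_eq_one (hexp x)))
  by_cases hsq : ∃ c : ZMod r, c * c = -1
  · -- eigenspaces
    obtain ⟨c, hc⟩ := hsq
    set k := c.val with hk
    have hk2 : ∀ x : K, (x ^ k) ^ k = x⁻¹ := by
      intro x
      have h1 : r ∣ k * k + 1 := by
        rw [← ZMod.natCast_eq_zero_iff]
        push_cast
        rw [hk, ZMod.natCast_val, ZMod.cast_id, hc, neg_add_cancel]
      obtain ⟨j, hj⟩ := h1
      refine eq_inv_of_mul_eq_one_left ?_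
      rw [← pow_mul, ← pow_succ, hj, pow_mul, hexp, one_pow]
    let E : Subgroup K := MonoidHom.eqLocus a (powMonoidHom k)
    let E' : Subgroup K := MonoidHom.eqLocus a (powMonoidHom k)⁻¹
    have mE : ∀ x, x ∈ E ↔ a x = x ^ k := fun x => Iff.rfl
    have mE' : ∀ x, x ∈ E' ↔ a x = (x ^ k)⁻¹ := fun x => Iff.rfl
    have hbE : ∀ x ∈ E, b x ∈ E' := fun x hx => by
      rw [mE']
      have := hab x
      rw [(mE x).1 hx, map_pow] at this
      rw [this, inv_inv]
    have hbE' : ∀ x ∈ E', b x ∈ E := fun x hx => by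
      rw [mE]
      have := hab x
      rw [(mE' x).1 hx, map_inv, map_pow] at this
      exact (inv_injective this).symm
    have hcardEE : Nat.card E = Nat.card E' := le_antisymm
      (Nat.card_le_card_of_injective (fun x : E => (⟨b x, hbE x x.2⟩ : E'))
        fun x y h => Subtype.ext (hb (congrArg Subtype.val h)))
      (Nat.card_le_card_of_injective (fun x : E' => (⟨b x, hbE' x x.2⟩ : E))
        fun x y h => Subtype.ext (hb (congrArg Subtype.val h)))
    have hbij : Function.Bijective (fun p : E × E' => (p.1 : K) * p.2) := by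
      refine ⟨fun p q h => ?_, fun v => ?_⟩
      · have h1 : (q.1 : K)⁻¹ * p.1 = q.2 * (p.2 : K)⁻¹ := by
          rw [inv_mul_eq_iff_eq_mul, ← mul_assoc, eq_mul_inv_iff_mul_eq]; exact h
        have hm : (q.1 : K)⁻¹ * p.1 ∈ E := E.mul_mem (E.inv_mem q.1.2) p.1.2
        have hm' : (q.1 : K)⁻¹ * p.1 ∈ E' := h1 ▸ E'.mul_mem q.2.2 (E'.inv_mem p.2.2)
        have h2 : ((q.1 : K)⁻¹ * p.1) ^ k = 1 := hroot _ (by
          have := ((mE _).1 hm).symm.trans ((mE' _).1 hm')
          nth_rewrite 1 [this]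
          exact inv_mul_cancel _)
        have h3 : (q.1 : K)⁻¹ * p.1 = 1 := inv_eq_one.1 (by rw [← hk2, h2, one_pow])
        refine Prod.ext (Subtype.ext (inv_mul_eq_one.1 h3).symm) (Subtype.ext ?_)
        rw [h3] at h1
        exact (mul_inv_eq_one.1 h1.symm).symm
      · obtain ⟨j, hj⟩ := (Nat.Prime.odd_of_ne_two hr hr2)
        have hh : ∀ w : K, (w ^ (j + 1)) ^ 2 = w := fun w => by
          rw [← pow_mul, show (j + 1) * 2 = r + 1 by omega, pow_succ, hexp, one_mul]
        set w₁ := v * ((a v) ^ k)⁻¹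
        set w₂ := v * (a v) ^ k
        have h1 : a w₁ = w₁ ^ k := by
          simp only [w₁, map_mul, map_inv, map_pow, ha, mul_pow, inv_pow, hk2, inv_inv]
          rw [mul_comm]
        have h2 : a w₂ = (w₂ ^ k)⁻¹ := by
          simp only [w₂, map_mul, map_pow, ha, mul_pow, hk2, inv_pow, mul_inv_rev, inv_inv]
        refine ⟨(⟨w₁ ^ (j + 1), E.pow_mem h1 _⟩, ⟨w₂ ^ (j + 1), E'.pow_mem h2 _⟩), ?_⟩
        show w₁ ^ (j + 1) * w₂ ^ (j + 1) = v
        rw [← mul_pow, show w₁ * w₂ = v ^ 2 by simp only [w₁, w₂]; rw [mul_mul_mul_comm, inv_mul_cancel, mul_one, pow_two],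
          ← pow_mul, mul_comm, pow_mul, hh]
    refine ⟨Nat.card E, ?_⟩
    rw [← hn, ← Nat.card_congr (Equiv.ofBijective _ hbij), Nat.card_prod, hcardEE]
  · -- free action of an element of order four
    classical
    haveI := Fintype.ofFinite K
    have hainj : Function.Injective a := fun x y h => by
      have := congrArg a h
      rw [ha, ha, inv_inj] at this
      exact this
    let σ : Equiv.Perm K := Equiv.ofBijective a (Finite.injective_iff_bijective.1 hainj)
    have hσ : ∀ x, σ x = a x := fun _ => rfl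
    have h4 : σ ^ 2 ^ 2 = 1 := Equiv.ext fun x => by
      show σ (σ (σ (σ x))) = x
      simp only [hσ]
      rw [ha, ha, inv_inv]
    have hsupp : σ.support = Finset.univ.erase 1 := by
      ext x
      simp only [Equiv.Perm.mem_support, hσ, Finset.mem_erase, Finset.mem_univ, and_true]
      refine ⟨fun h e => h (by rw [e, map_one]), fun h e => h (hroot x ?_)⟩
      have := congrArg a e
      rw [ha, e] at this
      nth_rewrite 1 [← this]
      exact inv_mul_cancel x
    have hall : ∀ m ∈ σ.cycleType, 4 ∣ m := by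
      intro m hm
      obtain ⟨c, τ, hστ, hdj0, hc, hcm⟩ := Equiv.Perm.mem_cycleType_iff.1 hm
      subst hcm
      have hdvd : c.support.card ∣ 2 ^ 2 := (Equiv.Perm.dvd_of_mem_cycleType hm).trans (orderOf_dvd_of_pow_eq_one h4)
      obtain ⟨i, hi, hie⟩ := (Nat.dvd_prime_pow Nat.prime_two).1 hdvd
      have h2 := hc.two_le_card_support
      have : i = 1 ∨ i = 2 := by
        rcases i with _ | _ | _ | i
        · omega
        · exact Or.inl rfl
        · exact Or.inr rfl
        · omega
      rcases this with rfl | rfl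
      · exfalso
        obtain ⟨x, hx⟩ := hc.nonempty_support
        have hdj := hdj0
        have hxc : c (c x) = x := by
          have h0 := pow_orderOf_eq_one c
          rw [hc.orderOf, hie] at h0
          exact Equiv.Perm.ext_iff.1 h0 x
        have hfx : ∀ y ∈ c.support, (c * τ) y = c y := fun y hy => by
          rw [Equiv.Perm.mul_apply, (hdj y).resolve_left (Equiv.Perm.mem_support.1 hy)]
        have hx1 : (c * τ) x = c x := hfx x hx
        have hx2 : (c * τ) ((c * τ) x) = x := by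
          rw [hx1, hfx _ (Equiv.Perm.apply_mem_support.2 hx), hxc]
        have hne : x ≠ 1 := by
          intro e
          have := Equiv.Perm.mem_support.1 hx
          apply this
          rw [← hx1, ← hστ, hσ, e, map_one]
        rw [← hστ, hσ, hσ, ha] at hx2
        exact hne (hroot x (by nth_rewrite 1 [← hx2]; exact inv_mul_cancel x))
      · exact hie ▸ dvd_rfl
    have hsum := Equiv.Perm.sum_cycleType σ
    rw [hsupp, Finset.card_erase_of_mem (Finset.mem_univ _), Finset.card_univ, ← Nat.card_eq_fintype_card, hn] at hsum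
    have h4n : 4 ∣ n - 1 := hsum ▸ Multiset.dvd_sum hall
    have hr3 : r % 4 = 3 := by
      by_contra h
      have hsq' : IsSquare (-1 : ZMod r) := ZMod.exists_sq_eq_neg_one_iff.2 h
      obtain ⟨c, hc⟩ := hsq'
      exact hsq ⟨c, hc.symm⟩
    rcases Nat.even_or_odd d with ⟨e, he⟩ | ⟨e, he⟩
    · exact ⟨r ^ e, by rw [hd, he, pow_add]⟩
    · exfalso
      have : n % 4 = 3 := by
        rw [hd, he, pow_succ, pow_mul, Nat.mul_mod, Nat.pow_mod, Nat.pow_mod r 2, hr3]
        norm_num
      omega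

/-- A Frobenius complement with a non-cyclic Sylow subgroup has a kernel of odd square order. -/
theorem odd_square {L : Type*} [Group L] [Finite L] (H : Subgroup L) (hF : Cfsg.IsFrobeniusComplement H)
    (hZ : ∃ (p : ℕ) (_ : Fact p.Prime) (P : Sylow p H), ¬ IsCyclic P) :
    Odd (Nat.card (Cfsg.frobeniusKernel H)) ∧ IsSquare (Nat.card (Cfsg.frobeniusKernel H)) := by
  obtain ⟨N, hN, hNn, hcomp⟩ := CfsgLib.Solvable.frobenius_theorem hF
  haveI := hNn
  have hcard : Nat.card (Cfsg.frobeniusKernel H) = Nat.card N := Nat.card_congr (Equiv.setCongr hN.symm)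
  have hNb : N ≠ ⊥ := by
    intro h
    rw [h, Subgroup.isComplement'_bot_left] at hcomp
    exact hF.2.1 hcomp
  have hfpf := (CfsgLib.Solvable.isFrobeniusComplement_iff_fpf hcomp hNb hF.1).1 hF
  have hnorm : H ≤ Subgroup.normalizer (N : Set L) := by rw [Subgroup.normalizer_eq_top]; exact le_top
  obtain ⟨p, hp, P, hP⟩ := hZ
  have hmap : IsPGroup p ((P : Subgroup H).map H.subtype) := P.2.map _
  have hu : ∀ x y : P, orderOf x = p → orderOf y = p → x ∈ Subgroup.zpowers y := by
    intro x y hx hy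
    let e := Subgroup.equivMapOfInjective (P : Subgroup H) H.subtype H.subtype_injective
    have := CfsgLib.Solvable.mem_zpowers_of_fpf_pGroup hNb
      (le_trans (Subgroup.map_subtype_le _) hnorm)
      (CfsgLib.Solvable.fpf_mono (Subgroup.map_subtype_le _) hfpf) hmap
      (x := e x) (y := e y) (by rw [MulEquiv.orderOf_eq]; exact hx) (by rw [MulEquiv.orderOf_eq]; exact hy)
    obtain ⟨i, hi⟩ := this
    exact ⟨i, e.injective (by rw [map_zpow]; exact hi)⟩
  rcases CfsgLib.Solvable.isCyclic_or_quaternion P.2 hu with h | ⟨rfl, m, ⟨E⟩⟩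
  · exact absurd h hP
  obtain ⟨k, rfl⟩ : ∃ k, m = k + 1 := by
    rcases m with _ | k
    · haveI : IsCyclic (QuaternionGroup (2 ^ 0)) := QuaternionGroup.quaternionGroup_one_isCyclic
      exact absurd (isCyclic_of_surjective E.symm E.symm.surjective) hP
    · exact ⟨k, rfl⟩
  let ι : QuaternionGroup (2 ^ (k + 1)) →* L :=
    (H.subtype.comp (P : Subgroup H).subtype).comp E.symm.toMonoidHom
  have hι : Function.Injective ι :=
    H.subtype_injective.comp ((Subgroup.subtype_injective _).comp E.symm.injective)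
  have hιH : ∀ q, ι q ∈ H := fun q => ((E.symm q : P) : H).2
  set i₀ : QuaternionGroup (2 ^ (k + 1)) := QuaternionGroup.a ((2 ^ k : ℕ) : ZMod (2 * 2 ^ (k + 1)))
  set j₀ : QuaternionGroup (2 ^ (k + 1)) := QuaternionGroup.xa 0
  have hq1 : i₀ * i₀ = QuaternionGroup.a ((2 ^ (k + 1) : ℕ) : ZMod (2 * 2 ^ (k + 1))) := by
    rw [QuaternionGroup.a_mul_a, ← Nat.cast_add]; congr 2; rw [pow_succ]; omega
  have ht : orderOf (i₀ * i₀) = 2 := by
    haveI : NeZero (2 ^ (k + 1)) := ⟨by positivity⟩
    rw [hq1, ← QuaternionGroup.a_one_pow, orderOf_pow, QuaternionGroup.orderOf_a_one,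
      Nat.gcd_mul_left_left, Nat.mul_div_cancel _ (by positivity)]
  have htinv := CfsgLib.Solvable.conj_eq_inv_of_fpf hnorm hfpf (s := ι (i₀ * i₀)) (hιH _)
    (by rw [orderOf_injective ι hι, ht])
  have hNc : ∀ x y : N, x * y = y * x := by
    intro x y
    have h1 := htinv _ (N.mul_mem x.2 y.2)
    have h2 : ι (i₀ * i₀) * ((x : L) * y) * (ι (i₀ * i₀))⁻¹ = (x : L)⁻¹ * (y : L)⁻¹ := by
      rw [← htinv x x.2, ← htinv y y.2]; group
    rw [h2, mul_inv_rev] at h1
    have h3 := congrArg Inv.inv h1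
    rw [mul_inv_rev, mul_inv_rev, inv_inv, inv_inv] at h3
    exact Subtype.ext h3.symm
  have hodd : Odd (Nat.card N) := by
    have hc := CfsgLib.Solvable.coprime_card_of_fpf hnorm hfpf
    have h2 : 2 ∣ Nat.card H := by
      have h := Subgroup.orderOf_coe (⟨ι (i₀ * i₀), hιH _⟩ : H)
      have h' := orderOf_dvd_natCard (⟨ι (i₀ * i₀), hιH _⟩ : H)
      rw [← h] at h'
      change orderOf (ι (i₀ * i₀)) ∣ Nat.card H at h'
      rwa [orderOf_injective ι hι, ht] at h'
    rw [Nat.odd_iff]
    rcases Nat.mod_two_eq_zero_or_one (Nat.card N) with h | h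
    · exact absurd (Nat.eq_one_of_dvd_coprimes hc h2 (Nat.dvd_of_mod_eq_zero h)) (by norm_num)
    · exact h
  letI : CommGroup N := { (inferInstance : Group N) with mul_comm := hNc }
  rw [hcard]
  refine ⟨hodd, isSquare_card _ N rfl hodd (MulAut.conjNormal (ι i₀)).toMonoidHom
    (MulAut.conjNormal (ι j₀)).toMonoidHom ?_ ?_ (MulEquiv.injective _)⟩
  · intro x
    apply Subtype.ext
    show ι i₀ * (ι i₀ * x * (ι i₀)⁻¹) * (ι i₀)⁻¹ = (x : L)⁻¹
    rw [← htinv x x.2, map_mul]; group
  · intro x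
    apply Subtype.ext
    show ι j₀ * (ι i₀ * x * (ι i₀)⁻¹) * (ι j₀)⁻¹ = (ι i₀ * (ι j₀ * x * (ι j₀)⁻¹) * (ι i₀)⁻¹)⁻¹
    have hji : j₀ * i₀ = i₀ * i₀ * (i₀ * j₀) := by
      rw [hq1, QuaternionGroup.xa_mul_a, QuaternionGroup.a_mul_xa, QuaternionGroup.a_mul_xa]
      congr 1
      have h4 : ((2 ^ k : ℕ) : ZMod (2 * 2 ^ (k + 1))) * 4 = 0 := by
        rw [show (4 : ZMod (2 * 2 ^ (k + 1))) = ((4 : ℕ) : ZMod (2 * 2 ^ (k + 1))) by norm_num, ← Nat.cast_mul,
          show 2 ^ k * 4 = 2 * 2 ^ (k + 1) by ring, ZMod.natCast_self]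
      have h5 : ((2 ^ (k + 1) : ℕ) : ZMod (2 * 2 ^ (k + 1))) = ((2 ^ k : ℕ) : ZMod (2 * 2 ^ (k + 1))) * 2 := by
        rw [pow_succ]; push_cast; ring
      rw [h5]
      linear_combination h4
    have hji' : ι j₀ * ι i₀ = ι (i₀ * i₀) * (ι i₀ * ι j₀) := by rw [← map_mul, hji, map_mul, map_mul _ i₀ j₀]
    have hy : ι i₀ * (ι j₀ * x * (ι j₀)⁻¹) * (ι i₀)⁻¹ ∈ N :=
      hNn.conj_mem _ (hNn.conj_mem _ x.2 _) _
    rw [← htinv _ hy]
    calc ι j₀ * (ι i₀ * x * (ι i₀)⁻¹) * (ι j₀)⁻¹ = (ι j₀ * ι i₀) * x * (ι j₀ * ι i₀)⁻¹ := by group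
      _ = _ := by rw [hji']; group

/-- The elements of `Q₈` other than `1` have `-1` among their first two powers. -/
theorem quat_two (g : QuaternionGroup 2) (hg : g ≠ 1) :
    g = QuaternionGroup.a 2 ∨ g * g = QuaternionGroup.a 2 := by
  cases g with
  | a i => revert i hg; decide
  | xa i => revert i hg; decide

/-- `Q₈` acts fixed-point-freely on some abelian group of order `k²`, for each odd `k`. -/
theorem exists_action : ∀ k : ℕ, Odd k → ∃ (V : Type) (_ : AddCommGroup V) (_ : Finite V)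
    (ρ : QuaternionGroup 2 → V →+ V), Nat.card V = k * k ∧ (∀ v, ρ 1 v = v) ∧
      (∀ g h v, ρ (g * h) v = ρ g (ρ h v)) ∧ (∀ g, g ≠ 1 → ∀ v, ρ g v = v → v = 0) := by
  intro k
  induction k using Nat.recOnMul with
  | zero => intro h; simp at h
  | one =>
    intro _
    exact ⟨PUnit, inferInstance, inferInstance, fun _ => 0, by simp, fun _ => rfl, fun _ _ _ => rfl,
      fun _ _ _ _ => rfl⟩
  | prime r hr =>
    intro hodd
    haveI : Fact r.Prime := ⟨hr⟩
    obtain ⟨x, y, hxy⟩ := ZMod.sq_add_sq r (-1)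
    set A : Matrix (Fin 2) (Fin 2) (ZMod r) := !![0, -1; 1, 0] with hA
    set B : Matrix (Fin 2) (Fin 2) (ZMod r) := !![x, y; y, -x] with hB
    have hA2 : A * A = -1 := by
      ext i j; fin_cases i <;> fin_cases j <;> simp [hA, Matrix.mul_apply, Fin.sum_univ_two]
    have hB2 : B * B = -1 := by
      ext i j; fin_cases i <;> fin_cases j <;> simp [hB, Matrix.mul_apply, Fin.sum_univ_two] <;>
        first | linear_combination hxy | linear_combination -hxy | linear_combination (0 : ZMod r) * hxy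
    have hBA : A * B = B * A ^ 3 := by
      have hA3 : A ^ 3 = -A := by rw [pow_succ, pow_two, hA2, neg_one_mul]
      rw [hA3]
      ext i j; fin_cases i <;> fin_cases j <;> simp [hA, hB, Matrix.mul_apply, Fin.sum_univ_two]
    have hA4 : A ^ 4 = 1 := by rw [show 4 = 2 * 2 by norm_num, pow_mul, pow_two A, hA2, pow_two, neg_mul_neg, one_mul]
    have hmod : ∀ a b : ℕ, (a : ZMod (2 * 2)) = b → A ^ a = A ^ b := fun a b h => by
      rw [← Nat.div_add_mod a 4, ← Nat.div_add_mod b 4, pow_add, pow_add, pow_mul, pow_mul, hA4, one_pow, one_pow,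
        show a % 4 = b % 4 from (ZMod.natCast_eq_natCast_iff' a b 4).1 h]
    have hAB : ∀ n : ℕ, A ^ n * B = B * A ^ (3 * n) := by
      intro n
      induction n with
      | zero => simp
      | succ n ih => rw [pow_succ, mul_assoc, hBA, ← mul_assoc, ih, mul_assoc, ← pow_add, Nat.mul_succ]
    let M : QuaternionGroup 2 → Matrix (Fin 2) (Fin 2) (ZMod r) := fun g => match g with
      | QuaternionGroup.a i => A ^ i.val
      | QuaternionGroup.xa i => B * A ^ i.val
    have three : (3 : ZMod (2 * 2)) = -1 := by decide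
    have hM : ∀ g h, M (g * h) = M g * M h := by
      rintro (i | i) (j | j)
      · show A ^ (i + j).val = A ^ i.val * A ^ j.val
        rw [← pow_add]; exact hmod _ _ (by push_cast; simp)
      · show B * A ^ (j - i).val = A ^ i.val * (B * A ^ j.val)
        rw [← mul_assoc (A ^ i.val), hAB, mul_assoc, ← pow_add]
        congr 1
        refine hmod _ _ ?_
        push_cast
        simp only [ZMod.natCast_val, ZMod.cast_id', id_eq, three]
        ring
      · show B * A ^ (i + j).val = B * A ^ i.val * A ^ j.val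
        rw [mul_assoc, ← pow_add]
        congr 1
        exact hmod _ _ (by push_cast; simp)
      · show A ^ (((2 : ℕ) : ZMod (2 * 2)) + j - i).val = B * A ^ i.val * (B * A ^ j.val)
        rw [mul_assoc B, ← mul_assoc (A ^ i.val), hAB, mul_assoc B, ← mul_assoc B B, hB2, ← hA2, ← pow_two A, ← pow_add, ← pow_add]
        refine hmod _ _ ?_
        push_cast
        simp only [ZMod.natCast_val, ZMod.cast_id', id_eq, three]
        ring
    refine ⟨Fin 2 → ZMod r, inferInstance, inferInstance, fun g => (Matrix.mulVecLin (M g)).toAddMonoidHom,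
      ?_, fun v => ?_, fun g h v => ?_, fun g hg v hv => ?_⟩
    · rw [Nat.card_fun, Nat.card_zmod, Nat.card_fin, pow_two]
    · show M 1 *ᵥ v = v
      rw [show M 1 = A ^ (0 : ZMod (2 * 2)).val from rfl, ZMod.val_zero, pow_zero, Matrix.one_mulVec]
    · show M (g * h) *ᵥ v = M g *ᵥ (M h *ᵥ v)
      rw [hM, Matrix.mulVec_mulVec]
    · change M g *ᵥ v = v at hv
      have h2 : M (QuaternionGroup.a 2) *ᵥ v = v := by
        rcases quat_two g hg with h | h
        · rw [← h]; exact hv
        · rw [← h, hM, ← Matrix.mulVec_mulVec, hv, hv]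
      change A ^ 2 *ᵥ v = v at h2
      rw [pow_two, hA2, Matrix.neg_mulVec, Matrix.one_mulVec] at h2
      funext i
      have h3 := congrFun h2 i
      rw [Pi.neg_apply] at h3
      have h4 : (2 : ZMod r) * v i = 0 := by linear_combination -h3
      refine (mul_eq_zero.1 h4).resolve_left fun h => ?_
      rw [show (2 : ZMod r) = ((2 : ℕ) : ZMod r) by norm_num] at h
      have := (Nat.prime_dvd_prime_iff_eq hr Nat.prime_two).1 ((ZMod.natCast_eq_zero_iff _ _).1 h)
      subst this
      exact absurd hodd (by decide)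
  | mul a b iha ihb =>
    intro hab
    obtain ⟨V, _, _, ρ, hV, h1, hm, hf⟩ := iha (Nat.odd_mul.1 hab).1
    obtain ⟨W, _, _, σ, hW, h1', hm', hf'⟩ := ihb (Nat.odd_mul.1 hab).2
    exact ⟨V × W, inferInstance, inferInstance, fun g => (ρ g).prodMap (σ g),
      by rw [Nat.card_prod, hV, hW]; ring,
      fun v => Prod.ext (h1 _) (h1' _), fun g h v => Prod.ext (hm g h _) (hm' g h _),
      fun g hg v hv => Prod.ext (hf g hg _ (congrArg Prod.fst hv)) (hf' g hg _ (congrArg Prod.snd hv))⟩

end CfsgLib.FGS.QuatKernel
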