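import Mathlib
import Cfsg.Agent.Lib.Transfer.Frobenius
import Cfsg.Agent.Lib.Transfer.Basic
import Cfsg.Agent.Lib.FGS.NoDihedral
import Cfsg.Agent.Lib.FGS.Basics

/-!
# Groups whose real 2-elements are central
-/

namespace CfsgLib.FGS.RealCentral

open Subgroup
open scoped commutatorElement

universe u

/-- An odd-order automorphism of a 2-group fixing all real elements is trivial. -/
theorem aut_trivial_aux : ∀ (n : ℕ) {P : Type u} [Group P] [Finite P], Nat.card P = n →
    IsPGroup 2 P → ∀ (σ : P ≃* P) (m : ℕ), Odd m → (∀ t, (⇑σ)^[m] t = t) →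
    (∀ u : P, IsConj u u⁻¹ → σ u = u) → ∀ t, σ t = t := by
  intro n
  induction n using Nat.strong_induction_on with
  | _ n ih =>
  intro P _ _ hn hP σ m hm hσm hreal
  -- proper invariant subgroups are fixed
  have hinv : ∀ H : Subgroup P, (∀ x ∈ H, σ x ∈ H) → H ≠ ⊤ → ∀ x ∈ H, σ x = x := by
    intro H hH hne x hx
    have hmap : H.map σ.toMonoidHom = H := Subgroup.eq_of_le_of_card_ge
      (map_le_iff_le_comap.2 fun y hy => hH y hy)
      (card_map_of_injective σ.injective).ge
    let τ : H ≃* H := (σ.subgroupMap H).trans (MulEquiv.subgroupCongr hmap)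
    have hτ : ∀ y : H, ((τ y : H) : P) = σ y := fun y => rfl
    have hlt : Nat.card H < n := by
      rw [← hn]
      exact lt_of_le_of_ne (card_le_card_group H) fun h => hne ((card_eq_iff_eq_top H).1 h)
    have hit : ∀ (j : ℕ) (y : H), (((⇑τ)^[j] y : H) : P) = (⇑σ)^[j] (y : P) := by
      intro j
      induction j with
      | zero => intro y; rfl
      | succ j ihj => intro y; rw [Function.iterate_succ_apply', Function.iterate_succ_apply', hτ, ihj]
    have := ih _ hlt rfl (hP.to_subgroup H) τ m hm (fun y => Subtype.ext (by rw [hit, hσm]))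
      (fun u hu => Subtype.ext (by
        rw [hτ]
        exact hreal _ (by simpa using MonoidHom.map_isConj H.subtype hu))) ⟨x, hx⟩
    exact (hτ ⟨x, hx⟩).symm.trans (congrArg Subtype.val this)
  by_contra hcon
  push Not at hcon
  obtain ⟨t₀, ht₀⟩ := hcon
  -- `P` is generated by the `t⁻¹ σ t`
  have hD : closure (Set.range fun t : P => t⁻¹ * σ t) = ⊤ := by
    by_contra hne
    set D := closure (Set.range fun t : P => t⁻¹ * σ t) with hDdef
    have hDinv : ∀ x ∈ D, σ x ∈ D := by
      intro x hx
      have h1 : D.map σ.toMonoidHom ≤ D := by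
        rw [hDdef, MonoidHom.map_closure, closure_le]
        rintro _ ⟨_, ⟨t, rfl⟩, rfl⟩
        exact subset_closure ⟨σ t, by simp⟩
      exact h1 ⟨x, hx, rfl⟩
    refine ht₀ ?_
    have hd := hinv D hDinv hne _ (subset_closure ⟨t₀, rfl⟩)
    set d := t₀⁻¹ * σ t₀ with hddef
    have hs : σ t₀ = t₀ * d := by rw [hddef]; group
    have hit : ∀ j : ℕ, (⇑σ)^[j] t₀ = t₀ * d ^ j := by
      intro j
      induction j with
      | zero => simp
      | succ j ihj =>
        rw [Function.iterate_succ_apply', ihj, map_mul, map_pow, hd, hs, pow_succ', mul_assoc]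
    have hdm : d ^ m = 1 := by simpa [hσm] using (hit m).symm
    obtain ⟨k, hk⟩ := hP d
    have hd1 : d = 1 := by
      rw [← orderOf_eq_one_iff]
      exact Nat.eq_one_of_dvd_coprimes (Nat.Coprime.pow_left k (Nat.coprime_two_left.2 hm))
        (orderOf_dvd_of_pow_eq_one hk) (orderOf_dvd_of_pow_eq_one hdm)
    rw [hs, hd1, mul_one]
  haveI : Group.IsNilpotent P := hP.isNilpotent
  haveI : Nontrivial P := ⟨⟨σ t₀, t₀, ht₀⟩⟩
  -- the derived subgroup is fixed and central
  have hcne : _root_.commutator P ≠ ⊤ := (Group.IsSolvable.commutator_lt_top_of_nontrivial P).ne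
  have hfixc : ∀ c ∈ _root_.commutator P, σ c = c := hinv _ (fun c hc => by
    have : (_root_.commutator P).map σ.toMonoidHom ≤ _root_.commutator P := by
      rw [_root_.commutator_def, map_commutator]
      exact commutator_mono le_top le_top
    exact this ⟨c, hc, rfl⟩) hcne
  have hcc : ∀ a b : P, ⁅a, b⁆ ∈ _root_.commutator P := fun a b => by
    rw [_root_.commutator_def]; exact commutator_mem_commutator (mem_top a) (mem_top b)
  have hcentral : ∀ c ∈ _root_.commutator P, ∀ t : P, t * c = c * t := by
    intro c hc t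
    have hle : (⊤ : Subgroup P) ≤ centralizer ({c} : Set P) := by
      rw [← hD, closure_le]
      rintro _ ⟨s, rfl⟩
      have h1 : σ ⁅s, c⁆ = ⁅s, c⁆ := hfixc _ (hcc s c)
      rw [map_commutatorElement, hfixc c hc, commutatorElement_def, commutatorElement_def] at h1
      have h2 : σ s * c * (σ s)⁻¹ = s * c * s⁻¹ := mul_right_cancel h1
      rw [SetLike.mem_coe, mem_centralizer_singleton_iff]
      calc s⁻¹ * σ s * c = s⁻¹ * (σ s * c * (σ s)⁻¹) * σ s := by group
        _ = s⁻¹ * (s * c * s⁻¹) * σ s := by rw [h2]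
        _ = c * (s⁻¹ * σ s) := by group
    exact mem_centralizer_singleton_iff.1 (hle (mem_top t))
  -- no fixed points modulo the derived subgroup
  let F : Subgroup P :=
    { carrier := {x | σ x = x}
      one_mem' := map_one σ
      mul_mem' := fun {a b} ha hb => by
        show σ (a * b) = a * b
        rw [map_mul, show σ a = a from ha, show σ b = b from hb]
      inv_mem' := fun {a} ha => by
        show σ a⁻¹ = a⁻¹
        rw [map_inv, show σ a = a from ha] }
  let δ : Abelianization P →* Abelianization P :=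
    { toFun := fun q => q⁻¹ * Abelianization.map σ.toMonoidHom q
      map_one' := by simp
      map_mul' := fun a b => by rw [map_mul, mul_inv, mul_mul_mul_comm] }
  have hδof : ∀ t : P, δ (Abelianization.of t) = Abelianization.of (t⁻¹ * σ t) := fun t => by
    change (Abelianization.of t)⁻¹ * Abelianization.map σ.toMonoidHom (Abelianization.of t) = _
    rw [map_mul, map_inv, Abelianization.map_of]
    rfl
  have hδsurj : Function.Surjective δ := by
    rw [← MonoidHom.range_eq_top, eq_top_iff]
    intro q _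
    obtain ⟨t, rfl⟩ := QuotientGroup.mk_surjective q
    have hle : (⊤ : Subgroup P) ≤ δ.range.comap Abelianization.of := by
      rw [← hD, closure_le]
      rintro _ ⟨s, rfl⟩
      exact ⟨Abelianization.of s, hδof s⟩
    exact hle (mem_top t)
  have hδinj : Function.Injective δ := Finite.injective_iff_surjective.2 hδsurj
  have hfix : ∀ f : P, σ f = f → f ∈ _root_.commutator P := fun f hf => by
    have h1 : δ (Abelianization.of f) = δ 1 := by
      rw [hδof, hf, inv_mul_cancel, map_one, map_one]
    have h2 := hδinj h1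
    rw [← Abelianization.ker_of, MonoidHom.mem_ker]
    exact h2
  -- squares lie in the derived subgroup
  have hsq : ∀ t : P, t ^ 2 ∈ _root_.commutator P := by
    let S2 : Subgroup P := (powMonoidHom 2 : Abelianization P →* _).range.comap Abelianization.of
    have hS2inv : ∀ x ∈ S2, σ x ∈ S2 := by
      rintro x ⟨q, hq⟩
      refine ⟨Abelianization.map σ.toMonoidHom q, ?_⟩
      have := congrArg (Abelianization.map σ.toMonoidHom) hq
      rw [powMonoidHom_apply] at this ⊢
      rw [map_pow, Abelianization.map_of] at this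
      exact this
    have hne : S2 ≠ ⊤ := by
      intro h
      have hsurj : Function.Surjective (powMonoidHom 2 : Abelianization P →* _) := fun q => by
        obtain ⟨t, rfl⟩ := QuotientGroup.mk_surjective q
        exact (h ▸ mem_top t : t ∈ S2)
      have hinj := Finite.injective_iff_surjective.2 hsurj
      haveI : Nontrivial (Abelianization P) := by
        by_contra hnt
        rw [not_nontrivial_iff_subsingleton] at hnt
        apply hcne
        rw [eq_top_iff]
        intro t _
        rw [← Abelianization.ker_of, MonoidHom.mem_ker]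
        exact Subsingleton.elim _ _
      have hA : IsPGroup 2 (Abelianization P) := hP.to_quotient _
      obtain ⟨k, hk0, hk⟩ := hA.nontrivial_iff_card.1 inferInstance
      obtain ⟨q, hq⟩ := exists_prime_orderOf_dvd_card' (G := Abelianization P) 2
        (hk ▸ dvd_pow_self 2 hk0.ne')
      have h1 : q = 1 := hinj (by
        rw [powMonoidHom_apply, powMonoidHom_apply, one_pow, ← hq, pow_orderOf_eq_one])
      rw [h1, orderOf_one] at hq
      omega
    intro t
    exact hfix _ (hinv S2 hS2inv hne _ ⟨Abelianization.of t, by simp⟩)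
  -- every element is fixed
  refine ht₀ ?_
  by_cases hu : t₀ ∈ _root_.commutator P
  · exact hfixc _ hu
  let f : P →* P :=
    { toFun := fun t => ⁅t₀, t⁆
      map_one' := commutatorElement_one_right _
      map_mul' := fun a b => by
        have := hcentral _ (hcc t₀ b) a
        simp only [commutatorElement_def] at this ⊢
        calc t₀ * (a * b) * t₀⁻¹ * (a * b)⁻¹
            = t₀ * a * t₀⁻¹ * ((t₀ * b * t₀⁻¹ * b⁻¹) * a⁻¹) := by group
          _ = t₀ * a * t₀⁻¹ * (a⁻¹ * (t₀ * b * t₀⁻¹ * b⁻¹)) := by
            congr 1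
            calc (t₀ * b * t₀⁻¹ * b⁻¹) * a⁻¹
                = a⁻¹ * (a * (t₀ * b * t₀⁻¹ * b⁻¹)) * a⁻¹ := by group
              _ = a⁻¹ * ((t₀ * b * t₀⁻¹ * b⁻¹) * a) * a⁻¹ := by rw [this]
              _ = a⁻¹ * (t₀ * b * t₀⁻¹ * b⁻¹) := by group
          _ = _ := by group }
  have hf : ∀ t, f t = ⁅t₀, t⁆ := fun _ => rfl
  by_cases hsurj : _root_.commutator P ≤ f.range
  · obtain ⟨t, ht⟩ := hsurj (hsq t₀)
    rw [hf, commutatorElement_def] at ht
    refine hreal t₀ (isConj_iff.2 ⟨t⁻¹, ?_⟩)
    have h1 : t * t₀⁻¹ * t⁻¹ = t₀ := by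
      calc t * t₀⁻¹ * t⁻¹ = t₀⁻¹ * (t₀ * t * t₀⁻¹ * t⁻¹) := by group
        _ = t₀⁻¹ * t₀ ^ 2 := by rw [ht]
        _ = t₀ := by rw [pow_two, inv_mul_cancel_left]
    rw [inv_inv]
    nth_rewrite 1 [← h1]
    group
  · let R : Subgroup P :=
      { carrier := {v | ∀ t, ⁅v, t⁆ ∈ f.range}
        one_mem' := fun t => by rw [commutatorElement_one_left]; exact one_mem _
        mul_mem' := fun {a b} ha hb t => by
          have e : ⁅a * b, t⁆ = a * ⁅b, t⁆ * a⁻¹ * ⁅a, t⁆ := by
            simp only [commutatorElement_def]; group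
          rw [e, hcentral _ (hcc b t) a, mul_inv_cancel_right]
          exact mul_mem (hb t) (ha t)
        inv_mem' := fun {a} ha t => by
          have e : ⁅a⁻¹, t⁆ = a⁻¹ * ⁅a, t⁆⁻¹ * a := by
            simp only [commutatorElement_def]; group
          rw [e, hcentral _ (inv_mem (hcc a t)) a⁻¹, inv_mul_cancel_right]
          exact inv_mem (ha t) }
    refine hinv R ?_ ?_ t₀ fun t => ⟨t, rfl⟩
    · intro v hv t
      have h1 : ⁅σ v, t⁆ = σ ⁅v, σ.symm t⁆ := by rw [map_commutatorElement, MulEquiv.apply_symm_apply]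
      rw [h1, hfixc _ (hcc _ _)]
      exact hv _
    · intro h
      refine hsurj ?_
      rw [_root_.commutator_def, commutator_le]
      intro a _ b _
      exact (h ▸ mem_top a : a ∈ R) b

/-- If all real elements of a Sylow 2-subgroup are central in the group there is a normal
2-complement. -/
theorem hasNormalPComplement_of_real_central {G : Type u} [Group G] [Finite G] (S : Sylow 2 G)
    (h : ∀ s : ↥(S : Subgroup G), IsConj s s⁻¹ → (s : G) ∈ center G) :
    Cfsg.HasNormalPComplement 2 G := by
  refine CfsgLib.Transfer.hasNormalPComplement_of_frobeniusCond fun Q hQ g hg hcop => ?_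
  obtain ⟨S', hS'⟩ := hQ.exists_le_sylow
  obtain ⟨c, rfl⟩ := MulAction.exists_smul_eq G S S'
  rw [Sylow.coe_subgroup_smul] at hS'
  have hreal : ∀ u : Q, IsConj u u⁻¹ → (u : G) ∈ center G := by
    intro u hu
    have hmemS : ∀ w : Q, c⁻¹ * (w : G) * c ∈ (S : Subgroup G) := fun w => by
      have := CfsgLib.FGS.mem_conj_smul.1 (hS' w.2)
      exact this
    let e : Q →* ↥(S : Subgroup G) :=
      { toFun := fun w => ⟨c⁻¹ * (w : G) * c, hmemS w⟩
        map_one' := Subtype.ext (by simp)
        map_mul' := fun a b => Subtype.ext (by push_cast; group) }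
    have hc : c⁻¹ * (u : G) * c ∈ center G := h (e u) (by simpa using MonoidHom.map_isConj e hu)
    have : (u : G) = c⁻¹ * (u : G) * c := by
      calc (u : G) = c * (c⁻¹ * (u : G) * c) * c⁻¹ := by group
        _ = c⁻¹ * (u : G) * c * c * c⁻¹ := by rw [mem_center_iff.1 hc c]
        _ = c⁻¹ * (u : G) * c := by group
    rw [this]; exact hc
  let σ : Q ≃* Q := MulEquiv.ofBijective
    ({ toFun := fun w => ⟨g * (w : G) * g⁻¹, (mem_normalizer_iff.1 hg w).1 w.2⟩
       map_one' := Subtype.ext (by simp)
       map_mul' := fun a b => Subtype.ext (by push_cast; group) } : Q →* Q)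
    (Finite.injective_iff_bijective.1 fun a b hab =>
      Subtype.ext (mul_left_cancel (mul_right_cancel (congrArg Subtype.val hab))))
  have hσ : ∀ w : Q, ((σ w : Q) : G) = g * (w : G) * g⁻¹ := fun _ => rfl
  have hit : ∀ (j : ℕ) (w : Q), (((⇑σ)^[j] w : Q) : G) = g ^ j * (w : G) * (g ^ j)⁻¹ := by
    intro j
    induction j with
    | zero => intro w; simp
    | succ j ihj => intro w; rw [Function.iterate_succ_apply', hσ, ihj, pow_succ']; group
  have key := aut_trivial_aux _ rfl hQ σ (orderOf g) (Nat.coprime_two_right.1 hcop)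
    (fun w => Subtype.ext (by rw [hit, pow_orderOf_eq_one]; simp))
    (fun u hu => Subtype.ext (by
      rw [hσ, mem_center_iff.1 (hreal u hu) g, mul_inv_cancel_right]))
  rw [mem_centralizer_iff]
  intro w hw
  have := congrArg Subtype.val (key ⟨w, hw⟩)
  rw [hσ] at this
  calc w * g = g * w * g⁻¹ * g := by rw [show g * w * g⁻¹ = w from this]
    _ = g * w := by group

/-- A group with a normal 2-complement is solvable, granting the odd order theorem. -/
theorem isSolvable_of_hasNormalPComplement {G : Type u} [Group G] [Finite G]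
    (hFT : ∀ (K : Type u) [Group K] [Finite K], Odd (Nat.card K) → Group.IsSolvable K)
    (h : Cfsg.HasNormalPComplement 2 G) : Group.IsSolvable G := by
  haveI : Fact (Nat.Prime 2) := ⟨Nat.prime_two⟩
  obtain ⟨P, N, hN, hc⟩ := h
  haveI := hN
  have hodd : Odd (Nat.card N) := by
    rw [← Nat.not_even_iff_odd, even_iff_two_dvd]
    intro h2
    exact P.not_dvd_index (hc.index_eq_card ▸ h2)
  have hq : IsPGroup 2 (G ⧸ N) := by
    obtain ⟨k, hk⟩ := IsPGroup.iff_card.1 P.2
    exact IsPGroup.of_card (n := k) (by rw [← Subgroup.index_eq_card, hc.symm.index_eq_card, hk])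
  haveI := hFT N hodd
  haveI : Group.IsNilpotent (G ⧸ N) := hq.isNilpotent
  exact Group.isSolvable_of_ker_le_range N.subtype (QuotientGroup.mk' N) (by simp)

/-- If no 2-element inverts an element of odd prime order, the Sylow 2-subgroup is normal. -/
theorem exists_twoGroup_odd_index {G : Type u} [Group G] [Finite G]
    (h : ∀ (p : ℕ) (x s : G) (a : ℕ), p.Prime → Odd p → orderOf x = p → s ^ 2 ^ a = 1 →
      s * x * s⁻¹ ≠ x⁻¹) : ∃ N : Subgroup G, N.Normal ∧ IsPGroup 2 N ∧ Odd N.index := by
  have : Fact (Nat.Prime 2) := ⟨Nat.prime_two⟩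
  obtain ⟨N, hN, hmax⟩ := (Set.toFinite {N : Subgroup G | N.Normal ∧ IsPGroup 2 N}).exists_le_maximal
    (a := ⊥) ⟨inferInstance, IsPGroup.of_bot⟩
  obtain ⟨hNn, hN2⟩ := hmax.1
  haveI := hNn
  refine ⟨N, hNn, hN2, ?_⟩
  rw [Subgroup.index_eq_card, ← Nat.not_even_iff_odd, even_iff_two_dvd]
  intro h2
  obtain ⟨t, ht⟩ := exists_prime_orderOf_dvd_card' 2 h2
  obtain ⟨y, hy1, hyodd, hyinv⟩ := CfsgLib.Invol.exists_inverted_odd t ht fun M hM hM2 htM => by
    have hcomap : IsPGroup 2 (M.comap (QuotientGroup.mk' N)) :=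
      hM2.comap_of_ker_isPGroup _ (by rwa [QuotientGroup.ker_mk'])
    have hle : N ≤ M.comap (QuotientGroup.mk' N) := fun n hn => by
      rw [mem_comap, QuotientGroup.mk'_apply, (QuotientGroup.eq_one_iff n).2 hn]
      exact one_mem _
    obtain ⟨g, rfl⟩ := QuotientGroup.mk_surjective t
    have : g ∈ N := hmax.2 ⟨inferInstance, hcomap⟩ hle htM
    rw [(QuotientGroup.eq_one_iff g).2 this, orderOf_one] at ht
    omega
  obtain ⟨p, x, s, a, hp, hpo, hxo, hs, hinv⟩ := exists_inverted_lift hN2 ht hy1 hyodd hyinv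
  exact h p x s a hp hpo hxo hs hinv

/-- S4193, granting the odd order theorem. -/
theorem real_two_parts {G : Type u} [Group G] [Finite G]
    (hFT : ∀ (K : Type u) [Group K] [Finite K], Odd (Nat.card K) → Group.IsSolvable K) (a : ℕ)
    (h : ∀ x : G, IsConj x x⁻¹ → x ∉ center G →
      ((centralizer ({x} : Set G)).index).factorization 2 = a)
    (S : Sylow 2 G) (hS : ∀ s : ↥(S : Subgroup G), IsConj s s⁻¹ → s ∈ center ↥(S : Subgroup G)) :
    Group.IsSolvable G ∧
      Cfsg.HasNormalPComplement 2 ↥(closure {g : G | ∃ k : ℕ, orderOf g = 2 ^ k}) := by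
  haveI : Fact (Nat.Prime 2) := ⟨Nat.prime_two⟩
  set K := closure {g : G | ∃ k : ℕ, orderOf g = 2 ^ k} with hK
  rcases Nat.eq_zero_or_pos a with rfl | ha
  · have hno : ∀ (p : ℕ) (x s : G) (b : ℕ), p.Prime → Odd p → orderOf x = p → s ^ 2 ^ b = 1 →
        s * x * s⁻¹ ≠ x⁻¹ := by
      intro p x s b hp hodd hx _ hinv
      have hx2 : x ^ 2 ≠ 1 := by
        intro h2
        have := orderOf_dvd_of_pow_eq_one h2
        rw [hx, Nat.prime_dvd_prime_iff_eq hp Nat.prime_two] at this
        rw [this] at hodd
        exact absurd hodd (by decide)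
      have hxc : x ∉ center G := by
        intro hc
        rw [mem_center_iff.1 hc s, mul_inv_cancel_right] at hinv
        exact hx2 (by rw [pow_two]; nth_rewrite 2 [hinv]; exact mul_inv_cancel x)
      have h2 : ¬ 2 ∣ (centralizer ({x} : Set G)).index := fun hd => by
        have h0 := h x (isConj_iff.2 ⟨s, hinv⟩) hxc
        exact absurd h0 (Nat.Prime.factorization_pos_of_dvd Nat.prime_two
          index_ne_zero_of_finite hd).ne'
      obtain ⟨R⟩ : Nonempty (Sylow 2 (centralizer ({x} : Set G))) := inferInstance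
      obtain ⟨T, hT⟩ := (R.isPGroup'.map (centralizer ({x} : Set G)).subtype).exists_le_sylow
      refine hx2 (sq_eq_one_of_inverted T ?_ hinv)
      have hcard : Nat.card (T : Subgroup G) ≤
          Nat.card ((R : Subgroup _).map (centralizer ({x} : Set G)).subtype) := by
        rw [card_map_of_injective (centralizer ({x} : Set G)).subtype_injective,
          Sylow.card_eq_multiplicity, Sylow.card_eq_multiplicity,
          ← (centralizer ({x} : Set G)).card_mul_index,
          Nat.factorization_mul Nat.card_pos.ne' index_ne_zero_of_finite, Finsupp.add_apply,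
          Nat.factorization_eq_zero_of_not_dvd h2, add_zero]
      rw [← Subgroup.eq_of_le_of_card_ge hT hcard]
      exact map_subtype_le _
    obtain ⟨N, hN, hN2, hodd⟩ := exists_twoGroup_odd_index hno
    haveI := hN
    have hKN : K ≤ N := by
      rw [hK, closure_le]
      rintro g ⟨k, hk⟩
      rw [SetLike.mem_coe, ← QuotientGroup.eq_one_iff, ← orderOf_eq_one_iff]
      refine Nat.eq_one_of_dvd_coprimes ((Nat.Coprime.pow_left k (Nat.coprime_two_left.2 hodd)))
        (hk ▸ orderOf_map_dvd (QuotientGroup.mk' N) g) ?_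
      rw [Subgroup.index_eq_card]
      exact orderOf_dvd_natCard _
    refine ⟨?_, ?_⟩
    · haveI : Group.IsNilpotent N := hN2.isNilpotent
      haveI := hFT (G ⧸ N) (by rwa [← Subgroup.index_eq_card])
      exact Group.isSolvable_of_ker_le_range N.subtype (QuotientGroup.mk' N) (by simp)
    · have hK2 : IsPGroup 2 K := hN2.to_le hKN
      refine ⟨default, ⊥, inferInstance, ?_⟩
      have htop : ((default : Sylow 2 K) : Subgroup K) = ⊤ :=
        (default : Sylow 2 K).is_maximal' (hK2.to_subgroup ⊤) le_top |>.symm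
      rw [htop]
      exact isComplement'_bot_left.2 rfl
  · have hreal : ∀ s : ↥(S : Subgroup G), IsConj s s⁻¹ → (s : G) ∈ center G := by
      intro s hs
      by_contra hc
      have h0 := h (s : G) (by simpa using MonoidHom.map_isConj (S : Subgroup G).subtype hs) hc
      have hle : (S : Subgroup G) ≤ centralizer ({(s : G)} : Set G) := fun y hy =>
        mem_centralizer_singleton_iff.2 (congrArg Subtype.val (mem_center_iff.1 (hS s hs) ⟨y, hy⟩))
      rw [Nat.factorization_eq_zero_of_not_dvd
        fun hd => S.not_dvd_index (hd.trans (index_dvd_of_le hle))] at h0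
      omega
    have hnpc := hasNormalPComplement_of_real_central S hreal
    exact ⟨isSolvable_of_hasNormalPComplement hFT hnpc,
      CfsgLib.Transfer.hasNormalPComplement_subgroup hnpc K⟩

end CfsgLib.FGS.RealCentral
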