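import Mathlib
import Cfsg.Prelude.Def_PLocal
import Cfsg.Agent.Lib.PGroup.Basic

/-!
Regular `p`-groups: the power map identities of P. Hall.
-/

open scoped commutatorElement

namespace CfsgLib.FGS

variable {G : Type*} [Group G] [Finite G] {p : ℕ} [Fact p.Prime]

/-- In a regular `p`-group `a ^ q = b ^ q` iff `(a⁻¹ b) ^ q = 1`, for a power `q` of `p`. -/
theorem regular_pow_eq_iff_aux (hG : Cfsg.IsRegularPGroup p G) :
    ∀ H : Subgroup G, ∀ a ∈ H, ∀ b ∈ H, ∀ k : ℕ,
      a ^ p ^ k = b ^ p ^ k ↔ (a⁻¹ * b) ^ p ^ k = 1 := by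
  intro H
  induction hn : Nat.card H using Nat.strong_induction_on generalizing H with
  | _ n IH =>
  intro a ha b hb k
  set q := p ^ k with hq
  by_cases hc : Commute a b
  · rw [hc.inv_left.mul_pow, inv_pow, inv_mul_eq_one]
  -- the key step: if `(u⁻¹ u^v) ^ q = 1` for generators `u, v`, the derived group has exponent `q`
  have key : ∀ u v : G, u ∈ H → v ∈ H → ¬ Commute u v →
      (v⁻¹ * u * v) ^ q = u ^ q → Subgroup.closure ({u, v} : Set G) ≤ H →
      ∀ c ∈ Cfsg.powerClosure p k ⁅Subgroup.closure ({u, v} : Set G), Subgroup.closure ({u, v} : Set G)⁆,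
        c = 1 := by
    intro u v hu hv huv hpow hle
    set L := Subgroup.closure ({u, v} : Set G) with hL
    have huL : u ∈ L := Subgroup.subset_closure (Or.inl rfl)
    have hvL : v ∈ L := Subgroup.subset_closure (Or.inr rfl)
    let u' : L := ⟨u, huL⟩
    let v' : L := ⟨v, hvL⟩
    have hgen : Subgroup.closure ({u', v'} : Set L) = ⊤ := by
      refine Subgroup.map_injective L.subtype_injective ?_
      rw [MonoidHom.map_closure, Set.image_pair, ← MonoidHom.range_eq_map, Subgroup.range_subtype]
      rfl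
    have hu' : Subgroup.zpowers u' ≠ ⊤ := fun e => by
      obtain ⟨i, hi⟩ := Subgroup.mem_zpowers_iff.1 (e.symm ▸ Subgroup.mem_top v' : v' ∈ Subgroup.zpowers u')
      have e2 : u ^ i = v := congrArg Subtype.val hi
      exact huv (by rw [← e2]; exact (Commute.refl u).zpow_right i)
    obtain ⟨M, hM, hle'⟩ := (eq_top_or_exists_le_coatom (Subgroup.zpowers u')).resolve_left hu'
    have hLp : IsPGroup p L := hG.1.to_subgroup L
    have := CfsgLib.PGroup.normal_of_isCoatom hLp hM
    have huM : u' ∈ M := hle' (Subgroup.mem_zpowers u')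
    set H1 := M.map L.subtype with hH1
    have hlt : Nat.card H1 < n := by
      refine lt_of_lt_of_le ?_ (hn ▸ Nat.card_le_card_of_injective _ (Subgroup.inclusion_injective hle))
      rw [hH1, Subgroup.card_map_of_injective L.subtype_injective]
      exact lt_of_le_of_ne (Subgroup.card_le_card_group M) fun e => hM.1 (Subgroup.eq_top_of_card_eq M e)
    have hIH := IH _ hlt H1 rfl
    have hcomm : commutator L ≤ M := by
      rw [commutator_def, Subgroup.commutator_le]
      intro g _ h _
      have hi := CfsgLib.PGroup.index_of_isCoatom hLp hM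
      have : IsCyclic (L ⧸ M) := isCyclic_of_prime_card (p := p) hi
      rw [← QuotientGroup.eq_one_iff]
      change QuotientGroup.mk' M ⁅g, h⁆ = 1
      rw [map_commutatorElement, commutatorElement_eq_one_iff_mul_comm]
      exact IsMulCommutative.is_comm.comm _ _
    let T : Subgroup L :=
      { carrier := {x | x ∈ M ∧ ((x : G)) ^ q = 1}
        one_mem' := ⟨M.one_mem, one_pow q⟩
        mul_mem' := fun {x y} hx hy => by
          refine ⟨M.mul_mem hx.1 hy.1, ?_⟩
          have h1 : ((x : G))⁻¹ ^ q = (y : G) ^ q := by rw [inv_pow, hx.2, hy.2, inv_one]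
          have h2 := (hIH _ ⟨x⁻¹, M.inv_mem hx.1, rfl⟩ _ ⟨y, hy.1, rfl⟩ k).1 h1
          simpa using h2
        inv_mem' := fun {x} hx => ⟨M.inv_mem hx.1, by
          rw [Subgroup.coe_inv, inv_pow, hx.2, inv_one]⟩ }
    have hTn : T.Normal := ⟨fun x hx g => ⟨Subgroup.Normal.conj_mem inferInstance x hx.1 g, by
      rw [Subgroup.coe_mul, Subgroup.coe_mul, Subgroup.coe_inv, conj_pow, hx.2]
      simp⟩⟩
    have huvT : u'⁻¹ * (v'⁻¹ * u' * v') ∈ T := by
      have hm : v'⁻¹ * u' * v' ∈ M := by
        simpa using Subgroup.Normal.conj_mem (inferInstance : M.Normal) u' huM v'⁻¹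
      refine ⟨M.mul_mem (M.inv_mem huM) hm, ?_⟩
      exact (hIH u ⟨u', huM, rfl⟩ (v⁻¹ * u * v) ⟨v'⁻¹ * u' * v', hm, rfl⟩ k).1 hpow.symm
    have hT : commutator L ≤ T := by
      let π := QuotientGroup.mk' T
      have huvq : π u' * π v' = π v' * π u' := by
        have h1 : π (u'⁻¹ * (v'⁻¹ * u' * v')) = 1 := (QuotientGroup.eq_one_iff _).2 huvT
        simp only [map_mul, map_inv] at h1
        calc π u' * π v' = π v' * π u' * ((π u')⁻¹ * ((π v')⁻¹ * π u' * π v')) := by group
          _ = π v' * π u' := by rw [h1, mul_one]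
      have hall : ∀ x : L, ∀ y : L, π x * π y = π y * π x := by
        have h2 : ∀ x ∈ ({u', v'} : Set L), ∀ y ∈ ({u', v'} : Set L), π x * π y = π y * π x := by
          rintro x (rfl | rfl) y (rfl | rfl)
          exacts [rfl, huvq, huvq.symm, rfl]
        have h3 : ∀ x : L, ∀ y ∈ ({u', v'} : Set L), π x * π y = π y * π x := by
          intro x y hy
          have : (⊤ : Subgroup L) ≤ (Subgroup.centralizer {π y}).comap π := by
            rw [← hgen, Subgroup.closure_le]
            exact fun z hz => Subgroup.mem_centralizer_singleton_iff.2 (h2 z hz y hy)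
          exact Subgroup.mem_centralizer_singleton_iff.1 (this (Subgroup.mem_top x))
        intro x y
        have : (⊤ : Subgroup L) ≤ (Subgroup.centralizer {π x}).comap π := by
          rw [← hgen, Subgroup.closure_le]
          exact fun z hz => Subgroup.mem_centralizer_singleton_iff.2 (h3 x z hz).symm
        exact (Subgroup.mem_centralizer_singleton_iff.1 (this (Subgroup.mem_top y))).symm
      rw [commutator_def, Subgroup.commutator_le]
      intro g _ h _
      rw [← QuotientGroup.eq_one_iff]
      change π ⁅g, h⁆ = 1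
      rw [map_commutatorElement, commutatorElement_eq_one_iff_mul_comm]
      exact hall g h
    intro c hcmem
    have : Cfsg.powerClosure p k ⁅L, L⁆ ≤ ⊥ := by
      rw [Cfsg.powerClosure, Subgroup.closure_le]
      rintro _ ⟨x, hx, rfl⟩
      rw [← Subgroup.map_subtype_commutator] at hx
      obtain ⟨y, hy, rfl⟩ := hx
      exact (hT hy).2
    exact Subgroup.mem_bot.1 (this hcmem)
  have hcl : ∀ u v : G, u ∈ H → v ∈ H → Subgroup.closure ({u, v} : Set G) ≤ H := fun u v hu hv =>
    (Subgroup.closure_le H).2 (Set.insert_subset hu (Set.singleton_subset_iff.2 hv))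
  constructor
  · intro h
    have h1 : (b⁻¹ * a * b) ^ q = a ^ q := by
      have e : (b⁻¹ * a * b) ^ q = b⁻¹ * a ^ q * b := by simpa using conj_pow (i := q) (a := b⁻¹) (b := a)
      rw [e, h, mul_assoc, ((Commute.refl b).pow_left q).eq, ← mul_assoc, inv_mul_cancel, one_mul]
    have h2 := key a b ha hb hc h1 (hcl a b ha hb)
    obtain ⟨c, hc', he⟩ := hG.2 a⁻¹ b k
    have hcleq : Subgroup.closure ({a⁻¹, b} : Set G) = Subgroup.closure ({a, b} : Set G) := by
      refine le_antisymm ((Subgroup.closure_le _).2 ?_) ((Subgroup.closure_le _).2 ?_)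
      · rintro x (rfl | rfl)
        exacts [Subgroup.inv_mem _ (Subgroup.subset_closure (Or.inl rfl)), Subgroup.subset_closure (Or.inr rfl)]
      · intro x hx
        rcases hx with rfl | rfl
        · have h3 := Subgroup.inv_mem _
            (Subgroup.subset_closure (Set.mem_insert x⁻¹ ({b} : Set G)))
          rwa [inv_inv] at h3
        · exact Subgroup.subset_closure (Or.inr rfl)
    rw [hcleq] at hc'
    rw [← hq] at he
    rw [he, h2 c hc', mul_one, inv_pow, h, inv_mul_cancel]
  · intro h
    set d := a⁻¹ * b with hd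
    have hdH : d ∈ H := H.mul_mem (H.inv_mem ha) hb
    have hcd : ¬ Commute d a := fun hcd => hc (by
      have := (Commute.refl a).mul_right hcd.symm
      simpa [hd] using this)
    have h1 : (a⁻¹ * d * a) ^ q = d ^ q := by
      have e : (a⁻¹ * d * a) ^ q = a⁻¹ * d ^ q * a := by simpa using conj_pow (i := q) (a := a⁻¹) (b := d)
      rw [e, h, mul_one, inv_mul_cancel]
    have h2 := key d a hdH ha hcd h1 (hcl d a hdH ha)
    obtain ⟨c, hc', he⟩ := hG.2 a d k
    rw [Set.pair_comm a d] at hc'
    rw [← hq] at he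
    have hb' : b = a * d := by simp [hd]
    rw [hb', he, h2 c hc', h, mul_one, mul_one]

/-- In a regular `p`-group `a ^ q = b ^ q` iff `(a⁻¹ b) ^ q = 1`, for a power `q` of `p`. -/
theorem regular_pow_eq_iff (hG : Cfsg.IsRegularPGroup p G) (a b : G) (k : ℕ) :
    a ^ p ^ k = b ^ p ^ k ↔ (a⁻¹ * b) ^ p ^ k = 1 :=
  regular_pow_eq_iff_aux hG ⊤ a (Subgroup.mem_top a) b (Subgroup.mem_top b) k

/-- In a regular `p`-group the elements killed by a power of `p` form a subgroup. -/
theorem regular_pow_mul (hG : Cfsg.IsRegularPGroup p G) {a b : G} {k : ℕ}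
    (ha : a ^ p ^ k = 1) (hb : b ^ p ^ k = 1) : (a * b) ^ p ^ k = 1 := by
  have h : a⁻¹ ^ p ^ k = b ^ p ^ k := by rw [inv_pow, ha, hb, inv_one]
  simpa using (regular_pow_eq_iff hG a⁻¹ b k).1 h

end CfsgLib.FGS
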