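import Mathlib

/-!
Coprime lifting of fixed points, and fixed-point-free action of an element of order three
on a module: the acting group of coprime order is centralized.
-/

set_option autoImplicit false

namespace CfsgLib.FGS.S3

/-- A coset of an invariant subgroup, fixed by an automorphism of coprime prime order,
contains a fixed point. -/
theorem exists_fixed_mul {G : Type*} [Group G] [Finite G] (e : MulAut G) {q : ℕ} [hq : Fact q.Prime]
    (he : e ^ q = 1) (K : Subgroup G) (hK : ∀ k ∈ K, e k ∈ K) (hcop : ¬ q ∣ Nat.card K) {x : G}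
    (hx : x⁻¹ * e x ∈ K) : ∃ k ∈ K, e (x * k) = x * k := by
  classical
  have := Fintype.ofFinite K
  let f : K → K := fun k => ⟨x⁻¹ * e x * e k, K.mul_mem hx (hK _ k.2)⟩
  have hf : Function.Injective f := fun a b h => Subtype.ext (by simpa [f] using h)
  let π : Equiv.Perm K := Equiv.ofBijective f (Finite.injective_iff_bijective.1 hf)
  have hiter : ∀ (n : ℕ) (k : K), x * ((π ^ n) k : G) = (e ^ n) (x * k) := by
    intro n
    induction n with
    | zero => intro k; simp
    | succ n ih =>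
      intro k
      rw [pow_succ', pow_succ', Equiv.Perm.mul_apply, MulAut.mul_apply, ← ih k, map_mul]
      show x * (x⁻¹ * e x * e ((π ^ n) k : G)) = _
      group
  have hπ : π ^ q ^ 1 = 1 := Equiv.ext fun k => Subtype.ext (mul_left_cancel (a := x) (by
    rw [pow_one, hiter, he]; rfl))
  obtain ⟨k, hk⟩ := Equiv.Perm.exists_fixed_point_of_prime (p := q)
    (by rwa [← Nat.card_eq_fintype_card]) hπ
  exact ⟨k, k.2, by have := hiter 1 k; rw [pow_one, pow_one, hk] at this; exact this.symm⟩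

theorem pow_eq_one_of_mem {G : Type*} [Group G] {H : Subgroup G} {x : G} (hx : x ∈ H) :
    x ^ Nat.card H = 1 :=
  congrArg Subtype.val (pow_card_eq_one' (x := (⟨x, hx⟩ : H)))

theorem orderOf_dvd_card_of_mem {G : Type*} [Group G] {H : Subgroup G} {x : G} (hx : x ∈ H) :
    orderOf x ∣ Nat.card H := orderOf_dvd_of_pow_eq_one (pow_eq_one_of_mem hx)

theorem mem_of_pow_mem {G : Type*} [Group G] {H : Subgroup G} {x : G} {n : ℕ}
    (hn : n.Coprime (orderOf x)) (h : x ^ n ∈ H) : x ∈ H := by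
  obtain ⟨m, hm⟩ := exists_pow_eq_self_of_coprime hn
  exact hm ▸ H.pow_mem h m

variable {V : Type*} [AddCommGroup V] {Γ : Type*} [Group Γ] [DistribMulAction Γ V]

theorem eq_zero_of_fixed_of_range {z : Γ} (hz : (orderOf z).Coprime (Nat.card V)) {v w : V}
    (hw : w = z • v - v) (hfix : z • w = w) : w = 0 := by
  have h1 : ∀ k : ℕ, z ^ k • v = v + k • w := by
    intro k
    induction k with
    | zero => simp
    | succ k ih =>
      rw [pow_succ', mul_smul, ih, smul_add, succ_nsmul, smul_comm z k w, hfix,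
        show z • v = v + w by rw [hw]; abel]
      abel
  have h2 := h1 (orderOf z)
  rw [pow_orderOf_eq_one, one_smul, left_eq_add] at h2
  have h3 : addOrderOf w ∣ Nat.gcd (orderOf z) (Nat.card V) :=
    Nat.dvd_gcd (addOrderOf_dvd_iff_nsmul_eq_zero.2 h2) (addOrderOf_dvd_natCard w)
  rw [hz, Nat.dvd_one, AddMonoid.addOrderOf_eq_one_iff] at h3
  exact h3

/-- The subgroup of elements acting trivially on a set of vectors. -/
def fixer (Γ : Type*) [Group Γ] {V : Type*} [AddCommGroup V] [DistribMulAction Γ V] (W : Set V) :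
    Subgroup Γ := ⨅ v ∈ W, MulAction.stabilizer Γ v

theorem mem_fixer {W : Set V} {g : Γ} : g ∈ fixer Γ W ↔ ∀ v ∈ W, g • v = v := by
  simp [fixer]

variable {s : Γ}

theorem ident (hs3 : s ^ 3 = 1) (hs : ∀ v : V, v + s • v + s • s • v = 0) (x a b : Γ)
    (ha : a = x * (s * x⁻¹ * s⁻¹)) (hb : b = s * a * s⁻¹) (v : V) :
    v - (a * b * a⁻¹) • v = (a * b * a) • v - (a * b * a * b) • v := by
  have eq1 : ∀ (y a b : Γ), a = y * (s * y⁻¹ * s⁻¹) → b = s * a * s⁻¹ → ∀ w : V,
      a • s • w - (a * b) • s • w = (a * b) • w - w := by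
    intro y a b ha hb w
    have h1 := congrArg (fun t => y • t) (hs (y⁻¹ • w))
    simp only [smul_add, smul_zero, ← mul_smul, mul_inv_cancel, one_smul] at h1
    have h2 : s • s • w = -w - s • w := eq_sub_iff_add_eq.2 (eq_neg_iff_add_eq_zero.2 (by rw [← hs w]; abel))
    rw [show y * (s * y⁻¹) = a * s by rw [ha]; group,
      show y * (s * (s * y⁻¹)) = a * b * (s * s) by rw [hb, ha]; group, mul_smul a, mul_smul (a * b),
      mul_smul s, h2, smul_sub, smul_neg] at h1
    rw [← sub_eq_zero] at h1 ⊢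
    rw [← h1]; abel
  set c := s * b * s⁻¹ with hc
  have hs3' : s * s * s = 1 := by rw [← hs3, pow_three, mul_assoc]
  have habc : a * b * c = 1 := by
    calc a * b * c = x * (s * s * s) * x⁻¹ * (s * s * s)⁻¹ := by rw [hc, hb, ha]; group
      _ = 1 := by rw [hs3']; group
  have hbc : b * c = a⁻¹ := eq_inv_of_mul_eq_one_right (by rw [← mul_assoc, habc])
  have hA := eq1 x a b ha hb
  have hB := eq1 (s * x * s⁻¹) b c (by rw [hb, ha]; group) hc
  have hsD : ∀ w, s • (a • w - (a * b) • w) = (b * c) • w - w := fun w => by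
    rw [← hB w, smul_sub, ← mul_smul, ← mul_smul, ← mul_smul, ← mul_smul]
    congr 2 <;> ((try rw [hc]); (try rw [hb]); group)
  have h5 := hA (a • v - (a * b) • v)
  rw [hsD, hbc] at h5
  simp only [smul_sub, ← mul_smul, mul_inv_cancel, one_smul] at h5
  rw [← sub_eq_zero] at h5 ⊢
  rw [← h5]
  simp only [mul_assoc]
  abel

/-- If an element `s` of order three has no fixed points on `V`, it centralizes every solvable
group of operators of coprime order which it normalizes. -/
theorem commute_of_fpf [Finite V] [Finite Γ] (faith : ∀ g : Γ, (∀ v : V, g • v = v) → g = 1)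
    (hs3 : s ^ 3 = 1) (hs : ∀ v : V, v + s • v + s • s • v = 0) (Q : Subgroup Γ) [hsol : Group.IsSolvable Q]
    (hQs : ∀ q ∈ Q, s * q * s⁻¹ ∈ Q) (hQ : (Nat.card Q).Coprime (6 * Nat.card V)) :
    ∀ q ∈ Q, s * q = q * s := by
  suffices h : ∀ (n : ℕ) (Q : Subgroup Γ), Nat.card Q = n → Group.IsSolvable Q →
      (∀ q ∈ Q, s * q * s⁻¹ ∈ Q) → (Nat.card Q).Coprime (6 * Nat.card V) → ∀ q ∈ Q, s * q = q * s from
    h _ Q rfl hsol hQs hQ
  intro n
  induction n using Nat.strong_induction_on with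
  | _ n ih =>
  intro Q hn hsol hQs hQ
  rcases eq_or_ne Q ⊥ with rfl | hne
  · intro q hq; rw [Subgroup.mem_bot] at hq; simp [hq]
  have : Nontrivial Q := (Subgroup.nontrivial_iff_ne_bot Q).2 hne
  set D := ⁅Q, Q⁆ with hD
  have hDmap : D = (commutator Q).map Q.subtype := by
    rw [Subgroup.map_subtype_commutator]
  have hDQ : D ≤ Q := hDmap ▸ Subgroup.map_subtype_le _
  have hDs : ∀ q ∈ D, s * q * s⁻¹ ∈ D := by
    intro q hq
    have : D.map (MulAut.conj s).toMonoidHom ≤ D := by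
      rw [hD, Subgroup.map_commutator]
      refine Subgroup.commutator_mono ?_ ?_ <;> · rintro _ ⟨y, hy, rfl⟩; exact hQs y hy
    exact this ⟨q, hq, rfl⟩
  have hlt : Nat.card D < n := by
    rw [hDmap, Subgroup.card_map_of_injective Q.subtype_injective, ← hn]
    refine lt_of_le_of_ne (Subgroup.card_le_card_group _) fun h => ?_
    exact (Group.IsSolvable.commutator_lt_top_of_nontrivial Q).ne (Subgroup.eq_top_of_card_eq _ h)
  have hDc : ∀ z ∈ D, s * z = z * s := ih _ hlt D rfl
    (Group.isSolvable_of_isSolvable_injective (Subgroup.inclusion_injective hDQ)) hDs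
    (hQ.coprime_dvd_left (Subgroup.card_dvd_of_le hDQ))
  have hnorm : ∀ x ∈ Q, ∀ z ∈ D, x * z * x⁻¹ ∈ D := by
    intro x hx z hz
    rw [hDmap] at hz ⊢
    obtain ⟨z', hz', rfl⟩ := hz
    exact ⟨⟨x, hx⟩ * z' * ⟨x, hx⟩⁻¹, (inferInstance : (commutator Q).Normal).conj_mem _ hz' _, rfl⟩
  have hcen : ∀ x ∈ Q, ∀ z ∈ D, Commute (x * (s * x⁻¹ * s⁻¹)) z := by
    intro x hx z hz
    have h1 := hDc _ (hnorm x⁻¹ (Q.inv_mem hx) z hz)
    rw [inv_inv] at h1
    have h2 : (s * x⁻¹ * s⁻¹) * z * (s * x * s⁻¹) = x⁻¹ * z * x := by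
      calc (s * x⁻¹ * s⁻¹) * z * (s * x * s⁻¹) = (s * x⁻¹ * s⁻¹) * (z * s) * (x * s⁻¹) := by group
        _ = (s * x⁻¹ * s⁻¹) * (s * z) * (x * s⁻¹) := by rw [hDc z hz]
        _ = s * (x⁻¹ * z * x) * s⁻¹ := by group
        _ = _ := by rw [h1]; group
    show x * (s * x⁻¹ * s⁻¹) * z = z * (x * (s * x⁻¹ * s⁻¹))
    calc x * (s * x⁻¹ * s⁻¹) * z
        = x * ((s * x⁻¹ * s⁻¹) * z * (s * x * s⁻¹)) * (s * x⁻¹ * s⁻¹) := by group
      _ = _ := by rw [h2]; group
  have hord : ∀ g ∈ Q, (orderOf g).Coprime (6 * Nat.card V) := fun g hg =>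
    hQ.coprime_dvd_left (orderOf_dvd_card_of_mem hg)
  intro x hx
  -- the element `a` is trivial
  suffices h : x * (s * x⁻¹ * s⁻¹) = 1 by
    calc s * x = s * x * (x * (s * x⁻¹ * s⁻¹))⁻¹⁻¹ := by rw [h]; simp
      _ = s * x * (x * (s * x⁻¹ * s⁻¹)) := by rw [inv_inv]
      _ = _ := by
        have h' : s * x⁻¹ * s⁻¹ = x⁻¹ := (inv_eq_of_mul_eq_one_right h).symm
        rw [h', mul_inv_cancel, mul_one]
        calc s * x = (s * x⁻¹ * s⁻¹)⁻¹ * s := by group
          _ = x * s := by rw [h', inv_inv]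
  set a := x * (s * x⁻¹ * s⁻¹) with ha
  set b := s * a * s⁻¹ with hb
  set c := s * b * s⁻¹ with hc
  have hmem : a ∈ Q := Q.mul_mem hx (hQs _ (Q.inv_mem hx))
  have hbmem : b ∈ Q := hQs _ hmem
  set w := a * b * a⁻¹ * b⁻¹ with hw
  have hwD : w ∈ D := by
    rw [hw, ← commutatorElement_def]
    exact Subgroup.commutator_mem_commutator hmem hbmem
  have hwa : Commute a w := hcen x hx w hwD
  have hwb : Commute b w := by
    have := hcen (s * x * s⁻¹) (hQs x hx) w hwD
    rwa [show s * x * s⁻¹ * (s * (s * x * s⁻¹)⁻¹ * s⁻¹) = b by rw [hb, ha]; group] at this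
  have hw1 : w = 1 := by
    have e0 : a * b = w * (b * a) := by rw [hw]; group
    have e0' : b * a = w⁻¹ * (a * b) := by rw [e0]; group
    have ca : ∀ g, a * (w * g) = w * (a * g) := fun g => by rw [← mul_assoc, hwa.eq, mul_assoc]
    have ca' : ∀ g, a * (w⁻¹ * g) = w⁻¹ * (a * g) := fun g => by
      rw [← mul_assoc, hwa.inv_right.eq, mul_assoc]
    have cab : a * b * a⁻¹ = w * b := by rw [hw]; group
    have ca2b : a * (a * a * b) * a⁻¹ = w * (a * a * b) := by
      calc a * (a * a * b) * a⁻¹ = a * (a * (a * b * a⁻¹)) := by group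
        _ = a * (a * (w * b)) := by rw [cab]
        _ = w * (a * a * b) := by rw [ca, ca]; group
    have ca2bb : a * (a * a * (b * b)) * a⁻¹ = w * w * (a * a * (b * b)) := by
      calc a * (a * a * (b * b)) * a⁻¹ = a * (a * ((a * b * a⁻¹) * (a * b * a⁻¹))) := by group
        _ = a * (a * (w * b * (w * b))) := by rw [cab]
        _ = a * (a * (w * (w * (b * b)))) := by
          congr 2
          rw [mul_assoc w b, ← mul_assoc b w b, hwb.eq, mul_assoc w b b]
        _ = w * w * (a * a * (b * b)) := by rw [ca, ca, ca, ca]; group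
    have e1 : a * b * a = w⁻¹ * (a * a * b) := by
      calc a * b * a = a * (b * a) := mul_assoc _ _ _
        _ = _ := by rw [e0', ca']; group
    have e2 : a * b * a * b = w⁻¹ * (a * a * (b * b)) := by rw [e1]; group
    have E0 : ∀ v : V, v - (w * b) • v = (w⁻¹ * (a * a * b)) • v - (w⁻¹ * (a * a * (b * b))) • v := by
      intro v
      rw [← cab, ← e1, ← e2]
      exact ident hs3 hs x a b ha hb v
    have conjE : ∀ {k l m : Γ}, (∀ v : V, v - k • v = l • v - m • v) →
        ∀ v : V, v - (a * k * a⁻¹) • v = (a * l * a⁻¹) • v - (a * m * a⁻¹) • v := by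
      intro k l m h v
      have h1 := congrArg (fun t => a • t) (h (a⁻¹ • v))
      simpa [smul_sub, mul_smul] using h1
    have caw : ∀ g, a * (w * g) * a⁻¹ = w * (a * g * a⁻¹) := fun g => by rw [ca]; group
    have caw' : ∀ g, a * (w⁻¹ * g) * a⁻¹ = w⁻¹ * (a * g * a⁻¹) := fun g => by rw [ca']; group
    have E1 : ∀ v : V, v - (w * w * b) • v = (a * a * b) • v - (w * (a * a * (b * b))) • v := by
      intro v
      have h1 := conjE E0 v
      rw [caw, caw', caw', cab, ca2b, ca2bb] at h1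
      simpa [mul_assoc] using h1
    have E2 : ∀ v : V, v - (w * w * w * b) • v
        = (w * (a * a * b)) • v - (w * w * w * (a * a * (b * b))) • v := by
      intro v
      have h1 := conjE E1 v
      rw [show a * (w * w * b) * a⁻¹ = w * (w * (a * b * a⁻¹)) by
          rw [mul_assoc w w b, caw, caw], cab, ca2b, caw, ca2bb] at h1
      simpa [mul_assoc] using h1
    have E3 : ∀ u : V, u - w • u - ((w * w) • u - (w * w * w) • u) = 0 := by
      intro u
      obtain ⟨v, rfl⟩ : ∃ v, u = (a * a * (b * b)) • v :=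
        ⟨(a * a * (b * b))⁻¹ • u, by rw [smul_inv_smul]⟩
      have h0 := congrArg (fun t => w • t) (sub_eq_zero.2 (E0 v))
      have h0' := congrArg (fun t => w • t) (sub_eq_zero.2 (E1 v))
      have h1 := sub_eq_zero.2 (E1 v)
      have h2 := sub_eq_zero.2 (E2 v)
      simp only [smul_sub, smul_zero, ← mul_smul, ← mul_assoc, mul_inv_cancel, one_mul] at h0 h0' h1 h2 ⊢
      have e : ∀ A B C D : V, A = 0 → B = 0 → C = 0 → D = 0 → A - B - (C - D) = 0 := by
        intro A B C D hA hB hC hD; simp [hA, hB, hC, hD]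
      rw [← e _ _ _ _ h0 h0' h1 h2]
      abel
    have hwQ := hDQ hwD
    have hcw : ∀ g ∈ Q, (orderOf g).Coprime (Nat.card V) := fun g hg => (hord g hg).coprime_mul_left_right
    have h4 : ∀ u : V, (w * w) • u = u := fun u => by
      rw [← sub_eq_zero]
      refine eq_zero_of_fixed_of_range (hcw _ (Q.mul_mem hwQ hwQ)) rfl ?_
      have h5 := E3 u
      have h6 := congrArg (fun t => w • t) h5
      simp only [smul_sub, smul_zero, ← mul_smul, ← mul_assoc] at h5 h6
      rw [← sub_eq_zero, smul_sub, ← mul_smul, ← mul_assoc]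
      have e : ∀ A B : V, A = 0 → B = 0 → A + B = 0 := by intro A B hA hB; simp [hA, hB]
      rw [← e _ _ h5 h6]
      abel
    have h7 := faith _ h4
    rw [← sq] at h7
    have h8 := orderOf_dvd_of_pow_eq_one h7
    have h9 : orderOf w ∣ Nat.gcd (orderOf w) (6 * Nat.card V) :=
      Nat.dvd_gcd dvd_rfl (h8.trans (by norm_num [Nat.dvd_mul_right_of_dvd] : 2 ∣ 6 * Nat.card V))
    rw [hord w hwQ, Nat.dvd_one, orderOf_eq_one_iff] at h9
    exact h9
  -- now `a` and `b` commute
  have hab : Commute a b := by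
    show a * b = b * a
    calc a * b = (a * b * a⁻¹ * b⁻¹) * (b * a) := by group
      _ = b * a := by rw [← hw, hw1, one_mul]
  by_contra ha1
  obtain ⟨u0, hu0⟩ : ∃ u : V, a • u ≠ u := by
    by_contra hcon
    push Not at hcon
    exact ha1 (faith a hcon)
  let C := Subgroup.closure ({a, b} : Set Γ)
  have hCcomm : ∀ g ∈ C, Commute g a ∧ Commute g b := by
    intro g hg
    induction hg using Subgroup.closure_induction with
    | mem y hy => rcases hy with rfl | rfl; exacts [⟨Commute.refl _, hab⟩, ⟨hab.symm, Commute.refl _⟩]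
    | one => exact ⟨Commute.one_left _, Commute.one_left _⟩
    | mul p q _ _ hp hq => exact ⟨hp.1.mul_left hq.1, hp.2.mul_left hq.2⟩
    | inv p _ hp => exact ⟨hp.1.inv_left, hp.2.inv_left⟩
  let U : AddSubgroup V := (DistribSMul.toAddMonoidHom V a - AddMonoidHom.id V).range
  have hU : ∀ g ∈ C, ∀ v ∈ U, g • v ∈ U := by
    rintro g hg _ ⟨v, rfl⟩
    exact ⟨g • v, by simp [smul_sub, ← mul_smul, (hCcomm g hg).1.eq]⟩
  obtain ⟨W, ⟨hWne, hWU, hWC⟩, hWmin⟩ := (Set.toFinite {W : AddSubgroup V |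
      W ≠ (⊥ : AddSubgroup V) ∧ W ≤ U ∧ ∀ g ∈ C, ∀ v ∈ W, g • v ∈ W}).exists_minimal
    ⟨U, fun h => hu0 (sub_eq_zero.1 (AddSubgroup.mem_bot.1 (h ▸ ⟨u0, rfl⟩ : a • u0 - u0 ∈ (⊥ : AddSubgroup V)))),
      le_rfl, hU⟩
  set K := fixer Γ (W : Set V) with hK
  have hCC : ∀ g ∈ C, ∀ y ∈ C, Commute g y := fun g hg y hy => by
    induction hy using Subgroup.closure_induction with
    | mem z hz => rcases hz with rfl | rfl; exacts [(hCcomm g hg).1, (hCcomm g hg).2]
    | one => exact Commute.one_right _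
    | mul p q _ _ hp hq => exact hp.mul_right hq
    | inv p _ hp => exact hp.inv_right
  have hdich : ∀ g ∈ C, g ∈ K ∨ ∀ v ∈ W, g • v = v → v = 0 := by
    intro g hg
    let W' : AddSubgroup V := W ⊓ (DistribSMul.toAddMonoidHom V g - AddMonoidHom.id V).ker
    by_cases h : W' = ⊥
    · right
      intro v hv hgv
      exact AddSubgroup.mem_bot.1 (h ▸ (⟨hv, by simp [AddMonoidHom.mem_ker, hgv]⟩ : v ∈ W'))
    · left
      have hcomm : ∀ y ∈ C, Commute g y := hCC g hg
      have hle := hWmin ⟨h, inf_le_left.trans hWU, fun y hy v hv => ⟨hWC y hy v hv.1, by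
        have h1 : g • v = v := sub_eq_zero.1 hv.2
        simp [AddMonoidHom.mem_ker, ← mul_smul, (hcomm y hy).eq]
        simp [mul_smul, h1]⟩⟩ inf_le_left
      exact mem_fixer.2 fun v hv => sub_eq_zero.1 (hle hv).2
  have haC : a ∈ C := Subgroup.subset_closure (Or.inl rfl)
  have hbC : b ∈ C := Subgroup.subset_closure (Or.inr rfl)
  have haK : a ∉ K := by
    intro h
    obtain ⟨v, hv, hv0⟩ : ∃ v ∈ W, v ≠ 0 := W.bot_or_exists_ne_zero.resolve_left hWne
    obtain ⟨y, hy⟩ := hWU hv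
    exact hv0 (eq_zero_of_fixed_of_range (hord a hmem).coprime_mul_left_right
      (by rw [← hy]; rfl) (mem_fixer.1 h v hv))
  have hfun : ∀ (y a' b' : Γ), a' = y * (s * y⁻¹ * s⁻¹) → b' = s * a' * s⁻¹ → a' ∈ C → b' ∈ C →
      b' ∈ K ∨ a' * a' * b' ∈ K := by
    intro y a' b' ha' hb' haC' hbC'
    have hcm : a' * b' = b' * a' := (hCC a' haC' b' hbC').eq
    rcases hdich b' hbC' with h | h
    · exact Or.inl h
    right
    rcases hdich (a' * a' * b') (C.mul_mem (C.mul_mem haC' haC') hbC') with h2 | h2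
    · exact h2
    exfalso
    obtain ⟨v, hv, hv0⟩ : ∃ v ∈ W, v ≠ 0 := W.bot_or_exists_ne_zero.resolve_left hWne
    have h3 := ident hs3 hs y a' b' ha' hb' v
    rw [show a' * b' * a'⁻¹ = b' by rw [hcm, mul_inv_cancel_right],
      show a' * b' * a' = a' * a' * b' by rw [mul_assoc a' b', ← hcm, ← mul_assoc]] at h3
    have h4 : (a' * a' * b') • (v - b' • v) = v - b' • v := by
      rw [smul_sub, ← mul_smul, h3, mul_smul]
    have h5 := h2 _ (W.sub_mem hv (hWC _ hbC' v hv)) h4
    exact hv0 (h v hv (sub_eq_zero.1 h5).symm)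
  have hs3' : s * s * s = 1 := by rw [← hs3, pow_three, mul_assoc]
  have habc : a * b * c = 1 := by
    calc a * b * c = x * (s * s * s) * x⁻¹ * (s * s * s)⁻¹ := by rw [hc, hb, ha]; group
      _ = 1 := by rw [hs3']; group
  have hcab : c = (a * b)⁻¹ := eq_inv_of_mul_eq_one_right habc
  have hsca : a = s * c * s⁻¹ := by
    rw [hc, hb]
    calc a = s * s * s * a * (s * s * s)⁻¹ := by rw [hs3']; group
      _ = _ := by group
  have h3 : c * c * a ∈ K := (hfun (s * (s * x * s⁻¹) * s⁻¹) c a (by rw [hc, hb, ha]; group) hsca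
    (hcab ▸ C.inv_mem (C.mul_mem haC hbC)) haC).resolve_left haK
  have hb' : Commute b a := hab.symm
  rw [hcab] at h3
  have h3' := K.inv_mem h3
  rcases hfun x a b ha hb haC hbC with h | h
  · apply haK
    have : ((a * b)⁻¹ * (a * b)⁻¹ * a)⁻¹ * b⁻¹ * b⁻¹ = a := by
      calc ((a * b)⁻¹ * (a * b)⁻¹ * a)⁻¹ * b⁻¹ * b⁻¹ = b * a * b⁻¹ := by group
        _ = a := by rw [hb'.eq, mul_inv_cancel_right]
    exact this ▸ K.mul_mem (K.mul_mem h3' (K.inv_mem h)) (K.inv_mem h)
  · refine haK (mem_of_pow_mem (n := 3) ?_ ?_)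
    · exact (Nat.Coprime.coprime_dvd_right (by norm_num [Nat.dvd_mul_right_of_dvd]) (hord a hmem)).symm
    · have h6 := K.mul_mem (K.mul_mem h h) h3
      have e : a ^ 3 = a * a * b * (a * a * b) * ((a * b)⁻¹ * (a * b)⁻¹ * a) := by
        calc a ^ 3 = a * a * (a * b) * b⁻¹ := by rw [pow_three]; group
          _ = a * a * (b * a) * b⁻¹ := by rw [hb'.eq]
          _ = _ := by group
      exact e ▸ h6

end CfsgLib.FGS.S3
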