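import Mathlib

/-!
An action of `S₃` on a finite abelian group together with an invariant separating family of
subgroups, on each quotient by which some nontrivial element of `S₃` acts trivially.
-/

set_option autoImplicit false

namespace CfsgLib.FGS.S3

variable {F : Type*} [CommGroup F] {Λ : Type*} [Group Λ] [MulDistribMulAction Λ F]

/-- `g` acts trivially on `F ⧸ B`. -/
def Triv (g : Λ) (B : Subgroup F) : Prop := ∀ f : F, (g • f)⁻¹ * f ∈ B

/-- The image of `B` under `g`. -/
def im (g : Λ) (B : Subgroup F) : Subgroup F := B.comap (MulDistribMulAction.toMonoidHom F g⁻¹)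

theorem mem_im {g : Λ} {B : Subgroup F} {f : F} : f ∈ im g B ↔ g⁻¹ • f ∈ B := Iff.rfl

theorem im_mul (g h : Λ) (B : Subgroup F) : im g (im h B) = im (g * h) B := by
  ext f; rw [mem_im, mem_im, mem_im, mul_inv_rev, mul_smul]

theorem im_one (B : Subgroup F) : im (1 : Λ) B = B := by
  ext f; rw [mem_im, inv_one, one_smul]

theorem triv_im {g h : Λ} {B : Subgroup F} : Triv g (im h B) ↔ Triv (h⁻¹ * g * h) B := by
  constructor
  · intro H f
    have := H (h • f)
    rwa [mem_im, smul_mul', smul_inv', inv_smul_smul, ← mul_smul, ← mul_smul] at this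
  · intro H f
    have := H (h⁻¹ • f)
    rw [mem_im, smul_mul', smul_inv']
    rwa [mul_smul, mul_smul, smul_inv_smul] at this

theorem Triv.smul_mem_iff {g : Λ} {B : Subgroup F} (h : Triv g B) (f : F) : g • f ∈ B ↔ f ∈ B :=
  ⟨fun hf => by simpa using B.mul_mem hf (h f), fun hf => by
    simpa using B.mul_mem hf (B.inv_mem (h f))⟩

theorem Triv.im_eq {g : Λ} {B : Subgroup F} (h : Triv g B) : im g B = B := by
  ext f
  rw [mem_im]
  conv_rhs => rw [show f = g • g⁻¹ • f from (smul_inv_smul g f).symm]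
  exact (h.smul_mem_iff _).symm

variable [Finite F]

theorem mem_of_pow_mem_coprime (hF : (Nat.card F).Coprime 6) {B : Subgroup F} {f : F} {n : ℕ}
    (hn : n ∣ 6) (h : f ^ n ∈ B) : f ∈ B := by
  obtain ⟨m, hm⟩ := exists_pow_eq_self_of_coprime
    ((hF.coprime_dvd_right hn).coprime_dvd_left (orderOf_dvd_natCard f)).symm
  exact hm ▸ B.pow_mem h m

/-- The standing hypotheses: `s`, `u` generate an action of `S₃` without common fixed points;
`𝒦` is an invariant separating family of proper subgroups with nontrivial stabilizers in `S₃`. -/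
structure Data (s u : Λ) (𝒦 : Set (Subgroup F)) : Prop where
  cop : (Nat.card F).Coprime 6
  s3 : s ^ 3 = 1
  u2 : u ^ 2 = 1
  rel : u * s * u⁻¹ = s⁻¹
  fix : ∀ f : F, s • f = f → u • f = f → f = 1
  inv : ∀ (g : Λ), ∀ B ∈ 𝒦, im g B ∈ 𝒦
  ne : ∀ B ∈ 𝒦, B ≠ ⊤
  sep : ∀ f : F, (∀ B ∈ 𝒦, f ∈ B) → f = 1
  type : ∀ B ∈ 𝒦, Triv s B ∨ Triv u B ∨ Triv (u * s) B ∨ Triv (u * s * s) B

namespace Data

variable {s u : Λ} {𝒦 : Set (Subgroup F)}

theorem sss (D : Data s u 𝒦) : s * s * s = 1 := by rw [← D.s3, pow_three, mul_assoc]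

theorem us (D : Data s u 𝒦) : u * s = s * s * u := by
  have h1 : s⁻¹ = s * s := inv_eq_of_mul_eq_one_left D.sss
  rw [← h1, ← D.rel]; group

theorem su (D : Data s u 𝒦) : s * u = u * (s * s) := by
  calc s * u = s * u * (s * s * s) := by rw [D.sss, mul_one]
    _ = s * (u * s) * (s * s) := by group
    _ = s * s * s * u * (s * s) := by rw [D.us]; group
    _ = _ := by rw [D.sss, one_mul]

theorem conj_u (D : Data s u 𝒦) : s * u * s⁻¹ = u * s := by
  rw [inv_eq_of_mul_eq_one_left D.sss, D.su]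
  calc u * (s * s) * (s * s) = u * s * (s * s * s) := by group
    _ = _ := by rw [D.sss, mul_one]

theorem conj_u' (D : Data s u 𝒦) : (s * s) * u * (s * s)⁻¹ = u * s * s := by
  calc (s * s) * u * (s * s)⁻¹ = s * (s * u * s⁻¹) * s⁻¹ := by group
    _ = u * s * s := by rw [D.conj_u, ← mul_assoc s u s, D.su]; group
    _ = _ := by group

theorem conj_u'' (D : Data s u 𝒦) : s⁻¹ * u * s = u * s * s := by
  rw [← D.conj_u', show (s * s)⁻¹ = s from inv_eq_of_mul_eq_one_right D.sss,
    inv_eq_of_mul_eq_one_left D.sss]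

theorem uu (D : Data s u 𝒦) : u * u = 1 := by rw [← D.u2, pow_two]

theorem ff (D : Data s u 𝒦) (f : F) : u • u • f = f := by rw [← mul_smul, D.uu, one_smul]

theorem s_s_s (D : Data s u 𝒦) (f : F) : s • s • s • f = f := by
  rw [← mul_smul, ← mul_smul, D.sss, one_smul]

theorem u_s (D : Data s u 𝒦) (f : F) : u • s • f = s • s • u • f := by
  rw [← mul_smul, D.us, mul_smul, mul_smul]

theorem u_ss (D : Data s u 𝒦) (f : F) : u • s • s • f = s • u • f := by
  rw [← mul_smul, ← mul_smul, ← mul_smul, mul_assoc, ← D.su]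

theorem norm_fix_s (D : Data s u 𝒦) (f : F) :
    s • (f * s • f * s • s • f) = f * s • f * s • s • f := by
  rw [smul_mul', smul_mul', D.s_s_s]; ac_rfl

theorem norm_eq_one (D : Data s u 𝒦) {f : F} (hf : u • f = f) : f * s • f * s • s • f = 1 :=
  D.fix _ (D.norm_fix_s f) (by rw [smul_mul', smul_mul', D.u_s, D.u_ss, hf]; ac_rfl)

theorem inv_of_s_fixed (D : Data s u 𝒦) {f : F} (hf : s • f = f) : u • f = f⁻¹ := by
  refine eq_inv_of_mul_eq_one_left (D.fix _ ?_ (by rw [smul_mul', D.ff, mul_comm]))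
  have h2 : s • u • f = u • f := by
    rw [← D.u_ss, hf, hf]
  rw [smul_mul', h2, hf]

/-- Replace the involution `u` by `u * s`. -/
theorem rotate (D : Data s u 𝒦) : Data s (u * s) 𝒦 where
  cop := D.cop
  s3 := D.s3
  u2 := by
    rw [pow_two]
    calc u * s * (u * s) = u * (s * u) * s := by group
      _ = u * u * (s * s * s) := by rw [D.su]; group
      _ = 1 := by rw [D.uu, D.sss, one_mul]
  rel := by
    calc u * s * s * (u * s)⁻¹ = u * s * u⁻¹ := by group
      _ = _ := D.rel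
  fix f h1 h2 := D.fix f h1 (by rwa [mul_smul, h1] at h2)
  inv := D.inv
  ne := D.ne
  sep := D.sep
  type B hB := by
    have h : u * s * s * s = u := by rw [mul_assoc u s, mul_assoc, D.sss, mul_one]
    rcases D.type B hB with h1 | h1 | h1 | h1
    · exact Or.inl h1
    · exact Or.inr (Or.inr (Or.inr (h.symm ▸ h1)))
    · exact Or.inr (Or.inl h1)
    · exact Or.inr (Or.inr (Or.inl h1))

/-- A kernel on which `s` acts trivially is inverted by `u`. -/
theorem inv_u (D : Data s u 𝒦) {B : Subgroup F} (h : Triv s B) (f : F) : f * u • f ∈ B := by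
  set k := f * u • f with hk
  have hku : u • k = k := by rw [hk, smul_mul', D.ff, mul_comm]
  refine mem_of_pow_mem_coprime D.cop (n := 3) (by norm_num) ?_
  have h1 : k ^ 3 = ((s • k)⁻¹ * k) ^ 2 * ((s • s • k)⁻¹ * s • k) := by
    have h2 := D.norm_eq_one hku
    calc k ^ 3 = k ^ 3 * (k * s • k * s • s • k)⁻¹ := by rw [h2, inv_one, mul_one]
      _ = _ := by
        rw [pow_succ, pow_two, pow_two, mul_inv_rev, mul_inv_rev]
        calc k * k * k * ((s • s • k)⁻¹ * ((s • k)⁻¹ * k⁻¹))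
            = k * k * ((s • s • k)⁻¹ * (s • k)⁻¹) * (k * k⁻¹) := by ac_rfl
          _ = k * k * ((s • s • k)⁻¹ * (s • k)⁻¹) * ((s • k)⁻¹ * s • k) := by
            rw [mul_inv_cancel, inv_mul_cancel]
          _ = _ := by ac_rfl
  rw [h1]
  exact B.mul_mem (B.pow_mem (h k) 2) (h _)

theorem type_of_not_s (D : Data s u 𝒦) {B : Subgroup F} (hB : B ∈ 𝒦) (h : ¬ Triv s B) :
    Triv u B ∨ Triv (u * s) B ∨ Triv (u * s * s) B :=
  (D.type B hB).resolve_left h

/-- Elements commuting with `u` permute the kernels of type `s`. -/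
theorem im_type_s (D : Data s u 𝒦) {h : Λ} (hc : ∀ f : F, h • u • f = u • h • f)
    {B : Subgroup F} (hB : B ∈ 𝒦) (hs : Triv s B) : Triv s (im h B) := by
  by_contra hn
  have hinv : ∀ f, f * u • f ∈ im h B := fun f => by
    rw [mem_im, smul_mul']
    have : h⁻¹ • u • f = u • h⁻¹ • f := by
      rw [inv_smul_eq_iff, hc, smul_inv_smul]
    rw [this]
    exact D.inv_u hs _
  refine D.ne _ (D.inv h B hB) (eq_top_iff.2 fun f _ => mem_of_pow_mem_coprime D.cop (n := 2) (by norm_num) ?_)
  rcases D.type_of_not_s (D.inv h B hB) hn with t | t | t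
  · rw [pow_two, show f * f = f * u • f * ((u • f)⁻¹ * f) by
      rw [mul_assoc f, mul_inv_cancel_left]]
    exact (im h B).mul_mem (hinv f) (t f)
  all_goals
    have key : ∀ g, g * s • g ∈ im h B := fun g => by
      first
        | have h1 := (im h B).mul_mem (hinv (s • g)) (t g)
          rw [mul_smul, mul_assoc (s • g), mul_inv_cancel_left, mul_comm] at h1
          exact h1
        | have h1 := (im h B).mul_mem (hinv (s • s • s • g)) (t (s • g))
          rw [mul_smul, mul_smul, mul_assoc (s • s • s • g), mul_inv_cancel_left, D.s_s_s] at h1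
          exact h1
    have h2 := (im h B).mul_mem ((im h B).mul_mem (key f) ((im h B).inv_mem (key (s • f)))) (key (s • s • f))
    rw [D.s_s_s] at h2
    rw [pow_two, show f * f = f * s • f * (s • f * s • s • f)⁻¹ * (s • s • f * f) by
      calc f * f = f * f * ((s • f * s • s • f) * (s • f * s • s • f)⁻¹) := by rw [mul_inv_cancel, mul_one]
        _ = _ := by ac_rfl]
    exact h2

theorem s_stable (D : Data s u 𝒦) {B : Subgroup F} (h : Triv s B) :
    Triv s (im s B) ∧ Triv s (im u B) := by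
  refine ⟨triv_im.2 (by simpa using h), triv_im.2 ?_⟩
  rw [show u⁻¹ * s * u = s⁻¹ by
    rw [inv_eq_of_mul_eq_one_right D.uu, ← D.rel, inv_eq_of_mul_eq_one_right D.uu]]
  intro f
  have h1 := B.inv_mem (h (s⁻¹ • f))
  rwa [smul_inv_smul, mul_inv_rev, inv_inv] at h1

theorem mem_of_s_fixed (D : Data s u 𝒦) {f : F} (hf : s • f = f)
    (hX : ∀ B ∈ 𝒦, Triv s B → f ∈ B) : f = 1 := by
  refine D.sep f fun B hB => ?_
  by_cases h : Triv s B
  · exact hX B hB h
  have hu := D.inv_of_s_fixed hf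
  refine mem_of_pow_mem_coprime D.cop (n := 2) (by norm_num) ?_
  rcases D.type_of_not_s hB h with t | t | t <;>
    simpa [pow_two, mul_smul, hf, hu] using t f

section NoSFix

variable (hz : ∀ f : F, s • f = f → f = 1)
include hz

theorem not_triv_s (D : Data s u 𝒦) {B : Subgroup F} (hB : B ∈ 𝒦) : ¬ Triv s B := by
  intro h
  refine D.ne B hB (eq_top_iff.2 fun f _ => ?_)
  let φ : F → F := fun f => (s • f)⁻¹ * f
  have hφ : Function.Injective φ := fun a b hab => by
    have h1 : s • (a * b⁻¹) = a * b⁻¹ := by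
      rw [smul_mul', smul_inv']
      have h2 : (s • a)⁻¹ * a = (s • b)⁻¹ * b := hab
      rw [inv_mul_eq_iff_eq_mul] at h2
      conv_rhs => rw [h2]
      rw [mul_assoc, mul_assoc, mul_inv_cancel, mul_one]
    exact mul_inv_eq_one.1 (hz _ h1)
  obtain ⟨g, rfl⟩ := (Finite.injective_iff_surjective.1 hφ) f
  exact h g

theorem unique_type (D : Data s u 𝒦) {B : Subgroup F} (hB : B ∈ 𝒦) (h1 : Triv u B) :
    ¬ Triv (u * s) B ∧ ¬ Triv (u * s * s) B := by
  refine ⟨fun h2 => D.not_triv_s hz hB fun f => ?_, fun h2 => D.not_triv_s hz hB fun f => ?_⟩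
  · have := B.mul_mem (B.inv_mem (h1 (s • f))) (h2 f)
    rwa [mul_smul, mul_inv_rev, inv_inv, mul_assoc, mul_inv_cancel_left] at this
  · have := B.mul_mem (B.inv_mem (h2 (s • f))) (h1 f)
    rw [mul_smul, mul_smul, D.s_s_s, mul_inv_rev, inv_inv, mul_assoc, mul_inv_cancel_left] at this
    exact this

/-- An element commuting with `s` and inverted by `u` acts trivially modulo kernels of type `u`. -/
theorem triv_of_inverted (D : Data s u 𝒦) {h : Λ} (hs : ∀ f : F, h • s • f = s • h • f)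
    (hu : ∀ f : F, u • h • f = h⁻¹ • u • f) (hn : (orderOf h).Coprime 6)
    {B : Subgroup F} (hB : B ∈ 𝒦) (hBu : Triv u B) : Triv h B := by
  have hs' : ∀ f : F, h⁻¹ • s • f = s • h⁻¹ • f := fun f => by
    rw [inv_smul_eq_iff, hs, smul_inv_smul]
  let C : Subgroup Λ :=
    { carrier := {σ | ∀ f : F, h • σ • f = σ • h • f}
      one_mem' := fun f => by simp
      mul_mem' := fun {a b} ha hb f => by
        show h • (a * b) • f = (a * b) • h • f
        rw [mul_smul, ha, hb, mul_smul]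
      inv_mem' := fun {a} ha f => by
        show h • a⁻¹ • f = a⁻¹ • h • f
        rw [eq_inv_smul_iff, ← ha, smul_inv_smul] }
  have hcomm : ∀ σ ∈ C, ∀ X : Subgroup F, im h⁻¹ (im σ X) = im σ (im h⁻¹ X) := fun σ hσ X => by
    ext f
    simp only [mem_im, inv_inv]
    rw [C.inv_mem hσ f]
  have hu' : im h⁻¹ B = im u (im h B) := by
    ext f
    rw [mem_im, mem_im, mem_im, inv_inv, inv_eq_of_mul_eq_one_right D.uu]
    have h1 : h⁻¹ • u • f = u • h • f := (hu f).symm
    rw [h1]
    exact (hBu.smul_mem_iff _).symm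
  obtain ⟨σ, hσC, hσ3, hσ⟩ : ∃ σ ∈ C, σ ^ 3 = 1 ∧ im h⁻¹ B = im σ (im h B) := by
    have hB1 := D.inv h B hB
    rcases D.type_of_not_s hB1 (D.not_triv_s hz hB1) with t | t | t
    · exact ⟨1, C.one_mem, one_pow 3, by rw [hu', t.im_eq, im_one]⟩
    · refine ⟨s, hs, D.s3, ?_⟩
      rw [hu']
      conv_lhs => rw [← t.im_eq]
      rw [im_mul, ← mul_assoc, D.uu, one_mul]
    · refine ⟨s * s, C.mul_mem hs hs, ?_, ?_⟩
      · rw [← pow_two, ← pow_mul, mul_comm, pow_mul, D.s3, one_pow]
      rw [hu']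
      conv_lhs => rw [← t.im_eq]
      rw [im_mul, ← mul_assoc, ← mul_assoc, D.uu, one_mul]
  let S : Subgroup Λ :=
    { carrier := {g | im g B = B}
      one_mem' := im_one B
      mul_mem' := fun {a b} ha hb => by
        show im (a * b) B = B
        rw [← im_mul, show im b B = B from hb, show im a B = B from ha]
      inv_mem' := fun {a} ha => by
        show im a⁻¹ B = B
        conv_lhs => rw [← show im a B = B from ha, im_mul, inv_mul_cancel, im_one] }
  have h2 : im (h⁻¹ * h⁻¹) B = im σ B := by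
    rw [← im_mul, hσ, hcomm σ hσC, im_mul h⁻¹, inv_mul_cancel, im_one]
  have h6 : (h⁻¹) ^ 6 ∈ S := by
    show im ((h⁻¹) ^ 6) B = B
    have hc2 : ∀ X : Subgroup F, im (h⁻¹ * h⁻¹) (im σ X) = im σ (im (h⁻¹ * h⁻¹) X) := fun X => by
      rw [← im_mul h⁻¹ h⁻¹ (im σ X), ← im_mul h⁻¹ h⁻¹ X, hcomm σ hσC, hcomm σ hσC]
    rw [show (h⁻¹) ^ 6 = h⁻¹ * h⁻¹ * (h⁻¹ * h⁻¹) * (h⁻¹ * h⁻¹) by group, ← im_mul, ← im_mul, h2,
      hc2, h2, hc2, hc2, h2, im_mul, im_mul, show σ * σ * σ = 1 by rw [← hσ3, pow_three, mul_assoc],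
      im_one]
  have hS : h ∈ S := by
    have h7 : h⁻¹ ∈ S := by
      obtain ⟨m, hm⟩ := exists_pow_eq_self_of_coprime (x := h⁻¹) (n := 6) (by rw [orderOf_inv]; exact hn.symm)
      exact hm ▸ S.pow_mem h6 m
    simpa using S.inv_mem h7
  have hsq : Triv (h * h) B := by
    intro g
    have h1 := hBu (h • h • g)
    rw [hu] at h1
    have h2 : h⁻¹ • ((u • h • g)⁻¹ * h • g) ∈ B := by
      refine (mem_im (g := h) (B := B)).1 ?_
      rw [show im h B = B from hS]
      exact hBu _
    rw [smul_mul', smul_inv', inv_smul_smul] at h2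
    have h3 := B.inv_mem (B.mul_mem h1 (B.inv_mem h2))
    rw [show ((h⁻¹ • u • h • g)⁻¹ * h • h • g * ((h⁻¹ • u • h • g)⁻¹ * g)⁻¹)⁻¹ = (h • h • g)⁻¹ * g by
      rw [mul_inv_rev (h⁻¹ • u • h • g)⁻¹ g, inv_inv]
      rw [show (h⁻¹ • u • h • g)⁻¹ * h • h • g * (g⁻¹ * h⁻¹ • u • h • g)
          = h • h • g * g⁻¹ * ((h⁻¹ • u • h • g)⁻¹ * h⁻¹ • u • h • g) by ac_rfl,
        inv_mul_cancel, mul_one, mul_inv_rev, inv_inv, mul_comm]] at h3
    rwa [mul_smul]
  have hpow : ∀ k : ℕ, Triv ((h * h) ^ k) B := by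
    intro k
    induction k with
    | zero => intro f; simp
    | succ k ih =>
      intro f
      have := B.mul_mem (ih ((h * h) • f)) (hsq f)
      rwa [← mul_smul, ← pow_succ, mul_assoc, mul_inv_cancel_left] at this
  obtain ⟨m, hm⟩ := exists_pow_eq_self_of_coprime (x := h) (n := 2)
    (hn.coprime_dvd_right (by norm_num)).symm
  rw [pow_two] at hm
  exact hm ▸ hpow m

/-- An element commuting with `s` and inverted by `u` acts trivially. -/
theorem smul_eq_of_inverted (D : Data s u 𝒦) {h : Λ} (hs : ∀ f : F, h • s • f = s • h • f)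
    (hu : ∀ f : F, u • h • f = h⁻¹ • u • f) (hn : (orderOf h).Coprime 6) (f : F) : h • f = f := by
  have hs' : ∀ f : F, h⁻¹ • s • f = s • h⁻¹ • f := fun f => by
    rw [inv_smul_eq_iff, hs, smul_inv_smul]
  have hu1 : ∀ f : F, (u * s) • h • f = h⁻¹ • (u * s) • f := fun f => by
    rw [mul_smul, ← hs, hu, mul_smul]
  have hu2 : ∀ f : F, (u * s * s) • h • f = h⁻¹ • (u * s * s) • f := fun f => by
    rw [mul_smul, ← hs, hu1, mul_smul (u * s)]
  have key : ∀ B ∈ 𝒦, Triv h B := fun B hB => by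
    rcases D.type_of_not_s hB (D.not_triv_s hz hB) with t | t | t
    · exact D.triv_of_inverted hz hs hu hn hB t
    · exact D.rotate.triv_of_inverted hz hs hu1 hn hB t
    · exact D.rotate.rotate.triv_of_inverted hz hs hu2 hn hB t
  exact inv_mul_eq_one.1 (D.sep _ fun B hB => key B hB f)

theorem shift_mem (D : Data s u 𝒦) {B : Subgroup F} (hBu : Triv u B) {f : F} (hf : u • f = f)
    (h : f ∈ B) : s • f ∈ B ∧ s • s • f ∈ B := by
  have h1 := hBu (s • f)
  rw [D.u_s, hf] at h1
  have h2 : s • f * s • s • f ∈ B := by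
    have := B.inv_mem h
    rwa [show f⁻¹ = s • f * s • s • f from
      inv_eq_of_mul_eq_one_right (by rw [← mul_assoc]; exact D.norm_eq_one hf)] at this
  have h3 : s • f ∈ B := mem_of_pow_mem_coprime D.cop (n := 2) (by norm_num) (by
    have := B.mul_mem h1 h2
    rwa [show (s • s • f)⁻¹ * s • f * (s • f * s • s • f)
        = s • f * s • f * ((s • s • f)⁻¹ * s • s • f) by ac_rfl, inv_mul_cancel, mul_one, ← pow_two] at this)
  exact ⟨h3, by simpa [mul_comm] using B.mul_mem (B.inv_mem h3) h2⟩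

/-- An element of `F` lies in all kernels of type `u` if and only if it is inverted by `u`. -/
theorem mem_all_iff (D : Data s u 𝒦) (f : F) :
    (∀ B ∈ 𝒦, Triv u B → f ∈ B) ↔ u • f = f⁻¹ := by
  constructor
  · intro h
    refine eq_inv_of_mul_eq_one_left ?_
    set k := u • f * f with hk
    have hku : u • k = k := by rw [hk, smul_mul', D.ff, mul_comm]
    have hkB : ∀ B ∈ 𝒦, Triv u B → k ∈ B := fun B hB t =>
      B.mul_mem ((t.smul_mem_iff f).2 (h B hB t)) (h B hB t)
    have h1 : ∀ B ∈ 𝒦, Triv u B → s • k ∈ B ∧ s • s • k ∈ B := fun B hB t =>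
      D.shift_mem hz t hku (hkB B hB t)
    refine D.sep k fun B hB => ?_
    rcases D.type_of_not_s hB (D.not_triv_s hz hB) with t | t | t
    · exact hkB B hB t
    · have h2 := (h1 (im s⁻¹ B) (D.inv _ B hB) (triv_im.2 (by rwa [inv_inv, D.conj_u]))).2
      rw [mem_im, inv_inv, D.s_s_s] at h2
      exact h2
    · have h2 := (h1 (im s B) (D.inv _ B hB) (triv_im.2 (by rwa [D.conj_u'']))).1
      rw [mem_im, inv_smul_smul] at h2
      exact h2
  · intro h B hB t
    refine mem_of_pow_mem_coprime D.cop (n := 2) (by norm_num) ?_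
    have := t f
    rwa [h, inv_inv, ← pow_two] at this

/-- An element commuting with `u`, and with its own `s`-conjugate, keeps type `us`. -/
theorem im_type_us (D : Data s u 𝒦) {h : Λ} (hu : ∀ f : F, h • u • f = u • h • f)
    (hg : ∀ f : F, h • (s * h * s⁻¹) • f = (s * h * s⁻¹) • h • f)
    {B : Subgroup F} (hB : B ∈ 𝒦) (hBt : Triv (u * s) B) : Triv (u * s) (im h B) := by
  have hu' : ∀ f : F, h⁻¹ • u • f = u • h⁻¹ • f := fun f => by
    rw [inv_smul_eq_iff, hu, smul_inv_smul]
  have hpres : ∀ X : Subgroup F, Triv u X → Triv u (im h X) := fun X hX f => by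
    rw [mem_im, smul_mul', smul_inv', hu']
    exact hX _
  have hpres' : ∀ X : Subgroup F, Triv u (im h X) → Triv u X := fun X hX f => by
    have := hX (h • f)
    rwa [← hu, mem_im, smul_mul', smul_inv', inv_smul_smul, inv_smul_smul] at this
  have hC := D.inv h B hB
  have hsu := D.conj_u
  have hssu := D.conj_u'
  rcases D.type_of_not_s hC (D.not_triv_s hz hC) with t | t | t
  · exact absurd hBt (D.unique_type hz hB (hpres' B t)).1
  · exact t
  exfalso
  set B1 := im s⁻¹ B with hB1d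
  set B2 := im (s * s)⁻¹ (im h B) with hB2d
  have hB1 : Triv u B1 := triv_im.2 (by rwa [inv_inv, hsu])
  have hB2 : Triv u B2 := triv_im.2 (by rwa [inv_inv, hssu])
  have eB : B = im s B1 := by rw [hB1d, im_mul, mul_inv_cancel, im_one]
  have eC : im h B = im (s * s) B2 := by rw [hB2d, im_mul, mul_inv_cancel, im_one]
  have e3 : (s * s)⁻¹ = s := inv_eq_of_mul_eq_one_right D.sss
  -- the identification `B2 = im h B1`
  have hid : B2 = im h B1 := by
    have hB1' := hpres B1 hB1
    have hdec : ∀ {X : Subgroup F}, X ∈ 𝒦 → Triv u X → ∀ f, f * u • f ∈ X → f ∈ X := by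
      intro X _ hX f hf
      refine mem_of_pow_mem_coprime D.cop (n := 2) (by norm_num) ?_
      have := X.mul_mem hf (hX f)
      rwa [mul_assoc, mul_inv_cancel_left, ← pow_two] at this
    have hfix : ∀ f : F, u • (f * u • f) = f * u • f := fun f => by rw [smul_mul', D.ff, mul_comm]
    have hiff : ∀ f : F, u • f = f → (f ∈ B2 ↔ f ∈ im h B1) := by
      intro f hf
      have hg1 : u • h⁻¹ • f = h⁻¹ • f := by rw [← hu', hf]
      have hCf : f ∈ im h B ↔ s • f ∈ B2 := by rw [eC, mem_im, e3]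
      have hBf : h⁻¹ • f ∈ B ↔ s • s • h⁻¹ • f ∈ B1 := by
        rw [eB, mem_im, inv_eq_of_mul_eq_one_left D.sss, mul_smul]
      constructor
      · intro hf2
        have h1 : s • s • h⁻¹ • f ∈ B1 := hBf.1 (hCf.2 (D.shift_mem hz hB2 hf hf2).1)
        have h2 : s • h⁻¹ • f ∈ B1 := by
          have := (hB1.smul_mem_iff _).2 h1
          rwa [D.u_ss, hg1] at this
        rw [mem_im]
        have h3 := B1.inv_mem (B1.mul_mem h2 h1)
        rwa [inv_eq_of_mul_eq_one_left (by rw [← mul_assoc]; exact D.norm_eq_one hg1)] at h3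
      · intro hf1
        have h1 := hCf.1 (hBf.2 (D.shift_mem hz hB1 hg1 hf1).2)
        have h2 : s • s • f ∈ B2 := by
          have := (hB2.smul_mem_iff _).2 h1
          rwa [D.u_s, hf] at this
        have h3 := B2.inv_mem (B2.mul_mem h1 h2)
        rwa [inv_eq_of_mul_eq_one_left (by rw [← mul_assoc]; exact D.norm_eq_one hf)] at h3
    have hB1K := D.inv h B1 (D.inv _ B hB)
    have hB2K : B2 ∈ 𝒦 := D.inv _ _ hC
    ext f
    constructor
    · intro hf
      exact hdec hB1K hB1' f ((hiff _ (hfix f)).1 (B2.mul_mem hf ((hB2.smul_mem_iff f).2 hf)))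
    · intro hf
      exact hdec hB2K hB2 f ((hiff _ (hfix f)).2 ((im h B1).mul_mem hf ((hB1'.smul_mem_iff f).2 hf)))
  have hB2K : B2 ∈ 𝒦 := D.inv _ _ hC
  clear_value B1 B2
  set g := s * h * s⁻¹ with hgd
  have egB : im g B = im s B2 := by
    rw [hid, im_mul, eB, im_mul, hgd, mul_assoc _ s⁻¹ s, inv_mul_cancel, mul_one]
  have ecomm : im h (im g B) = im g (im h B) := by
    ext f
    simp only [mem_im]
    rw [show g⁻¹ • h⁻¹ • f = h⁻¹ • g⁻¹ • f by
      have := hg (h⁻¹ • g⁻¹ • f)
      rw [smul_inv_smul, smul_inv_smul, ← eq_inv_smul_iff] at this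
      rw [inv_smul_eq_iff]
      exact this.symm]
  have eZ : im h (im s B2) = im s (im h (im s B2)) := by
    calc im h (im s B2) = im g (im h B) := by rw [← egB, ecomm]
      _ = im g (im (s * s) B2) := by rw [eC]
      _ = im (s * h * s) B2 := by rw [im_mul, hgd, mul_assoc (s * h), ← mul_assoc s⁻¹, inv_mul_cancel, one_mul]
      _ = _ := by rw [im_mul, im_mul, mul_assoc]
  have hZ := D.inv h _ (D.inv s B2 hB2K)
  rcases D.type_of_not_s hZ (D.not_triv_s hz hZ) with t' | t' | t'
  · have h2 := triv_im.1 (eZ ▸ t' : Triv u (im s (im h (im s B2))))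
    refine D.not_triv_s hz hZ fun f => ?_
    have h3 := D.conj_u''
    rw [h3] at h2
    exact absurd h2 (D.unique_type hz hZ t').2
  · have h2 := triv_im.1 (eZ ▸ t' : Triv (u * s) (im s (im h (im s B2))))
    have h3 : s⁻¹ * (u * s) * s = u := by rw [← hsu]; group
    rw [h3] at h2
    exact absurd t' (D.unique_type hz hZ h2).1
  · have h2 := triv_im.1 (eZ ▸ t' : Triv (u * s * s) (im s (im h (im s B2))))
    have h3 : s⁻¹ * (u * s * s) * s = u * s := by rw [← hssu, ← hsu]; group
    rw [h3] at h2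
    refine absurd h2 fun h2 => ?_
    have := (D.rotate.unique_type hz hZ h2).1
    exact this t'

/-- An element commuting with `u`, and with its own `s`-conjugate, commutes with `s` on `F`. -/
theorem smul_comm_of_commute_u (D : Data s u 𝒦) {h : Λ} (hu : ∀ f : F, h • u • f = u • h • f)
    (hg : ∀ f : F, h • (s * h * s⁻¹) • f = (s * h * s⁻¹) • h • f) (f : F) :
    h • s • f = s • h • f := by
  have hu' : ∀ f : F, h⁻¹ • u • f = u • h⁻¹ • f := fun f => by
    rw [inv_smul_eq_iff, hu, smul_inv_smul]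
  have hg' : ∀ f : F, h⁻¹ • (s * h⁻¹ * s⁻¹) • f = (s * h⁻¹ * s⁻¹) • h⁻¹ • f := fun f => by
    rw [show s * h⁻¹ * s⁻¹ = (s * h * s⁻¹)⁻¹ by group, inv_smul_eq_iff]
    rw [show h • (s * h * s⁻¹)⁻¹ • h⁻¹ • f = (s * h * s⁻¹)⁻¹ • h • h⁻¹ • f by
      rw [eq_inv_smul_iff, ← hg, smul_inv_smul]]
    rw [smul_inv_smul]
  have huss : u * s * s = u * (s * s) := mul_assoc _ _ _
  have pres : ∀ B ∈ 𝒦, Triv (u * s * s) B → Triv (u * s * s) (im h⁻¹ B) := by
    intro B hB t
    have hX : Triv (u * s) (im u B) := triv_im.2 (by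
      rwa [inv_eq_of_mul_eq_one_right D.uu, ← mul_assoc, D.uu, one_mul, D.su, ← mul_assoc])
    have h1 := D.im_type_us hz hu' hg' (D.inv u B hB) hX
    have e : im h⁻¹ (im u B) = im u (im h⁻¹ B) := by
      ext f
      simp only [mem_im, inv_inv, inv_eq_of_mul_eq_one_right D.uu, hu]
    rw [e, triv_im, inv_eq_of_mul_eq_one_right D.uu, ← mul_assoc, D.uu, one_mul, D.su, ← mul_assoc] at h1
    exact h1
  have hinv : ∀ y : F, (u * s * s) • y = y⁻¹ → (u * s * s) • h • y = (h • y)⁻¹ := by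
    intro y hy
    refine (D.rotate.rotate.mem_all_iff hz _).1 fun B hB t => ?_
    have h1 := (D.rotate.rotate.mem_all_iff hz y).2 hy (im h⁻¹ B) (D.inv _ B hB) (pres B hB t)
    rwa [mem_im, inv_inv] at h1
  -- commutation on the fixed points of `u`
  have key : ∀ x : F, u • x = x → h • s • x = s • h • x := by
    intro x hx
    have hx' : u • h • x = h • x := by rw [← hu, hx]
    have hsw : ∀ z : F, u • z = z → (u * s * s) • z = s • z ∧ (u * s * s) • s • z = z := by
      intro z hz'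
      rw [mul_smul, mul_smul, mul_smul, mul_smul, D.u_ss, hz', D.s_s_s, hz']
      exact ⟨rfl, rfl⟩
    set j := (h • s • x) * (s • h • x)⁻¹ with hj
    suffices hj1 : j = 1 from mul_inv_eq_one.1 hj1
    have h1 : (u * s * s) • j = j⁻¹ := by
      have e : j = (h • x * (s • h • x)⁻¹) * (h • (x * (s • x)⁻¹))⁻¹ := by
        rw [hj, smul_mul', smul_inv', mul_inv_rev, inv_inv]
        calc h • s • x * (s • h • x)⁻¹
            = h • s • x * (s • h • x)⁻¹ * (h • x * (h • x)⁻¹) := by rw [mul_inv_cancel, mul_one]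
          _ = _ := by simp only [mul_comm, mul_left_comm, mul_assoc]
      have h3 := hinv (x * (s • x)⁻¹) (by
        rw [smul_mul', smul_inv', (hsw x hx).1, (hsw x hx).2, mul_inv_rev, inv_inv])
      rw [e, smul_mul', smul_mul', smul_inv', smul_inv', (hsw _ hx').1, (hsw _ hx').2, h3]
      simp only [mul_inv_rev, inv_inv]
      simp [mul_comm, mul_left_comm, mul_assoc]
    have h2 : u • j = j⁻¹ := by
      refine eq_inv_of_mul_eq_one_left ?_
      rw [hj, smul_mul', smul_inv', ← hu, D.u_s, hx, D.u_s, hx']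
      calc h • s • s • x * (s • s • h • x)⁻¹ * (h • s • x * (s • h • x)⁻¹)
          = (h • s • x * h • s • s • x) * (s • h • x * s • s • h • x)⁻¹ := by
            rw [mul_inv_rev]; ac_rfl
        _ = 1 := by
          rw [← smul_mul', show s • x * s • s • x = x⁻¹ from eq_inv_of_mul_eq_one_right (by
              rw [← mul_assoc]; exact D.norm_eq_one hx),
            show s • h • x * s • s • h • x = (h • x)⁻¹ from eq_inv_of_mul_eq_one_right (by
              rw [← mul_assoc]; exact D.norm_eq_one hx'), smul_inv', inv_inv, inv_mul_cancel]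
    refine hz _ ?_
    have h4 : s • s • j = j := by
      have := congrArg (fun t => u • t) h1
      rwa [mul_smul, mul_smul, D.ff, smul_inv', h2, inv_inv] at this
    conv_lhs => rw [← h4, D.s_s_s]
  let φ : F → F := fun a => (h • s • a) * (s • h • a)⁻¹
  have hφm : ∀ a b, φ (a * b) = φ a * φ b := fun a b => by
    simp only [φ, smul_mul', mul_inv_rev]; ac_rfl
  have hφi : ∀ a, φ a⁻¹ = (φ a)⁻¹ := fun a => by
    simp only [φ, smul_inv', mul_inv_rev, inv_inv]; exact mul_comm _ _
  have hφ2 : ∀ a, φ (s • s • a) = 1 ↔ h • a = s • h • s • s • a := fun a => by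
    simp only [φ, mul_inv_eq_one, D.s_s_s]
  have hzero : ∀ a, φ a * (φ (s • a))⁻¹ = 1 := by
    intro a
    have hsplit : a * (s • a)⁻¹ = (a * u • a) * (s • a * u • a)⁻¹ := by
      rw [mul_inv_rev]
      calc a * (s • a)⁻¹ = a * (s • a)⁻¹ * (u • a * (u • a)⁻¹) := by rw [mul_inv_cancel, mul_one]
        _ = _ := by ac_rfl
    rw [← hφi, ← hφm, hsplit, hφm, hφi]
    have h1 : φ (a * u • a) = 1 := mul_inv_eq_one.2 (key _ (by rw [smul_mul', D.ff, mul_comm]))
    -- a fixed point of `u * s * s` is a shift of a fixed point of `u`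
    obtain ⟨x, hx, hxe⟩ : ∃ x, u • x = x ∧ s • a * u • a = s • s • x := by
      refine ⟨s • (s • a * u • a), ?_, ?_⟩
      · rw [smul_mul', smul_mul', D.u_ss, D.u_s, D.ff, mul_comm]
      · rw [D.s_s_s]
    have h2 : φ (s • s • x) = 1 := by
      rw [hφ2]
      have e1 : h • s • s • x = s • s • h • x := by
        rw [show s • s • x = u • s • x by rw [D.u_s, hx], hu, key x hx, D.u_s, ← hu, hx]
      rw [e1, D.s_s_s]
    rw [h1, hxe, h2, inv_one, mul_one]
  have hN : φ f * φ (s • f) * φ (s • s • f) = 1 := by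
    rw [← hφm, ← hφm, hz _ (D.norm_fix_s f)]
    simp [φ]
  have h3 : φ f ∈ (⊥ : Subgroup F) := by
    refine mem_of_pow_mem_coprime D.cop (n := 3) (by norm_num) ?_
    rw [Subgroup.mem_bot, ← hN, ← mul_inv_eq_one.1 (hzero (s • f)), ← mul_inv_eq_one.1 (hzero f)]
    rw [pow_succ, pow_two]
  exact mul_inv_eq_one.1 (Subgroup.mem_bot.1 h3)

end NoSFix

end Data

end CfsgLib.FGS.S3
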