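import Cfsg.Agent.Lib.FGS.S3Basic
import Cfsg.Agent.Lib.FGS.S3Kernels

/-!
A group of operators of order prime to 6 on a module, normalized by `S₃`, without common fixed
points of `S₃` on the group or on the module, irreducible, with nilpotent derived subgroup,
is commutative.
-/

set_option autoImplicit false

open scoped commutatorElement

namespace CfsgLib.FGS.S3

section Group

variable {Γ : Type*} [Group Γ] [Finite Γ]

theorem mem_normalizer_of_conj {K : Subgroup Γ} {g : Γ} (h : ∀ k ∈ K, g * k * g⁻¹ ∈ K) :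
    g ∈ Subgroup.normalizer (K : Set Γ) := by
  have he : K.map (MulAut.conj g).toMonoidHom = K :=
    Subgroup.eq_of_le_of_card_ge (by rintro _ ⟨k, hk, rfl⟩; exact h k hk)
      (by rw [Subgroup.card_map_of_injective (MulAut.conj g).injective])
  refine Subgroup.mem_normalizer_iff.2 fun k => ⟨h k, fun hk => ?_⟩
  rw [← he] at hk
  obtain ⟨k', hk', e⟩ := hk
  exact (MulAut.conj g).injective e ▸ hk'

theorem conj_mem {K : Subgroup Γ} {g k : Γ} (hg : g ∈ Subgroup.normalizer (K : Set Γ)) (hk : k ∈ K) :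
    g * k * g⁻¹ ∈ K := (Subgroup.mem_normalizer_iff.1 hg k).1 hk

theorem commutator_normalized {A B : Subgroup Γ} {g : Γ} (hA : g ∈ Subgroup.normalizer (A : Set Γ))
    (hB : g ∈ Subgroup.normalizer (B : Set Γ)) : g ∈ Subgroup.normalizer ((⁅A, B⁆ : Subgroup Γ) : Set Γ) := by
  refine mem_normalizer_of_conj fun k hk => ?_
  have hle : (⁅A, B⁆ : Subgroup Γ).map (MulAut.conj g).toMonoidHom ≤ ⁅A, B⁆ := by
    rw [Subgroup.map_commutator]
    refine Subgroup.commutator_mono ?_ ?_ <;> rintro _ ⟨y, hy, rfl⟩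
    exacts [conj_mem hA hy, conj_mem hB hy]
  exact hle ⟨k, hk, rfl⟩

/-- A fixed-point-free involution of a subgroup inverts it. -/
theorem inverted_of_fpf {A : Subgroup Γ} {u : Γ} (hu : u * u = 1) (hA : u ∈ Subgroup.normalizer (A : Set Γ))
    (hf : ∀ a ∈ A, u * a = a * u → a = 1) :
    (∀ a ∈ A, u * a * u⁻¹ = a⁻¹) ∧ ∀ a ∈ A, ∀ b ∈ A, a * b = b * a := by
  let φ : A →* A :=
    { toFun := fun a => ⟨u * a * u⁻¹, conj_mem hA a.2⟩
      map_one' := by ext; simp
      map_mul' := fun a b => by ext; simp [mul_assoc] }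
  have h1 : MonoidHom.FixedPointFree φ := fun a ha => by
    have h := congrArg Subtype.val ha
    exact Subtype.ext (hf a a.2 (mul_inv_eq_iff_eq_mul.1 h))
  have h2 : Function.Involutive φ := fun a => Subtype.ext (by
    show u * (u * a * u⁻¹) * u⁻¹ = (a : Γ)
    rw [inv_eq_of_mul_eq_one_right hu, ← mul_assoc, ← mul_assoc, hu, one_mul, mul_assoc, hu, mul_one])
  refine ⟨fun a ha => ?_, fun a ha b hb =>
    congrArg Subtype.val (h1.commute_all_of_involutive h2 ⟨a, ha⟩ ⟨b, hb⟩)⟩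
  exact congrArg Subtype.val (congrFun (h1.coe_eq_inv_of_involutive h2) ⟨a, ha⟩)

theorem exists_commute_mul {g : Γ} {q : ℕ} [Fact q.Prime] (hg : g ^ q = 1) (K : Subgroup Γ)
    (hK : g ∈ Subgroup.normalizer (K : Set Γ)) (hcop : (Nat.card K).Coprime q) {x : Γ}
    (hx : x⁻¹ * (g * x * g⁻¹) ∈ K) : ∃ k ∈ K, g * (x * k) = x * k * g := by
  obtain ⟨k, hk, he⟩ := exists_fixed_mul (MulAut.conj g) (by rw [← map_pow, hg, map_one]) K
    (fun k hk => conj_mem hK hk)
    ((Nat.Prime.coprime_iff_not_dvd (Fact.out)).1 hcop.symm) hx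
  exact ⟨k, hk, mul_inv_eq_iff_eq_mul.1 he⟩

end Group

variable {V : Type*} [AddCommGroup V] [Finite V] {Γ : Type*} [Group Γ] [Finite Γ]
  [DistribMulAction Γ V]

/-- The standing hypotheses. -/
structure Setup (V : Type*) [AddCommGroup V] {Γ : Type*} [Group Γ] [DistribMulAction Γ V]
    (s u : Γ) (H : Subgroup Γ) : Prop where
  faith : ∀ g : Γ, (∀ v : V, g • v = v) → g = 1
  s3 : s ^ 3 = 1
  u2 : u ^ 2 = 1
  rel : u * s * u⁻¹ = s⁻¹
  fixV : ∀ v : V, s • v = v → u • v = v → v = 0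
  fixH : ∀ x ∈ H, s * x = x * s → u * x = x * u → x = 1
  hs : s ∈ Subgroup.normalizer (H : Set Γ)
  hu : u ∈ Subgroup.normalizer (H : Set Γ)
  cop : (Nat.card H).Coprime 6
  pp : ∃ p k : ℕ, p.Prime ∧ Nat.card V = p ^ k
  irr : ∀ W : AddSubgroup V, (∀ x ∈ H, ∀ v ∈ W, x • v ∈ W) → (∀ v ∈ W, s • v ∈ W) →
    (∀ v ∈ W, u • v ∈ W) → W = ⊥ ∨ W = ⊤

/-- A kernel of a piece of `V` for the action of `M`. -/
def Good (V : Type*) [AddCommGroup V] {Γ : Type*} [Group Γ] [DistribMulAction Γ V] (M : Subgroup Γ)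
    (B : Subgroup M) : Prop :=
  ∃ W : AddSubgroup V, W ≠ ⊥ ∧ (∀ m : M, ∀ v ∈ W, (m : Γ) • v ∈ W) ∧
    (∀ m ∈ B, ∀ v ∈ W, (m : Γ) • v = v) ∧ ∀ m ∉ B, ∀ v ∈ W, (m : Γ) • v = v → v = 0

theorem exists_good (faith : ∀ g : Γ, (∀ v : V, g • v = v) → g = 1) (M : Subgroup Γ)
    (hM : ∀ a ∈ M, ∀ b ∈ M, a * b = b * a) (hcop : (Nat.card M).Coprime (Nat.card V))
    {m0 : M} (h0 : m0 ≠ 1) : ∃ B : Subgroup M, Good V M B ∧ m0 ∉ B := by
  obtain ⟨u0, hu0⟩ : ∃ v : V, (m0 : Γ) • v ≠ v := by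
    by_contra hcon
    push Not at hcon
    exact h0 (Subtype.ext (faith _ hcon))
  let U : AddSubgroup V := (DistribSMul.toAddMonoidHom V (m0 : Γ) - AddMonoidHom.id V).range
  have hU : ∀ m : M, ∀ v ∈ U, (m : Γ) • v ∈ U := by
    rintro m _ ⟨v, rfl⟩
    exact ⟨(m : Γ) • v, by simp [smul_sub, ← mul_smul, hM m m.2 m0 m0.2]⟩
  obtain ⟨W, ⟨hWne, hWU, hWM⟩, hWmin⟩ := (Set.toFinite {W : AddSubgroup V |
      W ≠ (⊥ : AddSubgroup V) ∧ W ≤ U ∧ ∀ m : M, ∀ v ∈ W, (m : Γ) • v ∈ W}).exists_minimal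
    ⟨U, fun h => hu0 (sub_eq_zero.1 (AddSubgroup.mem_bot.1
      (h ▸ ⟨u0, rfl⟩ : (m0 : Γ) • u0 - u0 ∈ (⊥ : AddSubgroup V)))), le_rfl, hU⟩
  let B : Subgroup M := (fixer Γ (W : Set V)).subgroupOf M
  refine ⟨B, ⟨W, hWne, hWM, fun m hm => mem_fixer.1 hm, fun m hm v hv hmv => ?_⟩, fun h => ?_⟩
  · by_contra hv0
    let W' : AddSubgroup V := W ⊓ (DistribSMul.toAddMonoidHom V (m : Γ) - AddMonoidHom.id V).ker
    have hle := hWmin (y := W') ⟨fun h => hv0 (AddSubgroup.mem_bot.1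
        (h ▸ (⟨hv, by simp [hmv]⟩ : v ∈ W'))),
      inf_le_left.trans hWU, fun y w hw => ⟨hWM y w hw.1, by
        have h1 : (m : Γ) • w = w := sub_eq_zero.1 hw.2
        simp [← mul_smul, hM m m.2 y y.2]
        simp [mul_smul, h1]⟩⟩ inf_le_left
    exact hm (mem_fixer.2 fun w hw => sub_eq_zero.1 (hle hw).2)
  · obtain ⟨v, hv, hv0⟩ : ∃ v ∈ W, v ≠ 0 := W.bot_or_exists_ne_zero.resolve_left hWne
    obtain ⟨y, hy⟩ := hWU hv
    exact hv0 (eq_zero_of_fixed_of_range (hcop.coprime_dvd_left (orderOf_dvd_card_of_mem m0.2))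
      (by rw [← hy]; rfl) (mem_fixer.1 h v hv))

section Elim

variable {M : Subgroup Γ} {ι : Type*} (g : ι → Subgroup.normalizer (M : Set Γ)) (f : ι → M)

/-- Successive elimination of terms in a linear relation between operators. -/
def elimHom : List ι → ι → (V →+ V)
  | [], _ => AddMonoidHom.id V
  | j :: T, i => (elimHom T i).comp
      (DistribSMul.toAddMonoidHom V ((g i • f j : M) : Γ) - DistribSMul.toAddMonoidHom V ((g j • f j : M) : Γ))

theorem elimHom_cons (j : ι) (T : List ι) (i : ι) (v : V) :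
    elimHom (V := V) g f (j :: T) i v
      = elimHom g f T i (((g i • f j : M) : Γ) • v - ((g j • f j : M) : Γ) • v) := rfl

theorem elimHom_smul {x : Γ} (hx : ∀ m : M, x * m = m * x) : ∀ (T : List ι) (i : ι) (v : V),
    elimHom g f T i (x • v) = x • elimHom (V := V) g f T i v
  | [], _, _ => rfl
  | j :: T, i, v => by
    rw [elimHom_cons, elimHom_cons, ← elimHom_smul hx T i, smul_sub, ← mul_smul, ← mul_smul, ← mul_smul,
      ← mul_smul, hx, hx]

theorem elimHom_mem : ∀ (T : List ι) (j : ι), j ∈ T → ∀ v : V, elimHom g f T j v = 0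
  | [], _, h, _ => absurd h List.not_mem_nil
  | k :: T, j, h, v => by
    rw [elimHom_cons]
    rcases List.mem_cons.1 h with rfl | h
    · rw [sub_self, map_zero]
    · exact elimHom_mem T j h _

theorem elimHom_sum (hM : ∀ a ∈ M, ∀ b ∈ M, a * b = b * a) [Fintype ι]
    (hsum : ∀ v : V, ∑ i, (g i : Γ) • v = 0) :
    ∀ (T : List ι) (v : V), ∑ i, elimHom g f T i ((g i : Γ) • v) = 0
  | [], v => by simpa [elimHom] using hsum v
  | j :: T, v => by
    have h1 := elimHom_sum hM hsum T ((f j : Γ) • v)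
    have h2 := congrArg (fun t => ((g j • f j : M) : Γ) • t) (elimHom_sum hM hsum T v)
    simp only [Finset.smul_sum, smul_zero, ← elimHom_smul g f (fun m : M => hM _ (g j • f j : M).2 m m.2)] at h2
    have e : ∀ i, (g i : Γ) • (f j : Γ) • v = ((g i • f j : M) : Γ) • (g i : Γ) • v := fun i => by
      rw [← mul_smul, ← mul_smul]
      congr 1
      show (g i : Γ) * f j = (g i : Γ) * f j * (g i : Γ)⁻¹ * g i
      group
    simp only [e] at h1
    simp only [elimHom_cons, map_sub, Finset.sum_sub_distrib, h1, h2, sub_zero]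

theorem elimHom_inj {B : Subgroup M} {W : AddSubgroup V} (hW : ∀ m : M, ∀ v ∈ W, (m : Γ) • v ∈ W)
    (hfpf : ∀ m ∉ B, ∀ v ∈ W, (m : Γ) • v = v → v = 0) {i : ι} :
    ∀ T : List ι, (∀ j ∈ T, (g j • f j)⁻¹ * g i • f j ∉ B) →
      ∀ v ∈ W, elimHom g f T i v = 0 → v = 0
  | [], _, v, _, h => h
  | j :: T, hT, v, hv, h => by
    rw [elimHom_cons] at h
    have h1 := elimHom_inj hW hfpf T (fun k hk => hT k (List.mem_cons_of_mem _ hk)) _
      (W.sub_mem (hW _ v hv) (hW _ v hv)) h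
    refine hfpf _ (hT j List.mem_cons_self) v hv ?_
    rw [Subgroup.coe_mul, Subgroup.coe_inv, mul_smul, sub_eq_zero.1 h1, inv_smul_smul]

theorem good_smul {B : Subgroup M} (hB : Good V M B) (x : Subgroup.normalizer (M : Set Γ)) :
    Good V M (B.comap (MulDistribMulAction.toMonoidHom M x⁻¹)) := by
  obtain ⟨W, hne, hW, hfix, hfpf⟩ := hB
  have hconj : ∀ m : M, ((x⁻¹ • m : M) : Γ) = (x : Γ)⁻¹ * m * x := fun m => by
    show (x : Γ)⁻¹ * m * ((x : Γ)⁻¹)⁻¹ = _
    rw [inv_inv]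
  have hmove : ∀ (m : M) (v : V), (x : Γ) • ((x⁻¹ • m : M) : Γ) • v = (m : Γ) • (x : Γ) • v := fun m v => by
    rw [← mul_smul, ← mul_smul, hconj]; congr 1; group
  refine ⟨W.map (DistribSMul.toAddMonoidHom V (x : Γ)), fun h => hne ?_, ?_, ?_, ?_⟩
  · rwa [AddSubgroup.map_eq_bot_iff_of_injective _ (MulAction.injective (x : Γ))] at h
  · rintro m _ ⟨v, hv, rfl⟩
    exact ⟨_, hW (x⁻¹ • m) v hv, hmove m v⟩
  · rintro m hm _ ⟨v, hv, rfl⟩
    show (m : Γ) • (x : Γ) • v = (x : Γ) • v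
    rw [← hmove, show ((x⁻¹ • m : M) : Γ) • v = v from hfix _ hm v hv]
  · rintro m hm _ ⟨v, hv, rfl⟩ h
    have h1 : (x : Γ) • ((x⁻¹ • m : M) : Γ) • v = (x : Γ) • v := (hmove m v).trans h
    have h2 : v = 0 := hfpf _ hm v hv (MulAction.injective (x : Γ) h1)
    simp [h2]

end Elim

namespace Setup

variable {s u : Γ} {H : Subgroup Γ}

theorem sss (S : Setup V s u H) : s * s * s = 1 := by rw [← S.s3, pow_three, mul_assoc]

theorem uu (S : Setup V s u H) : u * u = 1 := by rw [← S.u2, pow_two]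

theorem su (S : Setup V s u H) : s * u = u * s⁻¹ := by
  have h : u * s = s⁻¹ * u := by rw [← S.rel]; group
  calc s * u = s * (u * s) * s⁻¹ := by group
    _ = _ := by rw [h]; group

theorem rotate (S : Setup V s u H) : Setup V s (u * s) H where
  faith := S.faith
  s3 := S.s3
  u2 := by
    rw [pow_two]
    calc u * s * (u * s) = u * (s * u) * s := by group
      _ = u * u := by rw [S.su]; group
      _ = 1 := S.uu
  rel := by
    calc u * s * s * (u * s)⁻¹ = u * s * u⁻¹ := by group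
      _ = _ := S.rel
  fixV v h1 h2 := S.fixV v h1 (by rwa [mul_smul, h1] at h2)
  fixH x hx h1 h2 := S.fixH x hx h1 (mul_right_cancel (b := s) (by
    rw [mul_assoc x u s, ← h2, mul_assoc u x s, ← h1, mul_assoc u s x]))
  hs := S.hs
  hu := Subgroup.mul_mem _ S.hu S.hs
  cop := S.cop
  pp := S.pp
  irr W h1 h2 h3 := S.irr W h1 h2 fun v hv => by
    have e : u = u * s * (s * s) := by rw [← mul_assoc, mul_assoc u, mul_assoc u, S.sss, mul_one]
    rw [e, mul_smul, mul_smul s s]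
    exact h3 _ (h2 _ (h2 _ hv))

theorem two_prime_cop (S : Setup V s u H) {K : Subgroup Γ} (hK : K ≤ H) :
    (Nat.card K).Coprime 2 ∧ (Nat.card K).Coprime 3 := by
  have := S.cop.coprime_dvd_left (Subgroup.card_dvd_of_le hK)
  exact ⟨this.coprime_dvd_right (by norm_num), this.coprime_dvd_right (by norm_num)⟩

/-- An element fixed by `s` and `u` modulo an invariant subgroup lies in it. -/
theorem mem_of_fixed_mod (S : Setup V s u H) {K : Subgroup Γ} (hKH : K ≤ H)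
    (hKs : s ∈ Subgroup.normalizer (K : Set Γ)) (hKu : u ∈ Subgroup.normalizer (K : Set Γ)) {x : Γ}
    (hx : x ∈ H) (h1 : x⁻¹ * (s * x * s⁻¹) ∈ K) (h2 : x⁻¹ * (u * x * u⁻¹) ∈ K) : x ∈ K := by
  haveI : Fact (Nat.Prime 3) := ⟨Nat.prime_three⟩
  haveI : Fact (Nat.Prime 2) := ⟨Nat.prime_two⟩
  obtain ⟨k, hk, hk'⟩ := exists_commute_mul S.s3 K hKs (S.two_prime_cop hKH).2 h1
  set y := x * k with hy
  let K2 : Subgroup Γ := K ⊓ Subgroup.centralizer {s}
  have hcs : ∀ c, c ∈ Subgroup.centralizer ({s} : Set Γ) ↔ s * c = c * s := fun c => by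
    simp [Subgroup.mem_centralizer_iff]
  have huc : ∀ c, s * c = c * s → s * (u * c * u⁻¹) = u * c * u⁻¹ * s := fun c hc => by
    have hc' : s⁻¹ * c = c * s⁻¹ := (show Commute s c from hc).inv_left
    calc s * (u * c * u⁻¹) = u * (s⁻¹ * c) * u⁻¹ := by rw [← mul_assoc, ← mul_assoc, S.su]; group
      _ = u * c * u⁻¹ * (u * s * u⁻¹)⁻¹ := by rw [hc']; group
      _ = _ := by rw [S.rel, inv_inv]
  have hK2u : u ∈ Subgroup.normalizer (K2 : Set Γ) := mem_normalizer_of_conj fun c hc =>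
    ⟨conj_mem hKu hc.1, (hcs _).2 (huc c ((hcs c).1 hc.2))⟩
  obtain ⟨k2, hk2, hk2'⟩ := exists_commute_mul S.u2 K2 hK2u
    (S.two_prime_cop (inf_le_left.trans hKH)).1 (x := y) ⟨by
      have e : y⁻¹ * (u * y * u⁻¹) = k⁻¹ * (x⁻¹ * (u * x * u⁻¹)) * (u * k * u⁻¹) := by rw [hy]; group
      rw [e]
      exact K.mul_mem (K.mul_mem (K.inv_mem hk) h2) (conj_mem hKu hk),
      (hcs _).2 ((show Commute s y from hk').inv_right.mul_right (huc y hk')).eq⟩
  have hone := S.fixH (y * k2) (H.mul_mem (H.mul_mem hx (hKH hk)) (hKH hk2.1))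
    ((show Commute s y from hk').mul_right ((hcs _).1 hk2.2)).eq hk2'
  rw [hy, mul_assoc] at hone
  rw [eq_inv_of_mul_eq_one_left hone]
  exact K.inv_mem (K.mul_mem hk hk2.1)

/-- For `x` fixed by `u`, the product of its `s`-orbit lies in any invariant subgroup with abelian
quotient. -/
theorem norm_mem (S : Setup V s u H) {A K : Subgroup Γ} (hAH : A ≤ H) (hKH : K ≤ H)
    (hAs : s ∈ Subgroup.normalizer (A : Set Γ))
    (hKs : s ∈ Subgroup.normalizer (K : Set Γ)) (hKu : u ∈ Subgroup.normalizer (K : Set Γ))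
    (hAK : ∀ a ∈ A, ∀ b ∈ A, ⁅a, b⁆ ∈ K) {x : Γ} (hx : x ∈ A) (hux : u * x = x * u) :
    x * (s * x * s⁻¹) * (s * (s * x * s⁻¹) * s⁻¹) ∈ K := by
  set x1 := s * x * s⁻¹ with h1
  set x2 := s * x1 * s⁻¹ with h2
  have hx1 : x1 ∈ A := conj_mem hAs hx
  have hx2 : x2 ∈ A := conj_mem hAs hx1
  have hu1 : u * x1 * u⁻¹ = x2 := by
    have e : u * s = s * s * u := by
      calc u * s = s⁻¹ * u := by rw [← S.rel]; group
        _ = _ := by rw [inv_eq_of_mul_eq_one_left S.sss]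
    calc u * x1 * u⁻¹ = (u * s) * x * (u * s)⁻¹ := by rw [h1]; group
      _ = s * s * (u * x) * (s * s * u)⁻¹ := by rw [e]; group
      _ = _ := by rw [hux, h2, h1]; group
  have hu2 : u * x2 * u⁻¹ = x1 := by
    rw [← hu1, inv_eq_of_mul_eq_one_right S.uu, ← mul_assoc, ← mul_assoc, S.uu, one_mul, mul_assoc, S.uu,
      mul_one]
  refine S.mem_of_fixed_mod hKH hKs hKu (H.mul_mem (H.mul_mem (hAH hx) (hAH hx1)) (hAH hx2)) ?_ ?_
  · have hs2 : s * x2 * s⁻¹ = x := by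
      calc s * x2 * s⁻¹ = (s * s * s) * x * (s * s * s)⁻¹ := by rw [h2, h1]; group
        _ = x := by rw [S.sss]; group
    have e : (x * x1 * x2)⁻¹ * (s * (x * x1 * x2) * s⁻¹) = ⁅(x1 * x2)⁻¹, x⁻¹⁆ := by
      rw [commutatorElement_def, show s * (x * x1 * x2) * s⁻¹ = x1 * x2 * (s * x2 * s⁻¹) by
        rw [h2, h1]; group, hs2]
      group
    rw [e]
    exact hAK _ (A.inv_mem (A.mul_mem hx1 hx2)) _ (A.inv_mem hx)
  · have hu0 : u * x * u⁻¹ = x := by rw [hux, mul_inv_cancel_right]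
    have e : (x * x1 * x2)⁻¹ * (u * (x * x1 * x2) * u⁻¹) = ⁅x2⁻¹, x1⁻¹⁆ := by
      rw [commutatorElement_def, show u * (x * x1 * x2) * u⁻¹
        = (u * x * u⁻¹) * (u * x1 * u⁻¹) * (u * x2 * u⁻¹) by group, hu0, hu1, hu2]
      group
    rw [e]
    exact hAK _ (A.inv_mem hx2) _ (A.inv_mem hx1)

theorem sum_six (S : Setup V s u H) (v : V) :
    v + s • v + s • s • v + (u • v + u • s • v + u • s • s • v) = 0 := by
  set x := v + s • v + s • s • v with hx
  have hsx : s • x = x := by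
    rw [hx, smul_add, smul_add, show s • s • s • v = v by rw [← mul_smul, ← mul_smul, S.sss, one_smul]]; abel
  have h1 : x + u • x = 0 := by
    refine S.fixV _ ?_ ?_
    · have h2 : s • u • x = u • x := by
        rw [← mul_smul, S.su, mul_smul, show s⁻¹ • x = x from inv_smul_eq_iff.2 hsx.symm]
      rw [smul_add, hsx, h2]
    · rw [smul_add, ← mul_smul, S.uu, one_smul, add_comm]
  rw [← h1, hx, smul_add, smul_add]

/-- A nontrivial invariant normal subgroup has no fixed points on `V`. -/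
theorem no_fix (S : Setup V s u H) {N : Subgroup Γ} (hNH : H ≤ Subgroup.normalizer (N : Set Γ))
    (hNs : s ∈ Subgroup.normalizer (N : Set Γ)) (hNu : u ∈ Subgroup.normalizer (N : Set Γ))
    (hne : N ≠ ⊥) : ∀ v : V, (∀ n ∈ N, n • v = v) → v = 0 := by
  let W : AddSubgroup V :=
    { carrier := {v | ∀ n ∈ N, n • v = v}
      add_mem' := fun {a b} ha hb n hn => by rw [smul_add, ha n hn, hb n hn]
      zero_mem' := fun n _ => smul_zero n
      neg_mem' := fun {a} ha n hn => by rw [smul_neg, ha n hn] }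
  have hinv : ∀ g ∈ Subgroup.normalizer (N : Set Γ), ∀ v ∈ W, g • v ∈ W := by
    intro g hg v hv n hn
    have h1 := hv _ (conj_mem (Subgroup.inv_mem _ hg) hn)
    rw [inv_inv, mul_smul, mul_smul, inv_smul_eq_iff] at h1
    exact h1
  rcases S.irr W (fun x hx => hinv x (hNH hx)) (hinv s hNs) (hinv u hNu) with h | h
  · intro v hv; exact AddSubgroup.mem_bot.1 (h ▸ (show v ∈ W from hv))
  · refine absurd ((Subgroup.eq_bot_iff_forall N).2 fun n hn => S.faith n fun v => ?_) hne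
    exact (show v ∈ W from h ▸ AddSubgroup.mem_top v) n hn

theorem coprime_of_nilpotent (S : Setup V s u H) {Q : Subgroup Γ} [Group.IsNilpotent Q]
    (hQH : H ≤ Subgroup.normalizer (Q : Set Γ)) (hQs : s ∈ Subgroup.normalizer (Q : Set Γ))
    (hQu : u ∈ Subgroup.normalizer (Q : Set Γ)) : (Nat.card Q).Coprime (Nat.card V) := by
  obtain ⟨p, k, hp, hk⟩ := S.pp
  rcases eq_or_ne k 0 with rfl | hk0
  · rw [hk, pow_zero]; exact Nat.coprime_one_right _
  haveI : Fact p.Prime := ⟨hp⟩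
  rw [hk]
  refine hp.coprime_pow_of_not_dvd fun hd => ?_
  obtain ⟨P⟩ := (inferInstance : Nonempty (Sylow p Q))
  have hPn : (P : Subgroup Q).Normal :=
    ((Group.isNilpotent_of_finite_tfae (G := Q)).out 0 3 rfl rfl).1 inferInstance p inferInstance P
  let _ := Sylow.unique_of_normal P hPn
  set N := (P : Subgroup Q).map Q.subtype with hN
  have hNp : IsPGroup p N := P.2.map _
  have hnorm : ∀ g ∈ Subgroup.normalizer (Q : Set Γ), g ∈ Subgroup.normalizer (N : Set Γ) := by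
    intro g hg
    refine mem_normalizer_of_conj ?_
    rintro _ ⟨y, hy, rfl⟩
    refine ⟨⟨g * y * g⁻¹, conj_mem hg y.2⟩, ?_, rfl⟩
    obtain ⟨j, hj⟩ := P.2 ⟨y, hy⟩
    set z : Q := ⟨g * y * g⁻¹, conj_mem hg y.2⟩
    have hz : IsPGroup p (Subgroup.zpowers z) := by
      rintro ⟨w, hw⟩
      obtain ⟨i, rfl⟩ := Subgroup.mem_zpowers_iff.1 hw
      refine ⟨j, Subtype.ext ?_⟩
      have h1 : z ^ p ^ j = 1 := Subtype.ext (by
        have h2 : (y : Γ) ^ p ^ j = 1 := congrArg (fun t : (P : Subgroup Q) => ((t : Q) : Γ)) hj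
        show (g * y * g⁻¹) ^ p ^ j = 1
        rw [conj_pow, h2]; group)
      show (z ^ i) ^ p ^ j = 1
      rw [← zpow_natCast, ← zpow_mul, mul_comm, zpow_mul, zpow_natCast, h1, one_zpow]
    obtain ⟨R, hR⟩ := hz.exists_le_sylow
    rw [Subsingleton.elim R P] at hR
    exact hR (Subgroup.mem_zpowers z)
  have hne : N ≠ ⊥ := by
    rw [hN, Ne, Subgroup.map_eq_bot_iff_of_injective _ Q.subtype_injective]
    exact P.ne_bot_of_dvd_card hd
  have h0 := S.no_fix (fun x hx => hnorm x (hQH hx)) (hnorm s hQs) (hnorm u hQu) hne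
  have hmod := hNp.card_modEq_card_fixedPoints V
  have h1 : Nat.card (MulAction.fixedPoints N V) = 1 := by
    have h2 : ∀ v : MulAction.fixedPoints N V, (v : V) = 0 := fun v => h0 v fun n hn => v.2 ⟨n, hn⟩
    have : Subsingleton (MulAction.fixedPoints N V) := ⟨fun a b => Subtype.ext ((h2 a).trans (h2 b).symm)⟩
    have : Nonempty (MulAction.fixedPoints N V) := ⟨⟨0, fun n => smul_zero (n : Γ)⟩⟩
    exact Nat.card_unique
  rw [h1, hk, Nat.ModEq, Nat.one_mod_eq_one.2 hp.ne_one,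
    Nat.mod_eq_zero_of_dvd (dvd_pow_self p hk0)] at hmod
  exact zero_ne_one hmod

/-- On the range of `z - 1`, for `z` fixed by `s`, the element `s` centralizes `Q` and the derived
subgroup of `Q` is trivial. -/
theorem trivial_on_range (S : Setup V s u H) {Q : Subgroup Γ} [Group.IsNilpotent Q] (hQle : Q ≤ H)
    (hQH : H ≤ Subgroup.normalizer (Q : Set Γ)) (hQs : s ∈ Subgroup.normalizer (Q : Set Γ))
    (hQu : u ∈ Subgroup.normalizer (Q : Set Γ)) {z : Γ} (hz : z ∈ Q) (hzs : s * z = z * s)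
    (hzQ : ∀ q ∈ Q, z * q = q * z) :
    ∀ v : V, (∀ q ∈ Q, (s * q * s⁻¹) • (z • v - v) = q • (z • v - v)) ∧
      ∀ d ∈ (⁅Q, Q⁆ : Subgroup Γ), d • (z • v - v) = z • v - v := by
  have hcopV := S.coprime_of_nilpotent hQH hQs hQu
  -- `u` inverts `z`
  have hz' : u * z * u⁻¹ = z⁻¹ := by
    have hA : u ∈ Subgroup.normalizer ((H ⊓ Subgroup.centralizer {s} : Subgroup Γ) : Set Γ) := by
      refine mem_normalizer_of_conj fun c hc => ⟨conj_mem S.hu hc.1, ?_⟩
      have hc2 : Commute s c := by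
        have := Subgroup.mem_centralizer_iff.1 hc.2 s rfl
        exact this
      refine Subgroup.mem_centralizer_iff.2 fun y hy => ?_
      rw [Set.mem_singleton_iff.1 hy]
      calc s * (u * c * u⁻¹) = u * (s⁻¹ * c) * u⁻¹ := by rw [← mul_assoc, ← mul_assoc, S.su]; group
        _ = u * c * u⁻¹ * (u * s * u⁻¹)⁻¹ := by rw [hc2.inv_left.eq]; group
        _ = _ := by rw [S.rel, inv_inv]
    refine (inverted_of_fpf S.uu hA fun a ha h => S.fixH a ha.1 ?_ h).1 z ⟨hQle hz, ?_⟩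
    · exact Subgroup.mem_centralizer_iff.1 ha.2 s rfl
    · exact Subgroup.mem_centralizer_iff.2 fun y hy => by rw [Set.mem_singleton_iff.1 hy]; exact hzs
  let U : AddSubgroup V := (DistribSMul.toAddMonoidHom V z - AddMonoidHom.id V).range
  let Λ : Subgroup Γ :=
    { carrier := {g | ∀ v, g • v ∈ U ↔ v ∈ U}
      one_mem' := fun v => by rw [one_smul]
      mul_mem' := fun {a b} ha hb v => by rw [mul_smul, ha, hb]
      inv_mem' := fun {a} ha v => by rw [← ha (a⁻¹ • v), smul_inv_smul] }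
  have hΛ : ∀ g, (∀ v ∈ U, g • v ∈ U) → g ∈ Λ := fun g hg v => ⟨fun h => by
    have hinj : Function.Injective (fun w : U => (⟨g • (w : V), hg _ w.2⟩ : U)) := fun a b hab =>
      Subtype.ext (MulAction.injective g (congrArg Subtype.val hab))
    obtain ⟨w, hw⟩ := (Finite.injective_iff_surjective.1 hinj) ⟨g • v, h⟩
    exact MulAction.injective g (congrArg Subtype.val hw) ▸ w.2, hg v⟩
  have hsΛ : s ∈ Λ := hΛ s (by
    rintro _ ⟨w, rfl⟩
    exact ⟨s • w, by simp [smul_sub, ← mul_smul, hzs]⟩)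
  have hQΛ : Q ≤ Λ := fun q hq => hΛ q (by
    rintro _ ⟨w, rfl⟩
    exact ⟨q • w, by simp [smul_sub, ← mul_smul, hzQ q hq]⟩)
  have hsU : ∀ w ∈ U, w + s • w + s • s • w = 0 := by
    intro w hw
    set x := w + s • w + s • s • w with hx
    have hxU : x ∈ U := U.add_mem (U.add_mem hw ((hsΛ w).2 hw)) ((hsΛ _).2 ((hsΛ w).2 hw))
    have hsx : s • x = x := by
      rw [hx, smul_add, smul_add, show s • s • s • w = w by rw [← mul_smul, ← mul_smul, S.sss, one_smul]]; abel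
    have hux : u • x = -x := by
      refine eq_neg_of_add_eq_zero_left (S.fixV _ ?_ ?_)
      · have h2 : s • u • x = u • x := by
          rw [← mul_smul, S.su, mul_smul, show s⁻¹ • x = x from inv_smul_eq_iff.2 hsx.symm]
        rw [smul_add, hsx, h2]
      · rw [smul_add, ← mul_smul, S.uu, one_smul, add_comm]
    have hzx : s • z • x = z • x := by rw [← mul_smul, hzs, mul_smul, hsx]
    have huzx : u • z • x = -(z • x) := by
      refine eq_neg_of_add_eq_zero_left (S.fixV _ ?_ ?_)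
      · have h2 : s • u • z • x = u • z • x := by
          rw [← mul_smul, S.su, mul_smul, show s⁻¹ • z • x = z • x from inv_smul_eq_iff.2 hzx.symm]
        rw [smul_add, hzx, h2]
      · rw [smul_add, ← mul_smul, S.uu, one_smul, add_comm]
    have h3 : z • z • x = x := by
      have h4 : u • z • x = z⁻¹ • u • x := by
        rw [← mul_smul, ← mul_smul, ← hz', inv_mul_cancel_right]
      rw [huzx, hux, smul_neg, neg_inj, eq_inv_smul_iff] at h4
      exact h4
    have h5 : z • x = x := by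
      have h6 : z ^ 2 ∈ MulAction.stabilizer Γ x := by
        rw [MulAction.mem_stabilizer_iff, pow_two, mul_smul, h3]
      exact mem_of_pow_mem ((S.two_prime_cop hQle).1.coprime_dvd_left (orderOf_dvd_card_of_mem hz)).symm h6
    obtain ⟨y, hy⟩ := hxU
    exact eq_zero_of_fixed_of_range (hcopV.coprime_dvd_left (orderOf_dvd_card_of_mem hz))
      (hy.symm : x = z • y - y) h5
  letI : DistribMulAction Λ U :=
    { smul := fun g w => ⟨(g : Γ) • (w : V), (g.2 _).2 w.2⟩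
      one_smul := fun w => Subtype.ext (one_smul Γ (w : V))
      mul_smul := fun a b w => Subtype.ext (mul_smul (a : Γ) (b : Γ) (w : V))
      smul_zero := fun a => Subtype.ext (smul_zero (a : Γ))
      smul_add := fun a x y => Subtype.ext (smul_add (a : Γ) (x : V) y) }
  let ψ : Λ →* (AddMonoid.End U)ˣ := (DistribMulAction.toAddMonoidEnd Λ U).toHomUnits
  have hψ : ∀ (g : Λ) (w : U), ((ψ g • w : U) : V) = (g : Γ) • (w : V) := fun g w => rfl
  haveI : Finite (AddMonoid.End U) := Finite.of_injective (β := U → U) _ DFunLike.coe_injective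
  let Q' : Subgroup (AddMonoid.End U)ˣ := (Q.subgroupOf Λ).map ψ
  haveI : Group.IsNilpotent (Q.subgroupOf Λ) :=
    Group.nilpotent_of_mulEquiv (Subgroup.subgroupOfEquivOfLe hQΛ).symm
  haveI : Group.IsNilpotent Q' :=
    Group.nilpotent_of_surjective (ψ.subgroupMap (Q.subgroupOf Λ)) (ψ.subgroupMap_surjective _)
  have hψs : ψ ⟨s, hsΛ⟩ ^ 3 = 1 := by
    rw [← map_pow, show (⟨s, hsΛ⟩ : Λ) ^ 3 = 1 from Subtype.ext S.s3, map_one]
  have hsUψ : ∀ w : U, w + ψ ⟨s, hsΛ⟩ • w + ψ ⟨s, hsΛ⟩ • ψ ⟨s, hsΛ⟩ • w = 0 := fun w =>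
    Subtype.ext (hsU w w.2)
  have hcop' : (Nat.card Q').Coprime (6 * Nat.card U) := by
    refine Nat.Coprime.coprime_dvd_left ((Subgroup.card_map_dvd (Q.subgroupOf Λ) ψ).trans
      (Nat.card_congr (Subgroup.subgroupOfEquivOfLe hQΛ).toEquiv).dvd) ?_
    exact (S.cop.coprime_dvd_left (Subgroup.card_dvd_of_le hQle)).mul_right
      (hcopV.coprime_dvd_right (AddSubgroup.card_addSubgroup_dvd_card U))
  have hcomm := commute_of_fpf (s := ψ ⟨s, hsΛ⟩)
    (fun g hg => Units.ext (AddMonoidHom.ext fun w => hg w)) hψs hsUψ Q' (by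
      rintro _ ⟨q, hq, rfl⟩
      exact ⟨⟨s * (q : Γ) * s⁻¹, Λ.mul_mem (Λ.mul_mem hsΛ q.2) (Λ.inv_mem hsΛ)⟩, conj_mem hQs hq,
        by rw [← map_inv, ← map_mul, ← map_mul]; rfl⟩) hcop'
  have hsq : ∀ q ∈ Q, ∀ w ∈ U, (s * q * s⁻¹) • w = q • w := by
    intro q hq w hw
    have h := hcomm (ψ ⟨q, hQΛ hq⟩) ⟨_, hq, rfl⟩
    rw [← map_mul, ← map_mul] at h
    have h' := congrArg (fun t : (AddMonoid.End U)ˣ =>
      ((t • (⟨s⁻¹ • w, ((Λ.inv_mem hsΛ) w).2 hw⟩ : U) : U) : V)) h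
    change (s * q) • s⁻¹ • w = (q * s) • s⁻¹ • w at h'
    rwa [← mul_smul, ← mul_smul, mul_inv_cancel_right] at h'
  -- the image of `Q` is inverted by `u`
  have huU : ∀ w ∈ U, u • w ∈ U := by
    rintro _ ⟨y, rfl⟩
    refine ⟨-(z⁻¹ • u • y), ?_⟩
    have h4 : u • z • y = z⁻¹ • u • y := by rw [← mul_smul, ← mul_smul, ← hz', inv_mul_cancel_right]
    simp [smul_sub, h4]
    abel
  let N : Subgroup Γ := Q ⊓ fixer Γ (U : Set V)
  have hNs : s ∈ Subgroup.normalizer (N : Set Γ) := mem_normalizer_of_conj fun d hd =>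
    ⟨conj_mem hQs hd.1, mem_fixer.2 fun w hw => by rw [hsq d hd.1 w hw, mem_fixer.1 hd.2 w hw]⟩
  have hNu : u ∈ Subgroup.normalizer (N : Set Γ) := mem_normalizer_of_conj fun d hd =>
    ⟨conj_mem hQu hd.1, mem_fixer.2 fun w hw => by
      have h1 : u⁻¹ • w ∈ U := by rw [inv_eq_of_mul_eq_one_right S.uu]; exact huU w hw
      rw [mul_smul, mul_smul, mem_fixer.1 hd.2 _ h1, smul_inv_smul]⟩
  have hNn : (N.subgroupOf Q).Normal := ⟨fun d hd q => ⟨(q * d * q⁻¹).2, mem_fixer.2 fun w hw => by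
    have h1 : ((q : Γ))⁻¹ • w ∈ U := ((Λ.inv_mem (hQΛ q.2)) w).2 hw
    show ((q : Γ) * d * (q : Γ)⁻¹) • w = w
    rw [mul_smul, mul_smul, show (d : Γ) • ((q : Γ))⁻¹ • w = ((q : Γ))⁻¹ • w from mem_fixer.1 hd.2 _ h1,
      smul_inv_smul]⟩⟩
  let φ : Q →* Q :=
    { toFun := fun q => ⟨u * q * u⁻¹, conj_mem hQu q.2⟩
      map_one' := by ext; simp
      map_mul' := fun a b => by ext; simp [mul_assoc] }
  let φ' : Q ⧸ N.subgroupOf Q →* Q ⧸ N.subgroupOf Q :=
    QuotientGroup.map _ _ φ fun d hd => conj_mem hNu hd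
  have hfree : MonoidHom.FixedPointFree φ' := by
    intro a ha
    induction a using QuotientGroup.induction_on with
    | H q =>
      rw [show φ' (q : Q ⧸ N.subgroupOf Q) = ((φ q : Q) : Q ⧸ N.subgroupOf Q) from rfl] at ha
      refine (QuotientGroup.eq_one_iff q).2 ?_
      have h1 : (q : Γ)⁻¹ * (u * q * u⁻¹) ∈ N := by
        have := QuotientGroup.eq.1 ha.symm
        exact this
      exact S.mem_of_fixed_mod (inf_le_left.trans hQle) hNs hNu (hQle q.2)
        ⟨Q.mul_mem (Q.inv_mem q.2) (conj_mem hQs q.2), mem_fixer.2 fun w hw => by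
          rw [mul_smul, Subgroup.coe_subtype, hsq q q.2 w hw, inv_smul_smul]⟩ h1
  have hinv : Function.Involutive φ' := by
    intro a
    induction a using QuotientGroup.induction_on with
    | H q =>
      show ((φ (φ q) : Q) : Q ⧸ N.subgroupOf Q) = (q : Q ⧸ N.subgroupOf Q)
      congr 1
      refine Subtype.ext ?_
      show u * (u * q * u⁻¹) * u⁻¹ = (q : Γ)
      rw [inv_eq_of_mul_eq_one_right S.uu, ← mul_assoc, ← mul_assoc, S.uu, one_mul, mul_assoc, S.uu, mul_one]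
  have hder : (⁅Q, Q⁆ : Subgroup Γ) ≤ N := Subgroup.commutator_le.2 fun a ha b hb => by
    have h1 : (((⁅(⟨a, ha⟩ : Q), (⟨b, hb⟩ : Q)⁆ : Q)) : Q ⧸ N.subgroupOf Q) = 1 := by
      rw [← QuotientGroup.mk'_apply, map_commutatorElement, commutatorElement_eq_one_iff_mul_comm]
      exact hfree.commute_all_of_involutive hinv _ _
    exact (QuotientGroup.eq_one_iff (N := N.subgroupOf Q) (⁅(⟨a, ha⟩ : Q), (⟨b, hb⟩ : Q)⁆)).1 h1
  exact fun v => ⟨fun q hq => hsq q hq _ ⟨v, rfl⟩, fun d hd => mem_fixer.1 (hder hd).2 _ ⟨v, rfl⟩⟩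

/-- The six elements of `⟨s, u⟩` inside the normalizer of `M`. -/
def six {M : Subgroup Γ} (a b : Subgroup.normalizer (M : Set Γ)) : Fin 6 → Subgroup.normalizer (M : Set Γ) :=
  ![1, a, a * a, b, b * a, b * a * a]

theorem six_sum (S : Setup V s u H) {M : Subgroup Γ} (hs : s ∈ Subgroup.normalizer (M : Set Γ))
    (hu : u ∈ Subgroup.normalizer (M : Set Γ)) (v : V) :
    ∑ i, ((six (M := M) ⟨s, hs⟩ ⟨u, hu⟩ i : Subgroup.normalizer (M : Set Γ)) : Γ) • v = 0 := by
  rw [Fin.sum_univ_six]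
  show (1 : Γ) • v + s • v + (s * s) • v + u • v + (u * s) • v + (u * s * s) • v = 0
  rw [one_smul, mul_smul, mul_smul, mul_smul, mul_smul, ← S.sum_six v]
  abel

/-- Every kernel has a nontrivial stabilizer in `⟨s, u⟩`. -/
theorem type_of_good (S : Setup V s u H) {M : Subgroup Γ} (hM : ∀ a ∈ M, ∀ b ∈ M, a * b = b * a)
    (hs : s ∈ Subgroup.normalizer (M : Set Γ)) (hu : u ∈ Subgroup.normalizer (M : Set Γ))
    {B : Subgroup M} (hB : Good V M B) :
    (∀ f : M, ((⟨s, hs⟩ : Subgroup.normalizer (M : Set Γ)) • f)⁻¹ * f ∈ B) ∨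
    (∀ f : M, ((⟨u, hu⟩ : Subgroup.normalizer (M : Set Γ)) • f)⁻¹ * f ∈ B) ∨
    (∀ f : M, (((⟨u, hu⟩ : Subgroup.normalizer (M : Set Γ)) * ⟨s, hs⟩) • f)⁻¹ * f ∈ B) ∨
    (∀ f : M, (((⟨u, hu⟩ : Subgroup.normalizer (M : Set Γ)) * ⟨s, hs⟩ * ⟨s, hs⟩) • f)⁻¹ * f ∈ B) := by
  classical
  set gs : Subgroup.normalizer (M : Set Γ) := ⟨s, hs⟩ with hgs
  set gu : Subgroup.normalizer (M : Set Γ) := ⟨u, hu⟩ with hgu
  by_contra hcon
  push Not at hcon
  obtain ⟨⟨f1, h1⟩, ⟨f3, h3⟩, ⟨f4, h4⟩, ⟨f5, h5⟩⟩ := hcon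
  obtain ⟨f2, h2⟩ : ∃ f : M, ((gs * gs) • f)⁻¹ * f ∉ B := by
    by_contra h
    push Not at h
    refine h1 ?_
    have := B.mul_mem (h ((gs * gs) • f1)) (h f1)
    rw [← mul_smul, mul_assoc ((gs * gs * (gs * gs)) • f1)⁻¹, mul_inv_cancel_left] at this
    rwa [show gs * gs * (gs * gs) = gs from Subtype.ext (by
      show s * s * (s * s) = s
      rw [← mul_assoc, S.sss, one_mul])] at this
  obtain ⟨W, hne, hW, -, hfpf⟩ := hB
  obtain ⟨v, hv, hv0⟩ : ∃ v ∈ W, v ≠ 0 := W.bot_or_exists_ne_zero.resolve_left hne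
  let f : Fin 6 → M := ![1, f1, f2, f3, f4, f5]
  have hsum := elimHom_sum (six gs gu) f hM (fun v => S.six_sum hs hu v) [1, 2, 3, 4, 5] v
  rw [Fin.sum_univ_six, elimHom_mem _ _ _ (1 : Fin 6) (by simp), elimHom_mem _ _ _ (2 : Fin 6) (by simp),
    elimHom_mem _ _ _ (3 : Fin 6) (by simp), elimHom_mem _ _ _ (4 : Fin 6) (by simp),
    elimHom_mem _ _ _ (5 : Fin 6) (by simp)] at hsum
  simp only [add_zero] at hsum
  have h0 : ((six gs gu 0 : Subgroup.normalizer (M : Set Γ)) : Γ) • v = v := one_smul Γ v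
  rw [h0] at hsum
  refine hv0 (elimHom_inj (six gs gu) f hW hfpf _ ?_ v hv hsum)
  intro j hj
  simp only [List.mem_cons, List.not_mem_nil, or_false] at hj
  rcases hj with rfl | rfl | rfl | rfl | rfl <;> simp [six, f] <;> assumption

/-- The key step: a transposition cannot act trivially modulo a proper kernel of the last nontrivial
commutator subgroup. -/
theorem core_absurd (S : Setup V s u H) {Q K M : Subgroup Γ} (hQle : Q ≤ H)
    (hQs : s ∈ Subgroup.normalizer (Q : Set Γ)) (hQu : u ∈ Subgroup.normalizer (Q : Set Γ))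
    (hKQ : K ≤ Q) (hKs : s ∈ Subgroup.normalizer (K : Set Γ)) (hKu : u ∈ Subgroup.normalizer (K : Set Γ))
    (hMdef : M = ⁅K, Q⁆) (hMQ : M ≤ Q) (hMc : ∀ m ∈ M, ∀ q ∈ Q, m * q = q * m)
    (hKD : ∀ k ∈ K, ∀ d ∈ (⁅Q, Q⁆ : Subgroup Γ), k * d = d * k)
    (hs : s ∈ Subgroup.normalizer (M : Set Γ)) (hu : u ∈ Subgroup.normalizer (M : Set Γ))
    (hz : ∀ m ∈ M, s * m = m * s → m = 1) {B : Subgroup M} (hB : Good V M B) {m0 : M} (hm0 : m0 ∉ B)
    (ht : ∀ f : M, ((⟨u, hu⟩ : Subgroup.normalizer (M : Set Γ)) • f)⁻¹ * f ∈ B) : False := by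
  classical
  set gs : Subgroup.normalizer (M : Set Γ) := ⟨s, hs⟩ with hgs
  set gu : Subgroup.normalizer (M : Set Γ) := ⟨u, hu⟩ with hgu
  have hMcomm : ∀ a ∈ M, ∀ b ∈ M, a * b = b * a := fun a ha b hb => hMc a ha b (hMQ hb)
  letI : CommGroup M :=
    { (inferInstance : Group M) with mul_comm := fun a b => Subtype.ext (hMcomm a a.2 b b.2) }
  have hsss : gs * gs * gs = 1 := Subtype.ext S.sss
  have hns : ¬ ∀ f : M, (gs • f)⁻¹ * f ∈ B := by
    intro h
    refine hm0 ?_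
    let φ : M → M := fun f => (gs • f)⁻¹ * f
    have hφ : Function.Injective φ := by
      intro a b hab
      have h1 : gs • (a * b⁻¹) = a * b⁻¹ := by
        have h2 : (gs • a)⁻¹ * a = (gs • b)⁻¹ * b := hab
        rw [inv_mul_eq_iff_eq_mul] at h2
        rw [smul_mul', smul_inv']
        conv_rhs => rw [h2]
        rw [mul_assoc (gs • a) ((gs • b)⁻¹ * b), mul_assoc _ b, mul_inv_cancel, mul_one]
      have h3 : s * ((a * b⁻¹ : M) : Γ) = ((a * b⁻¹ : M) : Γ) * s :=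
        mul_inv_eq_iff_eq_mul.1 (congrArg Subtype.val h1)
      exact mul_inv_eq_one.1 (Subtype.ext (hz _ (a * b⁻¹ : M).2 h3))
    obtain ⟨g, rfl⟩ := (Finite.injective_iff_surjective.1 hφ) m0
    exact h g
  have hns2 : ¬ ∀ f : M, ((gs * gs) • f)⁻¹ * f ∈ B := fun h => hns fun f => by
    have := B.mul_mem (h ((gs * gs) • f)) (h f)
    rw [← mul_smul, mul_assoc ((gs * gs * (gs * gs)) • f)⁻¹, mul_inv_cancel_left] at this
    rwa [show gs * gs * (gs * gs) = gs by rw [← mul_assoc, hsss, one_mul]] at this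
  have hns4 : ¬ ∀ f : M, ((gu * gs) • f)⁻¹ * f ∈ B := fun h => hns fun f => by
    have := B.mul_mem (B.inv_mem (ht (gs • f))) (h f)
    rwa [← mul_smul, mul_inv_rev, inv_inv, mul_assoc, mul_inv_cancel_left] at this
  have hns5 : ¬ ∀ f : M, ((gu * gs * gs) • f)⁻¹ * f ∈ B := fun h => hns fun f => by
    have := B.mul_mem (B.inv_mem (h (gs • f))) (ht f)
    rw [← mul_smul, mul_assoc (gu * gs), mul_assoc gu, ← mul_assoc gs, hsss, mul_one,
      mul_inv_rev, inv_inv, mul_assoc, mul_inv_cancel_left] at this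
    exact this
  push Not at hns hns2 hns4 hns5
  obtain ⟨f1, h1⟩ := hns
  obtain ⟨f2, h2⟩ := hns2
  obtain ⟨f4, h4⟩ := hns4
  obtain ⟨f5, h5⟩ := hns5
  obtain ⟨W, hne, hW, hfixW, hfpf⟩ := hB
  let f : Fin 6 → M := ![1, f1, f2, 1, f4, f5]
  let T : List (Fin 6) := [1, 2, 4, 5]
  set E := elimHom (V := V) (six gs gu) f T 0 with hE
  have hEinj : ∀ w ∈ W, E w = 0 → w = 0 := by
    refine fun w hw => elimHom_inj (six gs gu) f hW hfpf T ?_ w hw
    intro j hj
    simp only [T, List.mem_cons, List.not_mem_nil, or_false] at hj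
    rcases hj with rfl | rfl | rfl | rfl <;> simp [six, f] <;> assumption
  have hEq : ∀ q ∈ Q, ∀ v, E (q • v) = q • E v := fun q hq v =>
    elimHom_smul _ f (fun m : M => (hMc m m.2 q hq).symm) T 0 v
  have hrel : ∀ v, E v + elimHom (six gs gu) f T 3 (u • v) = 0 := by
    intro v
    have hsum := elimHom_sum (six gs gu) f hMcomm (fun v => S.six_sum hs hu v) T v
    rw [Fin.sum_univ_six, elimHom_mem _ _ _ (1 : Fin 6) (by simp [T]), elimHom_mem _ _ _ (2 : Fin 6) (by simp [T]),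
      elimHom_mem _ _ _ (4 : Fin 6) (by simp [T]), elimHom_mem _ _ _ (5 : Fin 6) (by simp [T])] at hsum
    simp only [add_zero] at hsum
    have h0 : ((six gs gu 0 : Subgroup.normalizer (M : Set Γ)) : Γ) • v = v := one_smul Γ v
    rw [h0] at hsum
    exact hsum
  -- on the range of `E`, the element `u` acts trivially on `Q`
  have hEu : ∀ q ∈ Q, ∀ v, E ((u * q * u⁻¹) • v) = E (q • v) := by
    intro q hq v
    rw [hEq _ (conj_mem hQu hq), eq_neg_of_add_eq_zero_left (hrel v), smul_neg,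
      ← elimHom_smul _ f (fun m : M => (hMc m m.2 _ (conj_mem hQu hq)).symm) T 3,
      eq_neg_of_add_eq_zero_left (hrel (q • v)), ← mul_smul, ← mul_smul, inv_mul_cancel_right]
  let KE : Subgroup Γ :=
    { carrier := {q | q ∈ Q ∧ ∀ v, E (q • v) = E v}
      one_mem' := ⟨Q.one_mem, fun v => by rw [one_smul]⟩
      mul_mem' := fun {a b} ha hb => ⟨Q.mul_mem ha.1 hb.1, fun v => by rw [mul_smul, ha.2, hb.2]⟩
      inv_mem' := fun {a} ha => ⟨Q.inv_mem ha.1, fun v => by rw [← ha.2 (a⁻¹ • v), smul_inv_smul]⟩ }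
  have hKEn : ∀ q ∈ Q, ∀ k ∈ KE, q * k * q⁻¹ ∈ KE := fun q hq k hk =>
    ⟨Q.mul_mem (Q.mul_mem hq hk.1) (Q.inv_mem hq), fun v => by
      rw [mul_smul, mul_smul, hEq q hq, hk.2, ← hEq q hq, smul_inv_smul]⟩
  have hKEu : u ∈ Subgroup.normalizer (KE : Set Γ) := mem_normalizer_of_conj fun k hk =>
    ⟨conj_mem hQu hk.1, fun v => by rw [hEu k hk.1 v, hk.2]⟩
  have hcong : ∀ q ∈ Q, q⁻¹ * (u * q * u⁻¹) ∈ KE := fun q hq =>
    ⟨Q.mul_mem (Q.inv_mem hq) (conj_mem hQu hq), fun v => by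
      rw [mul_smul, hEq _ (Q.inv_mem hq), hEu q hq, hEq q hq, inv_smul_smul]⟩
  -- bimultiplicativity
  have hcM : ∀ k ∈ K, ∀ q ∈ Q, ⁅k, q⁆ ∈ M := fun k hk q hq =>
    hMdef ▸ Subgroup.commutator_mem_commutator hk hq
  have hL : ∀ k ∈ K, ∀ k' ∈ K, ∀ q ∈ Q, ⁅k * k', q⁆ = ⁅k, q⁆ * ⁅k', q⁆ := fun k hk k' hk' q hq => by
    calc ⁅k * k', q⁆ = k * ⁅k', q⁆ * k⁻¹ * ⁅k, q⁆ := by simp only [commutatorElement_def]; group
      _ = ⁅k', q⁆ * ⁅k, q⁆ := by rw [← hMc _ (hcM k' hk' q hq) k (hKQ hk)]; group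
      _ = _ := hMcomm _ (hcM k' hk' q hq) _ (hcM k hk q hq)
  have hR : ∀ k ∈ K, ∀ q ∈ Q, ∀ q' ∈ Q, ⁅k, q * q'⁆ = ⁅k, q⁆ * ⁅k, q'⁆ := fun k hk q hq q' hq' => by
    calc ⁅k, q * q'⁆ = ⁅k, q⁆ * (q * ⁅k, q'⁆ * q⁻¹) := by simp only [commutatorElement_def]; group
      _ = _ := by rw [← hMc _ (hcM k hk q' hq') q hq, mul_inv_cancel_right]
  have hconj : ∀ g a b : Γ, g * ⁅a, b⁆ * g⁻¹ = ⁅g * a * g⁻¹, g * b * g⁻¹⁆ := fun g a b => by
    simp only [commutatorElement_def]; group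
  -- all commutators of elements fixed by `u` lie in `KE`
  have main : ∀ a ∈ K, ∀ b ∈ Q, u * a = a * u → u * b = b * u → ⁅a, b⁆ ∈ KE := by
    intro a ha b hb hua hub
    set a1 := s * a * s⁻¹ with ha1
    set a2 := s * a1 * s⁻¹ with ha2
    set b1 := s * b * s⁻¹ with hb1
    set b2 := s * b1 * s⁻¹ with hb2
    have ha1K : a1 ∈ K := conj_mem hKs ha
    have ha2K : a2 ∈ K := conj_mem hKs ha1K
    have hb1Q : b1 ∈ Q := conj_mem hQs hb
    have hb2Q : b2 ∈ Q := conj_mem hQs hb1Q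
    have hus : u * s = s * s * u := by
      calc u * s = s⁻¹ * u := by rw [← S.rel]; group
        _ = _ := by rw [inv_eq_of_mul_eq_one_left S.sss]
    have hu1 : ∀ x, u * x = x * u → u * (s * x * s⁻¹) * u⁻¹ = s * (s * x * s⁻¹) * s⁻¹ := fun x hx => by
      calc u * (s * x * s⁻¹) * u⁻¹ = (u * s) * x * (u * s)⁻¹ := by group
        _ = s * s * (u * x) * (s * s * u)⁻¹ := by rw [hus]; group
        _ = _ := by rw [hx]; group
    have hua' : u * a * u⁻¹ = a := by rw [hua, mul_inv_cancel_right]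
    have hNb : ⁅a, b * b1 * b2⁆ = 1 := by
      rw [commutatorElement_eq_one_iff_mul_comm]
      refine hKD a ha _ ?_
      have hDH : (⁅Q, Q⁆ : Subgroup Γ) ≤ H := le_trans (Subgroup.commutator_le.2 fun x hx y hy => by
        rw [commutatorElement_def]
        exact Q.mul_mem (Q.mul_mem (Q.mul_mem hx hy) (Q.inv_mem hx)) (Q.inv_mem hy)) hQle
      exact S.norm_mem hQle hDH hQs (commutator_normalized hQs hQs) (commutator_normalized hQu hQu)
        (fun x hx y hy => Subgroup.commutator_mem_commutator hx hy) hb hub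
    have hNa : ⁅a * a1 * a2, b1⁆ = 1 := by
      rw [commutatorElement_eq_one_iff_mul_comm]
      exact hMc _ (S.norm_mem (hKQ.trans hQle) (hMQ.trans hQle) hKs hs hu
        (fun x hx y hy => hcM x hx y (hKQ hy)) ha hua) _ hb1Q
    rw [hR a ha _ (Q.mul_mem hb hb1Q) _ hb2Q, hR a ha _ hb _ hb1Q] at hNb
    rw [hL _ (K.mul_mem ha ha1K) _ ha2K _ hb1Q, hL _ ha _ ha1K _ hb1Q] at hNa
    let X00 : M := ⟨⁅a, b⁆, hcM a ha b hb⟩
    let X01 : M := ⟨⁅a, b1⁆, hcM a ha b1 hb1Q⟩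
    let X11 : M := ⟨⁅a1, b1⁆, hcM a1 ha1K b1 hb1Q⟩
    let KM : Subgroup M := KE.subgroupOf M
    have hmod : ∀ x : M, x⁻¹ * (gu • x) ∈ KM := fun x => hcong x (hMQ x.2)
    have e1 : X00 * X01 ^ 2 ∈ KM := by
      have h1 : X00 * X01 * (gu • X01) = 1 := Subtype.ext (by
        show ⁅a, b⁆ * ⁅a, b1⁆ * (u * ⁅a, b1⁆ * u⁻¹) = 1
        rw [hconj, hua', hb1, hu1 b hub]
        exact hNb)
      have h2 : X00 * X01 ^ 2 = (X01⁻¹ * (gu • X01))⁻¹ := by
        rw [mul_inv_rev, inv_inv, pow_two, ← mul_assoc X00, eq_inv_mul_iff_mul_eq,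
          mul_comm (gu • X01), mul_assoc, mul_comm X01 (gu • X01), ← mul_assoc, h1, one_mul]
      exact h2 ▸ KM.inv_mem (hmod _)
    have e2 : X01 * X11 ^ 2 ∈ KM := by
      set k := a2 * a1⁻¹ with hk
      have hkK : k ∈ K := K.mul_mem ha2K (K.inv_mem ha1K)
      have hkE : k ∈ KE := by
        have h3 := hKEn a1 (hKQ ha1K) _ (hcong a1 (hKQ ha1K))
        rwa [show a1 * (a1⁻¹ * (u * a1 * u⁻¹)) * a1⁻¹ = u * a1 * u⁻¹ * a1⁻¹ by group, ha1, hu1 a hua,
          ← ha1] at h3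
      have h1 : ⁅a2, b1⁆ = ⁅k, b1⁆ * ⁅a1, b1⁆ := by
        rw [← hL k hkK a1 ha1K b1 hb1Q, hk, inv_mul_cancel_right]
      have h3 : (⟨⁅k, b1⁆, hcM k hkK b1 hb1Q⟩ : M) ∈ KM := by
        show ⁅k, b1⁆ ∈ KE
        rw [commutatorElement_def, mul_assoc k, mul_assoc k]
        exact KE.mul_mem hkE (hKEn b1 hb1Q _ (KE.inv_mem hkE))
      have h4 : (X01 * X11 ^ 2) * ⟨⁅k, b1⁆, hcM k hkK b1 hb1Q⟩ = 1 := by
        have h5 : X01 * X11 * (⟨⁅k, b1⁆, hcM k hkK b1 hb1Q⟩ * X11) = 1 := Subtype.ext (by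
          show ⁅a, b1⁆ * ⁅a1, b1⁆ * (⁅k, b1⁆ * ⁅a1, b1⁆) = 1
          rw [← h1]; exact hNa)
        rw [← h5, pow_two]; ac_rfl
      rw [eq_inv_of_mul_eq_one_left h4]
      exact KM.inv_mem h3
    have e3 : X00 * X11 ^ 2 ∈ KM := by
      have h1 : X00 * X11 * (gu • X11) = 1 := by
        have hX11 : X11 = gs • X00 := Subtype.ext (hconj s a b).symm
        have h2 : gu • X11 = gs • X11 := Subtype.ext (by
          show u * ⁅a1, b1⁆ * u⁻¹ = s * ⁅a1, b1⁆ * s⁻¹
          rw [hconj, hconj, ha1, hb1, hu1 a hua, hu1 b hub])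
        rw [h2, hX11]
        refine Subtype.ext (hz _ (X00 * gs • X00 * gs • gs • X00).2 ?_)
        have h3 : gs • (X00 * gs • X00 * gs • gs • X00) = X00 * gs • X00 * gs • gs • X00 := by
          rw [smul_mul', smul_mul', show gs • gs • gs • X00 = X00 by rw [← mul_smul, ← mul_smul, hsss, one_smul]]
          ac_rfl
        exact mul_inv_eq_iff_eq_mul.1 (congrArg Subtype.val h3)
      have h2 : X00 * X11 ^ 2 = (X11⁻¹ * (gu • X11))⁻¹ := by
        rw [mul_inv_rev, inv_inv, pow_two, ← mul_assoc X00, eq_inv_mul_iff_mul_eq,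
          mul_comm (gu • X11), mul_assoc, mul_comm X11 (gu • X11), ← mul_assoc, h1, one_mul]
      exact h2 ▸ KM.inv_mem (hmod _)
    have e4 : X00 ^ 3 ∈ KM := by
      have h1 : X00 * X11 ^ 2 * (X01 * X11 ^ 2)⁻¹ = X00 * X01⁻¹ := by
        rw [mul_inv_rev, mul_assoc, mul_inv_cancel_left]
      have h2 : X00 ^ 3 = X00 * X01 ^ 2 * (X00 * X01⁻¹) ^ 2 := by
        calc X00 ^ 3 = X00 * X00 ^ 2 * (X01 ^ 2 * (X01 ^ 2)⁻¹) := by
              rw [mul_inv_cancel, mul_one, ← pow_succ']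
          _ = _ := by rw [mul_pow X00, inv_pow]; ac_rfl
      rw [h2, ← h1]
      exact KM.mul_mem e1 (KM.pow_mem (KM.mul_mem e3 (KM.inv_mem e2)) 2)
    exact mem_of_pow_mem ((S.two_prime_cop hQle).2.coprime_dvd_left
      (orderOf_dvd_card_of_mem (hMQ (hcM a ha b hb)))).symm (show ⁅a, b⁆ ^ 3 ∈ KE from e4)
  haveI : Fact (Nat.Prime 2) := ⟨Nat.prime_two⟩
  have hall : M ≤ KE := by
    refine le_of_eq_of_le hMdef (Subgroup.commutator_le.2 fun a ha b hb => ?_)
    have hKKu : u ∈ Subgroup.normalizer ((KE ⊓ K : Subgroup Γ) : Set Γ) := mem_normalizer_of_conj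
      fun c hc => ⟨conj_mem hKEu hc.1, conj_mem hKu hc.2⟩
    obtain ⟨k, hk, hak⟩ := exists_commute_mul S.u2 _ hKKu
      (S.two_prime_cop (inf_le_right.trans (hKQ.trans hQle))).1 (x := a)
      ⟨hcong a (hKQ ha), K.mul_mem (K.inv_mem ha) (conj_mem hKu ha)⟩
    obtain ⟨l, hl, hbl⟩ := exists_commute_mul S.u2 KE hKEu
      (S.two_prime_cop (show KE ≤ H from fun x hx => hQle hx.1)).1 (x := b) (hcong b hb)
    have haK : a * k ∈ K := K.mul_mem ha hk.2
    have hbQ : b * l ∈ Q := Q.mul_mem hb hl.1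
    have h1 := main _ haK _ hbQ hak hbl
    have h2 : ⁅a, b⁆ = ⁅a * k, b⁆ * ⁅k⁻¹, b⁆ := by
      rw [← hL _ haK _ (K.inv_mem hk.2) b hb, mul_inv_cancel_right]
    have h3 : ⁅a * k, b⁆ = ⁅a * k, b * l⁆ * ⁅a * k, l⁻¹⁆ := by
      rw [← hR _ haK _ hbQ _ (Q.inv_mem hl.1), mul_inv_cancel_right]
    rw [h2, h3]
    refine KE.mul_mem (KE.mul_mem h1 ?_) ?_
    · rw [commutatorElement_def, inv_inv]
      exact KE.mul_mem (hKEn _ (hKQ haK) _ (KE.inv_mem hl)) hl
    · rw [commutatorElement_def, inv_inv, mul_assoc k⁻¹, mul_assoc k⁻¹]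
      exact KE.mul_mem (KE.inv_mem hk.1) (hKEn b hb _ hk.1)
  obtain ⟨v, hv, hv0⟩ : ∃ v ∈ W, v ≠ 0 := W.bot_or_exists_ne_zero.resolve_left hne
  refine hv0 (hfpf m0 hm0 v hv (sub_eq_zero.1 (hEinj _ (W.sub_mem (hW m0 v hv) hv) ?_)))
  rw [map_sub, (hall m0.2).2 v, sub_self]

/-- An invariant nilpotent normal subgroup of `H` is commutative. -/
theorem commute_of_nilpotent (S : Setup V s u H) {Q : Subgroup Γ} [hnil : Group.IsNilpotent Q] (hQle : Q ≤ H)
    (hQH : H ≤ Subgroup.normalizer (Q : Set Γ)) (hQs : s ∈ Subgroup.normalizer (Q : Set Γ))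
    (hQu : u ∈ Subgroup.normalizer (Q : Set Γ)) : ∀ a ∈ Q, ∀ b ∈ Q, a * b = b * a := by
  classical
  by_contra hcon
  let L : ℕ → Subgroup Γ := fun n => Q.lowerCentralSeries n
  have hsucc : ∀ n, L (n + 1) = ⁅L n, Q⁆ := fun n => rfl
  have hLQ : ∀ n, L n ≤ Q := fun n => by
    induction n with
    | zero => exact le_rfl
    | succ n ih =>
      rw [hsucc]
      refine (Subgroup.commutator_mono ih le_rfl).trans (Subgroup.commutator_le.2 fun x hx y hy => ?_)
      rw [commutatorElement_def]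
      exact Q.mul_mem (Q.mul_mem (Q.mul_mem hx hy) (Q.inv_mem hx)) (Q.inv_mem hy)
  have hLn : ∀ g ∈ Subgroup.normalizer (Q : Set Γ), ∀ n : ℕ, g ∈ Subgroup.normalizer (SetLike.coe (L n)) := fun g hg n => by
    induction n with
    | zero => exact hg
    | succ n ih => exact commutator_normalized ih hg
  have hex : ∃ n : ℕ, L n = (⊥ : Subgroup Γ) := by
    obtain ⟨n, hn⟩ := (Subgroup.isNilpotent_iff_lowerCentralSeries Q).1 hnil
    exact ⟨n, hn⟩
  haveI : DecidablePred fun n : ℕ => L n = (⊥ : Subgroup Γ) := Classical.decPred _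
  obtain ⟨n, hn⟩ : ∃ n, Nat.find hex = n + 2 := by
    refine ⟨Nat.find hex - 2, ?_⟩
    by_contra h
    have hle : Nat.find hex ≤ 1 := by omega
    apply hcon
    intro a ha b hb
    refine commutatorElement_eq_one_iff_mul_comm.1 (Subgroup.mem_bot.1 ?_)
    have hspec := Nat.find_spec hex
    rcases (show Nat.find hex = 0 ∨ Nat.find hex = 1 by omega) with h1 | h1 <;> rw [h1] at hspec
    · have ha' : a ∈ (⊥ : Subgroup Γ) := hspec ▸ ha
      rw [Subgroup.mem_bot] at ha'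
      simp [ha']
    · exact hspec ▸ Subgroup.commutator_mem_commutator ha hb
  have hK2 : L (n + 1) ≠ ⊥ := Nat.find_min hex (m := n + 1) (by omega)
  have hbot : ⁅⁅L n, Q⁆, Q⁆ = ⊥ := by
    have h : L (n + 2) = ⊥ := hn ▸ Nat.find_spec hex
    rwa [hsucc, hsucc] at h
  set K := L n with hKdef
  set M := L (n + 1) with hMdef
  have hMc : ∀ m ∈ M, ∀ q ∈ Q, m * q = q * m := fun m hm q hq =>
    commutatorElement_eq_one_iff_mul_comm.1 (Subgroup.mem_bot.1
      (hbot ▸ Subgroup.commutator_mem_commutator hm hq))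
  have hKD : ∀ k ∈ K, ∀ d ∈ (⁅Q, Q⁆ : Subgroup Γ), k * d = d * k := fun k hk d hd => by
    have h : ⁅⁅Q, Q⁆, K⁆ = ⊥ := Subgroup.commutator_commutator_eq_bot_of_rotate
      (by rw [Subgroup.commutator_comm Q K]; exact hbot) hbot
    exact (commutatorElement_eq_one_iff_mul_comm.1 (Subgroup.mem_bot.1
      (h ▸ Subgroup.commutator_mem_commutator hd hk))).symm
  have hs : s ∈ Subgroup.normalizer (M : Set Γ) := hLn s hQs (n + 1)
  have hu : u ∈ Subgroup.normalizer (M : Set Γ) := hLn u hQu (n + 1)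
  have hMQ : M ≤ Q := hLQ _
  have hcopV := S.coprime_of_nilpotent hQH hQs hQu
  have hz : ∀ m ∈ M, s * m = m * s → m = 1 := by
    intro m hm hsm
    refine S.faith m fun v => sub_eq_zero.1 ?_
    have h := (S.trivial_on_range hQle hQH hQs hQu (hMQ hm) hsm (fun q hq => hMc m hm q hq) v).2 m
      ((le_of_eq_of_le (hsucc n) (Subgroup.commutator_mono (hLQ n) le_rfl) : M ≤ ⁅Q, Q⁆) hm)
    exact eq_zero_of_fixed_of_range (hcopV.coprime_dvd_left (orderOf_dvd_card_of_mem (hMQ hm))) rfl h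
  obtain ⟨m0, hm0⟩ : ∃ m : M, m ≠ 1 := by
    by_contra h
    push Not at h
    exact hK2 ((Subgroup.eq_bot_iff_forall _).2 fun x hx => congrArg Subtype.val (h ⟨x, hx⟩))
  have hMcomm : ∀ a ∈ M, ∀ b ∈ M, a * b = b * a := fun a ha b hb => hMc a ha b (hMQ hb)
  obtain ⟨B, hB, hm0B⟩ := exists_good S.faith M hMcomm
    (hcopV.coprime_dvd_left (Subgroup.card_dvd_of_le hMQ)) hm0
  rcases S.type_of_good hMcomm hs hu hB with h | h | h | h
  · refine hm0B ?_
    let φ : M → M := fun f => ((⟨s, hs⟩ : Subgroup.normalizer (M : Set Γ)) • f)⁻¹ * f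
    have hφ : Function.Injective φ := by
      intro a b hab
      have h1 : s * ((a : Γ) * (b : Γ)⁻¹) * s⁻¹ = (a : Γ) * (b : Γ)⁻¹ := by
        have h2 : (s * (a : Γ) * s⁻¹)⁻¹ * a = (s * (b : Γ) * s⁻¹)⁻¹ * b := congrArg Subtype.val hab
        rw [inv_mul_eq_iff_eq_mul] at h2
        conv_rhs => rw [h2]
        group
      exact Subtype.ext (mul_inv_eq_one.1 (hz _ (M.mul_mem a.2 (M.inv_mem b.2)) (mul_inv_eq_iff_eq_mul.1 h1)))
    obtain ⟨g, rfl⟩ := (Finite.injective_iff_surjective.1 hφ) m0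
    exact h g
  · exact S.core_absurd hQle hQs hQu (hLQ n) (hLn s hQs n) (hLn u hQu n) (hsucc n) hMQ hMc hKD hs hu hz hB hm0B h
  · exact S.rotate.core_absurd hQle hQs (Subgroup.mul_mem _ hQu hQs) (hLQ n) (hLn s hQs n)
      (Subgroup.mul_mem _ (hLn u hQu n) (hLn s hQs n)) (hsucc n) hMQ hMc hKD hs (Subgroup.mul_mem _ hu hs)
      hz hB hm0B h
  · exact S.rotate.rotate.core_absurd hQle hQs (Subgroup.mul_mem _ (Subgroup.mul_mem _ hQu hQs) hQs) (hLQ n)
      (hLn s hQs n) (Subgroup.mul_mem _ (Subgroup.mul_mem _ (hLn u hQu n) (hLn s hQs n)) (hLn s hQs n))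
      (hsucc n) hMQ hMc hKD hs (Subgroup.mul_mem _ (Subgroup.mul_mem _ hu hs) hs) hz hB hm0B h

/-- To show that an invariant property holds on all of `H`, it is enough to check centralizers. -/
theorem le_of_generators (S : Setup V s u H) {F L : Subgroup Γ} (hFH : F ≤ H) (hLH : L ≤ H)
    (hFs : s ∈ Subgroup.normalizer (F : Set Γ)) (hFu : u ∈ Subgroup.normalizer (F : Set Γ))
    (hHF : H ≤ Subgroup.normalizer (F : Set Γ)) (hDF : ∀ x ∈ H, ∀ y ∈ H, ⁅x, y⁆ ∈ F) (hFL : F ≤ L)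
    (h0 : ∀ x ∈ H, s * x = x * s → x ∈ L) (h1 : ∀ x ∈ H, u * x = x * u → x ∈ L)
    (h2 : ∀ x ∈ H, u * s * x = x * (u * s) → x ∈ L) : H ≤ L := by
  haveI : Fact (Nat.Prime 3) := ⟨Nat.prime_three⟩
  haveI : Fact (Nat.Prime 2) := ⟨Nat.prime_two⟩
  have htx : ∀ (t : Γ), t ^ 2 = 1 → t ∈ Subgroup.normalizer (H : Set Γ) →
      t ∈ Subgroup.normalizer (F : Set Γ) → (∀ x ∈ H, t * x = x * t → x ∈ L) →
      ∀ x ∈ H, x * (t * x * t⁻¹) ∈ L := by
    intro t ht htH htF hL x hx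
    have htt : t * t = 1 := by rw [← pow_two, ht]
    set x' := t * x * t⁻¹ with hx'
    have hx'H : x' ∈ H := conj_mem htH hx
    have e : t * (x * x') * t⁻¹ = x' * x := by
      have h3 : t * x' * t⁻¹ = x := by
        rw [hx', inv_eq_of_mul_eq_one_right htt, ← mul_assoc, ← mul_assoc, htt, one_mul, mul_assoc, htt, mul_one]
      calc t * (x * x') * t⁻¹ = t * x * t⁻¹ * (t * x' * t⁻¹) := by group
        _ = _ := by rw [h3]
    obtain ⟨k, hk, hk'⟩ := exists_commute_mul ht F htF (S.two_prime_cop hFH).1 (x := x * x') (by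
      rw [e, show (x * x')⁻¹ * (x' * x) = ⁅x'⁻¹, x⁻¹⁆ by rw [commutatorElement_def]; group]
      exact hDF _ (H.inv_mem hx'H) _ (H.inv_mem hx))
    have h3 := L.mul_mem (hL _ (H.mul_mem (H.mul_mem hx hx'H) (hFH hk)) hk') (L.inv_mem (hFL hk))
    rwa [mul_inv_cancel_right] at h3
  have hsx : ∀ x ∈ H, s * x * s⁻¹ * x⁻¹ ∈ L := by
    intro x hx
    have a := htx u S.u2 S.hu hFu h1 _ (conj_mem S.hs hx)
    have b := htx (u * s) S.rotate.u2 S.rotate.hu (Subgroup.mul_mem _ hFu hFs) h2 x hx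
    have := L.mul_mem a (L.inv_mem b)
    rwa [show u * s * x * (u * s)⁻¹ = u * (s * x * s⁻¹) * u⁻¹ by group, mul_inv_rev, ← mul_assoc,
      mul_inv_cancel_right] at this
  intro x hx
  have hx1 := conj_mem S.hs hx
  set x1 := s * x * s⁻¹ with hx1d
  have hx2 := conj_mem S.hs hx1
  set x2 := s * x1 * s⁻¹ with hx2d
  have hs2 : s * x2 * s⁻¹ = x := by
    calc s * x2 * s⁻¹ = (s * s * s) * x * (s * s * s)⁻¹ := by rw [hx2d, hx1d]; group
      _ = x := by rw [S.sss]; group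
  have hN : x * x1 * x2 ∈ L := by
    obtain ⟨k, hk, hk'⟩ := exists_commute_mul S.s3 F hFs (S.two_prime_cop hFH).2 (x := x * x1 * x2) (by
      rw [show (x * x1 * x2)⁻¹ * (s * (x * x1 * x2) * s⁻¹) = (x * x1 * x2)⁻¹ * (x1 * x2 * (s * x2 * s⁻¹)) by
        rw [hx2d, hx1d]; group, hs2,
        show (x * x1 * x2)⁻¹ * (x1 * x2 * x) = ⁅(x1 * x2)⁻¹, x⁻¹⁆ by rw [commutatorElement_def]; group]
      exact hDF _ (H.inv_mem (H.mul_mem hx1 hx2)) _ (H.inv_mem hx))
    have h3 := L.mul_mem (h0 _ (H.mul_mem (H.mul_mem (H.mul_mem hx hx1) hx2) (hFH hk)) hk') (L.inv_mem (hFL hk))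
    rwa [mul_inv_cancel_right] at h3
  have hnorm : ∀ c ∈ L, x * c * x⁻¹ ∈ L := fun c hc => by
    have := L.mul_mem (hFL (hDF x hx c (hLH hc))) hc
    rwa [commutatorElement_def, inv_mul_cancel_right] at this
  have hc1 := hsx x hx
  have hc2 := hsx x1 hx1
  have e : x * x1 * x2 = (x * (x1 * x⁻¹) * x⁻¹) * (x * (x * ((x2 * x1⁻¹) * (x1 * x⁻¹)) * x⁻¹) * x⁻¹) * x ^ 3 := by
    group
  rw [e] at hN
  have h3 := L.mul_mem (L.inv_mem (L.mul_mem (hnorm _ hc1) (hnorm _ (hnorm _ (L.mul_mem hc2 hc1))))) hN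
  rw [inv_mul_cancel_left] at h3
  exact mem_of_pow_mem ((S.two_prime_cop le_rfl).2.coprime_dvd_left (orderOf_dvd_card_of_mem hx)).symm h3

/-- The linear form of the theorem on fixed-point-free actions of `S₃`. -/
theorem commutative (S : Setup V s u H) (hnil : Group.IsNilpotent (⁅H, H⁆ : Subgroup Γ)) :
    ∀ a ∈ H, ∀ b ∈ H, a * b = b * a := by
  classical
  set D := (⁅H, H⁆ : Subgroup Γ) with hD
  have hDH : D ≤ H := Subgroup.commutator_le.2 fun x hx y hy => by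
    rw [commutatorElement_def]
    exact H.mul_mem (H.mul_mem (H.mul_mem hx hy) (H.inv_mem hx)) (H.inv_mem hy)
  have hHH : H ≤ Subgroup.normalizer (H : Set Γ) := Subgroup.le_normalizer
  have hDn : ∀ g ∈ Subgroup.normalizer (H : Set Γ), g ∈ Subgroup.normalizer (D : Set Γ) :=
    fun g hg => commutator_normalized hg hg
  have hDc := S.commute_of_nilpotent (hnil := hnil) hDH (fun x hx => hDn x (hHH hx)) (hDn s S.hs) (hDn u S.hu)
  obtain ⟨F, hF, hFmax⟩ := (Set.toFinite {F : Subgroup Γ | D ≤ F ∧ F ≤ H ∧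
      (∀ a ∈ F, ∀ b ∈ F, a * b = b * a) ∧ H ≤ Subgroup.normalizer (F : Set Γ) ∧
      s ∈ Subgroup.normalizer (F : Set Γ) ∧ u ∈ Subgroup.normalizer (F : Set Γ)}).exists_maximal
    ⟨D, le_rfl, hDH, hDc, fun x hx => hDn x (hHH hx), hDn s S.hs, hDn u S.hu⟩
  obtain ⟨hDF, hFH, hFc, hHF, hFs, hFu⟩ := hF
  have hDF' : ∀ x ∈ H, ∀ y ∈ H, ⁅x, y⁆ ∈ F := fun x hx y hy =>
    hDF (Subgroup.commutator_mem_commutator hx hy)
  -- `F` is self-centralizing in `H`
  have hself : ∀ x ∈ H, (∀ f ∈ F, x * f = f * x) → x ∈ F := by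
    let C : Subgroup Γ := H ⊓ Subgroup.centralizer (F : Set Γ)
    have hFC : F ≤ C := fun f hf => ⟨hFH hf, Subgroup.mem_centralizer_iff.2 fun g hg => hFc g hg f hf⟩
    have hCn : ∀ g, g ∈ Subgroup.normalizer (H : Set Γ) → g ∈ Subgroup.normalizer (F : Set Γ) →
        g ∈ Subgroup.normalizer (C : Set Γ) := fun g hgH hgF => mem_normalizer_of_conj fun c hc =>
      ⟨conj_mem hgH hc.1, Subgroup.mem_centralizer_iff.2 fun f hf => by
        have h1 := Subgroup.mem_centralizer_iff.1 hc.2 _ (conj_mem (Subgroup.inv_mem _ hgF) hf)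
        calc f * (g * c * g⁻¹) = g * (g⁻¹ * f * g⁻¹⁻¹ * c) * g⁻¹ := by group
          _ = g * (c * (g⁻¹ * f * g⁻¹⁻¹)) * g⁻¹ := by rw [h1]
          _ = _ := by group⟩
    haveI : Group.IsNilpotent C := by
      letI : CommGroup (Abelianization C) := inferInstance
      refine Subgroup.isNilpotent_of_ker_le_center (Abelianization.of (G := C)) ?_
      rw [Abelianization.ker_of]
      intro c hc
      refine Subgroup.mem_center_iff.2 fun d => Subtype.ext ?_
      have h1 : (c : Γ) ∈ D := Subgroup.commutator_mono inf_le_left inf_le_left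
        ((Subgroup.map_subtype_commutator C).le ⟨c, hc, rfl⟩)
      exact (Subgroup.mem_centralizer_iff.1 d.2.2 _ (hDF h1)).symm
    have hCc := S.commute_of_nilpotent (Q := C) inf_le_left (fun x hx => hCn x (hHH hx) (hHF hx))
      (hCn s S.hs hFs) (hCn u S.hu hFu)
    have hle := hFmax (y := C) ⟨hDF.trans hFC, inf_le_left, hCc, fun x hx => hCn x (hHH hx) (hHF hx),
      hCn s S.hs hFs, hCn u S.hu hFu⟩ hFC
    exact fun x hx hxF => hle ⟨hx, Subgroup.mem_centralizer_iff.2 fun f hf => (hxF f hf).symm⟩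
  -- the action on `F`
  letI : CommGroup F :=
    { (inferInstance : Group F) with mul_comm := fun a b => Subtype.ext (hFc a a.2 b b.2) }
  let gs : Subgroup.normalizer (F : Set Γ) := ⟨s, hFs⟩
  let gu : Subgroup.normalizer (F : Set Γ) := ⟨u, hFu⟩
  let 𝒦 : Set (Subgroup F) := {B | B ≠ ⊤ ∧ Good V F B}
  haveI hFnil : Group.IsNilpotent F := inferInstance
  have hcopV := S.coprime_of_nilpotent hHF hFs hFu
  have hD' : Data gs gu 𝒦 :=
    { cop := (S.cop.coprime_dvd_left (Subgroup.card_dvd_of_le hFH))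
      s3 := Subtype.ext S.s3
      u2 := Subtype.ext S.u2
      rel := Subtype.ext S.rel
      fix := fun f h1 h2 => Subtype.ext (S.fixH f (hFH f.2) (mul_inv_eq_iff_eq_mul.1 (congrArg Subtype.val h1))
        (mul_inv_eq_iff_eq_mul.1 (congrArg Subtype.val h2)))
      inv := fun g B hB => ⟨fun h => hB.1 (eq_top_iff.2 fun f _ => by
        have h1 : g • f ∈ im g B := h ▸ Subgroup.mem_top _
        rwa [mem_im, inv_smul_smul] at h1), good_smul hB.2 g⟩
      ne := fun B hB => hB.1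
      sep := fun f hf => by
        by_contra hf1
        obtain ⟨B, hB, hfB⟩ := exists_good S.faith F hFc hcopV hf1
        exact hfB (hf B ⟨fun h => hfB (h ▸ Subgroup.mem_top f), hB⟩)
      type := fun B hB => S.type_of_good hFc hFs hFu hB.2 }
  -- the subgroup of elements in all kernels of type `s`
  let X : Subgroup Γ := (⨅ B ∈ {B | B ∈ 𝒦 ∧ Triv gs B}, (B : Subgroup F)).map F.subtype
  have hXmem : ∀ f : F, (f : Γ) ∈ X ↔ ∀ B ∈ 𝒦, Triv gs B → f ∈ B := fun f => by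
    rw [show X = (⨅ B ∈ {B | B ∈ 𝒦 ∧ Triv gs B}, (B : Subgroup F)).map F.subtype from rfl,
      ← F.coe_subtype, Subgroup.mem_map_iff_mem F.subtype_injective]
    simp [Subgroup.mem_iInf]
  have hXF : X ≤ F := Subgroup.map_subtype_le _
  have hXinv : ∀ g : Subgroup.normalizer (F : Set Γ),
      (∀ B ∈ 𝒦, Triv gs B → Triv gs (im g⁻¹ B)) → (g : Γ) ∈ Subgroup.normalizer (X : Set Γ) := by
    intro g hg
    refine mem_normalizer_of_conj fun k hk => ?_
    have h1 := (hXmem ⟨k, hXF hk⟩).1 hk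
    refine (hXmem (g • ⟨k, hXF hk⟩)).2 fun B hB t => ?_
    have h2 := h1 _ (hD'.inv g⁻¹ B hB) (hg B hB t)
    rwa [mem_im, inv_inv] at h2
  have hXs : s ∈ Subgroup.normalizer (X : Set Γ) := hXinv gs fun B hB t => by
    rw [inv_eq_of_mul_eq_one_left hD'.sss, ← im_mul]
    exact (hD'.s_stable (hD'.s_stable t).1).1
  have hXu : u ∈ Subgroup.normalizer (X : Set Γ) := hXinv gu fun B hB t => by
    rw [inv_eq_of_mul_eq_one_right hD'.uu]
    exact (hD'.s_stable t).2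
  have hcomF : ∀ x ∈ H, ∀ g ∈ Subgroup.normalizer (F : Set Γ), g * x = x * g →
      ∀ (hx : x ∈ Subgroup.normalizer (F : Set Γ)) (hg : g ∈ Subgroup.normalizer (F : Set Γ)) (f : F),
      (⟨x, hx⟩ : Subgroup.normalizer (F : Set Γ)) • (⟨g, hg⟩ : Subgroup.normalizer (F : Set Γ)) • f
        = (⟨g, hg⟩ : Subgroup.normalizer (F : Set Γ)) • (⟨x, hx⟩ : Subgroup.normalizer (F : Set Γ)) • f := by
    intro x _ g _ hgx hx hg f
    rw [← mul_smul, ← mul_smul]
    congr 1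
    exact Subtype.ext hgx.symm
  have hHX : H ≤ H ⊓ Subgroup.normalizer (X : Set Γ) := by
    refine S.le_of_generators hFH inf_le_left hFs hFu hHF hDF' ?_ ?_ ?_ ?_
    · exact fun f hf => ⟨hFH hf, mem_normalizer_of_conj fun k hk => by
        rwa [hFc f hf k (hXF hk), mul_inv_cancel_right]⟩
    · intro x hx hsx
      refine ⟨hx, hXinv ⟨x, hHF hx⟩ fun B hB t => triv_im.2 ?_⟩
      rwa [show ((⟨x, hHF hx⟩ : Subgroup.normalizer (F : Set Γ))⁻¹)⁻¹ * gs * (⟨x, hHF hx⟩ : Subgroup.normalizer (F : Set Γ))⁻¹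
        = gs from Subtype.ext (by
          show (x⁻¹)⁻¹ * s * x⁻¹ = s
          rw [inv_inv, ← hsx, mul_inv_cancel_right])]
    · intro x hx hux
      refine ⟨hx, hXinv ⟨x, hHF hx⟩ fun B hB t => hD'.im_type_s ?_ hB t⟩
      exact hcomF x⁻¹ (H.inv_mem hx) u hFu (show Commute u x from hux).inv_right.eq (Subgroup.inv_mem _ (hHF hx)) hFu
    · intro x hx hux
      refine ⟨hx, hXinv ⟨x, hHF hx⟩ fun B hB t => hD'.rotate.im_type_s ?_ hB t⟩
      exact hcomF x⁻¹ (H.inv_mem hx) (u * s) (Subgroup.mul_mem _ hFu hFs)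
        (show Commute (u * s) x from hux).inv_right.eq (Subgroup.inv_mem _ (hHF hx)) (Subgroup.mul_mem _ hFu hFs)
  haveI : Fact (Nat.Prime 3) := ⟨Nat.prime_three⟩
  have hsfpf : ∀ (A : Subgroup Γ), A ≤ H → u ∈ Subgroup.normalizer (A : Set Γ) → (∀ a ∈ A, s * a = a * s) →
      (∀ a ∈ A, u * a * u⁻¹ = a⁻¹) ∧ ∀ a ∈ A, ∀ b ∈ A, a * b = b * a := fun A hA hAu hAs =>
    inverted_of_fpf S.uu hAu fun a ha h => S.fixH a (hA ha) (hAs a ha) h
  by_cases hX : X = ⊥
  · -- `s` centralizes `F`, hence `H`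
    have hsF : ∀ f ∈ F, s * f = f * s := by
      intro f hf
      refine mul_inv_eq_iff_eq_mul.1 (inv_mul_eq_one.1 ?_)
      rw [← Subgroup.mem_bot, ← hX]
      exact (hXmem ((gs • ⟨f, hf⟩)⁻¹ * ⟨f, hf⟩)).2 fun B hB t => t _
    have hsH : ∀ x ∈ H, s * x = x * s := by
      intro x hx
      have h1 : x⁻¹ * (s * x * s⁻¹) ∈ F := by
        refine hself _ (H.mul_mem (H.inv_mem hx) (conj_mem S.hs hx)) fun f hf => ?_
        have h2 : s * (x * f * x⁻¹) * s⁻¹ = x * f * x⁻¹ :=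
          mul_inv_eq_iff_eq_mul.2 (hsF _ (conj_mem (hHF hx) hf))
        have h3 : s * f * s⁻¹ = f := mul_inv_eq_iff_eq_mul.2 (hsF f hf)
        calc x⁻¹ * (s * x * s⁻¹) * f
            = x⁻¹ * ((s * x * s⁻¹) * (s * f * s⁻¹) * (s * x * s⁻¹)⁻¹) * (s * x * s⁻¹) := by rw [h3]; group
          _ = x⁻¹ * (s * (x * f * x⁻¹) * s⁻¹) * (s * x * s⁻¹) := by group
          _ = _ := by rw [h2]; group
      obtain ⟨k, hk, hk'⟩ := exists_commute_mul S.s3 F hFs (S.two_prime_cop hFH).2 h1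
      have := (show Commute s (x * k) from hk').mul_right (show Commute s k⁻¹ from (show Commute s k from hsF k hk).inv_right)
      rwa [mul_inv_cancel_right] at this
    exact (hsfpf H le_rfl S.hu hsH).2
  · have h0 := S.no_fix (fun x hx => (hHX hx).2) hXs hXu hX
    have hz : ∀ f : F, gs • f = f → f = 1 := by
      intro f hf
      refine Subtype.ext (S.faith f fun v => sub_eq_zero.1 (h0 _ fun x hx => ?_))
      have hsf : s * (f : Γ) = f * s := mul_inv_eq_iff_eq_mul.1 (congrArg Subtype.val hf)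
      obtain ⟨hstr, -⟩ := S.trivial_on_range hFH hHF hFs hFu f.2 hsf (fun q hq => hFc f f.2 q hq) v
      set w := (f : Γ) • v - v with hw
      set y : F := ⟨x, hXF hx⟩ with hy
      have hyX := (hXmem y).1 hx
      have hN : y * gs • y * gs • gs • y = 1 := by
        refine hD'.mem_of_s_fixed (hD'.norm_fix_s y) fun B hB t => ?_
        have h1 : gs • y ∈ B := (t.smul_mem_iff y).2 (hyX B hB t)
        exact B.mul_mem (B.mul_mem (hyX B hB t) h1) ((t.smul_mem_iff _).2 h1)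
      have hfix : ∀ a : F, ((gs • a)⁻¹ * a : F) ∈ (fixer Γ ({w} : Set V)).subgroupOf F := fun a => by
        refine mem_fixer.2 fun w' hw' => ?_
        rw [Set.mem_singleton_iff.1 hw']
        show ((s * (a : Γ) * s⁻¹)⁻¹ * a) • w = w
        rw [mul_smul, inv_smul_eq_iff]
        exact (hstr a a.2).symm
      have h3 : (y : Γ) ^ 3 ∈ fixer Γ ({w} : Set V) := by
        have e : y ^ 3 = ((gs • y)⁻¹ * y) ^ 2 * ((gs • gs • y)⁻¹ * gs • y) := by
          calc y ^ 3 = y ^ 3 * (y * gs • y * gs • gs • y)⁻¹ := by rw [hN, inv_one, mul_one]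
            _ = _ := by
              rw [pow_succ, pow_two, pow_two, mul_inv_rev, mul_inv_rev]
              calc y * y * y * ((gs • gs • y)⁻¹ * ((gs • y)⁻¹ * y⁻¹))
                  = y * y * ((gs • gs • y)⁻¹ * (gs • y)⁻¹) * (y * y⁻¹) := by ac_rfl
                _ = y * y * ((gs • gs • y)⁻¹ * (gs • y)⁻¹) * ((gs • y)⁻¹ * gs • y) := by
                  rw [mul_inv_cancel, inv_mul_cancel]
                _ = _ := by ac_rfl
        have h4 : y ^ 3 ∈ (fixer Γ ({w} : Set V)).subgroupOf F :=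
          e ▸ Subgroup.mul_mem _ (Subgroup.pow_mem _ (hfix y) 2) (hfix _)
        exact h4
      exact mem_fixer.1 (mem_of_pow_mem ((S.two_prime_cop hFH).2.coprime_dvd_left
        (orderOf_dvd_card_of_mem y.2)).symm h3) w rfl
    have hHF' : H ≤ F := by
      refine S.le_of_generators hFH hFH hFs hFu hHF hDF' le_rfl ?_ ?_ ?_
      · intro x hx hsx
        have hA : u ∈ Subgroup.normalizer ((H ⊓ Subgroup.centralizer {s} : Subgroup Γ) : Set Γ) := by
          refine mem_normalizer_of_conj fun c hc => ⟨conj_mem S.hu hc.1, ?_⟩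
          have hc2 : Commute s c := Subgroup.mem_centralizer_iff.1 hc.2 s rfl
          refine Subgroup.mem_centralizer_iff.2 fun y hy => ?_
          rw [Set.mem_singleton_iff.1 hy]
          calc s * (u * c * u⁻¹) = u * (s⁻¹ * c) * u⁻¹ := by rw [← mul_assoc, ← mul_assoc, S.su]; group
            _ = u * c * u⁻¹ * (u * s * u⁻¹)⁻¹ := by rw [hc2.inv_left.eq]; group
            _ = _ := by rw [S.rel, inv_inv]
        have hinv := (hsfpf _ inf_le_left hA fun a ha => Subgroup.mem_centralizer_iff.1 ha.2 s rfl).1 x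
          ⟨hx, Subgroup.mem_centralizer_iff.2 fun y hy => by rw [Set.mem_singleton_iff.1 hy]; exact hsx⟩
        refine hself x hx fun f hf => ?_
        have key := hD'.smul_eq_of_inverted hz (h := ⟨x, hHF hx⟩) (hcomF x hx s hFs hsx (hHF hx) hFs)
          (fun f => by
            rw [← mul_smul, ← mul_smul]
            congr 1
            exact Subtype.ext (mul_inv_eq_iff_eq_mul.1 hinv))
          (by
            rw [← Subgroup.orderOf_coe]
            exact S.cop.coprime_dvd_left (orderOf_dvd_card_of_mem hx))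
          ⟨f, hf⟩
        exact mul_inv_eq_iff_eq_mul.1 (congrArg Subtype.val key)
      all_goals intro x hx hux
      all_goals
        have hg : ∀ f : F, (⟨x, hHF hx⟩ : Subgroup.normalizer (F : Set Γ)) • (gs * ⟨x, hHF hx⟩ * gs⁻¹) • f
            = (gs * ⟨x, hHF hx⟩ * gs⁻¹) • (⟨x, hHF hx⟩ : Subgroup.normalizer (F : Set Γ)) • f := by
          intro f
          have hxs : s * x * s⁻¹ ∈ H := conj_mem S.hs hx
          have h1 : ⁅x⁻¹, (s * x * s⁻¹)⁻¹⁆ ∈ F := hDF' _ (H.inv_mem hx) _ (H.inv_mem hxs)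
          apply Subtype.ext
          show x * ((s * x * s⁻¹) * (f : Γ) * (s * x * s⁻¹)⁻¹) * x⁻¹
            = (s * x * s⁻¹) * (x * (f : Γ) * x⁻¹) * (s * x * s⁻¹)⁻¹
          have h2 : ⁅x⁻¹, (s * x * s⁻¹)⁻¹⁆ * (f : Γ) * ⁅x⁻¹, (s * x * s⁻¹)⁻¹⁆⁻¹ = f := by
            rw [hFc _ h1 f f.2, mul_inv_cancel_right]
          calc x * ((s * x * s⁻¹) * (f : Γ) * (s * x * s⁻¹)⁻¹) * x⁻¹
              = (s * x * s⁻¹) * x * (⁅x⁻¹, (s * x * s⁻¹)⁻¹⁆ * (f : Γ) * ⁅x⁻¹, (s * x * s⁻¹)⁻¹⁆⁻¹)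
                * ((s * x * s⁻¹) * x)⁻¹ := by simp only [commutatorElement_def]; group
            _ = _ := by rw [h2]; group
        have key : ∀ f : F, (⟨x, hHF hx⟩ : Subgroup.normalizer (F : Set Γ)) • gs • f
            = gs • (⟨x, hHF hx⟩ : Subgroup.normalizer (F : Set Γ)) • f := by
          first
            | exact hD'.smul_comm_of_commute_u hz (hcomF x hx u hFu hux (hHF hx) hFu) hg
            | exact hD'.rotate.smul_comm_of_commute_u hz
                (hcomF x hx (u * s) (Subgroup.mul_mem _ hFu hFs) hux (hHF hx) (Subgroup.mul_mem _ hFu hFs)) hg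
        have h1 : x⁻¹ * (s * x * s⁻¹) ∈ F := by
          refine hself _ (H.mul_mem (H.inv_mem hx) (conj_mem S.hs hx)) fun f hf => ?_
          have h2 := congrArg Subtype.val (key (gs⁻¹ • ⟨f, hf⟩))
          rw [smul_inv_smul] at h2
          change x * f * x⁻¹ = s * (x * (s⁻¹ * f * s⁻¹⁻¹) * x⁻¹) * s⁻¹ at h2
          calc x⁻¹ * (s * x * s⁻¹) * f
              = x⁻¹ * (s * (x * (s⁻¹ * f * s⁻¹⁻¹) * x⁻¹) * s⁻¹) * (s * x * s⁻¹) := by group
            _ = _ := by rw [← h2]; group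
        obtain ⟨k, hk, hk'⟩ := exists_commute_mul S.s3 F hFs (S.two_prime_cop hFH).2 h1
        have h3 : (⟨x, hHF hx⟩ : Subgroup.normalizer (F : Set Γ)) = ⟨x * k, hHF (H.mul_mem hx (hFH hk))⟩ *
            ⟨k⁻¹, hHF (H.inv_mem (hFH hk))⟩ := Subtype.ext (by
          show x = x * k * k⁻¹
          rw [mul_inv_cancel_right])
        have hA : u ∈ Subgroup.normalizer ((H ⊓ Subgroup.centralizer {s} : Subgroup Γ) : Set Γ) := by
          refine mem_normalizer_of_conj fun c hc => ⟨conj_mem S.hu hc.1, ?_⟩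
          have hc2 : Commute s c := Subgroup.mem_centralizer_iff.1 hc.2 s rfl
          refine Subgroup.mem_centralizer_iff.2 fun y hy => ?_
          rw [Set.mem_singleton_iff.1 hy]
          calc s * (u * c * u⁻¹) = u * (s⁻¹ * c) * u⁻¹ := by rw [← mul_assoc, ← mul_assoc, S.su]; group
            _ = u * c * u⁻¹ * (u * s * u⁻¹)⁻¹ := by rw [hc2.inv_left.eq]; group
            _ = _ := by rw [S.rel, inv_inv]
        set c := x * k with hc
        have hcH : c ∈ H := H.mul_mem hx (hFH hk)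
        have hinv := (hsfpf _ inf_le_left hA fun a ha => Subgroup.mem_centralizer_iff.1 ha.2 s rfl).1 c
          ⟨hcH, Subgroup.mem_centralizer_iff.2 fun y hy => by rw [Set.mem_singleton_iff.1 hy]; exact hk'⟩
        have key2 := hD'.smul_eq_of_inverted hz (h := ⟨c, hHF hcH⟩) (hcomF c hcH s hFs hk' (hHF hcH) hFs)
          (fun f => by
            rw [← mul_smul, ← mul_smul]
            congr 1
            exact Subtype.ext (mul_inv_eq_iff_eq_mul.1 hinv))
          (by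
            rw [← Subgroup.orderOf_coe]
            exact S.cop.coprime_dvd_left (orderOf_dvd_card_of_mem hcH))
        have hcF : c ∈ F := hself c hcH fun f hf =>
          mul_inv_eq_iff_eq_mul.1 (congrArg Subtype.val (key2 ⟨f, hf⟩))
        have := F.mul_mem hcF (F.inv_mem hk)
        rwa [hc, mul_inv_cancel_right] at this
    exact fun a ha b hb => hFc a (hHF' ha) b (hHF' hb)

end Setup

end CfsgLib.FGS.S3
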