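/-
Glauberman: a `p`-group meeting a conjugate in a subgroup of index `p`, through windows of a shifted generator.
-/
import Mathlib

set_option autoImplicit false

namespace CfsgLib.FGS.Shift

open Subgroup
open scoped Pointwise

variable {G : Type*} [Group G]

/-- The iterated intersection of `P` with its images. -/
def chain (φ : MulAut G) (P : Subgroup G) : ℕ → Subgroup G
  | 0 => P
  | k + 1 => (φ • chain φ P k) ⊓ P

/-- The subgroup generated by consecutive shifts of `b`. -/
def win (φ : MulAut G) (b : G) (i m : ℕ) : Subgroup G :=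
  closure ((fun j => (φ ^ j) b) '' Set.Ico i (i + m))

variable {φ : MulAut G} {P : Subgroup G} {b : G} {p : ℕ}

theorem chain_succ_le : ∀ k, chain φ P (k + 1) ≤ chain φ P k
  | 0 => inf_le_right
  | k + 1 => inf_le_inf_right P ((pointwise_smul_le_pointwise_smul_iff).2 (chain_succ_le k))

theorem chain_le (k : ℕ) : chain φ P k ≤ P := by
  induction k with
  | zero => exact le_rfl
  | succ k ih => exact (chain_succ_le k).trans ih

theorem inv_smul_chain_le (k : ℕ) : φ⁻¹ • chain φ P (k + 1) ≤ chain φ P k := by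
  rw [← pointwise_smul_le_pointwise_smul_iff (a := φ), smul_inv_smul]
  exact inf_le_left

theorem mem_win {i m j : ℕ} (h1 : i ≤ j) (h2 : j < i + m) : (φ ^ j) b ∈ win φ b i m :=
  subset_closure ⟨j, ⟨h1, h2⟩, rfl⟩

theorem win_le {i m : ℕ} {H : Subgroup G} (h : ∀ j, i ≤ j → j < i + m → (φ ^ j) b ∈ H) :
    win φ b i m ≤ H :=
  (closure_le _).2 fun _ ⟨j, hj, e⟩ => e ▸ h j hj.1 hj.2

theorem win_zero (i : ℕ) : win φ b i 0 = ⊥ := eq_bot_iff.2 (win_le fun j h1 h2 => absurd h2 (by omega))

theorem smul_win (i m : ℕ) : φ • win φ b i m = win φ b (i + 1) m := by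
  rw [win, win, smul_closure]
  congr 1
  ext x
  constructor
  · rintro ⟨_, ⟨j, hj, rfl⟩, rfl⟩
    obtain ⟨h1, h2⟩ := hj
    exact ⟨j + 1, ⟨by omega, by omega⟩, by simp [pow_succ']⟩
  · rintro ⟨j, ⟨h1, h2⟩, rfl⟩
    refine ⟨(φ ^ (j - 1)) b, ⟨j - 1, ⟨by omega, by omega⟩, rfl⟩, ?_⟩
    obtain ⟨k, rfl⟩ : ∃ k, j = k + 1 := ⟨j - 1, by omega⟩
    simp [pow_succ']

theorem pow_smul_win (k i m : ℕ) : φ ^ k • win φ b i m = win φ b (i + k) m := by
  induction k with
  | zero => rw [pow_zero, one_smul, Nat.add_zero]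
  | succ k ih => rw [pow_succ', mul_smul, ih, smul_win, Nat.add_assoc]

theorem win_sup (i m : ℕ) (hm : 1 ≤ m) : win φ b i m ⊔ win φ b (i + 1) m = win φ b i (m + 1) := by
  refine le_antisymm (sup_le ?_ ?_) (win_le fun j h1 h2 => ?_)
  · exact win_le fun j h1 h2 => mem_win h1 (by omega)
  · exact win_le fun j h1 h2 => mem_win (by omega) (by omega)
  · by_cases h : j < i + m
    · exact mem_sup_left (mem_win h1 h)
    · exact mem_sup_right (mem_win (by omega) (by omega))

section Finite

variable [Finite G] [hp : Fact p.Prime]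

theorem card_smul (ψ : MulAut G) (H : Subgroup G) : Nat.card (↥(ψ • H)) = Nat.card H :=
  (Nat.card_congr (Subgroup.equivSMul ψ H).toEquiv).symm

theorem eq_of_between {H K L : Subgroup G} (hHK : H < K) (hKL : K ≤ L) (hcard : Nat.card L = p * Nat.card H) :
    K = L := by
  obtain ⟨c, hc⟩ := card_dvd_of_le hHK.le
  obtain ⟨d, hd⟩ := card_dvd_of_le hKL
  have hH : 0 < Nat.card H := Nat.card_pos
  have h1 : c * d = p := by
    apply Nat.eq_of_mul_eq_mul_left hH
    rw [← mul_assoc, ← hc, ← hd, hcard, mul_comm]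
  rcases hp.out.eq_one_or_self_of_dvd c ⟨d, h1.symm⟩ with rfl | rfl
  · rw [mul_one] at hc
    exact absurd (Subgroup.eq_of_le_of_card_ge hHK.le hc.le) hHK.ne
  · obtain rfl : d = 1 := by
      have := hp.out.pos
      exact Nat.eq_of_mul_eq_mul_left this (by rw [mul_one]; exact h1)
    rw [mul_one] at hd
    exact Subgroup.eq_of_le_of_card_ge hKL hd.le

/-- The hypotheses. -/
structure Setup (φ : MulAut G) (P : Subgroup G) (p : ℕ) : Prop where
  normal : ((P ⊓ φ • P).subgroupOf (φ • P)).Normal
  index : (P ⊓ φ • P).relIndex (φ • P) = p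
  core : ∀ Q : Subgroup G, Q ≤ P → (Q.subgroupOf P).Normal → φ • Q = Q → Q = ⊥

theorem Setup.step (S : Setup φ P p) (k : ℕ) :
    φ • chain φ P k ≤ normalizer ((chain φ P (k + 1) : Subgroup G) : Set G) ∧
      (Nat.card (chain φ P k) = Nat.card (chain φ P (k + 1)) ∨
        Nat.card (chain φ P k) = p * Nat.card (chain φ P (k + 1))) := by
  have hle : φ • chain φ P k ≤ φ • P := pointwise_smul_le_pointwise_smul_iff.2 (chain_le k)
  haveI := S.normal
  have heq : chain φ P (k + 1) = (φ • chain φ P k) ⊓ (P ⊓ φ • P) := by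
    show (φ • chain φ P k) ⊓ P = _
    rw [inf_comm P, ← inf_assoc, inf_eq_left.2 hle]
  have hN : φ • P ≤ normalizer ((P ⊓ φ • P : Subgroup G) : Set G) :=
    (normal_subgroupOf_iff_le_normalizer inf_le_right).1 S.normal
  refine ⟨?_, ?_⟩
  · rw [heq]
    intro x hx
    rw [mem_normalizer_iff]
    intro h
    have h1 := (mem_normalizer_iff.1 (hN (hle hx))) h
    have h2 := (mem_normalizer_iff.1 (le_normalizer hx : x ∈ normalizer ((φ • chain φ P k : Subgroup G) : Set G))) h
    simp only [mem_inf, SetLike.mem_coe] at h1 ⊢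
    rw [h2, h1]
  · set A := φ • chain φ P k
    set N := P ⊓ φ • P
    have hdvd : N.relIndex A ∣ p := by
      let M := N.subgroupOf (φ • P)
      have h1 : N.relIndex A = M.relIndex (A.subgroupOf (φ • P)) := by
        rw [relIndex_subgroupOf hle]
      rw [h1, ← S.index]
      exact relIndex_dvd_index_of_normal M _
    have hmul : N.relIndex A * Nat.card (chain φ P (k + 1)) = Nat.card A := by
      rw [heq, ← relIndex_bot_left, ← relIndex_bot_left (H := A), inf_comm, ← inf_relIndex_right N A, mul_comm]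
      exact relIndex_mul_relIndex ⊥ (N ⊓ A) A bot_le inf_le_right
    rw [← card_smul φ (chain φ P k), ← hmul]
    rcases hp.out.eq_one_or_self_of_dvd _ hdvd with h | h <;> rw [h]
    · exact Or.inl (one_mul _)
    · exact Or.inr rfl

theorem eq_of_card {k : ℕ} (h : Nat.card (chain φ P k) = Nat.card (chain φ P (k + 1))) :
    chain φ P (k + 1) = chain φ P k ∧ φ • chain φ P k = chain φ P k := by
  have h1 : chain φ P (k + 1) = chain φ P k := Subgroup.eq_of_le_of_card_ge (chain_succ_le k) h.le
  have h2 : chain φ P (k + 1) = φ • chain φ P k :=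
    Subgroup.eq_of_le_of_card_ge inf_le_left (by rw [card_smul, h])
  exact ⟨h1, h2.symm.trans h1⟩

theorem not_fix {k : ℕ} (hcard : Nat.card (chain φ P (k + 1)) = p * Nat.card (chain φ P (k + 2))) :
    φ • chain φ P (k + 1) ≠ chain φ P (k + 1) := by
  intro e
  have h1 : chain φ P (k + 2) = chain φ P (k + 1) := by
    show (φ • chain φ P (k + 1)) ⊓ P = _
    rw [e, inf_eq_left.2 (chain_le _)]
  rw [h1] at hcard
  have := Nat.eq_of_mul_eq_mul_right (m := Nat.card (chain φ P (k+1))) Nat.card_pos ((one_mul _).trans hcard)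
  exact hp.out.one_lt.ne this

theorem Setup.exists_length (S : Setup φ P p) :
    ∃ t, 1 ≤ t ∧ ∀ k ≤ t, Nat.card (chain φ P k) = p ^ (t - k) := by
  classical
  have hex : ∃ k, Nat.card (chain φ P k) = Nat.card (chain φ P (k + 1)) := by
    by_contra hcon
    push Not at hcon
    have key : ∀ k, Nat.card (chain φ P k) + k ≤ Nat.card P := by
      intro k
      induction k with
      | zero => exact le_rfl
      | succ k ih =>
        have h1 := Nat.le_of_dvd Nat.card_pos (card_dvd_of_le (chain_succ_le (φ := φ) (P := P) k))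
        have h2 := hcon k
        omega
    have := key (Nat.card P)
    have : 0 < Nat.card (chain φ P (Nat.card P)) := Nat.card_pos
    omega
  set t := Nat.find hex
  have ht := Nat.find_spec hex
  have hlt : ∀ j < t, Nat.card (chain φ P j) = p * Nat.card (chain φ P (j + 1)) :=
    fun j hj => ((S.step j).2).resolve_left (Nat.find_min hex hj)
  obtain ⟨hst, hfix⟩ := eq_of_card ht
  change φ • chain φ P t = chain φ P t at hfix
  have ht0 : 1 ≤ t := by
    by_contra h0
    have e : t = 0 := by omega
    rw [e] at hfix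
    change φ • P = P at hfix
    have := S.index
    rw [hfix, inf_idem, relIndex_self] at this
    exact hp.out.one_lt.ne this
  have hinv : φ⁻¹ • chain φ P t = chain φ P t := by conv_lhs => rw [← hfix, inv_smul_smul]
  have hconj : ∀ A : Subgroup G, A ≤ normalizer ((chain φ P t : Subgroup G) : Set G) →
      φ⁻¹ • A ≤ normalizer ((chain φ P t : Subgroup G) : Set G) := by
    intro A hA x hx
    obtain ⟨y, hy, rfl⟩ := hx
    rw [mem_normalizer_iff]
    intro h
    have h1 := (mem_normalizer_iff.1 (hA hy)) (φ h)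
    constructor
    · intro hh
      have h2 : φ h ∈ chain φ P t := by rw [← hfix]; exact ⟨h, hh, rfl⟩
      rw [← hinv]
      exact ⟨y * φ h * y⁻¹, h1.1 h2, by simp⟩
    · intro hh
      have h2 : y * φ h * y⁻¹ ∈ chain φ P t := by
        rw [← hfix]
        exact ⟨_, hh, by simp⟩
      rw [← hinv]
      exact ⟨φ h, h1.2 h2, by simp⟩
  have hnorm : ∀ d j, j + 1 + d = t → chain φ P j ≤ normalizer ((chain φ P t : Subgroup G) : Set G) := by
    intro d
    induction d with
    | zero =>
      intro j hj
      have h1 := hconj _ ((S.step j).1.trans (by rw [show j + 1 = t by omega]))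
      rwa [inv_smul_smul] at h1
    | succ d ih =>
      intro j hj
      have h1 := ih (j + 1) (by omega)
      have hne : ¬ φ⁻¹ • chain φ P (j + 1) ≤ chain φ P (j + 1) := by
        intro hle
        have h2 : φ⁻¹ • chain φ P (j + 1) = chain φ P (j + 1) :=
          Subgroup.eq_of_le_of_card_ge hle (card_smul φ⁻¹ _).ge
        exact not_fix (hlt (j + 1) (by omega)) (by conv_lhs => rw [← h2, smul_inv_smul])
      have hlt' : chain φ P (j + 1) < chain φ P (j + 1) ⊔ φ⁻¹ • chain φ P (j + 1) :=
        lt_of_le_of_ne le_sup_left fun e => hne (le_sup_right.trans e.ge)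
      rw [← eq_of_between hlt' (sup_le (chain_succ_le j) (inv_smul_chain_le j)) (hlt j (by omega))]
      exact sup_le h1 (hconj _ h1)
  have hbot : chain φ P t = ⊥ := S.core _ (chain_le t)
    ((normal_subgroupOf_iff_le_normalizer (chain_le t)).2 (hnorm (t - 1) 0 (by omega))) hfix
  refine ⟨t, ht0, fun k hk => ?_⟩
  have : ∀ d k, k + d = t → Nat.card (chain φ P k) = p ^ d := by
    intro d
    induction d with
    | zero => intro k hk; rw [show k = t by omega, hbot, card_bot, pow_zero]
    | succ d ih => intro k hk; rw [hlt k (by omega), ih (k + 1) (by omega), pow_succ']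
  exact this (t - k) k (by omega)

theorem Setup.exists_generator (S : Setup φ P p) :
    ∃ t b, 1 ≤ t ∧ Nat.card P = p ^ t ∧ b ≠ 1 ∧ orderOf b = p ∧ win φ b 0 t = P ∧
      ∀ i m, m ≤ t → Nat.card (win φ b i m) = p ^ m := by
  obtain ⟨t, ht, hc⟩ := S.exists_length
  have h1 : Nat.card (chain φ P (t - 1)) = p := by
    rw [hc _ (Nat.sub_le _ _), show t - (t - 1) = 1 by omega, pow_one]
  obtain ⟨⟨a, ha⟩, hgen⟩ := exists_prime_orderOf_dvd_card' (G := chain φ P (t - 1)) p (by rw [h1])
  rw [orderOf_mk] at hgen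
  set b := (φ ^ (t - 1))⁻¹ a with hb
  have hba : (φ ^ (t - 1)) b = a := by rw [hb, MulAut.apply_inv_self]
  have hob : orderOf b = p := by rw [hb, MulEquiv.orderOf_eq, hgen]
  have key : ∀ m k, k + m = t → chain φ P k = win φ b k m := by
    intro m
    induction m with
    | zero =>
      intro k hk
      have h0 := hc k (by omega)
      rw [show t - k = 0 by omega, pow_zero] at h0
      rw [win_zero]
      exact eq_bot_of_card_eq _ h0
    | succ m ih =>
      intro k hk
      rcases Nat.eq_zero_or_pos m with rfl | hm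
      · obtain rfl : k = t - 1 := by omega
        refine (Subgroup.eq_of_le_of_card_ge (win_le fun j h2 h3 => ?_) ?_).symm
        · obtain rfl : j = t - 1 := by omega
          rw [hba]; exact ha
        · rw [h1, ← hgen, ← Nat.card_zpowers]
          refine Nat.le_of_dvd Nat.card_pos (card_dvd_of_le (zpowers_le.2 ?_))
          rw [← hba]; exact mem_win le_rfl (by omega)
      · have hk1 := ih (k + 1) (by omega)
        have hinv : φ⁻¹ • chain φ P (k + 1) = win φ b k m := by
          rw [hk1, ← smul_win, inv_smul_smul]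
        have hcard : Nat.card (chain φ P k) = p * Nat.card (chain φ P (k + 1)) := by
          rw [hc k (by omega), hc (k + 1) (by omega), ← pow_succ', show t - (k + 1) + 1 = t - k by omega]
        have hcard' : Nat.card (chain φ P (k + 1)) = p * Nat.card (chain φ P (k + 2)) := by
          rw [hc (k + 1) (by omega), hc (k + 2) (by omega), ← pow_succ',
            show t - (k + 2) + 1 = t - (k + 1) by omega]
        have hne : ¬ φ⁻¹ • chain φ P (k + 1) ≤ chain φ P (k + 1) := by
          intro hle
          have h2 : φ⁻¹ • chain φ P (k + 1) = chain φ P (k + 1) :=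
            Subgroup.eq_of_le_of_card_ge hle (card_smul φ⁻¹ _).ge
          exact not_fix hcard' (by conv_lhs => rw [← h2, smul_inv_smul])
        have hlt : chain φ P (k + 1) < φ⁻¹ • chain φ P (k + 1) ⊔ chain φ P (k + 1) :=
          lt_of_le_of_ne le_sup_right fun e => hne (le_sup_left.trans e.ge)
        rw [← eq_of_between hlt (sup_le (inv_smul_chain_le k) (chain_succ_le k)) hcard, hinv, hk1, win_sup k m hm]
  refine ⟨t, b, ht, by simpa [chain] using hc 0 (Nat.zero_le _), ?_, hob, (key t 0 (by omega)).symm, fun i m hm => ?_⟩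
  · intro e
    rw [e, orderOf_one] at hob
    exact hp.out.one_lt.ne hob
  · have h2 : Nat.card (win φ b (t - m) m) = p ^ m := by
      rw [← key m (t - m) (by omega), hc _ (Nat.sub_le _ _), show t - (t - m) = m by omega]
    have h3 : win φ b i m = (φ ^ i) • win φ b 0 m := by rw [pow_smul_win, Nat.zero_add]
    have h4 : win φ b (t - m) m = (φ ^ (t - m)) • win φ b 0 m := by rw [pow_smul_win, Nat.zero_add]
    rw [h3, card_smul]
    rwa [h4, card_smul] at h2

omit [Finite G] hp in
theorem commute_shift (k : ℕ) {i j : ℕ} :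
    Commute ((φ ^ (i + k)) b) ((φ ^ (j + k)) b) ↔ Commute ((φ ^ i) b) ((φ ^ j) b) := by
  rw [add_comm i, add_comm j, pow_add, pow_add, MulAut.mul_apply, MulAut.mul_apply]
  exact ⟨fun h => by simpa using h.map ((φ ^ k)⁻¹).toMonoidHom, fun h => h.map (φ ^ k).toMonoidHom⟩

omit [Finite G] hp in
theorem commute_near {d : ℕ} (hd : ∀ k < d, Commute b ((φ ^ k) b)) {i j : ℕ} (h1 : i < j + d) (h2 : j < i + d) :
    Commute ((φ ^ i) b) ((φ ^ j) b) := by
  rcases le_total i j with h | h
  · have := (commute_shift (φ := φ) (b := b) i (i := 0) (j := j - i)).2 (by simpa using hd (j - i) (by omega))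
    rwa [Nat.zero_add, Nat.sub_add_cancel h] at this
  · have := (commute_shift (φ := φ) (b := b) j (i := i - j) (j := 0)).2 (by simpa using (hd (i - j) (by omega)).symm)
    rwa [Nat.zero_add, Nat.sub_add_cancel h] at this

omit [Finite G] hp in
theorem win_commute {d : ℕ} (hd : ∀ k < d, Commute b ((φ ^ k) b)) {i m j : ℕ} (h1 : i + m ≤ j + d)
    (h2 : j < i + d) {x : G} (hx : x ∈ win φ b i m) : Commute x ((φ ^ j) b) :=
  mem_centralizer_singleton_iff.1
    ((win_le (H := centralizer ({(φ ^ j) b} : Set G)) fun k h3 h4 =>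
      mem_centralizer_singleton_iff.2 (commute_near hd (by omega) (by omega)).eq) hx)

/-- The window estimate. -/
theorem bound {t d : ℕ} (hcard : ∀ i m, m ≤ t → Nat.card (win φ b i m) = p ^ m) (hd0 : 1 ≤ d) (hdt : d < t)
    (hd : ∀ k < d, Commute b ((φ ^ k) b)) (hnd : ¬ Commute b ((φ ^ d) b)) : 2 * t ≤ 3 * d := by
  classical
  have hp' := hp.out
  -- commutators of the two ends of a window lie inside it
  have hcomm : ∀ m, 1 ≤ m → m < t → ∀ x ∈ win φ b 0 (m + 1), ∀ y ∈ win φ b 0 (m + 1),
      x * y * x⁻¹ * y⁻¹ ∈ win φ b 1 (m - 1) := by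
    intro m hm hmt
    set H := win φ b 0 (m + 1)
    have hH : IsPGroup p H := IsPGroup.of_card (hcard 0 (m + 1) hmt)
    have hA : ∀ i, i ≤ 1 → win φ b i m ≤ H := fun i hi => win_le fun j h1 h2 => mem_win (Nat.zero_le _) (by omega)
    have hin : ∀ i, i ≤ 1 → ∀ x ∈ H, ∀ y ∈ H, x * y * x⁻¹ * y⁻¹ ∈ win φ b i m := by
      intro i hi x hx y hy
      set A := (win φ b i m).subgroupOf H
      have hidx : A.index = p := by
        have h1 := A.card_mul_index
        rw [Nat.card_congr (subgroupOfEquivOfLe (hA i hi)).toEquiv, hcard i m (by omega), hcard 0 (m + 1) hmt,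
          pow_succ] at h1
        exact Nat.eq_of_mul_eq_mul_left (pow_pos hp'.pos m) h1
      haveI hAn : A.Normal := Subgroup.normal_of_index_eq_minFac_card
        (by rw [hidx, hcard 0 (m + 1) hmt, hp'.pow_minFac (Nat.succ_ne_zero m)])
      haveI : IsCyclic (H ⧸ A) := isCyclic_of_prime_card (p := p) (by rw [← index_eq_card, hidx])
      have h2 : (QuotientGroup.mk' A) (⟨x, hx⟩ * ⟨y, hy⟩ * ⟨x, hx⟩⁻¹ * ⟨y, hy⟩⁻¹) = 1 := by
        letI : CommGroup (H ⧸ A) := IsCyclic.commGroup
        rw [map_mul, map_mul, map_mul, map_inv, map_inv, mul_inv_eq_one, mul_inv_eq_iff_eq_mul, mul_comm]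
      exact mem_subgroupOf.1 ((QuotientGroup.eq_one_iff (N := A) _).1 h2)
    have hinter : win φ b 0 m ⊓ win φ b 1 m = win φ b 1 (m - 1) := by
      refine (Subgroup.eq_of_le_of_card_ge (le_inf (win_le fun j h1 h2 => mem_win (Nat.zero_le _) (by omega))
        (win_le fun j h1 h2 => mem_win h1 (by omega))) ?_).symm
      rw [hcard 1 (m - 1) (by omega)]
      obtain ⟨c, hc⟩ := card_dvd_of_le (show win φ b 0 m ⊓ win φ b 1 m ≤ win φ b 0 m from inf_le_left)
      rw [hcard 0 m (by omega)] at hc
      obtain ⟨e, he, hee⟩ := (Nat.dvd_prime_pow hp').1 ⟨c, hc⟩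
      rw [hee]
      refine Nat.pow_le_pow_right hp'.pos ?_
      by_contra hlt
      have hem : e = m := by omega
      subst hem
      have h1 : win φ b 0 e ≤ win φ b 1 e := by
        have h0 : win φ b 0 e ⊓ win φ b 1 e = win φ b 0 e :=
          Subgroup.eq_of_le_of_card_ge inf_le_left (by rw [hee, hcard 0 e (by omega)])
        exact inf_eq_left.1 h0
      have h2 : win φ b 0 (e + 1) ≤ win φ b 1 e := by rw [← win_sup 0 e hm]; exact sup_le h1 le_rfl
      have h3 := Nat.le_of_dvd Nat.card_pos (card_dvd_of_le h2)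
      rw [hcard 0 (e + 1) hmt, hcard 1 e (by omega), pow_succ] at h3
      have := pow_pos hp'.pos e
      have := hp'.two_le
      nlinarith
    intro x hx y hy
    rw [← hinter]
    exact ⟨hin 0 (Nat.zero_le _) x hx y hy, hin 1 le_rfl x hx y hy⟩
  set y := (φ ^ d) b with hy
  have hb0 : b ∈ win φ b 0 (d + 1) := by simpa using mem_win (φ := φ) (b := b) (le_refl 0) (show 0 < 0 + (d + 1) by omega)
  have hy0 : y ∈ win φ b 0 (d + 1) := mem_win (Nat.zero_le _) (by omega)
  set e := y * b * y⁻¹ * b⁻¹ with he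
  have he1 : e ∈ win φ b 1 (d - 1) := hcomm d hd0 hdt y hy0 b hb0
  have hne : e ≠ 1 := fun h => hnd (mul_inv_eq_iff_eq_mul.1 (mul_inv_eq_one.1 h)).symm
  have heb : Commute e b := by
    have := win_commute hd (j := 0) (by omega) (by omega) he1
    simpa using this
  have he' : e = b⁻¹ * y * b * y⁻¹ := by
    have h1 : b⁻¹ * e * b = e := by rw [mul_assoc, heb.eq, inv_mul_cancel_left]
    conv_lhs => rw [← h1]
    rw [he]; group
  -- a shortest window containing the commutator
  have hex : ∃ m, ∃ l, 1 ≤ l ∧ l + m ≤ d ∧ e ∈ win φ b l m := ⟨d - 1, 1, le_rfl, by omega, he1⟩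
  obtain ⟨l, hl, hlm, hel⟩ := Nat.find_spec hex
  set m := Nat.find hex
  have hm1 : 1 ≤ m := by
    by_contra h
    rw [show m = 0 by omega, win_zero, mem_bot] at hel
    exact hne hel
  have hmin : ∀ l', 1 ≤ l' → l' + (m - 1) ≤ d → e ∉ win φ b l' (m - 1) := fun l' h1 h2 h3 =>
    Nat.find_min hex (show m - 1 < m by omega) ⟨l', h1, h2, h3⟩
  have hcard' : ∀ i, Nat.card (win φ b i m) = p * Nat.card (win φ b i (m - 1)) := by
    intro i
    rw [hcard i m (by omega), hcard i (m - 1) (by omega), ← pow_succ', Nat.sub_add_cancel hm1]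
  -- an element centralizing `e` and the rest of the window centralizes all of it
  have hext : ∀ (i : ℕ) (z : G) (W : Subgroup G), Nat.card (win φ b l m) = p * Nat.card W →
      W ≤ win φ b l m → e ∉ W → W ≤ centralizer ({z} : Set G) → Commute e z → l ≤ i → i < l + m →
      Commute ((φ ^ i) b) z := by
    intro i z W hW hWle heW hWC hez hi1 hi2
    have hlt : W < win φ b l m ⊓ centralizer ({z} : Set G) := by
      refine lt_of_le_of_ne (le_inf hWle hWC) fun h => heW ?_
      rw [h]
      exact ⟨hel, mem_centralizer_singleton_iff.2 hez.eq⟩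
    have h1 := eq_of_between hlt inf_le_left hW
    exact mem_centralizer_singleton_iff.1 ((inf_eq_left.1 h1) (mem_win hi1 hi2))
  have hA : t ≤ l + d := by
    by_contra hcon
    set z := (φ ^ (l + d)) b with hz
    have hyz : Commute y z := commute_near hd (by omega) (by omega)
    have hz0 : z ∈ win φ b 0 (l + d + 1) := mem_win (Nat.zero_le _) (by omega)
    have hb0' : b ∈ win φ b 0 (l + d + 1) := by
      simpa using mem_win (φ := φ) (b := b) (le_refl 0) (show 0 < 0 + (l + d + 1) by omega)
    have hu : Commute (b * z * b⁻¹ * z⁻¹) y :=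
      win_commute hd (by omega) (by omega) (hcomm (l + d) (by omega) (by omega) b hb0' z hz0)
    have h1 : Commute (b * z * b⁻¹) y := by
      have := hu.mul_left hyz.symm
      rwa [inv_mul_cancel_right] at this
    have h2 : Commute z (b⁻¹ * y * b) := by
      have := (Commute.conj_iff b⁻¹).2 h1
      simpa [mul_assoc] using this
    have hez : Commute e z := by
      rw [he']
      exact (h2.mul_right hyz.symm.inv_right).symm
    have h3 := hext l z (win φ b (l + 1) (m - 1)) (by rw [hcard (l + 1) (m - 1) (by omega), hcard l m (by omega),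
        ← pow_succ', Nat.sub_add_cancel hm1]) (win_le fun j h3 h4 => mem_win (by omega) (by omega))
      (hmin (l + 1) (by omega) (by omega)) (fun w hw => mem_centralizer_singleton_iff.2
        (win_commute hd (by omega) (by omega) hw).eq) hez le_rfl (by omega)
    exact hnd (by simpa using (commute_shift (φ := φ) (b := b) l (i := 0) (j := d)).1 (by
      rwa [Nat.zero_add, Nat.add_comm d l]))
  have hB : l + m - 1 + t ≤ 2 * d := by
    by_contra hcon
    set h := l + m - 1 with hh
    set k := d - h with hk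
    set Y := (φ ^ k) b with hY
    set Z := (φ ^ (k + d)) b with hZ
    have hbY : Commute b Y := hd k (by omega)
    have hb0' : b ∈ win φ b 0 (k + d + 1) := by
      simpa using mem_win (φ := φ) (b := b) (le_refl 0) (show 0 < 0 + (k + d + 1) by omega)
    have hZ0 : Z ∈ win φ b 0 (k + d + 1) := mem_win (Nat.zero_le _) (by omega)
    have hu : Commute (Z⁻¹ * b * Z⁻¹⁻¹ * b⁻¹) Y :=
      win_commute hd (by omega) (by omega) (hcomm (k + d) (by omega) (by omega) _ (inv_mem hZ0) _ hb0')
    have h1 : Commute (Z⁻¹ * b * Z⁻¹⁻¹) Y := by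
      have := hu.mul_left hbY
      rwa [inv_mul_cancel_right] at this
    have h2 : Commute b (Z * Y * Z⁻¹) := by
      have := (Commute.conj_iff Z).2 h1
      simpa [mul_assoc] using this
    have hek : (φ ^ k) e = Z * Y * Z⁻¹ * Y⁻¹ := by
      rw [he, hy, map_mul, map_mul, map_mul, map_inv, map_inv, hZ, pow_add, MulAut.mul_apply]
    have hez : Commute e ((φ ^ k)⁻¹ b) := by
      have h3 : Commute ((φ ^ k) e) b := by
        rw [hek]; exact (h2.mul_right hbY.inv_right).symm
      have := h3.map ((φ ^ k)⁻¹).toMonoidHom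
      simpa using this
    have h3 := hext h ((φ ^ k)⁻¹ b) (win φ b l (m - 1)) (hcard' l)
      (win_le fun j h3 h4 => mem_win h3 (by omega)) (hmin l hl (by omega)) (fun w hw => by
        refine mem_centralizer_singleton_iff.2 ?_
        have h4 : Commute ((φ ^ k) w) ((φ ^ 0) b) := win_commute hd (i := l + k) (m := m - 1) (by omega) (by omega)
          (by rw [← pow_smul_win]; exact ⟨w, hw, rfl⟩)
        have h5 := h4.map ((φ ^ k)⁻¹).toMonoidHom
        exact (show Commute w ((φ ^ k)⁻¹ b) by simpa using h5).eq) hez (by omega) (by omega)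
    have h4 := h3.map (φ ^ k).toMonoidHom
    have h5 : Commute ((φ ^ d) b) b := by
      rw [show d = k + h by omega, pow_add, MulAut.mul_apply]
      simpa using h4
    exact hnd h5.symm
  omega

theorem order_bound (S : Setup φ P p) {n : ℕ} (hn : 1 ≤ n) {K : Subgroup G}
    (hK : K = ⨆ i ∈ Finset.range (n + 1), φ ^ i • P)
    (h2 : P ⊓ (center K).map K.subtype = ⊥) :
    ∃ t : ℕ, Nat.card P = p ^ t ∧ 1 ≤ t ∧ t ≤ 3 * n ∧ t ≠ 3 * n - 1 := by
  classical
  obtain ⟨t, b, ht, hP, hb1, -, hwin, hcard⟩ := S.exists_generator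
  have hKle : ∀ {H : Subgroup G}, (∀ j < t + n, (φ ^ j) b ∈ H) → K ≤ H := by
    intro H h
    rw [hK]
    refine iSup₂_le fun i hi => ?_
    rw [Finset.mem_range] at hi
    rw [← hwin, pow_smul_win]
    exact win_le fun j h1 h2 => h j (by omega)
  have hPK : P ≤ K := by
    rw [hK]
    exact le_trans (by rw [pow_zero, one_smul]) (le_iSup₂_of_le 0 (by simp) le_rfl)
  have hcent : ∀ j < t, (∀ i < t + n, Commute ((φ ^ i) b) ((φ ^ j) b)) → False := by
    intro j hj h
    have hjP : (φ ^ j) b ∈ P := hwin ▸ mem_win (Nat.zero_le _) (by omega)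
    have hc : (φ ^ j) b ∈ P ⊓ (center K).map K.subtype := by
      refine ⟨hjP, ⟨⟨_, hPK hjP⟩, mem_center_iff.2 fun x => Subtype.ext ?_, rfl⟩⟩
      exact mem_centralizer_singleton_iff.1 (hKle (fun i hi => mem_centralizer_singleton_iff.2 (h i hi).eq) x.2)
    rw [h2, mem_bot] at hc
    exact hb1 ((φ ^ j).injective (hc.trans (map_one _).symm))
  by_cases hex : ∃ d, ¬ Commute b ((φ ^ d) b)
  · set d := Nat.find hex
    have hnd := Nat.find_spec hex
    have hd : ∀ k < d, Commute b ((φ ^ k) b) := fun k hk => not_not.1 (Nat.find_min hex hk)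
    have hd0 : 1 ≤ d := by
      by_contra h
      have e : Nat.find hex = 0 := by omega
      rw [e] at hnd
      exact hnd (Commute.refl b)
    have hmid : d + min d t ≤ t + n := by
      by_contra hcon
      refine hcent (min d t - 1) (by omega) fun i hi => commute_near hd ?_ ?_ <;> omega
    rcases lt_or_ge d t with hdt | hdt
    · have := bound hcard hd0 hdt hd hnd
      exact ⟨t, hP, ht, by omega, by omega⟩
    · exact ⟨t, hP, ht, by omega, by omega⟩
  · push Not at hex
    exact (hcent 0 (by omega) fun i _ => by simpa using (hex i).symm).elim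

end Finite

end CfsgLib.FGS.Shift
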