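import Mathlib.GroupTheory.Nilpotent
import Mathlib.GroupTheory.QuotientGroup.Basic
import Mathlib.GroupTheory.Index

/-!
# Subgroups generated by elements of small conjugacy classes

Isaacs' theorem: with a self-centralising normal abelian subgroup, the elements of the two
smallest class sizes generate a subgroup of class at most three.
-/

namespace CfsgLib.FGS

open Subgroup
open scoped commutatorElement

variable {G : Type*} [Group G] [Finite G]

/-- The commutator of an element of an abelian normal subgroup with an element of minimal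
non-trivial class is central. -/
theorem commutator_mem_center_of_small_class (A : Subgroup G) [A.Normal]
    (hA : IsMulCommutative A) (m : ℕ) (x : G)
    (hx : (centralizer ({x} : Set G)).index = m)
    (hmin : ∀ y : G, 1 < (centralizer ({y} : Set G)).index → m ≤ (centralizer ({y} : Set G)).index)
    (a : G) (ha : a ∈ A) : a * x * a⁻¹ * x⁻¹ ∈ center G := by
  classical
  have hcomm : ∀ u ∈ A, ∀ v ∈ A, u * v = v * u := fun u hu v hv =>
    congrArg Subtype.val (hA.1.1 ⟨u, hu⟩ ⟨v, hv⟩)
  have hmemA : ∀ u ∈ A, u * x * u⁻¹ * x⁻¹ ∈ A := fun u hu => by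
    have := mul_mem hu (Normal.conj_mem ‹A.Normal› _ (inv_mem hu) x)
    simpa [mul_assoc] using this
  let φ : A →* A :=
    MonoidHom.mk' (fun u => ⟨(u : G) * x * (u : G)⁻¹ * x⁻¹, hmemA u u.2⟩) fun u v => by
      apply Subtype.ext
      show ((u : G) * v) * x * ((u : G) * v)⁻¹ * x⁻¹ =
        ((u : G) * x * (u : G)⁻¹ * x⁻¹) * ((v : G) * x * (v : G)⁻¹ * x⁻¹)
      rw [hcomm _ (hmemA u u.2) _ (hmemA v v.2)]
      have h1 : (u : G) * ((v : G) * x * (v : G)⁻¹ * x⁻¹) =
          ((v : G) * x * (v : G)⁻¹ * x⁻¹) * (u : G) := hcomm _ u.2 _ (hmemA v v.2)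
      calc (u : G) * v * x * ((u : G) * v)⁻¹ * x⁻¹
          = ((u : G) * ((v : G) * x * (v : G)⁻¹ * x⁻¹)) * (x * (u : G)⁻¹ * x⁻¹) := by group
        _ = _ := by rw [h1]; group
  by_contra hnc
  set y := a * x * a⁻¹ * x⁻¹ with hy
  have hyA : y ∈ A := hmemA a ha
  set K := centralizer ({x} : Set G) with hK
  set D := K ⊓ centralizer ({y} : Set G) with hD
  have hACy : A ≤ centralizer ({y} : Set G) := fun u hu =>
    mem_centralizer_singleton_iff.2 (hcomm u hu y hyA)
  have hker : φ.ker = K.subgroupOf A := by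
    ext u
    rw [MonoidHom.mem_ker, mem_subgroupOf, hK, mem_centralizer_singleton_iff, Subtype.ext_iff]
    show (u : G) * x * (u : G)⁻¹ * x⁻¹ = 1 ↔ _
    rw [mul_inv_eq_one, mul_inv_eq_iff_eq_mul]
  have hr : D.relIndex A = Nat.card φ.range := by
    rw [hD, ← inf_relIndex_right, inf_assoc, inf_eq_right.2 hACy, inf_relIndex_right,
      relIndex, ← hker, index_ker]
  have hval : ∀ k ∈ K, k * y * k⁻¹ ∈ φ.range.map A.subtype := by
    intro k hk
    refine ⟨φ ⟨k * a * k⁻¹, Normal.conj_mem ‹A.Normal› a ha k⟩, ⟨_, rfl⟩, ?_⟩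
    show (k * a * k⁻¹) * x * (k * a * k⁻¹)⁻¹ * x⁻¹ = k * y * k⁻¹
    rw [hK, mem_centralizer_singleton_iff] at hk
    have hk1 : k⁻¹ * x * k = x := by
      rw [mul_assoc, ← hk, inv_mul_cancel_left]
    have hk2 : k⁻¹ * x⁻¹ * k = x⁻¹ := by
      have := congrArg (·⁻¹) hk1
      simpa [mul_assoc] using this
    calc (k * a * k⁻¹) * x * (k * a * k⁻¹)⁻¹ * x⁻¹
        = k * (a * (k⁻¹ * x * k) * a⁻¹ * (k⁻¹ * x⁻¹ * k)) * k⁻¹ := by group
      _ = _ := by rw [hk1, hk2, hy]
  have hy1 : y ≠ 1 := fun h => hnc (by rw [h]; exact one_mem _)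
  let ψ : K ⧸ D.subgroupOf K → {t : φ.range.map A.subtype // t ≠ 1} :=
    Quotient.lift (fun k : K => ⟨⟨(k : G) * y * (k : G)⁻¹, hval k k.2⟩, fun h => hy1 (by
      have := congrArg Subtype.val h
      simpa [mul_inv_eq_one] using this)⟩) fun k l hkl => by
        refine Subtype.ext (Subtype.ext ?_)
        have h1 := mem_subgroupOf.1 (QuotientGroup.leftRel_apply.1 hkl)
        have h2 := mem_centralizer_singleton_iff.1 (mem_inf.1 h1).2
        simp only [coe_mul, coe_inv] at h2
        calc (k : G) * y * (k : G)⁻¹ = (k : G) * (y * ((k : G)⁻¹ * l)) * (l : G)⁻¹ := by group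
          _ = (l : G) * y * (l : G)⁻¹ := by rw [← h2]; group
  have hψ : Function.Injective ψ := by
    intro u v
    refine QuotientGroup.induction_on u (fun k => QuotientGroup.induction_on v (fun l h => ?_))
    refine QuotientGroup.eq.2 (mem_subgroupOf.2 (mem_inf.2 ⟨(k⁻¹ * l).2, ?_⟩))
    have h0 : (k : G) * y * (k : G)⁻¹ = (l : G) * y * (l : G)⁻¹ :=
      congrArg (fun t => ((t : φ.range.map A.subtype) : G)) (congrArg Subtype.val h)
    rw [mem_centralizer_singleton_iff, coe_mul, coe_inv]
    calc ((k : G)⁻¹ * l) * y = (k : G)⁻¹ * ((l : G) * y * (l : G)⁻¹) * l := by group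
      _ = y * ((k : G)⁻¹ * l) := by rw [← h0]; group
  have hlt : D.relIndex K < D.relIndex A := by
    refine (Nat.card_le_card_of_injective ψ hψ).trans_lt ?_
    rw [hr, ← card_map_of_injective (f := A.subtype) A.subtype_injective]
    exact Finite.card_subtype_lt (x := (1 : φ.range.map A.subtype)) (by simp)
  have h1 : 1 < (centralizer ({y} : Set G)).index := by
    have h0 : (centralizer ({y} : Set G)).index ≠ 0 := index_ne_zero_of_finite
    have h2 : (centralizer ({y} : Set G)).index ≠ 1 := fun h =>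
      hnc (mem_center_iff.2 fun g =>
        mem_centralizer_singleton_iff.1 (index_eq_one.1 h ▸ mem_top g))
    omega
  have h2 := relIndex_mul_index (inf_le_left : D ≤ K)
  have h3 := relIndex_mul_index (inf_le_right : D ≤ centralizer ({y} : Set G))
  have h4 : D.relIndex A ≤ D.relIndex (centralizer ({y} : Set G)) :=
    relIndex_le_of_le_right hACy (by simp [relIndex, index_ne_zero_of_finite])
  have h5 : D.relIndex A * m ≤
      D.relIndex (centralizer ({y} : Set G)) * (centralizer ({y} : Set G)).index :=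
    Nat.mul_le_mul h4 (hmin y h1)
  have hm0 : 0 < m := hx ▸ Nat.pos_of_ne_zero index_ne_zero_of_finite
  have h6 := Nat.mul_lt_mul_of_pos_right hlt hm0
  rw [← hx] at h6 h5
  rw [h2] at h6
  rw [h3] at h5
  exact lt_irrefl _ (h6.trans_le h5)

/-- Isaacs: the subgroup generated by the elements of class size `1` and of the least non-trivial
class size `m` has class at most `3`, if some normal abelian subgroup is self-centralising. -/
theorem upperCentralSeries_three_of_small_classes (A : Subgroup G) [A.Normal]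
    (hA : IsMulCommutative A) (hCA : centralizer (A : Set G) = A) (m : ℕ)
    (hmin : ∀ y : G, 1 < (centralizer ({y} : Set G)).index → m ≤ (centralizer ({y} : Set G)).index) :
    Subgroup.upperCentralSeries ↥(closure {x : G | (centralizer ({x} : Set G)).index = 1 ∨
      (centralizer ({x} : Set G)).index = m}) 3 = ⊤ := by
  set M := closure {x : G | (centralizer ({x} : Set G)).index = 1 ∨
    (centralizer ({x} : Set G)).index = m} with hM
  have key : ∀ g ∈ M, ∀ a ∈ A, a * g * a⁻¹ * g⁻¹ ∈ center G := by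
    intro g hg
    induction hg using closure_induction with
    | mem x hx =>
      intro a ha
      rcases hx with hx | hx
      · have hxa : a * x = x * a :=
          mem_centralizer_singleton_iff.1 (index_eq_one.1 hx ▸ mem_top a)
        rw [hxa]
        simp
      · exact commutator_mem_center_of_small_class A hA m x hx hmin a ha
    | one => intro a _; simp
    | mul g h _ _ ihg ihh =>
      intro a ha
      have h1 := mul_mem (ihg a ha) (ihh a ha)
      have h2 := mem_center_iff.1 (ihh a ha) g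
      convert h1 using 1
      calc a * (g * h) * a⁻¹ * (g * h)⁻¹
          = (a * g * a⁻¹ * g⁻¹) * (g * (a * h * a⁻¹ * h⁻¹)) * g⁻¹ := by group
        _ = _ := by rw [h2]; group
    | inv g _ ih =>
      intro a ha
      have h1 := inv_mem (ih a ha)
      have h2 := mem_center_iff.1 h1 g⁻¹
      convert h1 using 1
      calc a * g⁻¹ * a⁻¹ * g⁻¹⁻¹ = (g⁻¹ * (a * g * a⁻¹ * g⁻¹)⁻¹) * g := by group
        _ = _ := by rw [h2]; group
  have hderived : ∀ g ∈ M, ∀ h ∈ M, g * h * g⁻¹ * h⁻¹ ∈ A := by
    intro g hg h hh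
    rw [← hCA, mem_centralizer_iff]
    intro a ha
    have h3 : ∀ k ∈ M, ∀ c ∈ A, ∃ z ∈ center G, c * k = z * (k * c) := fun k hk c hc =>
      ⟨c * k * c⁻¹ * k⁻¹, key k hk c hc, by group⟩
    obtain ⟨z, hz, hzeq⟩ := h3 g hg a ha
    obtain ⟨w, hw, hweq⟩ := h3 h hh a ha
    have e1 : a * (g * h) = z * w * ((g * h) * a) := by
      calc a * (g * h) = z * (g * a) * h := by rw [← mul_assoc, hzeq]
        _ = z * g * (w * (h * a)) := by rw [← hweq]; group
        _ = z * (g * w) * (h * a) := by group
        _ = _ := by rw [mem_center_iff.1 hw g]; group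
    have e2 : a * (h * g) = z * w * ((h * g) * a) := by
      calc a * (h * g) = w * (h * a) * g := by rw [← mul_assoc, hweq]
        _ = w * h * (z * (g * a)) := by rw [← hzeq]; group
        _ = w * (h * z) * (g * a) := by group
        _ = (w * z) * ((h * g) * a) := by rw [mem_center_iff.1 hz h]; group
        _ = _ := by rw [mem_center_iff.1 hz w]
    have hc : a * (z * w) = z * w * a := mem_center_iff.1 (mul_mem hz hw) a
    have e2' : (h * g)⁻¹ * (z * w)⁻¹ * a * (h * g) = a := by
      calc (h * g)⁻¹ * (z * w)⁻¹ * a * (h * g) = (h * g)⁻¹ * (z * w)⁻¹ * (a * (h * g)) := by group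
        _ = _ := by rw [e2]; group
    calc a * (g * h * g⁻¹ * h⁻¹) = (a * (g * h)) * (h * g)⁻¹ := by group
      _ = (z * w) * (g * h) * a * (h * g)⁻¹ := by rw [e1]; group
      _ = (z * w) * (g * h) * ((h * g)⁻¹ * (z * w)⁻¹ * a * (h * g)) * (h * g)⁻¹ := by rw [e2']
      _ = ((z * w) * (g * h * g⁻¹ * h⁻¹)) * (z * w)⁻¹ * a := by group
      _ = g * h * g⁻¹ * h⁻¹ * a := by
        rw [← mem_center_iff.1 (mul_mem hz hw) (g * h * g⁻¹ * h⁻¹)]; group
  have hone : ∀ u : M, (u : G) ∈ center G → u ∈ Subgroup.upperCentralSeries M 1 := fun u hu => by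
    rw [Subgroup.upperCentralSeries_one, mem_center_iff]
    exact fun v => Subtype.ext (mem_center_iff.1 hu v)
  have htwo : ∀ u : M, (u : G) ∈ A → u ∈ Subgroup.upperCentralSeries M 2 := fun u hu => by
    rw [Subgroup.mem_upperCentralSeries_succ_iff]
    exact fun v => hone _ (by
      simp only [commutatorElement_def, coe_mul, coe_inv]
      exact key v v.2 u hu)
  rw [eq_top_iff]
  intro u _
  rw [Subgroup.mem_upperCentralSeries_succ_iff]
  exact fun v => htwo _ (by
    simp only [commutatorElement_def, coe_mul, coe_inv]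
    exact hderived u u.2 v v.2)

end CfsgLib.FGS
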