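import Cfsg.Agent.Lib.FGS.TIHall
import Cfsg.Agent.Lib.FGS.Basics
import Cfsg.Agent.Lib.Solvable.FrobeniusComplement
import Cfsg.Agent.Lib.Solvable.UniqueSubgroup
import Cfsg.Agent.Lib.Cores.Basic
import Mathlib.GroupTheory.SchurZassenhaus

/-!
# Structure of groups with a TI Hall subgroup of its normalizer
-/

set_option autoImplicit false

open Cfsg

namespace CfsgLib.FGS

open scoped Pointwise

universe w

variable {G : Type w} [Group G] [Finite G]

/-- An element conjugating a finite subgroup into itself normalises it. -/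
theorem mem_normalizer_of_forall (S : Subgroup G) (g : G) (h : ∀ x ∈ S, g * x * g⁻¹ ∈ S) :
    g ∈ Subgroup.normalizer (S : Set G) := by
  let f : ↥S → ↥S := fun z => ⟨g * z * g⁻¹, h z z.2⟩
  have hf : Function.Injective f := fun a b hab => Subtype.ext (by simpa [f] using congrArg Subtype.val hab)
  rw [Subgroup.mem_normalizer_iff]
  intro x
  refine ⟨h x, fun hx => ?_⟩
  obtain ⟨z, hz⟩ := (Finite.injective_iff_surjective.1 hf) ⟨_, hx⟩
  have : (z : G) = x := by simpa [f] using congrArg Subtype.val hz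
  exact this ▸ z.2

/-- A complemented non-normal TI Hall subgroup of its normaliser is a Frobenius complement. -/
theorem exists_frobenius_complement (H N : Subgroup G) [N.Normal] (hc : N.IsComplement' H)
    (hTI : Cfsg.IsTISubset (H : Set G))
    (hcopM : (Nat.card H).Coprime (H.subgroupOf (Subgroup.normalizer (H : Set G))).index)
    (hnn : ¬ H.Normal) :
    ∃ (F : Type w) (_ : Group F) (_ : Finite F) (C : Subgroup F),
      Cfsg.IsFrobeniusComplement C ∧ Nonempty (H ≃* C) := by
  classical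
  set M := Subgroup.normalizer (H : Set G) with hM
  have hHM : H ≤ M := Subgroup.le_normalizer
  set K := N ⊓ M with hK
  have hdisj : N ⊓ H = ⊥ := hc.disjoint.eq_bot
  have hGcard : Nat.card N * Nat.card H = Nat.card G := hc.card_mul_card
  have hNH : N ⊔ H = ⊤ := hc.sup_eq_top
  -- `K` centralises `H`
  have hKH : ∀ k ∈ K, ∀ h ∈ H, k * h = h * k := by
    intro k hk h hh
    have h1 : k * h * k⁻¹ * h⁻¹ ∈ N ⊓ H := by
      refine Subgroup.mem_inf.2 ⟨?_, ?_⟩
      · have := mul_mem (Subgroup.mem_inf.1 hk).1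
          (‹N.Normal›.conj_mem _ (inv_mem (Subgroup.mem_inf.1 hk).1) h)
        simpa [mul_assoc] using this
      · exact mul_mem ((Subgroup.mem_normalizer_iff.1 (Subgroup.mem_inf.1 hk).2 h).1 hh) (inv_mem hh)
    rw [hdisj, Subgroup.mem_bot, mul_inv_eq_one, mul_inv_eq_iff_eq_mul] at h1
    exact h1
  have hcent : ∀ n ∈ N, ∀ h ∈ H, h ≠ 1 → n * h = h * n → n ∈ K := by
    intro n hn h hh h1 hnh
    refine Subgroup.mem_inf.2 ⟨hn, ?_⟩
    by_contra hnM
    exact h1 (hTI n hnM h hh (by rw [hnh, mul_inv_cancel_right]; exact hh))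
  have hKidx : (H.subgroupOf M).index = Nat.card K := by
    have hmul := (H.subgroupOf M).card_mul_index
    rw [Nat.card_congr (Subgroup.subgroupOfEquivOfLe hHM).toEquiv] at hmul
    have hMK : Nat.card M = Nat.card K * Nat.card H := by
      rw [← CfsgLib.Solvable.card_sup_of_disjoint (K := K) (A := H)]
      · congr 1
        refine congrArg (fun S : Subgroup G => ↥S) (le_antisymm ?_ (sup_le inf_le_right hHM))
        intro x hx
        obtain ⟨⟨n, h⟩, rfl⟩ := hc.2 x
        refine mul_mem (Subgroup.mem_sup_left (Subgroup.mem_inf.2 ⟨n.2, ?_⟩)) (Subgroup.mem_sup_right h.2)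
        have := mul_mem hx (inv_mem (hHM h.2))
        simpa using this
      · intro h hh
        rw [Subgroup.mem_normalizer_iff]
        intro k
        constructor
        · intro hk
          rw [← hKH k hk h hh]
          simpa using hk
        · intro hk
          have := hKH _ hk h hh
          have h2 : h * k * h⁻¹ = k := by
            calc h * k * h⁻¹ = h⁻¹ * ((h * k * h⁻¹) * h) := by rw [this]; group
              _ = k := by group
          rwa [h2] at hk
      · exact le_bot_iff.1 ((inf_le_inf_right H inf_le_left).trans hdisj.le)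
    rw [hMK, mul_comm (Nat.card K)] at hmul
    exact Nat.eq_of_mul_eq_mul_left Nat.card_pos hmul
  have hH1 : H ≠ ⊥ := fun e => hnn (e ▸ (inferInstance : (⊥ : Subgroup G).Normal))
  have hKN : Nat.card K < Nat.card N := by
    refine lt_of_le_of_ne (Subgroup.card_le_of_le inf_le_left) fun e => hnn ?_
    have hle : N ≤ M := (Subgroup.eq_of_le_of_card_ge (inf_le_left : K ≤ N) e.ge).symm.le.trans inf_le_right
    rw [← Subgroup.normalizer_eq_top_iff, eq_top_iff, ← hNH]
    exact sup_le hle hHM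
  -- `H` is a Hall subgroup
  have hHallG : (Nat.card H).Coprime (Nat.card N) := by
    refine Nat.coprime_of_dvd fun r hr hrH hrN => ?_
    haveI := Fact.mk hr
    obtain ⟨P⟩ : Nonempty (Sylow r H) := inferInstance
    set P' := (P : Subgroup H).map H.subtype with hP'
    have hP'H : P' ≤ H := Subgroup.map_subtype_le _
    have hP'p : IsPGroup r P' := P.isPGroup'.map _
    obtain ⟨S, hS⟩ := hP'p.exists_le_sylow
    have hP'card : Nat.card P' = r ^ (Nat.card H).factorization r := by
      rw [hP', Subgroup.card_map_of_injective H.subtype_injective, Sylow.card_eq_multiplicity]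
    have hP'1 : P' ≠ ⊥ := fun e => by
      rw [e, Subgroup.card_bot] at hP'card
      exact absurd hP'card.symm (Nat.one_lt_pow
        (Nat.pos_iff_ne_zero.1 (hr.factorization_pos_of_dvd Nat.card_pos.ne' hrH)) hr.one_lt).ne'
    have hlt : P' < (S : Subgroup G) := by
      refine lt_of_le_of_ne hS fun e => ?_
      have := congrArg (fun X : Subgroup G => Nat.card X) e
      simp only [hP'card, Sylow.card_eq_multiplicity, ← hGcard,
        Nat.factorization_mul Nat.card_pos.ne' Nat.card_pos.ne', Finsupp.add_apply] at this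
      have h2 := Nat.pow_right_injective hr.two_le this
      have := hr.factorization_pos_of_dvd Nat.card_pos.ne' hrN
      omega
    haveI : Group.IsNilpotent (S : Subgroup G) := S.isPGroup'.isNilpotent
    have hnc := normalizerCondition_of_isNilpotent (P'.subgroupOf (S : Subgroup G))
      (lt_top_iff_ne_top.2 fun e => hlt.not_ge (Subgroup.subgroupOf_eq_top.1 e))
    obtain ⟨u, huN, huP⟩ := SetLike.exists_of_lt hnc
    have hunorm : ∀ x ∈ P', (u : G) * x * (u : G)⁻¹ ∈ P' := fun x hx => by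
      have := (Subgroup.mem_normalizer_iff.1 huN ⟨x, hS hx⟩).1 hx
      exact this
    have huM : (u : G) ∈ M := by
      by_contra huM
      obtain ⟨x, hx, hx1⟩ := (Subgroup.bot_or_exists_ne_one P').resolve_left hP'1
      exact hx1 (hTI u huM x (hP'H hx) (hP'H (hunorm x hx)))
    have huH : (u : G) ∈ H := by
      obtain ⟨k, hk⟩ := IsPGroup.iff_orderOf.1 S.isPGroup' u
      rw [← Subgroup.orderOf_coe] at hk
      have h1 : ((QuotientGroup.mk' (H.subgroupOf M)) ⟨u, huM⟩) = 1 := by
        haveI : (H.subgroupOf M).Normal := Subgroup.normal_in_normalizer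
        rw [← orderOf_eq_one_iff, ← Nat.dvd_one]
        have h2 : orderOf ((QuotientGroup.mk' (H.subgroupOf M)) ⟨u, huM⟩) ∣
            Nat.gcd (r ^ k) (H.subgroupOf M).index := Nat.dvd_gcd
          (by rw [← hk]; exact (orderOf_map_dvd _ _).trans (Subgroup.orderOf_mk (u : G) huM).dvd)
          (by rw [Subgroup.index_eq_card]; exact orderOf_dvd_natCard _)
        rwa [(Nat.Coprime.pow_left k (hcopM.coprime_dvd_left hrH)).gcd_eq_one] at h2
      exact Subgroup.mem_subgroupOf.1 ((QuotientGroup.eq_one_iff (⟨(u : G), huM⟩ : M)).1 h1)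
    set u' : H := ⟨u, huH⟩
    have hu'P : u' ∈ (P : Subgroup H) := by
      refine CfsgLib.FGS.mem_of_mem_normalizer P ?_ ?_
      · obtain ⟨k, hk⟩ := IsPGroup.iff_orderOf.1 S.isPGroup' u
        exact ⟨k, by rw [← Subgroup.orderOf_coe]; rw [← Subgroup.orderOf_coe] at hk; exact hk⟩
      · rw [Subgroup.mem_normalizer_iff]
        have hfw : ∀ x : H, x ∈ (P : Subgroup H) → u' * x * u'⁻¹ ∈ (P : Subgroup H) := fun x hx => by
          obtain ⟨y, hy, hyx⟩ := hunorm (x : G) ⟨x, hx, rfl⟩
          have : y = u' * x * u'⁻¹ := Subtype.ext hyx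
          exact this ▸ hy
        intro x
        refine ⟨hfw x, fun hx => ?_⟩
        let f : ↥(P : Subgroup H) → ↥(P : Subgroup H) := fun z => ⟨u' * z * u'⁻¹, hfw z z.2⟩
        have hf : Function.Injective f := fun a b hab => by
          simpa [f] using congrArg Subtype.val hab
        obtain ⟨z, hz⟩ := (Finite.injective_iff_surjective.1 hf) ⟨_, hx⟩
        have : (z : H) = x := by simpa [f] using congrArg Subtype.val hz
        exact this ▸ z.2
    exact huP (Subgroup.mem_subgroupOf.2 ⟨u', hu'P, rfl⟩)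
  -- a prime at which `K` is smaller than `N`
  obtain ⟨q, hq, hqlt⟩ : ∃ q : ℕ, q.Prime ∧
      (Nat.card K).factorization q < (Nat.card N).factorization q := by
    by_contra hall
    push Not at hall
    refine hKN.not_ge (Nat.le_of_dvd Nat.card_pos ?_)
    rw [← Nat.factorization_le_iff_dvd Nat.card_pos.ne' Nat.card_pos.ne']
    intro r
    by_cases hr : r.Prime
    · exact hall r hr
    · simp [Nat.factorization_eq_zero_of_not_prime _ hr]
  haveI := Fact.mk hq
  obtain ⟨R₀⟩ : Nonempty (Sylow q K) := inferInstance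
  set R := (R₀ : Subgroup K).map K.subtype with hR
  have hRK : R ≤ K := Subgroup.map_subtype_le _
  have hRcard : Nat.card R = q ^ (Nat.card K).factorization q := by
    rw [hR, Subgroup.card_map_of_injective K.subtype_injective, Sylow.card_eq_multiplicity]
  set T := Subgroup.normalizer (R : Set G) with hT
  have hHT : H ≤ T := fun h hh => Subgroup.centralizer_le_normalizer _
    (Subgroup.mem_centralizer_iff.2 fun x hx => hKH x (hRK hx) h hh)
  have hRT : R ≤ T := Subgroup.le_normalizer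
  haveI hRn : (R.subgroupOf T).Normal := Subgroup.normal_in_normalizer
  -- a Sylow subgroup of `N ⊓ T`
  obtain ⟨Q₀, hQ₀⟩ := ((IsPGroup.of_card hRcard).of_equiv
    (Subgroup.subgroupOfEquivOfLe (le_inf (hRK.trans inf_le_left) hRT : R ≤ N ⊓ T)).symm).exists_le_sylow
  set Q := (Q₀ : Subgroup (N ⊓ T : Subgroup G)).map (N ⊓ T).subtype with hQ
  have hQN : Q ≤ N ⊓ T := Subgroup.map_subtype_le _
  have hRQ : R ≤ Q := fun x hx =>
    ⟨⟨x, Subgroup.mem_inf.2 ⟨(hRK hx).1, hRT hx⟩⟩, hQ₀ (Subgroup.mem_subgroupOf.2 hx), rfl⟩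
  have hQp : IsPGroup q Q := Q₀.isPGroup'.map _
  have hRQlt : R < Q := by
    refine lt_of_le_of_ne hRQ fun e => ?_
    obtain ⟨S, hS⟩ := ((IsPGroup.of_card hRcard).of_equiv
      (Subgroup.subgroupOfEquivOfLe (hRK.trans inf_le_left : R ≤ N)).symm).exists_le_sylow
    have hne : R.subgroupOf N ≠ (S : Subgroup N) := fun e' => by
      have h1 : Nat.card (R.subgroupOf N) = Nat.card (S : Subgroup N) := by rw [e']
      rw [Nat.card_congr (Subgroup.subgroupOfEquivOfLe (hRK.trans inf_le_left : R ≤ N)).toEquiv,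
        hRcard, Sylow.card_eq_multiplicity] at h1
      exact hqlt.ne (Nat.pow_right_injective hq.two_le h1)
    haveI : Group.IsNilpotent (S : Subgroup N) := S.isPGroup'.isNilpotent
    have hnc := normalizerCondition_of_isNilpotent ((R.subgroupOf N).subgroupOf (S : Subgroup N))
      (lt_top_iff_ne_top.2 fun e' => hne (le_antisymm hS (Subgroup.subgroupOf_eq_top.1 e')))
    obtain ⟨v, hvN, hvR⟩ := SetLike.exists_of_lt hnc
    have hvT : ((v : N) : G) ∈ T := by
      refine mem_normalizer_of_forall R _ fun x hx => ?_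
      exact (Subgroup.mem_normalizer_iff.1 hvN ⟨⟨x, (hRK hx).1⟩, hS hx⟩).1 hx
    have hS' : IsPGroup q ((Subgroup.zpowers (⟨((v : N) : G),
        Subgroup.mem_inf.2 ⟨(v : N).2, hvT⟩⟩ : (N ⊓ T : Subgroup G)))) := by
      obtain ⟨k, hk⟩ := IsPGroup.iff_orderOf.1 S.isPGroup' v
      refine CfsgLib.FGS.isPGroup_zpowers (k := k) ?_
      rw [← Subgroup.orderOf_coe]
      rw [← Subgroup.orderOf_coe, ← Subgroup.orderOf_coe] at hk
      exact hk
    refine hvR (Subgroup.mem_subgroupOf.2 (Subgroup.mem_subgroupOf.2 ?_))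
    set v' : (N ⊓ T : Subgroup G) := ⟨((v : N) : G), Subgroup.mem_inf.2 ⟨(v : N).2, hvT⟩⟩
    have hv'Q : v' ∈ (Q₀ : Subgroup (N ⊓ T : Subgroup G)) := by
      obtain ⟨k, hk⟩ := IsPGroup.iff_orderOf.1 hS' ⟨v', Subgroup.mem_zpowers v'⟩
      refine CfsgLib.FGS.mem_of_mem_normalizer Q₀ ⟨k, (Subgroup.orderOf_mk _ _).symm.trans hk⟩ ?_
      have hQR : (Q₀ : Subgroup (N ⊓ T : Subgroup G)) = R.subgroupOf (N ⊓ T) := by
        refine le_antisymm (fun x hx => ?_) hQ₀
        rw [Subgroup.mem_subgroupOf, e]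
        exact ⟨x, hx, rfl⟩
      rw [hQR, Subgroup.mem_normalizer_iff]
      intro x
      exact Subgroup.mem_normalizer_iff.1 hvT (x : G)
    rw [e]
    exact ⟨v', hv'Q, rfl⟩
  -- Frattini argument and Schur–Zassenhaus
  set T2 := T ⊓ Subgroup.normalizer (Q : Set G) with hT2
  have hfr : ∀ h ∈ H, ∃ n ∈ N ⊓ T, n * h ∈ T2 := by
    intro h hh
    have hmap : ∀ x : (N ⊓ T : Subgroup G), h * x * h⁻¹ ∈ N ⊓ T := fun x =>
      Subgroup.mem_inf.2 ⟨‹N.Normal›.conj_mem _ x.2.1 h,
        mul_mem (mul_mem (hHT hh) x.2.2) (inv_mem (hHT hh))⟩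
    let f : (N ⊓ T : Subgroup G) →* (N ⊓ T : Subgroup G) :=
      MonoidHom.mk' (fun x => ⟨h * x * h⁻¹, hmap x⟩) fun a b => Subtype.ext (by simp)
    have hfinj : Function.Injective f := fun a b hab => Subtype.ext (by simpa [f] using congrArg Subtype.val hab)
    have hQ₁p : IsPGroup q ((Q₀ : Subgroup (N ⊓ T : Subgroup G)).map f) := Q₀.isPGroup'.map f
    obtain ⟨Q₁, hQ₁⟩ := hQ₁p.exists_le_sylow
    have hQ₁eq : (Q₀ : Subgroup (N ⊓ T : Subgroup G)).map f = Q₁ :=
      Subgroup.eq_of_le_of_card_ge hQ₁ (by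
        rw [Subgroup.card_map_of_injective hfinj, Sylow.card_eq_multiplicity, Sylow.card_eq_multiplicity])
    obtain ⟨n, hn⟩ := MulAction.exists_smul_eq (N ⊓ T : Subgroup G) Q₁ Q₀
    refine ⟨n, n.2, Subgroup.mem_inf.2 ⟨mul_mem n.2.2 (hHT hh), ?_⟩⟩
    refine mem_normalizer_of_forall Q _ ?_
    rintro _ ⟨x, hx, rfl⟩
    refine ⟨n * f x * n⁻¹, ?_, by simp [f, mul_assoc]⟩
    rw [← hn, SetLike.mem_coe, Sylow.coe_subgroup_smul, CfsgLib.FGS.mem_conj_smul, ← hQ₁eq]
    exact ⟨x, hx, by group⟩
  set N2 := N.subgroupOf T2 with hN2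
  have hN2idx : N2.index = Nat.card H := by
    let g : T2 →* G ⧸ N := (QuotientGroup.mk' N).comp T2.subtype
    have hker : g.ker = N2 := by
      ext x
      simp [g, hN2, Subgroup.mem_subgroupOf, MonoidHom.mem_ker]
    have hsurj : Function.Surjective g := by
      intro y
      obtain ⟨x, rfl⟩ := QuotientGroup.mk'_surjective N y
      obtain ⟨⟨n, h⟩, rfl⟩ := hc.2 x
      obtain ⟨m, hm, hmh⟩ := hfr h h.2
      refine ⟨⟨_, hmh⟩, ?_⟩
      show QuotientGroup.mk' N (m * h) = QuotientGroup.mk' N (n * h)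
      rw [map_mul, map_mul, show QuotientGroup.mk' N m = 1 from (QuotientGroup.eq_one_iff m).2 hm.1,
        show QuotientGroup.mk' N n = 1 from (QuotientGroup.eq_one_iff _).2 n.2]
    rw [← hker, Subgroup.index_ker, MonoidHom.range_eq_top.2 hsurj, Subgroup.card_top,
      ← Subgroup.index_eq_card]
    have h0 := N.card_mul_index
    rw [← hGcard] at h0
    exact Nat.eq_of_mul_eq_mul_left Nat.card_pos h0
  obtain ⟨L₀, hL₀⟩ := Subgroup.exists_right_complement'_of_coprime (N := N2) (by
    rw [hN2idx]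
    exact hHallG.symm.coprime_dvd_left ((Subgroup.card_comap_dvd_of_injective N T2.subtype
      T2.subtype_injective)))
  have hL₀card : Nat.card L₀ = Nat.card H := by rw [← hN2idx, hL₀.symm.index_eq_card]
  set L := L₀.map T2.subtype with hL
  have hLcard : Nat.card L = Nat.card H := by
    rw [hL, Subgroup.card_map_of_injective T2.subtype_injective, hL₀card]
  have hLT2 : L ≤ T2 := Subgroup.map_subtype_le _
  have hLN : N ⊓ L = ⊥ := by
    rw [eq_bot_iff]
    rintro x ⟨hxN, y, hy, rfl⟩
    have : y ∈ N2 ⊓ L₀ := ⟨hxN, hy⟩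
    rw [hL₀.disjoint.eq_bot, Subgroup.mem_bot] at this
    simp [this]
  -- `L ≅ H`
  let eH : H →* G ⧸ N := (QuotientGroup.mk' N).comp H.subtype
  let eL : L →* G ⧸ N := (QuotientGroup.mk' N).comp L.subtype
  have hbij : ∀ (X : Subgroup G), N ⊓ X = ⊥ → Nat.card X = Nat.card H →
      Function.Bijective ((QuotientGroup.mk' N).comp X.subtype) := by
    intro X hX hXc
    refine (Nat.bijective_iff_injective_and_card _).2 ⟨?_, ?_⟩
    · refine (MonoidHom.ker_eq_bot_iff _).1 (eq_bot_iff.2 fun x hx => ?_)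
      have h1 : (x : G) ∈ N ⊓ X := ⟨(QuotientGroup.eq_one_iff _).1 hx, x.2⟩
      rw [hX, Subgroup.mem_bot] at h1
      exact Subgroup.mem_bot.2 (Subtype.ext h1)
    · rw [hXc, ← Subgroup.index_eq_card]
      have h0 := N.card_mul_index
      rw [← hGcard] at h0
      exact (Nat.eq_of_mul_eq_mul_left Nat.card_pos h0).symm
  let eHL : H ≃* L := (MulEquiv.ofBijective _ (hbij H hdisj rfl)).trans
    (MulEquiv.ofBijective _ (hbij L hLN hLcard)).symm
  -- elements of prime order of `L`
  have hfix : ∀ l ∈ L, (orderOf l).Prime → (∀ r ∈ R, l * r = r * l) ∧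
      ∀ x ∈ Q, x * l = l * x → x ∈ R := by
    intro l hl hlp
    set r := orderOf l
    haveI := Fact.mk hlp
    have hrH : r ∣ Nat.card H := hLcard ▸ L.orderOf_dvd_natCard hl
    have hlT : l ∈ T := (hLT2 hl).1
    obtain ⟨S₀⟩ : Nonempty (Sylow r H) := inferInstance
    obtain ⟨S, hS⟩ := ((S₀.isPGroup'.map H.subtype).of_equiv
      (Subgroup.subgroupOfEquivOfLe ((Subgroup.map_subtype_le _).trans hHT)).symm).exists_le_sylow
    have hSeq : ((S₀ : Subgroup H).map H.subtype).subgroupOf T = S := by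
      refine Subgroup.eq_of_le_of_card_ge hS ?_
      rw [Nat.card_congr (Subgroup.subgroupOfEquivOfLe ((Subgroup.map_subtype_le _).trans hHT)).toEquiv,
        Subgroup.card_map_of_injective H.subtype_injective, Sylow.card_eq_multiplicity,
        Sylow.card_eq_multiplicity]
      refine Nat.pow_le_pow_right hlp.pos ?_
      have h1 : Nat.card T ∣ Nat.card G := T.card_subgroup_dvd_card
      have h2 := (Nat.factorization_le_iff_dvd Nat.card_pos.ne' Nat.card_pos.ne').2 h1 r
      rw [← hGcard, Nat.factorization_mul Nat.card_pos.ne' Nat.card_pos.ne', Finsupp.add_apply,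
        Nat.factorization_eq_zero_of_not_dvd (show ¬ r ∣ Nat.card N from fun hd =>
          hlp.not_dvd_one (hHallG.gcd_eq_one ▸ Nat.dvd_gcd hrH hd)), zero_add] at h2
      exact h2
    obtain ⟨S₁, hS₁⟩ := (CfsgLib.FGS.isPGroup_zpowers (u := (⟨l, hlT⟩ : T)) (k := 1) (p := r)
      (by rw [pow_one, ← Subgroup.orderOf_coe])).exists_le_sylow
    obtain ⟨t, ht⟩ := MulAction.exists_smul_eq T S S₁
    have h1 := hS₁ (Subgroup.mem_zpowers _)
    rw [← ht, Sylow.coe_subgroup_smul, CfsgLib.FGS.mem_conj_smul, ← hSeq,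
      Subgroup.mem_subgroupOf] at h1
    have hhH : (t : G)⁻¹ * l * t ∈ H := Subgroup.map_subtype_le _ h1
    set h := (t : G)⁻¹ * l * t with hh
    have hl' : l = (t : G) * h * (t : G)⁻¹ := by rw [hh]; group
    have hh1 : h ≠ 1 := fun e => hlp.ne_one (orderOf_eq_one_iff.2 (by rw [hl', e]; group))
    constructor
    · intro x hx
      have hx' : (t : G)⁻¹ * x * t ∈ R := by
        have := (Subgroup.mem_normalizer_iff.1 (T.inv_mem t.2) x).1 hx
        simpa using this
      have := hKH _ (hRK hx') h hhH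
      rw [hl']
      calc (t : G) * h * (t : G)⁻¹ * x = (t : G) * (h * ((t : G)⁻¹ * x * t)) * (t : G)⁻¹ := by group
        _ = _ := by rw [← this]; group
    · intro x hx hxl
      set y := (t : G)⁻¹ * x * t with hy
      have hyh : y * h = h * y := by
        calc y * h = (t : G)⁻¹ * (x * l) * t := by rw [hy, hh]; group
          _ = _ := by rw [hxl, hy, hh]; group
      have hyN : y ∈ N := by simpa [hy] using ‹N.Normal›.conj_mem x (hQN hx).1 (t : G)⁻¹
      have hyK : y ∈ K := hcent y hyN h hhH hh1 hyh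
      have hyR : (⟨y, hyK⟩ : K) ∈ (R₀ : Subgroup K) := by
        refine CfsgLib.FGS.mem_of_mem_normalizer R₀ ?_ ?_
        · obtain ⟨k, hk⟩ := IsPGroup.iff_orderOf.1 hQp ⟨x, hx⟩
          refine ⟨k, ?_⟩
          rw [Subgroup.orderOf_mk] at hk ⊢
          rw [hy, show (t : G)⁻¹ * x * t = MulAut.conj (t : G)⁻¹ x by simp, MulEquiv.orderOf_eq, hk]
        · have hyT : y ∈ T := mul_mem (mul_mem (inv_mem t.2) (hQN hx).2) t.2
          rw [Subgroup.mem_normalizer_iff]
          intro z
          have hiff : ∀ z : K, z ∈ (R₀ : Subgroup K) ↔ (z : G) ∈ R := fun z =>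
            ⟨fun hz => ⟨z, hz, rfl⟩, fun ⟨z', hz', e⟩ => Subtype.ext e ▸ hz'⟩
          rw [hiff, hiff]
          exact Subgroup.mem_normalizer_iff.1 hyT (z : G)
      have hyR' : y ∈ R := ⟨_, hyR, rfl⟩
      have := (Subgroup.mem_normalizer_iff.1 t.2 y).1 hyR'
      simpa [hy, mul_assoc] using this
  -- the Frobenius group
  set W := Q ⊔ L with hW
  have hWT : W ≤ T := sup_le (hQN.trans inf_le_right) (hLT2.trans inf_le_left)
  haveI hRW : (R.subgroupOf W).Normal :=
    Subgroup.normal_subgroupOf_iff_le_normalizer (hRQ.trans le_sup_left) |>.2 hWT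
  set πW := QuotientGroup.mk' (R.subgroupOf W) with hπW
  let iL : L →* W ⧸ R.subgroupOf W := πW.comp (Subgroup.inclusion le_sup_right)
  have hiL : Function.Injective iL := by
    refine (MonoidHom.ker_eq_bot_iff _).1 (eq_bot_iff.2 fun x hx => ?_)
    have h1 : (x : G) ∈ N ⊓ L := ⟨(hRK (Subgroup.mem_subgroupOf.1 ((QuotientGroup.eq_one_iff _).1 hx))).1, x.2⟩
    rw [hLN, Subgroup.mem_bot] at h1
    exact Subgroup.mem_bot.2 (Subtype.ext h1)
  have hLnormQ : L ≤ Subgroup.normalizer (Q : Set G) := hLT2.trans inf_le_right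
  have hWmem : ∀ x : G, x ∈ W → ∃ a ∈ Q, ∃ l ∈ L, x = a * l := by
    intro x hx
    rw [← SetLike.mem_coe, hW, Subgroup.coe_mul_of_right_le_normalizer_left _ _ hLnormQ] at hx
    obtain ⟨a, ha, l, hl, e⟩ := Set.mem_mul.1 hx
    exact ⟨a, ha, l, hl, e.symm⟩
  refine ⟨W ⧸ R.subgroupOf W, inferInstance, inferInstance, iL.range, ⟨?_, ?_, ?_⟩,
    ⟨eHL.trans (MonoidHom.ofInjective hiL)⟩⟩
  · intro e
    obtain ⟨h, hh, hh1⟩ := (Subgroup.bot_or_exists_ne_one H).resolve_left hH1
    have h2 : iL (eHL ⟨h, hh⟩) ∈ iL.range := ⟨_, rfl⟩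
    rw [e, Subgroup.mem_bot, map_eq_one_iff _ hiL, map_eq_one_iff _ eHL.injective] at h2
    exact hh1 (congrArg Subtype.val h2)
  · intro e
    obtain ⟨x, hxQ, hxR⟩ := SetLike.exists_of_lt hRQlt
    obtain ⟨l, hl⟩ : πW ⟨x, Subgroup.mem_sup_left hxQ⟩ ∈ iL.range := e ▸ Subgroup.mem_top _
    have h1 := Subgroup.mem_subgroupOf.1 (QuotientGroup.eq.1 hl)
    simp only [Subgroup.coe_mul, Subgroup.coe_inv, Subgroup.coe_inclusion] at h1
    have hlN : (l : G) ∈ N ⊓ L := by
      refine Subgroup.mem_inf.2 ⟨?_, l.2⟩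
      have := mul_mem (Subgroup.mem_inf.1 (hQN hxQ)).1 (inv_mem (Subgroup.mem_inf.1 (hRK h1)).1)
      simpa using this
    rw [hLN, Subgroup.mem_bot] at hlN
    rw [hlN, inv_one, one_mul] at h1
    exact hxR h1
  · intro g hg
    by_contra hne
    obtain ⟨z, hz, hz1⟩ := (Subgroup.bot_or_exists_ne_one _).resolve_left hne
    set z' := z ^ (orderOf z / (orderOf z).minFac) with hz'
    have hzp : (orderOf z').Prime := by
      rw [hz', orderOf_pow_orderOf_div (orderOf_pos z).ne' (Nat.minFac_dvd _)]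
      exact Nat.minFac_prime (mt orderOf_eq_one_iff.1 hz1)
    obtain ⟨hzC, hzg⟩ := Subgroup.mem_inf.1 (pow_mem hz (orderOf z / (orderOf z).minFac))
    rw [← hz'] at hzC hzg
    rw [CfsgLib.FGS.mem_conj_smul] at hzg
    obtain ⟨l, hl⟩ := hzC
    obtain ⟨l', hl'⟩ := hzg
    obtain ⟨⟨x, hx⟩, hxg⟩ := QuotientGroup.mk'_surjective (R.subgroupOf W) g
    obtain ⟨a, ha, m, hm, rfl⟩ := hWmem x hx
    have hlord : orderOf (l : G) = orderOf z' := by
      rw [← hl, orderOf_injective iL hiL, Subgroup.orderOf_coe]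
    obtain ⟨hlR, hlQ⟩ := hfix l l.2 (hlord ▸ hzp)
    -- `l' = (a m)⁻¹ l (a m)` modulo `R`
    have h1 : ((a * m)⁻¹ * (l : G) * (a * m))⁻¹ * (l' : G) ∈ R := by
      have e : πW ((⟨a * m, hx⟩ : W)⁻¹ * Subgroup.inclusion le_sup_right l * ⟨a * m, hx⟩) =
          πW (Subgroup.inclusion le_sup_right l') := by
        rw [map_mul, map_mul, map_inv, hπW, hxg]
        show g⁻¹ * iL l * g = iL l'
        rw [hl, hl']
      exact Subgroup.mem_subgroupOf.1 (QuotientGroup.eq.1 e)
    have h2 : a⁻¹ * ((l : G) * a * (l : G)⁻¹) ∈ R := by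
      set c := m * (l' : G) * m⁻¹ with hc'
      have h3 : (a⁻¹ * (l : G) * a)⁻¹ * c ∈ R := by
        have hmT : m ∈ T := (hLT2 hm).1
        have := (Subgroup.mem_normalizer_iff.1 hmT _).1 h1
        convert this using 1
        rw [hc']; group
      have hcL : c ∈ L := mul_mem (mul_mem hm l'.2) (inv_mem hm)
      have h4 : c * (l : G)⁻¹ = 1 := by
        have h5 : c * (l : G)⁻¹ ∈ N ⊓ L := by
          refine Subgroup.mem_inf.2 ⟨?_, mul_mem hcL (inv_mem l.2)⟩
          have e : c * (l : G)⁻¹ = (a⁻¹ * ((l : G) * a * (l : G)⁻¹)) *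
              ((l : G) * ((a⁻¹ * (l : G) * a)⁻¹ * c) * (l : G)⁻¹) := by group
          rw [e]
          exact mul_mem (mul_mem (inv_mem (Subgroup.mem_inf.1 (hQN ha)).1) (‹N.Normal›.conj_mem _ (Subgroup.mem_inf.1 (hQN ha)).1 _))
            (‹N.Normal›.conj_mem _ (Subgroup.mem_inf.1 (hRK h3)).1 _)
        rw [hLN, Subgroup.mem_bot] at h5
        exact h5
      rw [mul_inv_eq_one.1 h4] at h3
      have := (Subgroup.mem_normalizer_iff.1 (hLT2 l.2).1 _).1 h3
      have e : a⁻¹ * ((l : G) * a * (l : G)⁻¹) = ((l : G) * ((a⁻¹ * (l : G) * a)⁻¹ * l) * (l : G)⁻¹)⁻¹ := by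
        group
      rw [e]
      exact inv_mem this
    set r := a⁻¹ * ((l : G) * a * (l : G)⁻¹) with hr
    have hiter : ∀ i : ℕ, (l : G) ^ i * a * ((l : G) ^ i)⁻¹ = a * r ^ i := by
      intro i
      induction i with
      | zero => simp
      | succ i ih =>
        have hc1 : (l : G) * r ^ i * (l : G)⁻¹ = r ^ i := by
          rw [hlR _ (pow_mem h2 i), mul_inv_cancel_right]
        calc (l : G) ^ (i + 1) * a * ((l : G) ^ (i + 1))⁻¹
            = (l : G) * ((l : G) ^ i * a * ((l : G) ^ i)⁻¹) * (l : G)⁻¹ := by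
              rw [pow_succ']; group
          _ = ((l : G) * a * (l : G)⁻¹) * ((l : G) * r ^ i * (l : G)⁻¹) := by rw [ih]; group
          _ = a * r * r ^ i := by rw [hc1, hr]; group
          _ = a * r ^ (i + 1) := by rw [mul_assoc, ← pow_succ']
    have hr1 : r = 1 := by
      have h3 := hiter (orderOf (l : G))
      simp only [pow_orderOf_eq_one, one_mul, inv_one, mul_one] at h3
      obtain ⟨k, hk⟩ := IsPGroup.iff_orderOf.1 hQp ⟨r, hRQ h2⟩
      rw [Subgroup.orderOf_mk] at hk
      have h4 := pow_gcd_eq_one.2 ⟨(mul_eq_left.1 h3.symm), (hk ▸ pow_orderOf_eq_one r : r ^ (q ^ k) = 1)⟩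
      have hne : ¬ q ∣ orderOf (l : G) := by
        intro hd
        have hlH : orderOf (l : G) ∣ Nat.card H := hLcard ▸ L.orderOf_dvd_natCard l.2
        have hqN : q ∣ Nat.card N := Nat.dvd_of_factorization_pos
          (Nat.pos_iff_ne_zero.1 (lt_of_le_of_lt (Nat.zero_le _) hqlt))
        exact hq.not_dvd_one (hHallG.gcd_eq_one ▸ Nat.dvd_gcd (hd.trans hlH) hqN)
      rwa [(Nat.Coprime.pow_right k (hq.coprime_iff_not_dvd.2 hne).symm).gcd_eq_one, pow_one] at h4
    rw [hr1, eq_comm] at hr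
    have haR : a ∈ R := hlQ a ha (by
      have := inv_mul_eq_one.1 hr
      calc a * (l : G) = ((l : G) * a * (l : G)⁻¹) * l := by rw [← this]
        _ = _ := by group)
    refine hg ?_
    rw [← hxg]
    refine ⟨⟨m, hm⟩, QuotientGroup.eq.2 (Subgroup.mem_subgroupOf.2 ?_)⟩
    show m⁻¹ * (a * m) ∈ R
    have := (Subgroup.mem_normalizer_iff.1 (T.inv_mem (hLT2 hm).1) a).1 haR
    simpa [mul_assoc] using this

/-- A TI subgroup which is a Hall subgroup of its normalizer is a Hall subgroup. -/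
theorem coprime_index_of_TI_hall (H : Subgroup G) (hTI : Cfsg.IsTISubset (H : Set G))
    (hcopM : (Nat.card H).Coprime (H.subgroupOf (Subgroup.normalizer (H : Set G))).index) :
    (Nat.card H).Coprime H.index := by
  classical
  set M := Subgroup.normalizer (H : Set G) with hM
  refine Nat.coprime_of_dvd fun r hr hrH hrN => ?_
  haveI := Fact.mk hr
  obtain ⟨P⟩ : Nonempty (Sylow r H) := inferInstance
  set P' := (P : Subgroup H).map H.subtype with hP'
  have hP'H : P' ≤ H := Subgroup.map_subtype_le _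
  obtain ⟨S, hS⟩ := (P.isPGroup'.map H.subtype).exists_le_sylow
  have hP'card : Nat.card P' = r ^ (Nat.card H).factorization r := by
    rw [hP', Subgroup.card_map_of_injective H.subtype_injective, Sylow.card_eq_multiplicity]
  have hP'1 : P' ≠ ⊥ := fun e => by
    rw [e, Subgroup.card_bot] at hP'card
    exact absurd hP'card.symm (Nat.one_lt_pow
      (Nat.pos_iff_ne_zero.1 (hr.factorization_pos_of_dvd Nat.card_pos.ne' hrH)) hr.one_lt).ne'
  have hlt : P' < (S : Subgroup G) := by
    refine lt_of_le_of_ne hS fun e => ?_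
    have := congrArg (fun X : Subgroup G => Nat.card X) e
    simp only [hP'card, Sylow.card_eq_multiplicity, ← H.card_mul_index,
      Nat.factorization_mul Nat.card_pos.ne' Subgroup.index_ne_zero_of_finite, Finsupp.add_apply] at this
    have h2 := Nat.pow_right_injective hr.two_le this
    have := hr.factorization_pos_of_dvd Subgroup.index_ne_zero_of_finite hrN
    omega
  haveI : Group.IsNilpotent (S : Subgroup G) := S.isPGroup'.isNilpotent
  have hnc := normalizerCondition_of_isNilpotent (P'.subgroupOf (S : Subgroup G))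
    (lt_top_iff_ne_top.2 fun e => hlt.not_ge (Subgroup.subgroupOf_eq_top.1 e))
  obtain ⟨u, huN, huP⟩ := SetLike.exists_of_lt hnc
  have hunorm : ∀ x ∈ P', (u : G) * x * (u : G)⁻¹ ∈ P' := fun x hx =>
    (Subgroup.mem_normalizer_iff.1 huN ⟨x, hS hx⟩).1 hx
  have huM : (u : G) ∈ M := by
    by_contra huM
    obtain ⟨x, hx, hx1⟩ := (Subgroup.bot_or_exists_ne_one P').resolve_left hP'1
    exact hx1 (hTI u huM x (hP'H hx) (hP'H (hunorm x hx)))
  obtain ⟨k, hk⟩ := IsPGroup.iff_orderOf.1 S.isPGroup' u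
  rw [← Subgroup.orderOf_coe] at hk
  have huH : (u : G) ∈ H := by
    haveI : (H.subgroupOf M).Normal := Subgroup.normal_in_normalizer
    have h1 : ((QuotientGroup.mk' (H.subgroupOf M)) ⟨u, huM⟩) = 1 := by
      rw [← orderOf_eq_one_iff, ← Nat.dvd_one]
      have h2 : orderOf ((QuotientGroup.mk' (H.subgroupOf M)) ⟨u, huM⟩) ∣
          Nat.gcd (r ^ k) (H.subgroupOf M).index := Nat.dvd_gcd
        (by rw [← hk]; exact (orderOf_map_dvd _ _).trans (Subgroup.orderOf_mk (u : G) huM).dvd)
        (by rw [Subgroup.index_eq_card]; exact orderOf_dvd_natCard _)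
      rwa [(Nat.Coprime.pow_left k (hcopM.coprime_dvd_left hrH)).gcd_eq_one] at h2
    exact Subgroup.mem_subgroupOf.1 ((QuotientGroup.eq_one_iff (⟨(u : G), huM⟩ : M)).1 h1)
  set u' : H := ⟨u, huH⟩
  have hu'P : u' ∈ (P : Subgroup H) := by
    refine CfsgLib.FGS.mem_of_mem_normalizer P ⟨k, by rw [← Subgroup.orderOf_coe]; exact hk⟩ ?_
    refine mem_normalizer_of_forall (P : Subgroup H) u' fun x hx => ?_
    obtain ⟨y, hy, hyx⟩ := hunorm (x : G) ⟨x, hx, rfl⟩
    have : y = u' * x * u'⁻¹ := Subtype.ext hyx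
    exact this ▸ hy
  exact huP (Subgroup.mem_subgroupOf.2 ⟨u', hu'P, rfl⟩)

/-- The join of the normal subgroups of order coprime to `n` has order coprime to `n`. -/
theorem coprime_sSup_normal (n : ℕ) :
    (Nat.card ↥(sSup {K : Subgroup G | K.Normal ∧ (Nat.card K).Coprime n})).Coprime n :=
  CfsgLib.Cores.sSup_normal_induction (fun K => (Nat.card K).Coprime n) (by simp)
    (fun N M hN _ h1 h2 => Nat.Coprime.coprime_dvd_left
      (haveI := hN; CfsgLib.Cores.card_sup_dvd_mul N M) (h1.mul_left h2)) _ (fun _ h => h)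

/-- The basic structure in the π-separable case, `O = O_{π'}(G)`. -/
theorem TI_hall_structure (H : Subgroup G)
    (hTI : Cfsg.IsTISubset (H : Set G)) (hnn : ¬ H.Normal)
    (hHall : (Nat.card H).Coprime (H.subgroupOf (Subgroup.normalizer (H : Set G))).index)
    (hsep : ∃ (n : ℕ) (M : Fin (n + 1) → Subgroup G), M 0 = ⊥ ∧ M (Fin.last n) = ⊤ ∧ Monotone M ∧ (∀ i, (M i).Normal) ∧
      ∀ i : Fin n, (∀ q : ℕ, q.Prime → q ∣ (M i.castSucc).relIndex (M i.succ) → q ∣ Nat.card H) ∨
        ((M i.castSucc).relIndex (M i.succ)).Coprime (Nat.card H))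
    (O : Subgroup G) (hO : O = sSup {K : Subgroup G | K.Normal ∧ (Nat.card K).Coprime (Nat.card H)}) :
    O.Normal ∧ (Nat.card O).Coprime (Nat.card H) ∧ O ⊓ H = ⊥ ∧
      O ⊔ Subgroup.normalizer (H : Set G) = ⊤ ∧ (O ⊔ H).Normal ∧
      ∃ (F : Type w) (_ : Group F) (_ : Finite F) (C : Subgroup F),
        Cfsg.IsFrobeniusComplement C ∧ Nonempty (H ≃* C) := by
  classical
  have hOn : O.Normal := hO ▸ Subgroup.sSup_normal _ fun K hK => hK.1
  haveI := hOn
  have hOc : (Nat.card O).Coprime (Nat.card H) := hO ▸ coprime_sSup_normal (Nat.card H)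
  have hle : ∀ K : Subgroup G, K.Normal → (Nat.card K).Coprime (Nat.card H) → K ≤ O :=
    fun K h1 h2 => hO ▸ le_sSup ⟨h1, h2⟩
  have hOH : O ⊓ H = ⊥ := disjoint_iff.1 (by
    rw [disjoint_iff, Subgroup.eq_bot_iff_forall]
    intro x hx
    rw [← orderOf_eq_one_iff, ← Nat.dvd_one, ← hOc.gcd_eq_one]
    exact Nat.dvd_gcd (O.orderOf_dvd_natCard (Subgroup.mem_inf.1 hx).1)
      (H.orderOf_dvd_natCard (Subgroup.mem_inf.1 hx).2))
  set M := Subgroup.normalizer (H : Set G) with hM
  have hHi := coprime_index_of_TI_hall H hTI hHall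
  have hH1 : H ≠ ⊥ := fun e => hnn (e ▸ (inferInstance : (⊥ : Subgroup G).Normal))
  -- a normal subgroup above `O` inside `O ⊔ H`
  have hcardOH : Nat.card ↥(O ⊔ H) = Nat.card O * Nat.card H :=
    CfsgLib.Solvable.card_sup_of_disjoint (Subgroup.normalizer_eq_top O ▸ le_top) hOH
  obtain ⟨n, S, h0, hn, hmono, hnor, hfac⟩ := hsep
  have hOM : O ⊔ M = ⊤ := by
    by_cases htop : O = ⊤
    · rw [htop, top_sup_eq]
    obtain ⟨i, hi1, hi2⟩ : ∃ i : Fin n, S i.castSucc ≤ O ∧ ¬ S i.succ ≤ O := by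
      by_contra hall
      push Not at hall
      have key : ∀ i, S i ≤ O := fun i => by
        induction i using Fin.induction with
        | zero => rw [h0]; exact bot_le
        | succ i ih => exact hall i ih
      exact htop (top_le_iff.1 (hn ▸ key _))
    haveI := hnor i.succ
    set L := O ⊔ S i.succ with hL
    have hLn : L.Normal := inferInstance
    have hrel : O.relIndex L ∣ (S i.castSucc).relIndex (S i.succ) := by
      rw [hL, Subgroup.relIndex_sup_left]
      exact Subgroup.relIndex_dvd_of_le_left _ hi1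
    rcases hfac i with hpi | hcop
    · -- a π-factor
      have hdvd : Nat.card L ∣ Nat.card O * Nat.card H := by
        rw [← Subgroup.relIndex_bot_left, ← Subgroup.relIndex_mul_relIndex ⊥ O L bot_le le_sup_left,
          Subgroup.relIndex_bot_left]
        refine Nat.mul_dvd_mul_left _ ?_
        have h1 : Nat.card O * O.relIndex L ∣ Nat.card H * H.index := by
          rw [H.card_mul_index, ← Subgroup.relIndex_bot_left O,
            Subgroup.relIndex_mul_relIndex ⊥ O L bot_le le_sup_left, Subgroup.relIndex_bot_left]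
          exact L.card_subgroup_dvd_card
        refine Nat.Coprime.dvd_of_dvd_mul_right ?_ ((dvd_mul_left _ _).trans h1)
        exact Nat.coprime_of_dvd fun q hq hq1 hq2 => hq.not_dvd_one
          (hHi.gcd_eq_one ▸ Nat.dvd_gcd (hpi q hq (hq1.trans hrel)) hq2)
      have hLOH : L ≤ O ⊔ H := by
        have hsupcard : Nat.card ↥(L ⊔ (O ⊔ H)) ∣ Nat.card L * Nat.card ↥(O ⊔ H) :=
          CfsgLib.Cores.card_sup_dvd_mul _ _
        have h1 : Nat.card ↥(L ⊔ (O ⊔ H)) ∣ Nat.card G := Subgroup.card_subgroup_dvd_card _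
        set d := O.relIndex L
        have hLcard : Nat.card L = Nat.card O * d := by
          rw [← Subgroup.relIndex_bot_left L, ← Subgroup.relIndex_mul_relIndex ⊥ O L bot_le le_sup_left,
            Subgroup.relIndex_bot_left]
        obtain ⟨e, he⟩ := Subgroup.card_dvd_of_le (le_sup_right : O ⊔ H ≤ L ⊔ (O ⊔ H))
        rw [he, hLcard, hcardOH] at hsupcard
        rw [he, hcardOH, ← H.card_mul_index] at h1
        have h2 : e ∣ Nat.card O * d := by
          have : Nat.card O * Nat.card H * e ∣ Nat.card O * Nat.card H * (Nat.card O * d) := by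
            rwa [mul_comm (Nat.card O * d)] at hsupcard
          exact Nat.dvd_of_mul_dvd_mul_left (Nat.mul_pos Nat.card_pos Nat.card_pos) this
        have h3 : Nat.card O * e ∣ H.index := by
          refine Nat.dvd_of_mul_dvd_mul_left (Nat.card_pos (α := H)) ?_
          rwa [mul_comm (Nat.card O) (Nat.card H), mul_assoc] at h1
        have he1 : e = 1 := by
          by_contra hne
          obtain ⟨q, hq, hqe⟩ := Nat.exists_prime_and_dvd hne
          have hqi : q ∣ H.index := hqe.trans ((dvd_mul_left _ _).trans h3)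
          rcases hq.dvd_mul.1 (hqe.trans h2) with h | h
          · have hsq : q * q ∣ H.index := (Nat.mul_dvd_mul h hqe).trans h3
            have hlt : (Nat.card O * d).factorization q < (Nat.card O * e).factorization q := by
              have hd0 : d ≠ 0 := fun e0 => (Nat.card_pos (α := L)).ne' (by rw [hLcard, e0, mul_zero])
              have he0 : e ≠ 0 := fun e0 => (Nat.card_pos (α := ↥(L ⊔ (O ⊔ H)))).ne' (by rw [he, e0, mul_zero])
              rw [Nat.factorization_mul Nat.card_pos.ne' hd0, Nat.factorization_mul Nat.card_pos.ne' he0,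
                Finsupp.add_apply, Finsupp.add_apply, Nat.factorization_eq_zero_of_not_dvd
                  (show ¬ q ∣ d from fun hh => hq.not_dvd_one
                    (hHi.gcd_eq_one ▸ Nat.dvd_gcd (hpi q hq (hh.trans hrel)) hqi))]
              have := hq.factorization_pos_of_dvd he0 hqe
              omega
            have h4 : e * Nat.card O ∣ Nat.card O * d * Nat.card O := by
              exact Nat.mul_dvd_mul_right h2 _
            -- `O * H * e` is the order of a group mapping onto `L O H / O`, whose order divides `d * |H|`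
            have h5 : Nat.card ↥(L ⊔ (O ⊔ H)) ∣ Nat.card L * Nat.card H := by
              rw [← sup_assoc, sup_eq_left.2 (le_sup_left : O ≤ L)]
              exact CfsgLib.Cores.card_sup_dvd_mul _ _
            rw [he, hcardOH, hLcard] at h5
            have h6 : e ∣ d := by
              refine Nat.dvd_of_mul_dvd_mul_left (Nat.mul_pos Nat.card_pos Nat.card_pos :
                0 < Nat.card O * Nat.card H) ?_
              rwa [mul_right_comm (Nat.card O) d (Nat.card H)] at h5
            exact hq.not_dvd_one (hHi.gcd_eq_one ▸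
              Nat.dvd_gcd (hpi q hq ((hqe.trans h6).trans hrel)) hqi)
          · exact hq.not_dvd_one (hHi.gcd_eq_one ▸ Nat.dvd_gcd (hpi q hq (h.trans hrel)) hqi)
        refine (le_sup_left : L ≤ L ⊔ (O ⊔ H)).trans_eq (Subgroup.eq_of_le_of_card_ge le_sup_right ?_).symm
        rw [he, he1, mul_one]
      set R := L ⊓ H with hR
      have hLeq : L = O ⊔ R := by
        refine le_antisymm (fun x hx => ?_) (sup_le le_sup_left inf_le_left)
        obtain ⟨o, ho, h, hh, rfl⟩ := Subgroup.mem_sup_of_normal_left.1 (hLOH hx)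
        refine mul_mem (Subgroup.mem_sup_left ho) (Subgroup.mem_sup_right (Subgroup.mem_inf.2 ⟨?_, hh⟩))
        simpa using mul_mem (inv_mem ((le_sup_left : O ≤ L) ho)) hx
      have hR1 : Nat.card R ≠ 1 := fun e => hi2 (by
        rw [Subgroup.card_eq_one.1 e, sup_bot_eq] at hLeq
        exact (le_sup_right : S i.succ ≤ L).trans_eq hLeq)
      obtain ⟨r, hr, hrR⟩ := Nat.exists_prime_and_dvd hR1
      haveI := Fact.mk hr
      obtain ⟨P⟩ : Nonempty (Sylow r R) := inferInstance
      set P' := (P : Subgroup R).map R.subtype with hP'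
      have hP'L : P' ≤ L := (Subgroup.map_subtype_le _).trans inf_le_left
      have hP'H : P' ≤ H := (Subgroup.map_subtype_le _).trans inf_le_right
      have hP'p : IsPGroup r P' := P.isPGroup'.map _
      obtain ⟨T, hT⟩ := (hP'p.of_equiv (Subgroup.subgroupOfEquivOfLe hP'L).symm).exists_le_sylow
      have hTeq : P'.subgroupOf L = T := by
        refine Subgroup.eq_of_le_of_card_ge hT ?_
        rw [Nat.card_congr (Subgroup.subgroupOfEquivOfLe hP'L).toEquiv, hP',
          Subgroup.card_map_of_injective R.subtype_injective, Sylow.card_eq_multiplicity,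
          Sylow.card_eq_multiplicity]
        refine Nat.pow_le_pow_right hr.pos ?_
        have hcL : Nat.card L = Nat.card O * Nat.card R := by
          conv_lhs => rw [hLeq]
          exact CfsgLib.Solvable.card_sup_of_disjoint (Subgroup.normalizer_eq_top O ▸ le_top)
            (le_bot_iff.1 ((inf_le_inf_left O inf_le_right).trans hOH.le))
        rw [hcL, Nat.factorization_mul Nat.card_pos.ne' Nat.card_pos.ne', Finsupp.add_apply,
          Nat.factorization_eq_zero_of_not_dvd (show ¬ r ∣ Nat.card O from fun hd => hr.not_dvd_one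
            (hOc.gcd_eq_one ▸ Nat.dvd_gcd hd (hrR.trans (Subgroup.card_dvd_of_le inf_le_right)))), zero_add]
      have hP'1 : P' ≠ ⊥ := fun e => P.ne_bot_of_dvd_card hrR
        ((Subgroup.map_eq_bot_iff_of_injective _ R.subtype_injective).1 e)
      have hfr : L ⊔ Subgroup.normalizer (P' : Set G) = ⊤ := by
        haveI := hLn
        have h1 := Sylow.normalizer_sup_eq_top T
        rw [← hTeq, Subgroup.map_subgroupOf_eq_of_le hP'L] at h1
        rwa [sup_comm]
      have hNPM : Subgroup.normalizer (P' : Set G) ≤ M := by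
        intro g hg
        by_contra hgM
        obtain ⟨x, hx, hx1⟩ := (Subgroup.bot_or_exists_ne_one P').resolve_left hP'1
        exact hx1 (hTI g hgM x (hP'H hx) (hP'H ((Subgroup.mem_normalizer_iff.1 hg x).1 hx)))
      rw [eq_top_iff, ← hfr]
      exact sup_le (hLOH.trans (sup_le_sup_left Subgroup.le_normalizer O)) (hNPM.trans le_sup_right)
    · -- a π'-factor lies in `O`
      exfalso
      refine hi2 ((le_sup_right : S i.succ ≤ L).trans (hle L hLn ?_))
      rw [← Subgroup.relIndex_bot_left, ← Subgroup.relIndex_mul_relIndex ⊥ O L bot_le le_sup_left,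
        Subgroup.relIndex_bot_left]
      exact hOc.mul_left (hcop.coprime_dvd_left hrel)
  have hOHn : (O ⊔ H).Normal := by
    rw [← Subgroup.normalizer_eq_top_iff, eq_top_iff, ← hOM]
    refine sup_le (le_sup_left.trans Subgroup.le_normalizer) fun g hg => ?_
    refine mem_normalizer_of_forall _ g fun x hx => ?_
    obtain ⟨o, ho, h, hh, rfl⟩ := Subgroup.mem_sup_of_normal_left.1 hx
    rw [← conj_mul]
    exact mul_mem (Subgroup.mem_sup_left (hOn.conj_mem o ho g))
      (Subgroup.mem_sup_right ((Subgroup.mem_normalizer_iff.1 hg h).1 hh))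
  refine ⟨hOn, hOc, hOH, hOM, hOHn, ?_⟩
  -- `H` acts Frobenius-like on `O`
  have hnotle : ¬ O ≤ M := fun h => hnn (Subgroup.normalizer_eq_top_iff.1
    (by rw [eq_top_iff, ← hOM]; exact sup_le h le_rfl))
  set W := O ⊔ H with hW
  set H₁ := H.subgroupOf W with hH₁
  have hHW : H ≤ W := le_sup_right
  have hH₁card : Nat.card H₁ = Nat.card H := Nat.card_congr (Subgroup.subgroupOfEquivOfLe hHW).toEquiv
  have hc : (O.subgroupOf W).IsComplement' H₁ := by
    refine Subgroup.isComplement'_of_card_mul_and_disjoint ?_ ?_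
    · rw [Nat.card_congr (Subgroup.subgroupOfEquivOfLe (le_sup_left : O ≤ W)).toEquiv, hH₁card, hcardOH]
    · rw [disjoint_iff, eq_bot_iff]
      intro x hx
      have h1 : (x : G) ∈ O ⊓ H := ⟨hx.1, hx.2⟩
      rw [hOH, Subgroup.mem_bot] at h1
      exact Subgroup.mem_bot.2 (Subtype.ext h1)
  have hnorm : ∀ g : W, (g : G) ∈ M → g ∈ Subgroup.normalizer (H₁ : Set W) := fun g hg =>
    mem_normalizer_of_forall H₁ g fun x hx => Subgroup.mem_subgroupOf.2
      ((Subgroup.mem_normalizer_iff.1 hg (x : G)).1 (Subgroup.mem_subgroupOf.1 hx))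
  have hTI₁ : Cfsg.IsTISubset (H₁ : Set W) := fun g hg x hx hgx =>
    Subtype.ext (hTI (g : G) (fun h => hg (hnorm g h)) (x : G) hx hgx)
  have hcop₁ : (Nat.card H₁).Coprime (H₁.subgroupOf (Subgroup.normalizer (H₁ : Set W))).index := by
    rw [hH₁card]
    refine Nat.Coprime.coprime_dvd_right ?_ hOc.symm
    rw [← Nat.card_congr (Subgroup.subgroupOfEquivOfLe (le_sup_left : O ≤ W)).toEquiv,
      ← hc.index_eq_card]
    exact Dvd.intro _ (Subgroup.relIndex_mul_index (Subgroup.le_normalizer : H₁ ≤ _))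
  have hnn₁ : ¬ H₁.Normal := fun hnrm => hnotle fun o ho => by
    refine mem_normalizer_of_forall H o fun x hx => ?_
    exact Subgroup.mem_subgroupOf.1 (hnrm.conj_mem ⟨x, hHW hx⟩ (Subgroup.mem_subgroupOf.2 hx)
      ⟨o, Subgroup.mem_sup_left ho⟩)
  obtain ⟨F, iF, iFf, C, hC, ⟨e⟩⟩ := exists_frobenius_complement H₁ (O.subgroupOf W) hc hTI₁ hcop₁ hnn₁
  exact ⟨F, iF, iFf, C, hC, ⟨(Subgroup.subgroupOfEquivOfLe hHW).symm.trans e⟩⟩

/-- Abelian subgroups and odd `p`-subgroups of a Frobenius complement are cyclic. -/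
theorem isCyclic_le_frobeniusComplement {F : Type*} [Group F] [Finite F] {C : Subgroup F}
    (hC : Cfsg.IsFrobeniusComplement C) (A : Subgroup F) (hA : A ≤ C)
    (h : IsMulCommutative A ∨ ∃ p : ℕ, p.Prime ∧ p ≠ 2 ∧ IsPGroup p A) : IsCyclic A := by
  obtain ⟨N, -, hN, hc⟩ := CfsgLib.Solvable.frobenius_theorem hC
  haveI := hN
  have hN1 : N ≠ ⊥ := by
    intro e
    have h1 := hc.sup_eq_top
    rw [e, bot_sup_eq] at h1
    exact hC.2.1 h1
  have hnorm : A ≤ Subgroup.normalizer (N : Set F) := by rw [Subgroup.normalizer_eq_top]; exact le_top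
  have hfpf : ∀ a ∈ A, a ≠ 1 → N ⊓ Subgroup.centralizer {a} = ⊥ := by
    intro a ha ha1
    rw [eq_bot_iff]
    intro x hx
    rw [← hc.disjoint.eq_bot]
    exact Subgroup.mem_inf.2 ⟨(Subgroup.mem_inf.1 hx).1, CfsgLib.Solvable.frobenius_mem_of_commute hC (hA ha) ha1
      (Subgroup.mem_centralizer_singleton_iff.1 (Subgroup.mem_inf.1 hx).2)⟩
  rcases h with h | ⟨p, hp, hp2, hAp⟩
  · exact CfsgLib.Solvable.isCyclic_of_fpf hN1 hnorm hfpf
      (Or.inl fun x hx y hy => congrArg Subtype.val (h.1.1 ⟨x, hx⟩ ⟨y, hy⟩))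
  · haveI := Fact.mk hp
    exact (CfsgLib.Solvable.isCyclic_or_quaternion hAp fun x y hx hy =>
      CfsgLib.Solvable.mem_zpowers_of_fpf_pGroup hN1 hnorm hfpf hAp hx hy).resolve_right fun h => hp2 h.1

end CfsgLib.FGS
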