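import Cfsg.Agent.Lib.Transfer.AlperinTame
import Cfsg.Agent.Lib.Techniques.Functor.SylowNorm

/-!
Consequences of Alperin's theorem for the focal subgroup and for normal p-complements.
-/

set_option autoImplicit false

namespace CfsgLib.FGS

open Subgroup Cfsg
open scoped commutatorElement
open CfsgLib.Fusion (conjSub mem_conjSub conjSub_conjSub conjSub_one conjSub_mono card_conjSub
  conjSub_eq_iff_mem_normalizer conj_mem_conjSub)
open CfsgLib.Techniques.Functor CfsgLib.Transfer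

variable {G : Type*} [Group G] [Finite G] {p : ℕ} [Fact p.Prime]

omit [Fact p.Prime] in
theorem fam_focal {𝓕 : Set (Subgroup G)} {R : Subgroup G} {A : Subgroup G} {g : G} (h : Fam 𝓕 A g)
    (hstep : ∀ T ∈ 𝓕, Nat.card A ≤ Nat.card T → ∀ x ∈ normalizer (T : Set G), ∀ a ∈ T,
      a⁻¹ * (x⁻¹ * a * x) ∈ R) :
    ∀ a ∈ A, a⁻¹ * (g⁻¹ * a * g) ∈ R := by
  induction h with
  | nil A => intro a _; simp
  | @cons A T x g hT hA hx _ ih =>
    intro a ha
    have h1 := hstep T hT (card_le_of_le hA) x hx a (hA ha)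
    have h2 := ih (fun T' hT' hc => hstep T' hT' (by rwa [card_conjSub] at hc)) (x⁻¹ * a * x)
      (by rw [mem_conjSub]; simpa [mul_assoc] using ha)
    have h3 := mul_mem h1 h2
    rwa [show a⁻¹ * (x⁻¹ * a * x) * ((x⁻¹ * a * x)⁻¹ * (g⁻¹ * (x⁻¹ * a * x) * g)) =
      a⁻¹ * ((x * g)⁻¹ * a * (x * g)) by group] at h3

/-- Steps of the focal subgroup through tame intersections. -/
theorem tame_step (P : Sylow p G) {R : Subgroup G}
    (htop : ∀ x ∈ normalizer ((P : Subgroup G) : Set G), ∀ a ∈ (P : Subgroup G), a⁻¹ * (x⁻¹ * a * x) ∈ R)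
    (hp : ∀ T ∈ tameInter P, ∀ x ∈ normalizer (T : Set G), (∃ k, orderOf x = p ^ k) →
      ∀ a ∈ T, a⁻¹ * (x⁻¹ * a * x) ∈ R) :
    ∀ T ∈ tameInter P, ∀ x ∈ normalizer (T : Set G), ∀ a ∈ T, a⁻¹ * (x⁻¹ * a * x) ∈ R := by
  suffices h : ∀ n, ∀ T ∈ tameInter P, Nat.card (P : Subgroup G) - Nat.card T = n →
      ∀ x ∈ normalizer (T : Set G), ∀ a ∈ T, a⁻¹ * (x⁻¹ * a * x) ∈ R from fun T hT => h _ T hT rfl
  intro n
  induction n using Nat.strong_induction_on with
  | _ n ih =>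
  intro T hT hn x hx a ha
  obtain ⟨Q, hTQ, hfull, hfullQ⟩ := hT
  rcases eq_or_lt_of_le (show T ≤ (P : Subgroup G) from hTQ ▸ inf_le_left) with he | hlt
  · exact htop x (by rwa [he] at hx) a (by rwa [he] at ha)
  set Y := (P : Subgroup G) ⊓ normalizer (T : Set G) with hY
  have hTY : T < Y := lt_norm P.2 hlt
  -- Frattini argument in the normalizer of `T`
  set N := normalizer (T : Set G) with hN
  have hYp : IsPGroup p (Y.subgroupOf N) := (P.2.to_le inf_le_left).comap_subtype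
  let Ys : Sylow p N := hYp.toSylow hfull
  have hYs : (Ys : Subgroup N) = Y.subgroupOf N := IsPGroup.toSylow_coe _ _
  let K : Subgroup N := closure {y : N | ∃ k, orderOf y = p ^ k}
  have hKn : K.Normal := by
    refine ⟨fun k hk g => ?_⟩
    have h1 : K.map (MulAut.conj g).toMonoidHom ≤ K := by
      rw [MonoidHom.map_closure, closure_le]
      rintro _ ⟨y, ⟨k, hy⟩, rfl⟩
      exact subset_closure ⟨k, (MulEquiv.orderOf_eq (MulAut.conj g) y).trans hy⟩
    exact h1 ⟨k, hk, rfl⟩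
  have hYK : (Ys : Subgroup N) ≤ K := fun y hy => by
    obtain ⟨j, hj⟩ := Ys.2 ⟨y, hy⟩
    obtain ⟨i, -, hi⟩ := (Nat.dvd_prime_pow (Fact.out)).1
      (orderOf_dvd_of_pow_eq_one (congrArg Subtype.val hj : y ^ p ^ j = 1))
    exact subset_closure ⟨i, hi⟩
  have hfr := Sylow.normalizer_sup_eq_top' Ys hYK
  obtain ⟨y, hy, k, hk, hxy⟩ := mem_sup_of_normal_right.1
    (show (⟨x, hx⟩ : N) ∈ normalizer ((Ys : Subgroup N) : Set N) ⊔ K by
      have := hfr ▸ mem_top (⟨x, hx⟩ : N)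
      exact this)
  -- the part from the closure of the `p`-elements
  have hKR : ∀ k ∈ K, ∀ t ∈ T, t⁻¹ * ((k : G)⁻¹ * t * (k : G)) ∈ R := by
    intro k hk
    induction hk using closure_induction with
    | mem z hz =>
      obtain ⟨j, hj⟩ := hz
      exact hp T ⟨Q, hTQ, hfull, hfullQ⟩ z z.2 ⟨j, by rw [← hj, Subgroup.orderOf_coe]⟩
    | one => intro t _; simp
    | mul u v _ _ hu hv =>
      intro t ht
      have h3 := mul_mem (hu t ht) (hv _ ((mem_normalizer_iff''.1 u.2 t).1 ht))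
      rw [show t⁻¹ * ((u : G)⁻¹ * t * (u : G)) * (((u : G)⁻¹ * t * (u : G))⁻¹ *
        ((v : G)⁻¹ * ((u : G)⁻¹ * t * (u : G)) * (v : G))) = t⁻¹ * (((u : G) * (v : G))⁻¹ * t * ((u : G) * (v : G)))
        by group] at h3
      exact h3
    | inv u _ hu =>
      intro t ht
      have h3 := inv_mem (hu _ ((mem_normalizer_iff.1 u.2 t).1 ht))
      simpa [mul_assoc] using h3
  -- the part from the normalizer of `Y`
  have hyY : (y : G) ∈ normalizer (Y : Set G) := by
    refine mem_normalizer_iff.2 fun g => ⟨fun hg => ?_, fun hg => ?_⟩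
    · have := (mem_normalizer_iff.1 hy ⟨g, hg.2⟩).1 (by rw [hYs, mem_subgroupOf]; exact hg)
      rw [hYs, mem_subgroupOf] at this
      exact this
    · have hgN : g ∈ N := by
        have := mul_mem (mul_mem (inv_mem y.2) hg.2) y.2
        simpa [mul_assoc] using this
      have := (mem_normalizer_iff.1 hy ⟨g, hgN⟩).2 (by rw [hYs, mem_subgroupOf]; exact hg)
      rw [hYs, mem_subgroupOf] at this
      exact this
  have hfam := fam_tame P (A := Y) (g := (y : G)) inf_le_left (by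
    rw [conjSub_eq_iff_mem_normalizer.2 (inv_mem hyY)]; exact inf_le_left)
  have hcT : Nat.card T < Nat.card Y := card_lt_of_lt hTY
  have h1 := fam_focal (R := R) hfam (fun T' hT' hc => ih _ (by
    have h2 : T' ≤ (P : Subgroup G) := by obtain ⟨Q', hQ', -, -⟩ := hT'; exact hQ' ▸ inf_le_left
    have := card_le_of_le h2
    omega) T' hT' rfl) a (hTY.le ha)
  have h2 := hKR k hk _ ((mem_normalizer_iff''.1 y.2 a).1 ha)
  have h3 := mul_mem h1 h2
  rw [show x = (y : G) * (k : G) from (congrArg Subtype.val hxy).symm,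
    show a⁻¹ * (((y : G) * (k : G))⁻¹ * a * ((y : G) * (k : G))) =
      a⁻¹ * ((y : G)⁻¹ * a * (y : G)) * (((y : G)⁻¹ * a * (y : G))⁻¹ *
        ((k : G)⁻¹ * ((y : G)⁻¹ * a * (y : G)) * (k : G))) by group]
  exact h3

/-- The focal subgroup through tame intersections. -/
theorem inf_commutator_le_of_tame (P : Sylow p G) {R : Subgroup G}
    (htop : ∀ x ∈ normalizer ((P : Subgroup G) : Set G), ∀ a ∈ (P : Subgroup G), a⁻¹ * (x⁻¹ * a * x) ∈ R)
    (hp : ∀ T ∈ tameInter P, ∀ x ∈ normalizer (T : Set G), (∃ k, orderOf x = p ^ k) →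
      ∀ a ∈ T, a⁻¹ * (x⁻¹ * a * x) ∈ R) :
    (P : Subgroup G) ⊓ ⁅(⊤ : Subgroup G), (⊤ : Subgroup G)⁆ ≤ R := by
  refine CfsgLib.Techniques.Functor.inf_commutator_le P.2 le_top (relIndex_sylow_not_dvd P le_top)
    fun a ha m _ hma => ?_
  have hfam := fam_tame P (A := zpowers a) (g := m⁻¹) (zpowers_le.2 ha) (by
    intro z hz
    rw [mem_conjSub, inv_inv] at hz
    obtain ⟨i, hi⟩ := mem_zpowers_iff.1 hz
    have : z = (m * a * m⁻¹) ^ i := by rw [conj_zpow, hi]; group
    exact this ▸ zpow_mem hma i)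
  have := fam_focal (R := R) hfam (fun T hT _ => tame_step P htop hp T hT) a (mem_zpowers a)
  rwa [inv_inv] at this

end CfsgLib.FGS
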