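import Mathlib

/-!
Two primes in `(n, 2n]` with difference at least three, for `n ≥ 9`.
-/

set_option autoImplicit false

namespace CfsgLib.FGS

open Nat

theorem centralBinom_le_of_few_primes (n : ℕ) (hn : 2 < n) (T : Finset ℕ) (hT : T.card ≤ 2)
    (h : ∀ p : ℕ, p.Prime → n < p → p ≤ 2 * n → p ∈ T) :
    centralBinom n ≤ (2 * n) ^ (sqrt (2 * n) + 2) * 4 ^ (2 * n / 3) := by
  have n2_pos : 1 ≤ 2 * n := by omega
  let f : ℕ → ℕ := fun x => x ^ n.centralBinom.factorization x
  have hf : ∀ x, f x ≤ 2 * n := fun x => pow_factorization_choose_le (by omega)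
  have hbig : ∀ x, 2 * n / 3 < x → f x ≠ 1 → x ∈ T := by
    intro x hx hne
    by_contra hxT
    apply hne
    show x ^ n.centralBinom.factorization x = 1
    by_cases hp : x.Prime
    · rcases le_or_gt x n with hle | hgt
      · rw [factorization_centralBinom_of_two_mul_self_lt_three_mul hn hle (by omega), pow_zero]
      · have hlt : 2 * n < x := by
          by_contra hh
          exact hxT (h x hp hgt (by omega))
        rw [Nat.factorization_centralBinom_eq_zero_of_two_mul_lt hlt, pow_zero]
    · rw [factorization_eq_zero_of_not_prime n.centralBinom hp, pow_zero]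
  rw [← n.prod_pow_factorization_centralBinom,
    ← Finset.prod_filter_mul_prod_filter_not (Finset.range (2 * n + 1)) (fun x => x ≤ 2 * n / 3),
    pow_add, mul_right_comm ((2 * n) ^ sqrt (2 * n))]
  apply Nat.mul_le_mul
  · let S := {p ∈ Finset.range (2 * n / 3 + 1) | Nat.Prime p}
    have hsub : S ⊆ (Finset.range (2 * n + 1)).filter (fun x => x ≤ 2 * n / 3) := by
      intro x hx
      obtain ⟨h1, -⟩ := Finset.mem_filter.1 hx
      rw [Finset.mem_range] at h1
      exact Finset.mem_filter.2 ⟨Finset.mem_range.2 (by omega), by omega⟩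
    rw [← Finset.prod_subset hsub (fun x hx hxS => by
      obtain ⟨-, h2⟩ := Finset.mem_filter.1 hx
      have hp : ¬ x.Prime := fun hp =>
        hxS (Finset.mem_filter.2 ⟨Finset.mem_range.2 (by omega), hp⟩)
      rw [factorization_eq_zero_of_not_prime n.centralBinom hp, pow_zero]),
      ← Finset.prod_filter_mul_prod_filter_not S (· ≤ sqrt (2 * n))]
    apply Nat.mul_le_mul
    · refine (Finset.prod_le_prod' fun p _ => hf p).trans ?_
      rw [Finset.prod_const]
      have hc : (Finset.Icc 1 (sqrt (2 * n))).card = sqrt (2 * n) := by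
        rw [card_Icc, Nat.add_sub_cancel]
      refine pow_right_mono₀ n2_pos ((Finset.card_le_card fun x hx => ?_).trans hc.le)
      obtain ⟨h1, h2⟩ := Finset.mem_filter.1 hx
      exact Finset.mem_Icc.mpr ⟨(Finset.mem_filter.1 h1).2.one_lt.le, h2⟩
    · refine le_trans ?_ (primorial_le_four_pow (2 * n / 3))
      refine (Finset.prod_le_prod' fun p hp => (?_ : f p ≤ p)).trans ?_
      · obtain ⟨h1, h2⟩ := Finset.mem_filter.1 hp
        refine (pow_right_mono₀ (Finset.mem_filter.1 h1).2.one_lt.le ?_).trans (pow_one p).le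
        exact Nat.factorization_choose_le_one (sqrt_lt'.mp <| not_le.1 h2)
      refine Finset.prod_le_prod_of_subset_of_one_le' (Finset.filter_subset _ _) ?_
      exact fun p hp _ => (Finset.mem_filter.1 hp).2.one_lt.le
  · refine le_of_eq_of_le (Finset.prod_filter_ne_one (s := _) (f := f)).symm ?_
    refine (Finset.prod_le_prod' fun p _ => hf p).trans ?_
    rw [Finset.prod_const]
    refine pow_right_mono₀ n2_pos (le_trans (Finset.card_le_card fun x hx => ?_) hT)
    obtain ⟨h1, h2⟩ := Finset.mem_filter.1 hx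
    exact hbig x (not_le.1 (Finset.mem_filter.1 h1).2) h2

theorem four_mul_add_sq_le_two_pow : ∀ j : ℕ, 16 ≤ j → (4 * j + 4) * (4 * j + 4) ≤ 2 ^ j := by
  intro j hj
  induction j, hj using Nat.le_induction with
  | base => norm_num
  | succ j hj ih => rw [pow_succ]; nlinarith

theorem few_primes_inequality {n : ℕ} (hn : 2048 ≤ n) :
    n * ((2 * n) ^ (sqrt (2 * n) + 2) * 4 ^ (2 * n / 3)) ≤ 4 ^ n := by
  set s := sqrt (2 * n) with hs
  have h1 : s * s ≤ 2 * n := Nat.sqrt_le (2 * n)
  have h2 : 2 * n < (s + 1) * (s + 1) := Nat.lt_succ_sqrt (2 * n)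
  have hs64 : 64 ≤ s := Nat.le_sqrt.2 (by omega)
  have h3 : 2 * n ≤ 2 ^ (s / 4) := by
    refine le_trans (le_of_lt h2) (le_trans ?_ (four_mul_add_sq_le_two_pow (s / 4) (by omega)))
    exact Nat.mul_le_mul (by omega) (by omega)
  have hexp : (s / 4) * (s + 3) ≤ 2 * (n - 2 * n / 3) := by
    have h4 : 4 * (s / 4) ≤ s := by omega
    have h5 : 4 * ((s / 4) * (s + 3)) ≤ s * s + 3 * s := by nlinarith
    have h6 : 9 * s ≤ 2 * n := by nlinarith
    omega
  calc n * ((2 * n) ^ (s + 2) * 4 ^ (2 * n / 3))
      ≤ (2 * n) ^ (s + 3) * 4 ^ (2 * n / 3) := by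
        rw [pow_succ' _ (s + 2), mul_assoc]
        exact Nat.mul_le_mul_right _ (by omega)
    _ ≤ (2 ^ (s / 4)) ^ (s + 3) * 4 ^ (2 * n / 3) :=
        Nat.mul_le_mul_right _ (Nat.pow_le_pow_left h3 _)
    _ ≤ 4 ^ (n - 2 * n / 3) * 4 ^ (2 * n / 3) := by
        refine Nat.mul_le_mul_right _ ?_
        rw [← pow_mul, show (4 : ℕ) = 2 ^ 2 by rfl, ← pow_mul]
        exact Nat.pow_le_pow_right (by omega) hexp
    _ = 4 ^ n := by rw [← pow_add, Nat.sub_add_cancel (by omega)]

/-- For `n ≥ 9` there are primes `p, q` in `(n, 2n]` with `p + 3 ≤ q`. -/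
theorem exists_two_primes (n : ℕ) (hn : 9 ≤ n) :
    ∃ p q : ℕ, p.Prime ∧ q.Prime ∧ n < p ∧ q ≤ 2 * n ∧ p + 3 ≤ q := by
  rcases Nat.lt_or_ge n 2048 with hlt | hge
  · have step : ∀ (a c : ℕ), a.Prime → c.Prime → a + 3 ≤ c → n < a → c ≤ 2 * n →
        ∃ p q : ℕ, p.Prime ∧ q.Prime ∧ n < p ∧ q ≤ 2 * n ∧ p + 3 ≤ q :=
      fun a c ha hc hac h1 h2 => ⟨a, c, ha, hc, h1, h2, hac⟩
    by_cases h : n < 13
    · exact step 13 17 (by norm_num) (by norm_num) (by norm_num) h (by omega)
    by_cases h : n < 19
    · exact step 19 23 (by norm_num) (by norm_num) (by norm_num) h (by omega)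
    by_cases h : n < 31
    · exact step 31 37 (by norm_num) (by norm_num) (by norm_num) h (by omega)
    by_cases h : n < 53
    · exact step 53 59 (by norm_num) (by norm_num) (by norm_num) h (by omega)
    by_cases h : n < 97
    · exact step 97 103 (by norm_num) (by norm_num) (by norm_num) h (by omega)
    by_cases h : n < 181
    · exact step 181 193 (by norm_num) (by norm_num) (by norm_num) h (by omega)
    by_cases h : n < 349
    · exact step 349 359 (by norm_num) (by norm_num) (by norm_num) h (by omega)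
    by_cases h : n < 677
    · exact step 677 691 (by norm_num) (by norm_num) (by norm_num) h (by omega)
    by_cases h : n < 1301
    · exact step 1301 1307 (by norm_num) (by norm_num) (by norm_num) h (by omega)
    exact step 2053 2069 (by norm_num) (by norm_num) (by norm_num) (by omega) (by omega)
  · classical
    by_contra hno
    push_neg at hno
    set T := (Finset.Ioc n (2 * n)).filter Nat.Prime with hT
    have hcard : T.card ≤ 2 := by
      by_contra hc
      obtain ⟨U, hUT, hU⟩ := Finset.exists_subset_card_eq (s := T) (n := 3) (by omega)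
      have hne : U.Nonempty := Finset.card_pos.1 (by omega)
      have h1 := Finset.mem_filter.1 (hUT (U.min'_mem hne))
      have h2 := Finset.mem_filter.1 (hUT (U.max'_mem hne))
      rw [Finset.mem_Ioc] at h1 h2
      have h3 := hno _ _ h1.2 h2.2 h1.1.1 h2.1.2
      have hodd : ∀ x ∈ U, x % 2 = 1 := fun x hx => by
        have hx' := Finset.mem_filter.1 (hUT hx)
        rw [Finset.mem_Ioc] at hx'
        exact hx'.2.eq_two_or_odd.resolve_left (by omega)
      have hsub : U ⊆ {U.min' hne, U.min' hne + 2} := by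
        intro x hx
        have := U.min'_le x hx
        have := U.le_max' x hx
        have := hodd x hx
        have := hodd _ (U.min'_mem hne)
        simp only [Finset.mem_insert, Finset.mem_singleton]
        omega
      have := (Finset.card_le_card hsub).trans Finset.card_le_two
      omega
    have h4 : 4 ^ n < n * n.centralBinom := Nat.four_pow_lt_mul_centralBinom n (by omega)
    have h5 := centralBinom_le_of_few_primes n (by omega) T hcard fun p hp h1 h2 =>
      Finset.mem_filter.2 ⟨Finset.mem_Ioc.2 ⟨h1, h2⟩, hp⟩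
    exact absurd (h4.trans_le (Nat.mul_le_mul_left n h5)) (not_lt.2 (few_primes_inequality hge))

end CfsgLib.FGS
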