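import Cfsg.Prelude.Def_Perm
import Cfsg.Agent.Lib.Recognition.Huppert.Structure

/-!
# Solvable groups transitive on the subgroups of each order of a normal elementary abelian subgroup

If `Q` is solvable, `P` is an elementary abelian normal self-centralizing Hall `p`-subgroup of
order `p ^ n`, `n ≥ 3`, and `Q` is transitive on the subgroups of `P` of each order, then `Q`
is semiaffine and `n = 3`, or `n = 5` and `p = 2`.
-/

set_option autoImplicit false
set_option linter.style.haveILetI false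

namespace Cfsg.Agent.TransitiveSubspaces

open Finset

section Count

variable {p : ℕ} [hp : Fact p.Prime] {W : Type*} [AddCommGroup W] [Module (ZMod p) W] [Finite W]

theorem card_pairs {d : ℕ} (hW : Nat.card W = p ^ d) :
    Nat.card {x : W × W // x.1 ≠ 0 ∧ x.2 ∉ Submodule.span (ZMod p) {x.1}} =
      (p ^ d - 1) * (p ^ d - p) := by
  classical
  haveI := Fintype.ofFinite W
  have e : {x : W × W // x.1 ≠ 0 ∧ x.2 ∉ Submodule.span (ZMod p) {x.1}} ≃
      (v : {v : W // v ≠ 0}) × {w : W // w ∉ Submodule.span (ZMod p) {(v : W)}} :=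
    { toFun := fun x => ⟨⟨x.1.1, x.2.1⟩, ⟨x.1.2, x.2.2⟩⟩
      invFun := fun x => ⟨(x.1.1, x.2.1), x.1.2, x.2.2⟩
      left_inv := fun _ => rfl
      right_inv := fun _ => rfl }
  rw [Nat.card_congr e, Nat.card_sigma]
  have h1 : ∀ v : {v : W // v ≠ 0},
      Nat.card {w : W // w ∉ Submodule.span (ZMod p) {(v : W)}} = p ^ d - p := by
    intro v
    rw [Nat.card_eq_fintype_card, Fintype.card_subtype_compl, ← Nat.card_eq_fintype_card, hW,
      ← Nat.card_eq_fintype_card]
    congr 1
    show Nat.card ↥(Submodule.span (ZMod p) {(v : W)}) = p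
    rw [Module.natCard_eq_pow_finrank (K := ZMod p), finrank_span_singleton v.2, pow_one,
      Nat.card_zmod]
  simp only [h1]
  rw [Finset.sum_const, smul_eq_mul, Finset.card_univ, Fintype.card_subtype_compl,
    Fintype.card_subtype_eq, ← Nat.card_eq_fintype_card, hW]

end Count

section Semilinear

variable (F : Type) [Field F]

/-- The semilinear group as permutations. -/
def semilinearGroup : Subgroup (Equiv.Perm F) :=
  Cfsg.semiaffineGroup F ⊓ MulAction.stabilizer (Equiv.Perm F) (0 : F)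

variable [Fintype F] {p n : ℕ} [hp : Fact p.Prime]

theorem card_ringEquiv (hn : 0 < n) (hF : Fintype.card F = p ^ n) :
    Nat.card (F ≃+* F) = n := by
  haveI : CharP F p := charP_of_card_eq_prime_pow hF
  letI : Algebra (ZMod p) F := ZMod.algebra F p
  let e : (F ≃+* F) ≃ (F ≃ₐ[ZMod p] F) :=
    { toFun := fun σ => { σ with
        commutes' := fun c => RingHom.congr_fun
          (RingHom.ext_zmod ((σ : F →+* F).comp (algebraMap (ZMod p) F)) (algebraMap (ZMod p) F)) c }
      invFun := fun σ => σ.toRingEquiv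
      left_inv := fun _ => rfl
      right_inv := fun _ => rfl }
  rw [Nat.card_congr e, IsGalois.card_aut_eq_finrank (ZMod p) F]
  have h := Module.natCard_eq_pow_finrank (K := ZMod p) (V := F)
  rw [Nat.card_zmod, Nat.card_eq_fintype_card, hF] at h
  exact (Nat.pow_right_injective hp.out.two_le h).symm

omit hp in
theorem card_units_field (hF : Fintype.card F = p ^ n) : Nat.card Fˣ = p ^ n - 1 := by
  rw [Nat.card_units, Nat.card_eq_fintype_card, hF]

theorem card_semilinearGroup (hn : 0 < n) (hF : Fintype.card F = p ^ n) :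
    Nat.card (semilinearGroup F) = (p ^ n - 1) * n := by
  let f : Fˣ × (F ≃+* F) → semilinearGroup F := fun x =>
    ⟨x.2.toEquiv.trans (Equiv.mulLeft₀ (x.1 : F) x.1.ne_zero),
      Subgroup.mem_inf.2 ⟨⟨x.1, 0, x.2, fun y => by simp⟩,
        MulAction.mem_stabilizer_iff.2 (by simp [Equiv.Perm.smul_def])⟩⟩
  have hf : ∀ x y, (f x : Equiv.Perm F) y = (x.1 : F) * x.2 y := fun _ _ => rfl
  have hbij : Function.Bijective f := by
    constructor
    · intro x y h
      have h' : ∀ z, (x.1 : F) * x.2 z = (y.1 : F) * y.2 z := fun z => by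
        rw [← hf, ← hf, h]
      have h1 : x.1 = y.1 := Units.ext (by simpa using h' 1)
      refine Prod.ext h1 (RingEquiv.ext fun z => ?_)
      have := h' z
      rw [h1] at this
      exact mul_left_cancel₀ y.1.ne_zero this
    · rintro ⟨σ, hσ, h0⟩
      obtain ⟨a, b, φ, h⟩ := hσ
      have hb : b = 0 := by
        have h1 : σ 0 = 0 := h0
        rw [h] at h1
        simpa using h1
      exact ⟨(a, φ), Subtype.ext (Equiv.ext fun y => by rw [hf, h, hb, add_zero])⟩
  rw [← Nat.card_congr (Equiv.ofBijective f hbij), Nat.card_prod, card_units_field F hF,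
    card_ringEquiv F hn hF]

theorem card_semiaffineGroup (hn : 0 < n) (hF : Fintype.card F = p ^ n) :
    Nat.card (Cfsg.semiaffineGroup F) = p ^ n * ((p ^ n - 1) * n) := by
  let f : F × Fˣ × (F ≃+* F) → Cfsg.semiaffineGroup F := fun x =>
    ⟨(x.2.2.toEquiv.trans (Equiv.mulLeft₀ (x.2.1 : F) x.2.1.ne_zero)).trans (Equiv.addRight x.1),
      x.2.1, x.1, x.2.2, fun y => rfl⟩
  have hf : ∀ x y, (f x : Equiv.Perm F) y = (x.2.1 : F) * x.2.2 y + x.1 := fun _ _ => rfl
  have hbij : Function.Bijective f := by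
    constructor
    · intro x y h
      have h' : ∀ z, (x.2.1 : F) * x.2.2 z + x.1 = (y.2.1 : F) * y.2.2 z + y.1 := fun z => by
        rw [← hf, ← hf, h]
      have h0 : x.1 = y.1 := by simpa using h' 0
      have h1 : x.2.1 = y.2.1 := Units.ext (by
        have := h' 1
        rw [map_one, map_one, mul_one, mul_one, h0] at this
        exact add_right_cancel this)
      refine Prod.ext h0 (Prod.ext h1 (RingEquiv.ext fun z => ?_))
      have := h' z
      rw [h1, h0] at this
      exact mul_left_cancel₀ y.2.1.ne_zero (add_right_cancel this)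
    · rintro ⟨σ, a, b, φ, h⟩
      exact ⟨(b, a, φ), Subtype.ext (Equiv.ext fun y => by rw [hf, h])⟩
  rw [← Nat.card_congr (Equiv.ofBijective f hbij), Nat.card_prod, Nat.card_prod,
    card_units_field F hF, card_ringEquiv F hn hF, Nat.card_eq_fintype_card (α := F), hF]

theorem card_affineGroup (hF : Fintype.card F = p ^ n) :
    Nat.card (Cfsg.affineGroup F) = p ^ n * (p ^ n - 1) := by
  let f : F × Fˣ → Cfsg.affineGroup F := fun x =>
    ⟨(Equiv.mulLeft₀ (x.2 : F) x.2.ne_zero).trans (Equiv.addRight x.1), x.2, x.1, fun y => rfl⟩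
  have hf : ∀ x y, (f x : Equiv.Perm F) y = (x.2 : F) * y + x.1 := fun _ _ => rfl
  have hbij : Function.Bijective f := by
    constructor
    · intro x y h
      have h' : ∀ z, (x.2 : F) * z + x.1 = (y.2 : F) * z + y.1 := fun z => by
        rw [← hf, ← hf, h]
      have h0 : x.1 = y.1 := by simpa using h' 0
      refine Prod.ext h0 (Units.ext ?_)
      have := h' 1
      rw [h0, mul_one, mul_one] at this
      exact add_right_cancel this
    · rintro ⟨σ, a, b, h⟩
      exact ⟨(b, a), Subtype.ext (Equiv.ext fun y => by rw [hf, h])⟩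
  rw [← Nat.card_congr (Equiv.ofBijective f hbij), Nat.card_prod, card_units_field F hF,
    Nat.card_eq_fintype_card (α := F), hF]

end Semilinear

theorem dim_cases {p n N₂ : ℕ} (hp : p.Prime) (hn : 3 ≤ n)
    (h1 : (p ^ n - 1) * (p ^ n - p) = N₂ * ((p ^ 2 - 1) * (p ^ 2 - p)))
    (h2 : N₂ * (p - 1) ∣ (p ^ n - 1) * n) : n = 3 ∨ (n = 5 ∧ p = 2) := by
  obtain ⟨m, rfl⟩ : ∃ m, n = m + 1 := ⟨n - 1, by omega⟩
  have hp2 := hp.two_le
  have hpos : 0 < p ^ (m + 1) - 1 := by
    have := Nat.one_lt_pow (show m + 1 ≠ 0 by omega) hp.one_lt; omega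
  have e1 : p ^ (m + 1) - p = p * (p ^ m - 1) := by rw [Nat.mul_sub, mul_one, pow_succ']
  have e2 : p ^ 2 - p = p * (p - 1) := by rw [Nat.mul_sub, mul_one, sq]
  have h3 : p ^ m - 1 ∣ (p ^ 2 - 1) * (m + 1) := by
    have h4 : (p ^ (m + 1) - 1) * (p ^ (m + 1) - p) ∣
        (p ^ (m + 1) - 1) * (p * ((p ^ 2 - 1) * (m + 1))) := by
      rw [h1, e2]
      have h5 := Nat.mul_dvd_mul_right h2 ((p ^ 2 - 1) * p)
      calc N₂ * ((p ^ 2 - 1) * (p * (p - 1))) = N₂ * (p - 1) * ((p ^ 2 - 1) * p) := by ring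
        _ ∣ (p ^ (m + 1) - 1) * (m + 1) * ((p ^ 2 - 1) * p) := h5
        _ = _ := by ring
    have h6 := Nat.dvd_of_mul_dvd_mul_left hpos h4
    rw [e1] at h6
    exact Nat.dvd_of_mul_dvd_mul_left hp.pos h6
  have hsq : 1 ≤ p ^ 2 := Nat.one_le_pow _ _ hp.pos
  have hle := Nat.le_of_dvd (Nat.mul_pos (by nlinarith [Nat.sub_pos_of_lt (show 1 < p ^ 2 by nlinarith)])
    (Nat.succ_pos m)) h3
  rw [Nat.succ_eq_add_one] at hle
  have hm2 : 2 ≤ m := by omega
  rcases Nat.lt_or_ge m 5 with hm | hm
  · interval_cases m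
    · exact Or.inl rfl
    · exfalso
      have hb : p ≤ 4 := by
        by_contra hlt
        push Not at hlt
        have : p ^ 3 ≥ 5 * p ^ 2 := by rw [pow_succ']; exact Nat.mul_le_mul_right _ hlt
        omega
      interval_cases p <;> revert h3 hp <;> norm_num
    · right
      refine ⟨rfl, ?_⟩
      have hb : p ≤ 2 := by
        by_contra hlt
        push Not at hlt
        have : p ^ 4 ≥ 9 * p ^ 2 := by
          rw [show p ^ 4 = p ^ 2 * p ^ 2 by ring]
          exact Nat.mul_le_mul_right _ (by nlinarith)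
        omega
      omega
  · exfalso
    have h7 : ∀ k, 5 ≤ k → k + 2 ≤ 2 ^ (k - 2) := by
      intro k hk
      induction k, hk using Nat.le_induction with
      | base => norm_num
      | succ k hk ih => rw [show k + 1 - 2 = k - 2 + 1 by omega, pow_succ]; omega
    have h8 : (m + 2) * p ^ 2 ≤ p ^ m := by
      calc (m + 2) * p ^ 2 ≤ p ^ (m - 2) * p ^ 2 :=
            Nat.mul_le_mul_right _ ((h7 m hm).trans (Nat.pow_le_pow_left hp2 _))
        _ = p ^ m := by rw [← pow_add]; congr 1; omega
    have h9 : (p ^ 2 - 1) * (m + 1) + p ^ 2 + (m + 1) = (m + 2) * p ^ 2 := by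
      obtain ⟨k, hk⟩ : ∃ k, p ^ 2 = k + 1 := ⟨p ^ 2 - 1, by omega⟩
      rw [hk, Nat.add_sub_cancel]; ring
    omega

section Main

open scoped IsMulCommutative

theorem elem13_mem {G : Type*} [Group G] [Finite G] {A E : Subgroup G} [E.Normal]
    (hA : Nat.card A ∣ 2) (hAE : A ≤ E) (hrel : A.relIndex E = 16)
    (hCE : ∀ g : G, (∀ y ∈ E, g * y * g⁻¹ * y⁻¹ ∈ A) → g ∈ E) {g : G} (hg : orderOf g = 13) :
    False := by
  have hcardE : Nat.card A * 16 = Nat.card E := by
    rw [← hrel, ← Subgroup.relIndex_bot_left A, ← Subgroup.relIndex_bot_left E,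
      Subgroup.relIndex_mul_relIndex ⊥ A E bot_le hAE]
  have hE : Nat.card E = 16 ∨ Nat.card E = 32 := by
    rcases (Nat.dvd_prime Nat.prime_two).1 hA with h | h <;> rw [h] at hcardE <;> omega
  let φ : ↥(Subgroup.zpowers g) →* MulAut ↥E := MulAut.conjNormal.comp (Subgroup.subtype _)
  letI : MulAction ↥(Subgroup.zpowers g) ↥E := MulAction.compHom _ φ
  haveI : Fact (Nat.Prime 13) := ⟨by norm_num⟩
  have hp : IsPGroup 13 ↥(Subgroup.zpowers g) :=
    IsPGroup.of_card (n := 1) (by rw [Nat.card_zpowers, hg, pow_one])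
  have hmod := hp.card_modEq_card_fixedPoints ↥E
  let C : Subgroup ↥E :=
    { carrier := MulAction.fixedPoints ↥(Subgroup.zpowers g) ↥E
      one_mem' := fun k => map_one (φ k)
      mul_mem' := fun {a b} ha hb k => (map_mul (φ k) a b).trans (congrArg₂ (· * ·) (ha k) (hb k))
      inv_mem' := fun {a} ha k => (map_inv (φ k) a).trans (congrArg (·⁻¹) (ha k)) }
  have hC : Nat.card ↥(MulAction.fixedPoints ↥(Subgroup.zpowers g) ↥E) = Nat.card C := rfl
  have hd : Nat.card C ∣ Nat.card E := Subgroup.card_subgroup_dvd_card C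
  rw [hC] at hmod
  have hdiv : ∀ k, (k ∣ 16 → k = 1 ∨ k = 2 ∨ k = 4 ∨ k = 8 ∨ k = 16) ∧
      (k ∣ 32 → k = 1 ∨ k = 2 ∨ k = 4 ∨ k = 8 ∨ k = 16 ∨ k = 32) := by
    intro k
    constructor
    · intro hk
      have := Nat.le_of_dvd (by norm_num) hk
      interval_cases k <;> revert hk <;> norm_num
    · intro hk
      have := Nat.le_of_dvd (by norm_num) hk
      interval_cases k <;> revert hk <;> norm_num
  have htop : C = ⊤ := by
    refine Subgroup.eq_top_of_card_eq C ?_
    rcases hE with h | h <;> rw [h] at hmod hd ⊢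
    · rcases (hdiv _).1 hd with hk | hk | hk | hk | hk <;> rw [hk] at hmod ⊢ <;>
        simp [Nat.ModEq] at hmod
    · rcases (hdiv _).2 hd with hk | hk | hk | hk | hk | hk <;> rw [hk] at hmod ⊢ <;>
        simp [Nat.ModEq] at hmod
  have hgE : g ∈ E := hCE g fun y hy => by
    have h1 : (⟨y, hy⟩ : E) ∈ C := htop ▸ Subgroup.mem_top _
    have h2 : g * y * g⁻¹ = y := congrArg Subtype.val (h1 ⟨g, Subgroup.mem_zpowers g⟩)
    rw [h2, mul_inv_cancel]
    exact one_mem _
  have h13 : 13 ∣ Nat.card E := hg ▸ (Subgroup.orderOf_mk g hgE ▸ orderOf_dvd_natCard (⟨g, hgE⟩ : E))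
  rcases hE with h | h <;> rw [h] at h13 <;> norm_num at h13

set_option maxHeartbeats 1000000 in
theorem exists_semiaffine {p n : ℕ} [hp : Fact p.Prime] {Q : Type*} [Group Q] [Finite Q]
    (hsol : Group.IsSolvable Q) (P : Subgroup Q) [P.Normal] (hn : 3 ≤ n)
    (hPcard : Nat.card P = p ^ n) (hcop : (Nat.card P).Coprime P.index)
    (hab : ∀ a ∈ P, ∀ b ∈ P, a * b = b * a) (hexp : ∀ a ∈ P, a ^ p = 1)
    (hC : ∀ x : Q, (∀ a ∈ P, x * a = a * x) → x ∈ P)
    (htrans : ∀ K₁ K₂ : Subgroup Q, K₁ ≤ P → K₂ ≤ P → Nat.card K₁ = Nat.card K₂ →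
      ∃ g : Q, K₂ = K₁.map (MulAut.conj g).toMonoidHom) :
    ∃ (F : Type) (_ : Field F) (_ : Fintype F), Fintype.card F = p ^ n ∧
      ∃ ψ : Q →* Equiv.Perm F, Function.Injective ψ ∧ (∀ x, ψ x ∈ Cfsg.semiaffineGroup F) ∧
        (n = 3 ∨ (n = 5 ∧ p = 2)) ∧
        (p = 2 → n = 5 → Nat.card Q = Nat.card (Cfsg.semiaffineGroup F)) ∧
        (p = 2 → n = 3 → Nat.card Q = Nat.card (Cfsg.semiaffineGroup F) ∨
          (∀ x, ψ x ∈ Cfsg.affineGroup F) ∧ Nat.card Q = Nat.card (Cfsg.affineGroup F)) := by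
  classical
  obtain ⟨H, hcompl⟩ := Subgroup.exists_right_complement'_of_coprime hcop
  letI instP : CommGroup ↥P := { (inferInstance : Group ↥P) with
    mul_comm := fun a b => Subtype.ext (hab a a.2 b b.2) }
  haveI : Module (ZMod p) (Additive ↥P) := AddCommGroup.zmodModule (fun x => by
    have : (Additive.toMul x) ^ p = 1 := Subtype.ext (hexp _ (Additive.toMul x).2)
    rw [← ofMul_toMul x, ← ofMul_pow, this, ofMul_one])
  haveI : Nontrivial ↥P := Finite.one_lt_card_iff_nontrivial.1 (by
    rw [hPcard]; exact Nat.one_lt_pow (by omega) hp.out.one_lt)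
  let V := Additive ↥P
  haveI : Finite V := Finite.of_equiv _ (Additive.ofMul (α := ↥P))
  haveI : Nontrivial V := Additive.ofMul.symm.nontrivial
  let θ₀ : Q →* Module.End (ZMod p) V :=
    { toFun := fun x => (MonoidHom.toAdditive (MulAut.conjNormal x).toMonoidHom).toZModLinearMap p
      map_one' := by
        refine LinearMap.ext fun v => ?_
        change Additive.ofMul ((MulAut.conjNormal (1 : Q) : MulAut ↥P) (Additive.toMul v)) = (LinearMap.id : V →ₗ[ZMod p] V) v
        rw [map_one]; rfl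
      map_mul' := fun a b => by
        refine LinearMap.ext fun v => ?_
        rw [AddMonoidHom.coe_toZModLinearMap, Module.End.mul_apply, AddMonoidHom.coe_toZModLinearMap,
          AddMonoidHom.coe_toZModLinearMap, MonoidHom.toAdditive_apply_apply,
          MonoidHom.toAdditive_apply_apply, MonoidHom.toAdditive_apply_apply, map_mul]
        rfl }
  have hθ₀ : ∀ (x : Q) (v : V), ((Additive.toMul (θ₀ x v) : ↥P) : Q) =
      x * (Additive.toMul v : ↥P) * x⁻¹ := fun _ _ => rfl
  let θH : ↥H →* (Module.End (ZMod p) V)ˣ := (θ₀.comp H.subtype).toHomUnits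
  let sc : (ZMod p)ˣ →* (Module.End (ZMod p) V)ˣ :=
    Units.map (algebraMap (ZMod p) (Module.End (ZMod p) V)).toMonoidHom
  let θ : ↥H × (ZMod p)ˣ →* (Module.End (ZMod p) V)ˣ := θH.noncommCoprod sc fun x c =>
    Units.ext ((Algebra.commutes (c : ZMod p) _).symm)
  have hθ : ∀ (x : ↥H) (c : (ZMod p)ˣ) (v : V),
      (θ (x, c) : Module.End (ZMod p) V) v = θ₀ x ((c : ZMod p) • v) := fun _ _ _ => rfl
  let G' := θ.range
  haveI : Finite (Module.End (ZMod p) V) := Finite.of_injective _ DFunLike.coe_injective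
  haveI : Finite ↥G' := Finite.of_injective (fun g : ↥G' => (g.1 : Module.End (ZMod p) V))
    fun a b h => Subtype.ext (Units.ext h)
  haveI : Group.IsSolvable ↥H := inferInstance
  have hG'sol : Group.IsSolvable ↥G' := Group.isSolvable_of_surjective θ.rangeRestrict_surjective
  have hdecomp : ∀ x : Q, ∃ a ∈ P, ∃ h ∈ H, x = a * h := fun x => by
    obtain ⟨⟨a, h⟩, e⟩ := hcompl.2 x
    exact ⟨a, a.2, h, h.2, e.symm⟩
  have hcongr : ∀ x : Q, ∃ h : ↥H, θ₀ x = θ₀ h := by
    intro x
    obtain ⟨a, ha, h, hh, rfl⟩ := hdecomp x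
    refine ⟨⟨h, hh⟩, ?_⟩
    refine LinearMap.ext fun v => ?_
    apply Additive.toMul.injective
    apply Subtype.ext
    rw [hθ₀, hθ₀]
    have hm : h * (Additive.toMul v : ↥P) * h⁻¹ ∈ P :=
      (inferInstance : P.Normal).conj_mem _ (Additive.toMul v).2 h
    calc a * h * (Additive.toMul v : ↥P) * (a * h)⁻¹
        = a * (h * (Additive.toMul v : ↥P) * h⁻¹) * a⁻¹ := by group
      _ = _ := by rw [hab a ha _ hm, mul_inv_cancel_right]
  -- transitivity on subspaces
  have hsub : ∀ W₁ W₂ : Submodule (ZMod p) V, Nat.card W₁ = Nat.card W₂ →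
      ∃ x : ↥H, W₁.map (θ₀ x) = W₂ := by
    intro W₁ W₂ hcard
    let S : Submodule (ZMod p) V → Subgroup Q := fun W =>
      (AddSubgroup.toSubgroup' W.toAddSubgroup).map P.subtype
    have hScard : ∀ W, Nat.card (S W) = Nat.card W := fun W => by
      rw [Subgroup.card_map_of_injective P.subtype_injective]
      rfl
    have hSle : ∀ W, S W ≤ P := fun W => Subgroup.map_subtype_le _
    obtain ⟨g, hg⟩ := htrans _ _ (hSle W₁) (hSle W₂) (by rw [hScard, hScard, hcard])
    obtain ⟨x, hx⟩ := hcongr g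
    refine ⟨x, Submodule.ext fun v => ?_⟩
    rw [← hx]
    constructor
    · rintro ⟨w, hw, rfl⟩
      have h1 : g * (Additive.toMul w : ↥P) * g⁻¹ ∈ S W₂ := by
        rw [hg]; exact ⟨_, ⟨Additive.toMul w, hw, rfl⟩, rfl⟩
      obtain ⟨a, ha, hae⟩ := h1
      have : θ₀ g w = Additive.ofMul a := Additive.toMul.injective (Subtype.ext (by
        rw [hθ₀]; exact hae.symm))
      rw [this]; exact ha
    · intro hv
      have h1 : ((Additive.toMul v : ↥P) : Q) ∈ S W₂ := ⟨_, hv, rfl⟩
      rw [hg] at h1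
      obtain ⟨_, ⟨a, ha, rfl⟩, hae⟩ := h1
      refine ⟨Additive.ofMul a, ha, Additive.toMul.injective (Subtype.ext ?_)⟩
      rw [hθ₀]; exact hae
  have hVcard : Nat.card V = p ^ n := hPcard
  let θ' : ↥G' →* (Module.End (ZMod p) V)ˣ := G'.subtype
  have htr : ∀ v w : V, v ≠ 0 → w ≠ 0 → ∃ g, (θ' g : Module.End (ZMod p) V) v = w := by
    intro v w hv hw
    obtain ⟨x, hx⟩ := hsub (Submodule.span (ZMod p) {v}) (Submodule.span (ZMod p) {w}) (by
      rw [Module.natCard_eq_pow_finrank (K := ZMod p), finrank_span_singleton hv,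
        Module.natCard_eq_pow_finrank (K := ZMod p) (V := ↥(Submodule.span (ZMod p) {w})),
        finrank_span_singleton hw])
    rw [Submodule.map_span, Set.image_singleton] at hx
    have h1 : w ∈ Submodule.span (ZMod p) {θ₀ x v} := hx ▸ Submodule.mem_span_singleton_self w
    obtain ⟨c, hc⟩ := Submodule.mem_span_singleton.1 h1
    have hc0 : c ≠ 0 := fun h => hw (by rw [← hc, h, zero_smul])
    refine ⟨⟨θ (x, Units.mk0 c hc0), ⟨_, rfl⟩⟩, ?_⟩
    show (θ (x, Units.mk0 c hc0) : Module.End (ZMod p) V) v = w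
    rw [hθ, map_smul, Units.val_mk0, hc]
  -- two-dimensional subspaces
  let S2 := {W : Submodule (ZMod p) V // Module.finrank (ZMod p) W = 2}
  haveI : Finite (Submodule (ZMod p) V) := Finite.of_injective _ SetLike.coe_injective
  have hcount : (p ^ n - 1) * (p ^ n - p) = Nat.card S2 * ((p ^ 2 - 1) * (p ^ 2 - p)) := by
    haveI := Fintype.ofFinite S2
    rw [← card_pairs hVcard]
    let f : ((W : S2) × {x : W.1 × W.1 // x.1 ≠ 0 ∧ x.2 ∉ Submodule.span (ZMod p) {x.1}}) →
        {x : V × V // x.1 ≠ 0 ∧ x.2 ∉ Submodule.span (ZMod p) {x.1}} := fun s =>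
      ⟨((s.2.1.1 : V), (s.2.1.2 : V)), fun h => s.2.2.1 (Subtype.ext h), fun h => s.2.2.2 (by
        obtain ⟨c, hc⟩ := Submodule.mem_span_singleton.1 h
        exact Submodule.mem_span_singleton.2 ⟨c, Subtype.ext hc⟩)⟩
    let e : {x : V × V // x.1 ≠ 0 ∧ x.2 ∉ Submodule.span (ZMod p) {x.1}} ≃
        (W : S2) × {x : W.1 × W.1 // x.1 ≠ 0 ∧ x.2 ∉ Submodule.span (ZMod p) {x.1}} := by
      refine (Equiv.ofBijective f ⟨?_, ?_⟩).symm
      · have key : ∀ (W : S2) (a b : W.1), a ≠ 0 → b ∉ Submodule.span (ZMod p) {a} →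
            Submodule.span (ZMod p) {(a : V), (b : V)} = W.1 := by
          intro W a b ha hb
          refine Submodule.eq_of_le_of_finrank_le (Submodule.span_le.2 ?_) ?_
          · rintro x (rfl | rfl) <;> simp
          · rw [W.2]
            by_contra hlt
            push Not at hlt
            have hle1 : Submodule.span (ZMod p) {(a : V)} ≤ Submodule.span (ZMod p) {(a : V), (b : V)} :=
              Submodule.span_mono (by simp)
            have := Submodule.eq_of_le_of_finrank_le hle1 (by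
              rw [finrank_span_singleton (fun h => ha (Subtype.ext h))]; omega)
            have hb' : (b : V) ∈ Submodule.span (ZMod p) {(a : V)} :=
              this.symm ▸ Submodule.subset_span (by simp)
            obtain ⟨c, hc⟩ := Submodule.mem_span_singleton.1 hb'
            exact hb (Submodule.mem_span_singleton.2 ⟨c, Subtype.ext hc⟩)
        rintro ⟨W, ⟨⟨a, b⟩, ha, hb⟩⟩ ⟨W', ⟨⟨a', b'⟩, ha', hb'⟩⟩ h
        obtain ⟨e1, e2⟩ := Prod.mk.inj (congrArg Subtype.val h)
        obtain rfl : W = W' := Subtype.ext (by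
          rw [← key W a b ha hb, ← key W' a' b' ha' hb']
          change (a : V) = a' at e1; change (b : V) = b' at e2
          rw [e1, e2])
        change (a : V) = a' at e1; change (b : V) = b' at e2
        obtain rfl := Subtype.ext e1
        obtain rfl := Subtype.ext e2
        rfl
      · rintro ⟨⟨v, w⟩, hv, hw⟩
        set W := Submodule.span (ZMod p) {v, w}
        have hW : Module.finrank (ZMod p) W = 2 := by
          have hli : LinearIndependent (ZMod p) ![v, w] :=
            (LinearIndependent.pair_iff' hv).2 fun a h => hw (Submodule.mem_span_singleton.2 ⟨a, h⟩)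
          have := finrank_span_eq_card hli
          rwa [Matrix.range_cons_cons_empty, Fintype.card_fin] at this
        refine ⟨⟨⟨W, hW⟩, ⟨(⟨v, Submodule.subset_span (by simp)⟩,
          ⟨w, Submodule.subset_span (by simp)⟩), fun h => hv (congrArg Subtype.val h), fun h => ?_⟩⟩,
          rfl⟩
        obtain ⟨c, hc⟩ := Submodule.mem_span_singleton.1 h
        exact hw (Submodule.mem_span_singleton.2 ⟨c, congrArg Subtype.val hc⟩)
    rw [Nat.card_congr e, Nat.card_sigma]
    have hc : ∀ W : S2, Nat.card W.1 = p ^ 2 := fun W => by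
      rw [Module.natCard_eq_pow_finrank (K := ZMod p), W.2, Nat.card_zmod]
    simp only [card_pairs (hc _)]
    rw [Finset.sum_const, smul_eq_mul, Finset.card_univ, ← Nat.card_eq_fintype_card]
  -- the orbit of a plane
  have horbit : Nat.card S2 * (p - 1) ∣ Nat.card G' := by
    have hrank : ∀ (g : ↥G') (W : S2),
        Module.finrank (ZMod p) ↥(W.1.map (θ' g : Module.End (ZMod p) V)) = 2 := fun g W => by
      exact (LinearEquiv.finrank_map_eq (LinearMap.GeneralLinearGroup.generalLinearEquiv (ZMod p) V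
        (θ' g)) W.1).trans W.2
    letI : MulAction ↥G' S2 :=
      { smul := fun g W => ⟨_, hrank g W⟩
        one_smul := fun W => Subtype.ext (show W.1.map (θ' 1 : Module.End (ZMod p) V) = W.1 by
          rw [map_one, Units.val_one, Module.End.one_eq_id, Submodule.map_id])
        mul_smul := fun g h W => Subtype.ext (show W.1.map (θ' (g * h) : Module.End (ZMod p) V) =
          (W.1.map (θ' h : Module.End (ZMod p) V)).map (θ' g : Module.End (ZMod p) V) by
          rw [map_mul, Units.val_mul, Module.End.mul_eq_comp, Submodule.map_comp]) }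
    rcases isEmpty_or_nonempty S2 with hE | ⟨⟨W₀⟩⟩
    · exfalso
      rw [Nat.card_of_isEmpty, zero_mul] at hcount
      have h1 : 1 < p ^ n := Nat.one_lt_pow (by omega) hp.out.one_lt
      have h2 : p < p ^ n := by
        calc p = p ^ 1 := (pow_one p).symm
          _ < p ^ n := Nat.pow_lt_pow_right hp.out.one_lt (by omega)
      rcases Nat.mul_eq_zero.1 hcount with h | h <;> omega
    haveI : MulAction.IsPretransitive ↥G' S2 := ⟨fun W₁ W₂ => by
      obtain ⟨x, hx⟩ := hsub W₁.1 W₂.1 (by
        rw [Module.natCard_eq_pow_finrank (K := ZMod p), W₁.2,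
          Module.natCard_eq_pow_finrank (K := ZMod p) (V := ↥W₂.1), W₂.2])
      refine ⟨⟨θ (x, 1), ⟨_, rfl⟩⟩, Subtype.ext ?_⟩
      show W₁.1.map (θ (x, 1) : Module.End (ZMod p) V) = W₂.1
      rw [← hx]
      congr 1
      refine LinearMap.ext fun v => ?_
      rw [hθ, Units.val_one, one_smul]⟩
    have hidx := MulAction.index_stabilizer_of_transitive ↥G' W₀
    rw [← (MulAction.stabilizer ↥G' W₀).card_mul_index, hidx, mul_comm (Nat.card _) (Nat.card S2)]
    refine Nat.mul_dvd_mul_left _ ?_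
    have hs : ∀ c : (ZMod p)ˣ, (⟨θ (1, c), ⟨_, rfl⟩⟩ : ↥G') ∈ MulAction.stabilizer ↥G' W₀ := by
      intro c
      refine MulAction.mem_stabilizer_iff.2 (Subtype.ext ?_)
      show W₀.1.map (θ (1, c) : Module.End (ZMod p) V) = W₀.1
      refine Submodule.eq_of_le_of_finrank_le ?_ ?_
      · rintro _ ⟨w, hw, rfl⟩
        rw [hθ, OneMemClass.coe_one, map_one, Module.End.one_apply]
        exact W₀.1.smul_mem _ hw
      · rw [W₀.2]
        exact (hrank ⟨θ (1, c), ⟨_, rfl⟩⟩ W₀).ge
    let ι : (ZMod p)ˣ →* ↥(MulAction.stabilizer ↥G' W₀) :=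
      (θ.rangeRestrict.comp (MonoidHom.inr ↥H (ZMod p)ˣ)).codRestrict _ hs
    have hιinj : Function.Injective ι := by
      intro c d h
      have h' : θ (1, c) = θ (1, d) := congrArg Subtype.val (congrArg Subtype.val h)
      obtain ⟨v, hv⟩ := exists_ne (0 : V)
      have h2 : (c : ZMod p) • v = (d : ZMod p) • v := by
        have := congrArg (fun u : (Module.End (ZMod p) V)ˣ => (u : Module.End (ZMod p) V) v) h'
        simpa only [hθ, OneMemClass.coe_one, map_one, Module.End.one_apply] using this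
      exact Units.ext (smul_left_injective (ZMod p) hv h2)
    have := Subgroup.card_dvd_of_injective ι hιinj
    rwa [Nat.card_eq_fintype_card, ZMod.card_units] at this
  -- apply Huppert's theorem
  rcases CfsgLib.Recognition.Huppert.dichotomy θ' hG'sol G'.subtype_injective htr with
    ⟨⟨F, hF, hFfin, e, he⟩, -⟩ |
      ⟨A, E, _, hEn, -, -, hAE, -, hAd, -, -, -, -, hCE, hcase⟩
  swap
  · exfalso
    haveI := hEn
    rcases hcase with ⟨hV2, -, -, -⟩ | ⟨hV81, hp3, hrel⟩
    · rw [hVcard] at hV2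
      have := Nat.pow_right_injective hp.out.two_le hV2
      omega
    · subst hp3
      rw [hVcard] at hV81
      obtain rfl : n = 4 := Nat.pow_right_injective (le_refl 2 |>.trans (by norm_num)) hV81
      have hN2 : Nat.card S2 = 130 := by norm_num at hcount; omega
      rw [hN2] at horbit
      haveI : Fact (Nat.Prime 13) := ⟨by norm_num⟩
      obtain ⟨g, hg⟩ := exists_prime_orderOf_dvd_card' 13 (G := ↥G')
        ((Dvd.intro 20 (by norm_num)).trans horbit)
      exact elem13_mem hAd hAE hrel (fun x hx => hCE x fun y hy => by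
        rw [commutatorElement_def]; exact hx y hy) hg
  letI := hFfin
  have hFcard : Fintype.card F = p ^ n := by
    rw [← Nat.card_eq_fintype_card, ← Nat.card_congr e.toEquiv]; exact hVcard
  let toPerm : (Module.End (ZMod p) V)ˣ →* Equiv.Perm F :=
    { toFun := fun u => (e.symm.toEquiv.trans
        (LinearMap.GeneralLinearGroup.generalLinearEquiv (ZMod p) V u).toEquiv).trans e.toEquiv
      map_one' := by ext x; simp
      map_mul' := fun a b => by ext x; simp }
  have htoPerm : ∀ (u : (Module.End (ZMod p) V)ˣ) (x : F),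
      toPerm u x = e ((u : Module.End (ZMod p) V) (e.symm x)) := fun _ _ => rfl
  have hmemS : ∀ g : ↥G', toPerm (θ' g) ∈ semilinearGroup F := by
    intro g
    obtain ⟨a, σ, hg⟩ := he g
    have ha : a ≠ 0 := by
      intro h0
      have h1 := hg (e.symm 1)
      rw [h0, zero_mul, ← map_zero e] at h1
      have h2 := e.injective h1
      have h3 : e.symm 1 = 0 := by
        apply (LinearMap.GeneralLinearGroup.generalLinearEquiv (ZMod p) V (θ' g)).injective
        rw [map_zero]; exact h2
      exact one_ne_zero (α := F) (by rw [← e.apply_symm_apply 1, h3, map_zero])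
    refine Subgroup.mem_inf.2 ⟨⟨Units.mk0 a ha, 0, σ, fun x => ?_⟩,
      MulAction.mem_stabilizer_iff.2 ?_⟩
    · rw [htoPerm, hg, e.apply_symm_apply, add_zero, Units.val_mk0]
    · rw [Equiv.Perm.smul_def, htoPerm, map_zero, map_zero, map_zero]
  have htoPinj : Function.Injective toPerm := by
    intro u u' h
    refine Units.ext (LinearMap.ext fun v => e.injective ?_)
    have := Equiv.congr_fun h (e v)
    simpa [htoPerm] using this
  let sl : ↥G' →* ↥(semilinearGroup F) := (toPerm.comp θ').codRestrict _ hmemS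
  have hslinj : Function.Injective sl := fun a b h =>
    G'.subtype_injective (htoPinj (congrArg Subtype.val h))
  have hG'dvd : Nat.card G' ∣ (p ^ n - 1) * n :=
    card_semilinearGroup F (p := p) (by omega) hFcard ▸ Subgroup.card_dvd_of_injective sl hslinj
  have hdim := dim_cases hp.out hn hcount (horbit.trans hG'dvd)
  -- the affine action
  let eC := hcompl.equiv
  let act : Q → ↥P → ↥P := fun x w => (eC (x * w)).1
  have hfst : ∀ (x : Q) (h : ↥H), (eC (x * h)).1 = (eC x).1 := fun x h => by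
    rw [hcompl.equiv_mul_right]
  have hact_mul : ∀ x y w, act (x * y) w = act x (act y w) := by
    intro x y w
    show (eC (x * y * w)).1 = (eC (x * ((eC (y * w)).1 : Q))).1
    rw [← hfst (x * ((eC (y * w)).1 : Q)) (eC (y * w)).2]
    congr 2
    rw [mul_assoc, mul_assoc]
    congr 1
    exact (hcompl.equiv_fst_mul_equiv_snd (y * w)).symm
  have hact_one : ∀ w, act 1 w = w := fun w => by
    show (eC (1 * w)).1 = w
    rw [one_mul]
    exact (hcompl.equiv_fst_eq_self_of_mem_of_one_mem (one_mem H) w.2).trans (Subtype.ext rfl)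
  let actP : Q →* Equiv.Perm ↥P :=
    { toFun := fun x => ⟨act x, act x⁻¹,
        fun w => by rw [← hact_mul, inv_mul_cancel, hact_one],
        fun w => by rw [← hact_mul, mul_inv_cancel, hact_one]⟩
      map_one' := Equiv.ext hact_one
      map_mul' := fun x y => Equiv.ext (hact_mul x y) }
  let ψ : Q →* Equiv.Perm F := ((Additive.ofMul.trans e.toEquiv).permCongrHom.toMonoidHom).comp actP
  have hψ : ∀ (x : Q) (v : V),
      ψ x (e v) = e (Additive.ofMul (act x (Additive.toMul v))) := by
    intro x v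
    show e (Additive.ofMul (act x (Additive.toMul (e.symm (e v))))) = _
    rw [e.symm_apply_apply]
  have hform : ∀ (a : ↥P) (h : ↥H) (v : V),
      Additive.ofMul (act ((a : Q) * h) (Additive.toMul v)) = Additive.ofMul a + θ₀ h v := by
    intro a h v
    have e1 : (a : Q) * h * (Additive.toMul v : ↥P) =
        ((a * Additive.toMul (θ₀ h v) : ↥P) : Q) * h := by
      rw [Subgroup.coe_mul, hθ₀]; group
    show Additive.ofMul (eC ((a : Q) * h * (Additive.toMul v : ↥P))).1 = _
    rw [e1, hfst]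
    rw [show (eC ((a * Additive.toMul (θ₀ h v) : ↥P) : Q)).1 = a * Additive.toMul (θ₀ h v) from
      (hcompl.equiv_fst_eq_self_of_mem_of_one_mem (one_mem H) (SetLike.coe_mem _)).trans
        (Subtype.ext rfl)]
    rfl
  have hlin : ∀ (h : ↥H) (v : V), e (θ₀ h v) = toPerm (θ' ⟨θ (h, 1), ⟨_, rfl⟩⟩) (e v) := by
    intro h v
    rw [htoPerm, e.symm_apply_apply]
    show e (θ₀ h v) = e ((θ (h, 1) : Module.End (ZMod p) V) v)
    rw [hθ, Units.val_one, one_smul]
  have hψinj : Function.Injective ψ := by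
    rw [injective_iff_map_eq_one]
    intro x hx
    obtain ⟨a, ha, h, hh, rfl⟩ := hdecomp x
    have hk : ∀ v : V, Additive.ofMul (⟨a, ha⟩ : ↥P) + θ₀ h v = v := fun v => e.injective (by
      rw [← hform ⟨a, ha⟩ ⟨h, hh⟩ v, ← hψ, hx, Equiv.Perm.one_apply])
    have h0 : Additive.ofMul (⟨a, ha⟩ : ↥P) = 0 := by simpa using hk 0
    have ha1 : a = 1 := by
      have := congrArg (fun t : V => ((Additive.toMul t : ↥P) : Q)) h0
      simpa using this
    have hhP : h ∈ P := hC h fun b hb => by
      have h1 := hk (Additive.ofMul ⟨b, hb⟩)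
      rw [h0, zero_add] at h1
      have h2 := congrArg (fun t : V => ((Additive.toMul t : ↥P) : Q)) h1
      simp only [hθ₀, toMul_ofMul] at h2
      exact mul_inv_eq_iff_eq_mul.1 h2
    rw [ha1, one_mul]
    exact Subgroup.disjoint_def.1 hcompl.disjoint hhP hh
  have hψsa : ∀ x, ψ x ∈ Cfsg.semiaffineGroup F := by
    intro x
    obtain ⟨a, ha, h, hh, rfl⟩ := hdecomp x
    obtain ⟨u, b, σ, hu⟩ := (Subgroup.mem_inf.1 (hmemS ⟨θ (⟨h, hh⟩, 1), ⟨_, rfl⟩⟩)).1
    refine ⟨u, e (Additive.ofMul (⟨a, ha⟩ : ↥P)) + b, σ, fun y => ?_⟩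
    obtain ⟨v, rfl⟩ := e.surjective y
    rw [hψ, hform ⟨a, ha⟩ ⟨h, hh⟩ v, map_add, hlin ⟨h, hh⟩ v, hu]
    abel
  have hQ : Nat.card Q = p ^ n * Nat.card H := by rw [← hPcard, hcompl.card_mul]
  -- the linear part over the field with two elements
  have hHeq : p = 2 → Nat.card H = Nat.card G' := by
    intro hp2
    subst hp2
    refine Nat.card_eq_of_bijective (fun h : ↥H => (⟨θ (h, 1), ⟨_, rfl⟩⟩ : ↥G')) ⟨?_, ?_⟩
    · intro h h' heq
      have hk : ∀ v, θ₀ h v = θ₀ h' v := fun v => e.injective (by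
        rw [hlin, hlin]
        exact congrArg (fun g => toPerm (θ' g) (e v)) heq)
      have hm : ((h⁻¹ * h' : ↥H) : Q) ∈ P := hC _ fun b hb => by
        have h1 := congrArg (fun t : V => ((Additive.toMul t : ↥P) : Q))
          (hk (Additive.ofMul ⟨b, hb⟩))
        simp only [hθ₀, toMul_ofMul] at h1
        have h2 : (h' : Q) * b = (h : Q) * b * (h : Q)⁻¹ * h' := by rw [h1]; group
        calc ((h⁻¹ * h' : ↥H) : Q) * b = (h : Q)⁻¹ * ((h' : Q) * b) := by
              rw [Subgroup.coe_mul, Subgroup.coe_inv]; group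
          _ = b * ((h⁻¹ * h' : ↥H) : Q) := by
              rw [h2, Subgroup.coe_mul, Subgroup.coe_inv]; group
      have h3 := Subgroup.disjoint_def.1 hcompl.disjoint hm (SetLike.coe_mem _)
      exact inv_mul_eq_one.1 (Subtype.ext h3)
    · rintro ⟨_, ⟨h, c⟩, rfl⟩
      refine ⟨h, Subtype.ext ?_⟩
      show θ (h, 1) = θ (h, c)
      rw [Subsingleton.elim c 1]
  refine ⟨F, hF, hFfin, hFcard, ψ, hψinj, hψsa, hdim, ?_, ?_⟩
  · intro hp2 hn5
    have hH := hHeq hp2
    subst hp2 hn5
    rw [card_semiaffineGroup F (p := 2) (by norm_num) hFcard, hQ, hH]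
    have hN2 : Nat.card S2 = 155 := by norm_num at hcount; omega
    rw [hN2] at horbit
    norm_num at hG'dvd horbit
    rw [le_antisymm (Nat.le_of_dvd (by norm_num) hG'dvd) (Nat.le_of_dvd Nat.card_pos horbit)]
    norm_num
  · intro hp2 hn3
    have hH := hHeq hp2
    subst hp2 hn3
    have hN2 : Nat.card S2 = 7 := by norm_num at hcount; omega
    rw [hN2] at horbit
    norm_num at hG'dvd horbit
    rcases (show Nat.card G' = 7 ∨ Nat.card G' = 21 by
      obtain ⟨k, hk⟩ := horbit
      have := Nat.le_of_dvd (by norm_num) hG'dvd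
      have := Nat.card_pos (α := ↥G')
      rw [hk] at hG'dvd ⊢
      have : k ≤ 3 := by omega
      interval_cases k <;> first | (exact Or.inl rfl) | (exact Or.inr rfl) | (norm_num at hG'dvd) | omega)
      with h7 | h21
    swap
    · left
      rw [card_semiaffineGroup F (p := 2) (by norm_num) hFcard, hQ, hH, h21]
      norm_num
    right
    have hA : ∀ g : ↥G', ∃ a : Fˣ, ∀ x, toPerm (θ' g) x = (a : F) * x := by
      let S := semilinearGroup F
      let A0 : Subgroup ↥S := (Cfsg.affineGroup F).subgroupOf S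
      have hA0 : 7 ≤ Nat.card A0 := by
        have h1 : Nat.card Fˣ ≤ Nat.card A0 := by
          refine Nat.card_le_card_of_injective (fun a : Fˣ =>
            (⟨⟨Equiv.mulLeft₀ (a : F) a.ne_zero, Subgroup.mem_inf.2 ⟨⟨a, 0, RingEquiv.refl F, fun y => by simp⟩,
              MulAction.mem_stabilizer_iff.2 (by simp [Equiv.Perm.smul_def])⟩⟩,
              Subgroup.mem_subgroupOf.2 ⟨a, 0, fun y => by simp⟩⟩ : A0)) ?_
          intro a b h
          have h2 : Equiv.mulLeft₀ (a : F) a.ne_zero = Equiv.mulLeft₀ (b : F) b.ne_zero :=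
            congrArg Subtype.val (congrArg Subtype.val h)
          exact Units.ext (by simpa using Equiv.congr_fun h2 1)
        rw [card_units_field F (p := 2) hFcard] at h1
        simpa using h1
      have hSc : Nat.card ↥S = 21 := by
        rw [card_semilinearGroup F (p := 2) (by norm_num) hFcard]; norm_num
      set R := sl.range with hR
      have hRc : Nat.card R = 7 := by
        rw [hR, ← h7]; exact (Nat.card_congr (MonoidHom.ofInjective hslinj).toEquiv).symm
      have hle : R ≤ A0 := by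
        have h1 : A0.relIndex R ≤ A0.relIndex ⊤ :=
          Subgroup.relIndex_le_of_le_right le_top Subgroup.FiniteIndex.index_ne_zero
        rw [Subgroup.relIndex_top_right] at h1
        have h2 := A0.card_mul_index
        rw [hSc] at h2
        have h3 : A0.index ≤ 3 := by nlinarith
        have h4 := (R ⊓ A0).card_subgroup_dvd_card
        have h5 : Nat.card (R ⊓ A0 : Subgroup ↥S) * A0.relIndex R = 7 := by
          rw [← hRc, ← Subgroup.inf_relIndex_left, ← Subgroup.relIndex_bot_left (R ⊓ A0 : Subgroup ↥S),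
            ← Subgroup.relIndex_bot_left R, Subgroup.relIndex_mul_relIndex ⊥ _ R bot_le inf_le_left]
        have h6 : A0.relIndex R ∣ 7 := ⟨_, by rw [← h5]; ring⟩
        rcases (Nat.dvd_prime (by norm_num)).1 h6 with h | h
        · exact Subgroup.relIndex_eq_one.1 h
        · omega
      intro g
      have h8 := Subgroup.mem_subgroupOf.1 (hle (MonoidHom.mem_range.2 ⟨g, rfl⟩ : sl g ∈ R))
      obtain ⟨a, b, hab'⟩ := h8
      have h0 : toPerm (θ' g) 0 = 0 :=
        MulAction.mem_stabilizer_iff.1 (Subgroup.mem_inf.1 (hmemS g)).2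
      have hb : b = 0 := by
        have := hab' 0
        rw [mul_zero, zero_add] at this
        exact this.symm.trans h0
      exact ⟨a, fun x => by rw [← add_zero ((a : F) * x), ← hb]; exact hab' x⟩
    refine ⟨fun x => ?_, ?_⟩
    · obtain ⟨a, ha, h, hh, rfl⟩ := hdecomp x
      obtain ⟨u, hu⟩ := hA ⟨θ (⟨h, hh⟩, 1), ⟨_, rfl⟩⟩
      refine ⟨u, e (Additive.ofMul (⟨a, ha⟩ : ↥P)), fun y => ?_⟩
      obtain ⟨v, rfl⟩ := e.surjective y
      rw [hψ, hform ⟨a, ha⟩ ⟨h, hh⟩ v, map_add, hlin ⟨h, hh⟩ v, hu]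
      abel
    · rw [card_affineGroup F (p := 2) hFcard, hQ, hH, h7]
      norm_num

end Main

end Cfsg.Agent.TransitiveSubspaces
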