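import Mathlib
import Cfsg.Prelude.Def_Solvable
import Cfsg.Agent.S0042
import Cfsg.Agent.Lib.Solvable.FrobeniusComplement
import Cfsg.Agent.Lib.FGS.ThompsonKernel
import Cfsg.Agent.Lib.FGS.TIHallStructure
import Cfsg.Agent.Lib.Solvable.Nilpotent

/-!
# Structure of 2-Frobenius groups
-/

set_option autoImplicit false

namespace CfsgLib.FGS.TwoFrob

/-- Basic facts about a Frobenius group whose kernel is given as a subgroup. -/
theorem frob_facts {F : Type*} [Group F] [Finite F] {C N : Subgroup F} [N.Normal]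
    (hC : Cfsg.IsFrobeniusComplement C) (hker : Cfsg.frobeniusKernel C = (N : Set F)) :
    Subgroup.IsComplement' N C ∧ N ≠ ⊥ ∧ Group.IsNilpotent N ∧
      ∀ c ∈ C, c ≠ 1 → N ⊓ Subgroup.centralizer {c} = ⊥ := by
  obtain ⟨N', hN', hN'n, hnil⟩ := Cfsg.Agent.S0042.result C hC
  obtain ⟨N'', hN'', hN''n, hc⟩ := CfsgLib.Solvable.frobenius_theorem hC
  have e1 : N' = N := SetLike.coe_injective (hN'.trans hker)
  have e2 : N'' = N := SetLike.coe_injective (hN''.trans hker)
  rw [e1] at hnil
  rw [e2] at hc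
  have hN1 : N ≠ ⊥ := by
    intro e
    have h1 := hc.sup_eq_top
    rw [e, bot_sup_eq] at h1
    exact hC.2.1 h1
  exact ⟨hc, hN1, hnil, (CfsgLib.Solvable.isFrobeniusComplement_iff_fpf hc hN1 hC.1).1 hC⟩

/-- An element outside the kernel centralises no nontrivial element of the kernel. -/
theorem eq_one_of_commute_kernel {F : Type*} [Group F] [Finite F] {C N : Subgroup F} [N.Normal]
    (hC : Cfsg.IsFrobeniusComplement C) (hker : Cfsg.frobeniusKernel C = (N : Set F))
    {x y : F} (hx : x ∉ N) (hy : y ∈ N) (hxy : x * y = y * x) : y = 1 := by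
  have hx' : x ∉ Cfsg.frobeniusKernel C := by rw [hker]; exact hx
  simp only [Cfsg.frobeniusKernel, Set.mem_setOf_eq, not_or, not_forall, not_not] at hx'
  obtain ⟨hx1, g, hg⟩ := hx'
  rw [Subgroup.mem_pointwise_smul_iff_inv_smul_mem] at hg
  simp only [MulAut.smul_def, MulAut.conj_inv_apply] at hg
  have hc1 : g⁻¹ * x * g ≠ 1 := by
    intro e
    apply hx1
    calc x = g * (g⁻¹ * x * g) * g⁻¹ := by group
      _ = 1 := by rw [e]; group
  have hy' : g⁻¹ * y * g ∈ N := by
    simpa using Subgroup.Normal.conj_mem ‹N.Normal› y hy g⁻¹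
  have h := (frob_facts hC hker).2.2.2 _ hg hc1
  have hm : g⁻¹ * y * g ∈ N ⊓ Subgroup.centralizer {g⁻¹ * x * g} := by
    refine Subgroup.mem_inf.2 ⟨hy', Subgroup.mem_centralizer_singleton_iff.2 ?_⟩
    calc g⁻¹ * y * g * (g⁻¹ * x * g) = g⁻¹ * (y * x) * g := by group
      _ = g⁻¹ * (x * y) * g := by rw [hxy]
      _ = g⁻¹ * x * g * (g⁻¹ * y * g) := by group
  rw [h, Subgroup.mem_bot] at hm
  calc y = g * (g⁻¹ * y * g) * g⁻¹ := by group
    _ = 1 := by rw [hm]; group

/-- The complement of a Frobenius group is isomorphic to the quotient by the kernel. -/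
theorem complement_equiv {F : Type*} [Group F] [Finite F] {C N : Subgroup F} [N.Normal]
    (hc : Subgroup.IsComplement' N C) : Nonempty (C ≃* F ⧸ N) := by
  refine ⟨MulEquiv.ofBijective ((QuotientGroup.mk' N).comp C.subtype) ⟨?_, ?_⟩⟩
  · rw [injective_iff_map_eq_one]
    intro c hc'
    have h1 : (c : F) ∈ N ⊓ C :=
      Subgroup.mem_inf.2 ⟨(QuotientGroup.eq_one_iff _).1 hc', c.2⟩
    rw [hc.disjoint.eq_bot, Subgroup.mem_bot] at h1
    exact Subtype.ext h1
  · intro z
    obtain ⟨f, rfl⟩ := QuotientGroup.mk'_surjective N z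
    obtain ⟨⟨⟨n, hn⟩, c⟩, hnc⟩ := hc.2 f
    refine ⟨c, ?_⟩
    simp only at hnc
    rw [← hnc]
    have h1 : QuotientGroup.mk' N n = 1 := (QuotientGroup.eq_one_iff n).2 hn
    show QuotientGroup.mk' N (c : F) = QuotientGroup.mk' N (n * (c : F))
    rw [map_mul, h1, one_mul]

/-- If the image of `g` has order a multiple of `m`, some power of `g` has order `m`. -/
theorem exists_orderOf_of_map {A B : Type*} [Group A] [Finite A] [Group B] (f : A →* B) {g : A}
    {m : ℕ} (h : m ∣ orderOf (f g)) : ∃ a : A, orderOf a = m := by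
  have hd : m ∣ orderOf g := h.trans (orderOf_map_dvd f g)
  exact ⟨g ^ (orderOf g / m), orderOf_pow_orderOf_div (orderOf_pos g).ne' hd⟩

/-- A cyclic quotient (or section) provides elements of every order dividing its order. -/
theorem exists_orderOf_of_surjective {A B : Type*} [Group A] [Finite A] [Group B] [IsCyclic B]
    (f : A →* B) (hf : Function.Surjective f) {m : ℕ} (h : m ∣ Nat.card B) :
    ∃ a : A, orderOf a = m := by
  obtain ⟨b, hb⟩ := IsCyclic.exists_generator (α := B)
  obtain ⟨a, rfl⟩ := hf b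
  exact exists_orderOf_of_map f (by rwa [orderOf_eq_card_of_forall_mem_zpowers hb])

/-- In a finite nilpotent group, any two primes dividing the order give an element of order their
product. -/
theorem exists_orderOf_mul_of_nilpotent {A : Type*} [Group A] [Finite A] [Group.IsNilpotent A]
    {p q : ℕ} (hp : p.Prime) (hq : q.Prime) (hpq : p ≠ q) (hpd : p ∣ Nat.card A)
    (hqd : q ∣ Nat.card A) : ∃ a : A, orderOf a = p * q := by
  haveI := Fact.mk hp
  haveI := Fact.mk hq
  let P : Sylow p A := default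
  let Q : Sylow q A := default
  obtain ⟨x, hx⟩ := exists_prime_orderOf_dvd_card' (G := (P : Subgroup A)) p
    (P.dvd_card_of_dvd_card hpd)
  obtain ⟨y, hy⟩ := exists_prime_orderOf_dvd_card' (G := (Q : Subgroup A)) q
    (Q.dvd_card_of_dvd_card hqd)
  have hPn : (P : Subgroup A).Normal := inferInstance
  have hQn : (Q : Subgroup A).Normal := inferInstance
  have hc : Commute (x : A) (y : A) :=
    Subgroup.commute_of_normal_of_disjoint _ _ hPn hQn
      (IsPGroup.disjoint_of_ne p q hpq _ _ P.isPGroup' Q.isPGroup') _ _ x.2 y.2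
  refine ⟨(x : A) * y, ?_⟩
  rw [hc.orderOf_mul_eq_mul_orderOf_of_coprime (by
    rw [Subgroup.orderOf_coe, Subgroup.orderOf_coe, hx, hy]
    exact (Nat.coprime_primes hp hq).2 hpq), Subgroup.orderOf_coe, Subgroup.orderOf_coe, hx, hy]

variable {G : Type*} [Group G] [Finite G] (H K : Subgroup G) [H.Normal] [K.Normal]

/-- A prime in the lower kernel and a prime in the top quotient are adjacent. -/
theorem exists_commuting_mixed (hle : H ≤ K) [Group.IsNilpotent H] (hHK : H ≠ K)
    (hKfrob : ∀ x ∈ K, x ∉ H → ∀ y ∈ H, x * y = y * x → y = 1)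
    (hGfrob : ∀ x : G ⧸ H, x ∉ K.map (QuotientGroup.mk' H) →
      ∀ y ∈ K.map (QuotientGroup.mk' H), x * y = y * x → y = 1)
    (hcop : (Nat.card H).Coprime (Nat.card (K.map (QuotientGroup.mk' H))))
    {p q : ℕ} (hp : p.Prime) (hq : q.Prime) (hpq : p ≠ q) (hpd : p ∣ Nat.card H)
    (hqK : ¬ q ∣ Nat.card K) (hqd : q ∣ Nat.card G) : ∃ g : G, orderOf g = p * q := by
  classical
  haveI := Fact.mk hp
  haveI := Fact.mk hq
  obtain ⟨y, hy⟩ := exists_prime_orderOf_dvd_card' (G := G) q hqd
  have hyK : y ∉ K := by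
    intro h
    apply hqK
    rw [← hy, ← Subgroup.orderOf_mk y h]
    exact orderOf_dvd_natCard _
  set Hb := K.map (QuotientGroup.mk' H) with hHb
  haveI : Hb.Normal := Subgroup.Normal.map inferInstance _ (QuotientGroup.mk'_surjective H)
  -- the elements of order dividing `p` of the centre of `H`
  let V : Subgroup G :=
    { carrier := {v | v ∈ H ∧ (∀ h ∈ H, h * v = v * h) ∧ v ^ p = 1}
      one_mem' := ⟨one_mem _, fun h _ => by simp, one_pow p⟩
      mul_mem' := by
        rintro a b ⟨ha, hac, hap⟩ ⟨hb, hbc, hbp⟩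
        refine ⟨mul_mem ha hb, fun h hh => ?_, ?_⟩
        · rw [← mul_assoc, hac h hh, mul_assoc, hbc h hh, ← mul_assoc]
        · rw [(show Commute a b from hbc a ha).mul_pow, hap, hbp, one_mul]
      inv_mem' := by
        rintro a ⟨ha, hac, hap⟩
        refine ⟨inv_mem ha, fun h hh => ?_, by rw [inv_pow, hap, inv_one]⟩
        exact (show Commute h a from hac h hh).inv_right }
  have hVn : V.Normal := by
    refine ⟨fun v hv g => ?_⟩
    obtain ⟨hvH, hvc, hvp⟩ := hv
    refine ⟨Subgroup.Normal.conj_mem ‹H.Normal› v hvH g, fun h hh => ?_, ?_⟩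
    · have hh' : g⁻¹ * h * g ∈ H := by simpa using Subgroup.Normal.conj_mem ‹H.Normal› h hh g⁻¹
      calc h * (g * v * g⁻¹) = g * ((g⁻¹ * h * g) * v) * g⁻¹ := by group
        _ = g * (v * (g⁻¹ * h * g)) * g⁻¹ := by rw [hvc _ hh']
        _ = g * v * g⁻¹ * h := by group
    · rw [← MulAut.conj_apply, ← map_pow, hvp, map_one]
  haveI := hVn
  have hVH : ∀ v ∈ V, v ∈ H := fun v hv => hv.1
  have hVc : ∀ v ∈ V, ∀ h ∈ H, h * v = v * h := fun v hv => hv.2.1
  have hVp : ∀ v ∈ V, v ^ p = 1 := fun v hv => hv.2.2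
  have hVne : ∃ v ∈ V, v ≠ 1 := by
    let P : Sylow p H := default
    haveI : (P : Subgroup H).Normal := inferInstance
    have hPc : p ∣ Nat.card (P : Subgroup H) := P.dvd_card_of_dvd_card hpd
    have hPne : (P : Subgroup H) ≠ ⊥ := by
      intro e
      rw [e, Subgroup.card_bot] at hPc
      exact hp.one_lt.ne' (Nat.dvd_one.1 hPc)
    haveI : Nontrivial (P : Subgroup H) := (Subgroup.nontrivial_iff_ne_bot _).2 hPne
    obtain ⟨z, hzP, hz1⟩ : ∃ z ∈ (P : Subgroup H) ⊓ Subgroup.center H, z ≠ 1 := by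
      have := CfsgLib.Solvable.inf_center_ne_bot_of_isNilpotent (N := (P : Subgroup H)) hPne
      by_contra h
      push_neg at h
      exact this ((Subgroup.eq_bot_iff_forall _).2 h)
    obtain ⟨hzP', hzc⟩ := Subgroup.mem_inf.1 hzP
    obtain ⟨k, hk⟩ := P.isPGroup' ⟨z, hzP'⟩
    have hk' : z ^ p ^ k = 1 := congrArg Subtype.val hk
    obtain ⟨j, hj, hoz⟩ := (Nat.dvd_prime_pow hp).1 (orderOf_dvd_of_pow_eq_one hk')
    have hpz : p ∣ orderOf z := by
      rw [hoz]
      refine dvd_pow_self p fun e => hz1 ?_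
      rw [e, pow_zero, orderOf_eq_one_iff] at hoz
      exact hoz
    refine ⟨((z ^ (orderOf z / p) : H) : G), ⟨SetLike.coe_mem _, fun h hh => ?_, ?_⟩, ?_⟩
    · exact congrArg Subtype.val (Subgroup.mem_center_iff.1
        (Subgroup.pow_mem _ hzc (orderOf z / p)) ⟨h, hh⟩)
    · have := orderOf_pow_orderOf_div (orderOf_pos z).ne' hpz
      have h2 : (z ^ (orderOf z / p)) ^ p = 1 := by
        conv_lhs => arg 2; rw [← this]
        exact pow_orderOf_eq_one _
      exact congrArg Subtype.val h2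
    · intro e
      have h2 : z ^ (orderOf z / p) = 1 := Subtype.ext e
      have := orderOf_pow_orderOf_div (orderOf_pos z).ne' hpz
      rw [h2, orderOf_one] at this
      exact hp.one_lt.ne this
  letI : CommGroup V := { (inferInstance : Group V) with
    mul_comm := fun a b => Subtype.ext (hVc _ b.2 _ (hVH _ a.2)) }
  by_cases hfix : ∃ v ∈ V, v ≠ 1 ∧ y * v = v * y
  · obtain ⟨v, hvV, hv1, hvy⟩ := hfix
    have hov : orderOf v = p :=
      orderOf_eq_prime (hVp v hvV) hv1
    refine ⟨v * y, ?_⟩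
    rw [(show Commute v y from hvy.symm).orderOf_mul_eq_mul_orderOf_of_coprime (by
      rw [hov, hy]; exact (Nat.coprime_primes hp hq).2 hpq), hov, hy]
  · exfalso
    push_neg at hfix
    -- the action of `G ⧸ H` on `V`
    let α₀ : G →* MulAut V := MulAut.conjNormal
    have hker : H ≤ α₀.ker := by
      intro h hh
      rw [MonoidHom.mem_ker]
      ext v
      show h * (v : G) * h⁻¹ = v
      rw [hVc _ v.2 h hh, mul_inv_cancel_right]
    let αb : G ⧸ H →* MulAut V := QuotientGroup.lift H α₀ hker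
    have hyb : QuotientGroup.mk' H y ∉ Hb := by
      intro h
      obtain ⟨k, hk, hk'⟩ := Subgroup.mem_map.1 h
      apply hyK
      have h1 : k⁻¹ * y ∈ H := QuotientGroup.eq.1 hk'
      simpa using K.mul_mem hk (hle h1)
    let σ : MulAut Hb := MulAut.conjNormal (QuotientGroup.mk' H y)
    have hyq : y ^ q = 1 := by rw [← hy, pow_orderOf_eq_one]
    have hσ : σ ^ q = 1 := by
      show (MulAut.conjNormal (H := Hb) (QuotientGroup.mk' H y)) ^ q = 1
      rw [← map_pow, ← map_pow, hyq, map_one, map_one]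
    have hψ : (α₀ y) ^ q = 1 := by rw [← map_pow, hyq, map_one]
    obtain ⟨v, hvV, hv1⟩ := hVne
    have hσfix : ∀ x, σ x = x → x = 1 := by
      intro x hx
      refine Subtype.ext (hGfrob _ hyb _ x.2 ?_)
      have := congrArg Subtype.val hx
      rw [MulAut.conjNormal_apply] at this
      exact mul_inv_eq_iff_eq_mul.1 this
    have hψfix : ∀ w : V, α₀ y w = w → w = 1 := by
      intro w hw
      by_contra hw1
      have := congrArg Subtype.val hw
      rw [MulAut.conjNormal_apply] at this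
      exact hfix w w.2 (fun e => hw1 (Subtype.ext e)) (mul_inv_eq_iff_eq_mul.1 this)
    have hcent : ∀ w : V, (∀ x, (αb.comp Hb.subtype) x w = w) → w = 1 := by
      intro w hw
      obtain ⟨x, hxK, hxH⟩ := SetLike.exists_of_lt (lt_of_le_of_ne hle hHK)
      have h1 := hw ⟨QuotientGroup.mk' H x, Subgroup.mem_map_of_mem _ hxK⟩
      have h2 : x * (w : G) * x⁻¹ = w := congrArg Subtype.val h1
      exact Subtype.ext (hKfrob x hxK hxH w (hVH _ w.2) (mul_inv_eq_iff_eq_mul.1 h2))
    have hav := CfsgLib.FGS.fixed_average hq (αb.comp Hb.subtype) (α₀ y) σ (by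
      intro x w
      have key : αb (QuotientGroup.mk' H y) = α₀ y := rfl
      show α₀ y (αb (x : G ⧸ H) w) = αb ((σ x : Hb) : G ⧸ H) (α₀ y w)
      rw [MulAut.conjNormal_apply, ← key, ← MulAut.mul_apply, ← MulAut.mul_apply, ← map_mul,
        ← map_mul, inv_mul_cancel_right]) hψ hσ hψfix hσfix hcent ⟨v, hvV⟩
    have h1 : v ^ Nat.card Hb = 1 := congrArg Subtype.val hav
    have h2 : v ^ p = 1 := hVp v hvV
    have hcop' : p.Coprime (Nat.card Hb) := hcop.coprime_dvd_left hpd
    have := Nat.dvd_gcd (orderOf_dvd_of_pow_eq_one h2) (orderOf_dvd_of_pow_eq_one h1)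
    rw [hcop', Nat.dvd_one, orderOf_eq_one_iff] at this
    exact hv1 this

end CfsgLib.FGS.TwoFrob
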