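import Mathlib
import Cfsg.Prelude.Def_Local
import Cfsg.Prelude.Def_Transfer
import Cfsg.Agent.Lib.Transfer.Basic
import Cfsg.Agent.Lib.Transfer.Tate
import Cfsg.Agent.Lib.Transfer.Abelian
import Cfsg.Agent.Lib.Cores.Basic
import Cfsg.Agent.Lib.Cores.Components
import Cfsg.Agent.Lib.Cores.Layer
import Cfsg.Agent.Lib.Cores.PConstrained
import Cfsg.Agent.Lib.Cores.Coprime
import Cfsg.Agent.Lib.Solvable.MinimalNormal

/-!
# Groups with a nonabelian two-generated Sylow subgroup
-/

set_option autoImplicit false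

namespace CfsgLib.FGS.TwoGenSylow

open Cfsg
open scoped commutatorElement Pointwise

variable {G : Type*} [Group G] [Finite G] {p : ℕ} [hp : Fact p.Prime]

/-- In a nonabelian two-generated `p`-group a normal subgroup outside the Frattini subgroup has
cyclic quotient and contains the commutator subgroup. -/
theorem cyclic_quotient {Q : Type*} [Group Q] [Finite Q] (hna : ¬ IsMulCommutative Q)
    (hQ : (frattini Q).index = p ^ 2) (A : Subgroup Q) [A.Normal] (hA : ¬ A ≤ frattini Q) :
    ∃ y : Q, A ⊔ Subgroup.zpowers y = ⊤ ∧ commutator Q ≤ A := by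
  obtain ⟨a, haA, ha⟩ := SetLike.not_le_iff_exists.1 hA
  set M := frattini Q ⊔ Subgroup.zpowers a with hM
  have hMne : M ≠ ⊤ := by
    intro h
    rw [hM, sup_comm] at h
    have h1 := frattini_nongenerating h
    refine hna ⟨⟨fun x y => ?_⟩⟩
    obtain ⟨i, rfl⟩ := Subgroup.mem_zpowers_iff.1 (h1 ▸ Subgroup.mem_top x : x ∈ Subgroup.zpowers a)
    obtain ⟨j, rfl⟩ := Subgroup.mem_zpowers_iff.1 (h1 ▸ Subgroup.mem_top y : y ∈ Subgroup.zpowers a)
    rw [← zpow_add, ← zpow_add, add_comm]
  have hMi : M.index = p := by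
    have hd : M.index ∣ p ^ 2 := hQ ▸ Subgroup.index_dvd_of_le le_sup_left
    obtain ⟨i, hi, hi'⟩ := (Nat.dvd_prime_pow hp.out).1 hd
    interval_cases i
    · exact absurd (Subgroup.index_eq_one.1 (by rw [hi', pow_zero])) hMne
    · rw [hi', pow_one]
    · exfalso
      have h1 := Subgroup.relIndex_mul_index (le_sup_left : frattini Q ≤ M)
      rw [hQ, hi'] at h1
      have h2 : (frattini Q).relIndex M = 1 := by
        exact Nat.eq_of_mul_eq_mul_right (pow_pos hp.out.pos 2) (by rw [one_mul]; exact h1)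
      exact ha (Subgroup.relIndex_eq_one.1 h2
        (Subgroup.mem_sup_right (Subgroup.mem_zpowers a)))
  obtain ⟨y, -, hy⟩ := SetLike.exists_of_lt (lt_top_iff_ne_top.2 hMne)
  have htop : A ⊔ Subgroup.zpowers y = ⊤ := by
    apply frattini_nongenerating
    have hlt : M < A ⊔ Subgroup.zpowers y ⊔ frattini Q := by
      refine lt_of_le_of_ne ?_ fun e => hy ?_
      · exact sup_le le_sup_right (Subgroup.zpowers_le.2
          (Subgroup.mem_sup_left (Subgroup.mem_sup_left haA)))
      · rw [e]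
        exact Subgroup.mem_sup_left (Subgroup.mem_sup_right (Subgroup.mem_zpowers y))
    have h1 := Subgroup.relIndex_mul_index hlt.le
    rw [hMi] at h1
    rcases (Nat.dvd_prime hp.out).1 (Dvd.intro_left _ h1) with h2 | h2
    · exact Subgroup.index_eq_one.1 h2
    · exfalso
      rw [h2] at h1
      exact hlt.not_ge (Subgroup.relIndex_eq_one.1
        (Nat.eq_of_mul_eq_mul_right hp.out.pos (by rw [one_mul]; exact h1)))
  refine ⟨y, htop, ?_⟩
  have hgen : ∀ x : Q, ∃ i : ℤ, (QuotientGroup.mk x : Q ⧸ A) = (QuotientGroup.mk y : Q ⧸ A) ^ i := by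
    intro x
    have hx : x ∈ A ⊔ Subgroup.zpowers y := by rw [htop]; exact Subgroup.mem_top x
    obtain ⟨u, hu, v, hv, rfl⟩ := Subgroup.mem_sup_of_normal_left.1 hx
    obtain ⟨i, rfl⟩ := Subgroup.mem_zpowers_iff.1 hv
    exact ⟨i, by rw [QuotientGroup.mk_mul, (QuotientGroup.eq_one_iff u).2 hu, one_mul,
      QuotientGroup.mk_zpow]⟩
  rw [_root_.commutator_def, Subgroup.commutator_le]
  intro x _ z _
  rw [← QuotientGroup.eq_one_iff (N := A)]
  obtain ⟨i, hi⟩ := hgen x
  obtain ⟨j, hj⟩ := hgen z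
  rw [← QuotientGroup.mk'_apply, map_commutatorElement, QuotientGroup.mk'_apply,
    QuotientGroup.mk'_apply, hi, hj, commutatorElement_eq_one_iff_mul_comm, ← zpow_add, ← zpow_add,
    add_comm]

/-- Two disjoint normal subgroups outside the Frattini subgroup force commutativity. -/
theorem false_of_disjoint {Q : Type*} [Group Q] [Finite Q] (hna : ¬ IsMulCommutative Q)
    (hQ : (frattini Q).index = p ^ 2) (A B : Subgroup Q) [A.Normal] [B.Normal]
    (hA : ¬ A ≤ frattini Q) (hB : ¬ B ≤ frattini Q) (hAB : A ⊓ B = ⊥) : False := by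
  obtain ⟨_, -, hcA⟩ := cyclic_quotient hna hQ A hA
  obtain ⟨_, -, hcB⟩ := cyclic_quotient hna hQ B hB
  refine hna ⟨⟨fun x y => ?_⟩⟩
  have h : ⁅x, y⁆ ∈ A ⊓ B := le_inf hcA hcB
    (Subgroup.commutator_mem_commutator (Subgroup.mem_top x) (Subgroup.mem_top y))
  rw [hAB, Subgroup.mem_bot] at h
  exact commutatorElement_eq_one_iff_mul_comm.1 h

/-- A subnormal subgroup normalised by a Sylow subgroup and meeting it inside its Frattini
subgroup is a `p`-group, if there is no normal subgroup of order prime to `p`. -/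
theorem isPGroup_of_inf_le_frattini (hcore : pPrimeCore p G = ⊥) (P : Sylow p G) {N : Subgroup G}
    (hN : N.IsSubnormal) (hPN : (P : Subgroup G) ≤ Subgroup.normalizer (N : Set G))
    (h : ∀ x : (P : Subgroup G), (x : G) ∈ N → x ∈ frattini (P : Subgroup G)) :
    IsPGroup p N := by
  classical
  set M := N ⊔ (P : Subgroup G) with hM
  let PM : Sylow p M := P.subtype le_sup_right
  haveI hNM : (N.subgroupOf M).Normal :=
    Subgroup.normal_subgroupOf_of_le_normalizer (sup_le Subgroup.le_normalizer hPN)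
  have hq : IsPGroup p (M ⧸ N.subgroupOf M) := by
    refine IsPGroup.of_surjective PM.isPGroup'
      ((QuotientGroup.mk' (N.subgroupOf M)).comp (PM : Subgroup M).subtype) ?_
    intro z
    obtain ⟨⟨m, hm⟩, rfl⟩ := QuotientGroup.mk'_surjective _ z
    have hm' : m ∈ ((N : Set G) * ((P : Subgroup G) : Set G)) := by
      rw [← Subgroup.coe_mul_of_right_le_normalizer_left N _ hPN]
      exact hm
    obtain ⟨a, ha, b, hb, rfl⟩ := hm'
    refine ⟨⟨⟨b, Subgroup.mem_sup_right hb⟩, hb⟩, ?_⟩
    refine QuotientGroup.eq.2 ?_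
    rw [Subgroup.mem_subgroupOf]
    show b⁻¹ * (a * b) ∈ N
    have h1 : b⁻¹ ∈ Subgroup.normalizer (N : Set G) := inv_mem (hPN hb)
    have h2 := (Subgroup.mem_normalizer_iff.1 h1 a).1 ha
    rw [inv_inv] at h2
    rwa [← mul_assoc]
  have hres := CfsgLib.Transfer.pResidual_le (p := p) hq
  have hT : HasNormalPComplement p M := by
    refine CfsgLib.Transfer.hasNormalPComplement_of_le_frattini PM ?_
    intro x hx
    obtain ⟨hxP, hxR⟩ := Subgroup.mem_inf.1 hx
    have hxN : ((x : M) : G) ∈ N := hres hxR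
    let e : (PM : Subgroup M) ≃* (P : Subgroup G) := Subgroup.subgroupOfEquivOfLe le_sup_right
    have h1 : e ⟨x, hxP⟩ ∈ frattini (P : Subgroup G) := h _ hxN
    have h2 := frattini_le_comap_frattini_of_surjective
      (φ := e.symm.toMonoidHom) e.symm.surjective h1
    refine ⟨⟨x, hxP⟩, ?_, rfl⟩
    have h3 : e.symm (e ⟨x, hxP⟩) ∈ frattini (PM : Subgroup M) := h2
    rwa [MulEquiv.symm_apply_apply] at h3
  have hTN : HasNormalPComplement p N :=
    CfsgLib.Transfer.hasNormalPComplement_of_injective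
      (Subgroup.inclusion (le_sup_left : N ≤ M)) (Subgroup.inclusion_injective _) hT
  obtain ⟨K, hKn, hKc, k, hk⟩ := CfsgLib.Transfer.hasNormalPComplement_iff.1 hTN
  haveI := hKn
  have hKbot : K = ⊥ := by
    have h1 : (K.map N.subtype).IsSubnormal := hKn.isSubnormal.trans' hN
    have h2 := CfsgLib.Cores.le_pPrimeCore_of_isSubnormal h1
      (by rwa [Subgroup.card_map_of_injective N.subtype_injective])
    rw [hcore, le_bot_iff, Subgroup.map_eq_bot_iff_of_injective _ N.subtype_injective] at h2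
    exact h2
  rw [hKbot, Subgroup.index_bot] at hk
  exact IsPGroup.of_card hk

theorem pow_congr_zmod {H : Type*} [Group H] {x : H} (hx : x ^ p = 1) {a b : ℕ}
    (h : (a : ZMod p) = b) : x ^ a = x ^ b := by
  rw [pow_eq_pow_mod a hx, pow_eq_pow_mod b hx, (ZMod.natCast_eq_natCast_iff' a b p).1 h]

/-- An abelian normal `W` over a normal `N` of index `p`, with a `P`-fixed element outside `N`,
contains a normal subgroup disjoint from `N` (averaging over the cosets of a Sylow subgroup). -/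
theorem exists_disjoint_normal (P : Sylow p G) (N W : Subgroup G) [N.Normal] [W.Normal]
    (hidx : N.relIndex W = p) (hWc : ∀ x ∈ W, ∀ y ∈ W, x * y = y * x)
    (hWp : ∀ x ∈ W, x ^ p = 1) {w : G} (hw : w ∈ W) (hwN : w ∉ N)
    (hfix : ∀ h ∈ (P : Subgroup G), h * w * h⁻¹ = w) :
    ∃ L : Subgroup G, L.Normal ∧ L ≠ ⊥ ∧ L ⊓ N = ⊥ := by
  classical
  letI : CommGroup W := { (inferInstance : Group W) with
    mul_comm := fun x y => Subtype.ext (hWc _ x.2 _ y.2) }
  haveI : Fintype (G ⧸ (P : Subgroup G)) := Fintype.ofFinite _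
  let w0 : W := ⟨w, hw⟩
  let π := QuotientGroup.mk' (N.subgroupOf W)
  have hcard : Nat.card (W ⧸ N.subgroupOf W) = p := by
    rw [← Subgroup.index_eq_card]; exact hidx
  have hπw : π w0 ≠ 1 := fun h => hwN ((QuotientGroup.eq_one_iff w0).1 h)
  have hπp : ∀ z : W ⧸ N.subgroupOf W, z ^ p = 1 := fun z => by
    rw [← hcard]; exact pow_card_eq_one'
  have hord : orderOf (π w0) = p := orderOf_eq_prime (hπp _) hπw
  have hW1 : ∀ x : W, x ^ p = 1 := fun x => Subtype.ext (hWp _ x.2)
  let c : G →* MulAut W := MulAut.conjNormal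
  have hex : ∀ x : W, ∃ i : ℕ, π x = π w0 ^ i := fun x => by
    obtain ⟨i, hi⟩ := mem_powers_of_prime_card hcard hπw (g' := π x)
    exact ⟨i, hi.symm⟩
  choose m hm using fun g : G => hex (c g w0)
  have hNc : ∀ g (u : W), π u = 1 → π (c g u) = 1 := by
    intro g u hu
    rw [QuotientGroup.mk'_apply, QuotientGroup.eq_one_iff, Subgroup.mem_subgroupOf] at hu ⊢
    exact Subgroup.Normal.conj_mem ‹N.Normal› _ hu g
  have hπc : ∀ g (x : W) (i : ℕ), π x = π w0 ^ i → π (c g x) = π w0 ^ (m g * i) := by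
    intro g x i hx
    have h1 : π (c g (x * (w0 ^ i)⁻¹)) = 1 :=
      hNc g _ (by rw [map_mul, map_inv, map_pow, hx, mul_inv_cancel])
    rw [map_mul, map_inv, map_pow, map_mul, map_inv, map_pow, hm g, ← pow_mul,
      mul_inv_eq_one] at h1
    exact h1
  have huniq : ∀ a b : ℕ, π w0 ^ a = π w0 ^ b → (a : ZMod p) = b := by
    intro a b h
    rw [pow_inj_mod, hord] at h
    exact (ZMod.natCast_eq_natCast_iff' a b p).2 h
  have hmul : ∀ a b, (m (a * b) : ZMod p) = m a * m b := by
    intro a b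
    rw [← Nat.cast_mul]
    refine huniq _ _ ?_
    rw [← hm, ← hπc a (c b w0) (m b) (hm b), map_mul, MulAut.mul_apply]
  have hfix' : ∀ h ∈ (P : Subgroup G), c h w0 = w0 := fun h hh => Subtype.ext (hfix h hh)
  have hmP : ∀ h ∈ (P : Subgroup G), (m h : ZMod p) = 1 := by
    intro h hh
    have h1 := hm h
    rw [hfix' h hh] at h1
    have := huniq 1 (m h) (by rw [pow_one, ← h1])
    rwa [Nat.cast_one, eq_comm] at this
  have hmne : ∀ g, (m g : ZMod p) ≠ 0 := by
    intro g h0
    have h1 := hmul g g⁻¹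
    rw [h0, zero_mul, mul_inv_cancel, hmP 1 (one_mem _)] at h1
    exact one_ne_zero h1
  let r : G ⧸ (P : Subgroup G) → G := Quotient.out
  let n : G ⧸ (P : Subgroup G) → ℕ := fun q => ((m (r q) : ZMod p)⁻¹).val
  let z : W := ∏ q, (c (r q) w0) ^ n q
  have hπz : π z ≠ 1 := by
    have h1 : π z = π w0 ^ (P : Subgroup G).index := by
      simp only [z, map_prod, map_pow]
      rw [Finset.prod_congr rfl (g := fun _ => π w0), Finset.prod_const, Finset.card_univ,
        ← Nat.card_eq_fintype_card, Subgroup.index_eq_card]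
      intro q _
      rw [hm, ← pow_mul]
      have hcast : ((m (r q) * n q : ℕ) : ZMod p) = 1 := by
        rw [Nat.cast_mul, ZMod.natCast_zmod_val, mul_inv_cancel₀ (hmne _)]
      conv_rhs => rw [← pow_one (π w0)]
      exact pow_congr_zmod (hπp _) (by rw [hcast, Nat.cast_one])
    rw [h1, Ne, ← orderOf_dvd_iff_pow_eq_one, hord]
    exact P.not_dvd_index
  have hequiv : ∀ g, c g z = z ^ m g := by
    intro g
    simp only [z, map_prod, map_pow, ← Finset.prod_pow, ← pow_mul]
    refine Fintype.prod_equiv (MulAction.toPerm g) _ _ fun q => ?_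
    simp only [MulAction.toPerm_apply]
    obtain ⟨h, hh⟩ : ∃ h : (P : Subgroup G), g * r q = r (g • q) * h := by
      refine ⟨⟨(r (g • q))⁻¹ * (g * r q), ?_⟩, by simp⟩
      rw [← QuotientGroup.eq]
      rw [show ((r (g • q) : G) : G ⧸ (P : Subgroup G)) = g • q from Quotient.out_eq _]
      conv_lhs => rw [← Quotient.out_eq q]
      rfl
    have h1 : c g (c (r q) w0) = c (r (g • q)) w0 := by
      rw [← MulAut.mul_apply, ← map_mul, hh, map_mul, MulAut.mul_apply, hfix' _ h.2]
    rw [h1]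
    refine pow_congr_zmod (hW1 _) ?_
    simp only [n, Nat.cast_mul, ZMod.natCast_zmod_val]
    have h2 : (m g : ZMod p) * m (r q) = m (r (g • q)) := by
      rw [← hmul, hh, hmul, hmP _ h.2, mul_one]
    have := hmne g
    have := hmne (r q)
    rw [← h2]
    field_simp
  refine ⟨Subgroup.zpowers (z : G), ⟨fun x hx g => ?_⟩, ?_, ?_⟩
  · obtain ⟨i, rfl⟩ := Subgroup.mem_zpowers_iff.1 hx
    have h1 : g * (z : G) * g⁻¹ = (z : G) ^ m g := congrArg Subtype.val (hequiv g)
    rw [← MulAut.conj_apply, map_zpow, MulAut.conj_apply, h1]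
    exact Subgroup.zpow_mem _ (Subgroup.pow_mem _ (Subgroup.mem_zpowers _) _) _
  · rw [Ne, Subgroup.zpowers_eq_bot]
    intro h
    refine hπz ?_
    rw [show z = 1 from Subtype.ext h, map_one]
  · refine (Subgroup.eq_bot_iff_forall _).2 fun x hx => ?_
    obtain ⟨hxz, hxN⟩ := Subgroup.mem_inf.1 hx
    obtain ⟨i, rfl⟩ := Subgroup.mem_zpowers_iff.1 hxz
    have hoz : orderOf (z : G) = p :=
      orderOf_eq_prime (hWp _ z.2) fun h => hπz (by rw [show z = 1 from Subtype.ext h, map_one])
    have hi : π z ^ i = 1 := by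
      rw [← map_zpow, QuotientGroup.mk'_apply, QuotientGroup.eq_one_iff, Subgroup.mem_subgroupOf]
      exact hxN
    rw [← orderOf_dvd_iff_zpow_eq_one, orderOf_eq_prime (hπp _) hπz] at hi
    rw [← orderOf_dvd_iff_zpow_eq_one, hoz]
    exact hi

end CfsgLib.FGS.TwoGenSylow
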