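import Mathlib
import Cfsg.Agent.Lib.Solvable.BurnsideBasis
import Cfsg.Agent.Lib.PGroup.Basic

/-!
# Generators of 2-groups of automorphisms of odd order abelian groups

If a 2-group `S` acts faithfully on an abelian group `V` of odd order, then
`2 * |S : Φ(S)| ≤ |V|` unless `|V| = 3`.
-/

namespace CfsgLib.FGS.TwoGroupRank

open Subgroup

universe u

theorem normal_of_central {S : Type*} [Group S] {N : Subgroup S} (h : N ≤ center S) : N.Normal :=
  ⟨fun n hn g => by rwa [mem_center_iff.1 (h hn) g, mul_inv_cancel_right]⟩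

theorem frattini_index_le {S : Type*} [Group S] [Finite S] {T : Type*} [Group T] (hS : IsPGroup 2 S)
    (f : S →* T) : (frattini S).index ≤ (frattini f.range).index * (frattini f.ker).index := by
  haveI : Fact (Nat.Prime 2) := ⟨Nat.prime_two⟩
  haveI : Finite f.range := Finite.of_surjective _ f.rangeRestrict_surjective
  set Φ := frattini S
  have h1 : Φ.relIndex (f.ker ⊔ Φ) * (f.ker ⊔ Φ).index = Φ.index :=
    relIndex_mul_index le_sup_right
  have h2 : Φ.relIndex (f.ker ⊔ Φ) ≤ (frattini f.ker).index := by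
    rw [relIndex_sup_right]
    refine Nat.le_of_dvd (Nat.pos_of_ne_zero index_ne_zero_of_finite) (index_dvd_of_le ?_)
    refine CfsgLib.Solvable.frattini_le_of_elementary (p := 2) _ ?_ fun x =>
      CfsgLib.PGroup.pow_mem_frattini hS (x : S)
    rw [_root_.commutator_def, commutator_le]
    intro a _ b _
    exact CfsgLib.PGroup.commutator_le_frattini hS
      (commutator_mem_commutator (mem_top (a : S)) (mem_top (b : S)))
  have h3 : (f.ker ⊔ Φ).index ≤ (frattini f.range).index := by
    have e : f.ker ⊔ Φ = (Φ.map f.rangeRestrict).comap f.rangeRestrict := by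
      rw [comap_map_eq, MonoidHom.ker_rangeRestrict, sup_comm]
    rw [e, index_comap_of_surjective _ f.rangeRestrict_surjective]
    refine Nat.le_of_dvd (Nat.pos_of_ne_zero index_ne_zero_of_finite) (index_dvd_of_le ?_)
    refine CfsgLib.Solvable.frattini_le_of_elementary (p := 2) _ ?_ fun x => ?_
    · rw [_root_.commutator_def, commutator_le]
      intro a _ b _
      obtain ⟨a, rfl⟩ := f.rangeRestrict_surjective a
      obtain ⟨b, rfl⟩ := f.rangeRestrict_surjective b
      exact ⟨_, CfsgLib.PGroup.commutator_le_frattini hS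
        (commutator_mem_commutator (mem_top a) (mem_top b)), map_commutatorElement _ a b⟩
    · obtain ⟨x, rfl⟩ := f.rangeRestrict_surjective x
      exact ⟨_, CfsgLib.PGroup.pow_mem_frattini hS x, map_pow _ x 2⟩
  rw [← h1, mul_comm]
  exact Nat.mul_le_mul h3 h2

/-- An abelian 2-group with at most two square roots of one needs at most one generator. -/
theorem index_le_two_of_roots {Q : Type*} [Group Q] [Finite Q] (hQ : IsPGroup 2 Q)
    (hc : ∀ a b : Q, a * b = b * a) (t : Q) (h : ∀ x : Q, x ^ 2 = 1 → x = 1 ∨ x = t) :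
    (frattini Q).index ≤ 2 := by
  haveI : Fact (Nat.Prime 2) := ⟨Nat.prime_two⟩
  let sq : Q →* Q :=
    { toFun := fun x => x ^ 2
      map_one' := one_pow 2
      map_mul' := fun a b => (show Commute a b from hc a b).mul_pow 2 }
  have h1 : sq.range ≤ frattini Q := by
    rintro _ ⟨x, rfl⟩
    exact CfsgLib.PGroup.pow_mem_frattini hQ x
  refine (Nat.le_of_dvd (Nat.pos_of_ne_zero index_ne_zero_of_finite) (index_dvd_of_le h1)).trans ?_
  have h2 := sq.ker.card_mul_index
  rw [index_ker, ← sq.range.card_mul_index, mul_comm] at h2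
  rw [← Nat.eq_of_mul_eq_mul_left Nat.card_pos h2]
  show Nat.card ((sq.ker : Set Q) : Type _) ≤ 2
  rw [Nat.card_coe_set_eq]
  calc (sq.ker : Set Q).ncard ≤ ({1, t} : Set Q).ncard :=
        Set.ncard_le_ncard (fun x hx => h x hx) (Set.toFinite _)
    _ ≤ 2 := (Set.ncard_insert_le _ _).trans (by rw [Set.ncard_singleton])

theorem odd_pgroup_eq_one {V : Type*} [Group V] [Finite V] (hV : Odd (Nat.card V)) {v : V} {k : ℕ}
    (h : v ^ 2 ^ k = 1) : v = 1 := by
  rw [← orderOf_eq_one_iff]
  exact Nat.eq_one_of_dvd_coprimes (Nat.Coprime.pow_left k (Nat.coprime_two_left.2 hV))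
    (orderOf_dvd_of_pow_eq_one h) (orderOf_dvd_natCard v)

theorem inv_eq_self_iff {V : Type*} [Group V] [Finite V] (hV : Odd (Nat.card V)) {v : V}
    (h : v⁻¹ = v) : v = 1 :=
  odd_pgroup_eq_one hV (k := 1) (by rw [pow_one, sq]; nth_rewrite 1 [← h]; exact inv_mul_cancel v)

/-- The action on an invariant subgroup. -/
def restrictAct {S V : Type*} [Group S] [CommGroup V] (φ : S →* MulAut V) (W : Subgroup V)
    (hW : ∀ s, ∀ w ∈ W, φ s w ∈ W) : S →* MulAut W where
  toFun s :=
    { toFun := fun w => ⟨φ s w, hW s w w.2⟩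
      invFun := fun w => ⟨φ s⁻¹ w, hW s⁻¹ w w.2⟩
      left_inv := fun w => Subtype.ext (by simp)
      right_inv := fun w => Subtype.ext (by simp)
      map_mul' := fun a b => Subtype.ext (map_mul (φ s) _ _) }
  map_one' := MulEquiv.ext fun w => Subtype.ext (by simp)
  map_mul' s t := MulEquiv.ext fun w => Subtype.ext (by simp)

theorem restrictAct_apply {S V : Type*} [Group S] [CommGroup V] (φ : S →* MulAut V) (W : Subgroup V)
    (hW : ∀ s, ∀ w ∈ W, φ s w ∈ W) (s : S) (w : W) :
    ((restrictAct φ W hW s w : W) : V) = φ s w := rfl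

theorem restrictAct_ker {S V : Type*} [Group S] [CommGroup V] (φ : S →* MulAut V) (W : Subgroup V)
    (hW : ∀ s, ∀ w ∈ W, φ s w ∈ W) {s : S} (hs : s ∈ (restrictAct φ W hW).ker) :
    ∀ w ∈ W, φ s w = w := fun w hw =>
  congrArg (fun f : MulAut W => (f ⟨w, hw⟩ : V)) (MonoidHom.mem_ker.1 hs)

/-- The action on the quotient by an invariant subgroup. -/
def quotAct {S V : Type*} [Group S] [CommGroup V] (φ : S →* MulAut V) (W : Subgroup V)
    (hW : ∀ s, ∀ w ∈ W, φ s w ∈ W) : S →* MulAut (V ⧸ W) where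
  toFun s :=
    { toFun := QuotientGroup.map W W (φ s).toMonoidHom fun w hw => hW s w hw
      invFun := QuotientGroup.map W W (φ s⁻¹).toMonoidHom fun w hw => hW s⁻¹ w hw
      left_inv := fun q => QuotientGroup.induction_on q fun v => by simp
      right_inv := fun q => QuotientGroup.induction_on q fun v => by simp
      map_mul' := map_mul _ }
  map_one' := MulEquiv.ext fun q => QuotientGroup.induction_on q fun v => by simp
  map_mul' s t := MulEquiv.ext fun q => QuotientGroup.induction_on q fun v => by simp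

/-- Units of `ZMod (2^k)` squaring to one. -/
theorem sq_roots {k : ℕ} (hk : 1 ≤ k) (u : ZMod (2 ^ k)) (hu : u * u = 1) :
    u = 1 ∨ u = -1 ∨ u = 1 + 2 ^ (k - 1) ∨ u = -1 + 2 ^ (k - 1) := by
  obtain ⟨x, rfl⟩ := ZMod.intCast_surjective u
  have hd : ((2 ^ k : ℕ) : ℤ) ∣ (x - 1) * (x + 1) := by
    rw [← ZMod.intCast_zmod_eq_zero_iff_dvd]
    push_cast
    linear_combination hu
  push_cast at hd
  have hdec : ∀ y : ℤ, (2 : ℤ) ^ (k - 1) ∣ y → (2 : ℤ) ^ k ∣ y ∨ (2 : ℤ) ^ k ∣ y - 2 ^ (k - 1) := by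
    rintro y ⟨m, rfl⟩
    rcases Int.even_or_odd' m with ⟨l, rfl | rfl⟩
    · refine Or.inl ⟨l, ?_⟩
      conv_rhs => rw [show k = k - 1 + 1 by omega, pow_succ]
      ring
    · refine Or.inr ⟨l, ?_⟩
      conv_rhs => rw [show k = k - 1 + 1 by omega, pow_succ]
      ring
  have hkey : (2 : ℤ) ^ (k - 1) ∣ x - 1 ∨ (2 : ℤ) ^ (k - 1) ∣ x + 1 := by
    have h2 : (2 : ℤ) ∣ x - 1 := by
      have h3 : (2 : ℤ) ∣ (x - 1) * (x + 1) := (dvd_pow_self 2 (by omega)).trans hd
      rcases (Int.prime_two).dvd_or_dvd h3 with h | h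
      · exact h
      · obtain ⟨c, hc⟩ := h; exact ⟨c - 1, by omega⟩
    obtain ⟨m, hm⟩ := h2
    have e : (x - 1) * (x + 1) = 2 * (2 * (m * (m + 1))) := by rw [show x + 1 = 2 * m + 2 by omega, hm]; ring
    rw [e] at hd
    rcases Nat.lt_or_ge k 2 with hk2 | hk2
    · exact Or.inl (by rw [show k - 1 = 0 by omega, pow_zero]; exact one_dvd _)
    rw [show k = k - 2 + 1 + 1 by omega, pow_succ', pow_succ'] at hd
    have hd' : (2 : ℤ) ^ (k - 2) ∣ m * (m + 1) :=
      (mul_dvd_mul_iff_left two_ne_zero).1 ((mul_dvd_mul_iff_left two_ne_zero).1 hd)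
    rcases Int.even_or_odd m with hme | hmo
    · left
      have : IsCoprime ((2 : ℤ) ^ (k - 2)) (m + 1) := by
        refine IsCoprime.pow_left ((Int.prime_two).coprime_iff_not_dvd.2 fun h => ?_)
        obtain ⟨a, ha⟩ := hme
        obtain ⟨b, hb⟩ := h
        omega
      obtain ⟨c, hc⟩ := this.dvd_of_dvd_mul_right hd'
      refine ⟨c, ?_⟩
      rw [hm, hc, show k - 1 = k - 2 + 1 by omega, pow_succ]; ring
    · right
      have : IsCoprime ((2 : ℤ) ^ (k - 2)) m := by
        refine IsCoprime.pow_left ((Int.prime_two).coprime_iff_not_dvd.2 fun h => ?_)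
        obtain ⟨a, ha⟩ := hmo
        obtain ⟨b, hb⟩ := h
        omega
      obtain ⟨c, hc⟩ := this.dvd_of_dvd_mul_left hd'
      refine ⟨c, ?_⟩
      rw [show x + 1 = 2 * (m + 1) by omega, hc, show k - 1 = k - 2 + 1 by omega, pow_succ]; ring
  have cast0 : ∀ y : ℤ, (2 : ℤ) ^ k ∣ y → (y : ZMod (2 ^ k)) = 0 := fun y hy => by
    rw [ZMod.intCast_zmod_eq_zero_iff_dvd]
    exact_mod_cast hy
  rcases hkey with h | h <;> rcases hdec _ h with h' | h' <;> have h0 := cast0 _ h' <;> push_cast at h0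
  · exact Or.inl (by linear_combination h0)
  · exact Or.inr (Or.inr (Or.inl (by linear_combination h0)))
  · exact Or.inr (Or.inl (by linear_combination h0))
  · exact Or.inr (Or.inr (Or.inr (by linear_combination h0)))

theorem index_le_two_of_prime {S V : Type*} [Group S] [Finite S] [CommGroup V] [Finite V]
    (hS : IsPGroup 2 S) {q : ℕ} [Fact q.Prime] (hV : Nat.card V = q) (φ : S →* MulAut V)
    (hinj : Function.Injective φ) : (frattini S).index ≤ 2 := by
  classical
  obtain ⟨g, hg⟩ := (isCyclic_of_prime_card hV).exists_generator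
  have hext : ∀ s t : S, φ s g = φ t g → s = t := fun s t h => hinj (MulEquiv.ext fun v => by
    obtain ⟨i, rfl⟩ := mem_zpowers_iff.1 (hg v)
    rw [map_zpow, map_zpow, h])
  have hog : orderOf g = q := by
    rw [← hV, ← Nat.card_zpowers]
    rw [show zpowers g = ⊤ from eq_top_iff.2 fun v _ => hg v, card_top]
  refine index_le_two_of_roots hS (fun a b => hext _ _ ?_)
    (if h : ∃ t, φ t g = g⁻¹ then Classical.choose h else 1) fun x hx => ?_
  · obtain ⟨i, hi⟩ := mem_zpowers_iff.1 (hg (φ a g))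
    obtain ⟨j, hj⟩ := mem_zpowers_iff.1 (hg (φ b g))
    rw [map_mul, map_mul, MulAut.mul_apply, MulAut.mul_apply, ← hj, map_zpow, ← hi, map_zpow, ← hj,
      ← zpow_mul, ← zpow_mul, mul_comm]
  · obtain ⟨i, hi⟩ := mem_zpowers_iff.1 (hg (φ x g))
    have h2 : g ^ (i * i) = g ^ (1 : ℤ) := by
      rw [zpow_one, zpow_mul, hi, ← map_zpow, hi, ← MulAut.mul_apply, ← map_mul, ← sq, hx, map_one,
        MulAut.one_apply]
    rw [zpow_eq_zpow_iff_modEq, hog] at h2
    have h3 : (q : ℤ) ∣ (i - 1) * (i + 1) := by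
      have := h2.symm.dvd
      have e : (i - 1) * (i + 1) = i * i - 1 := by ring
      rw [e]; exact this
    rcases (Nat.prime_iff_prime_int.1 (Fact.out : q.Prime)).dvd_or_dvd h3 with h | h
    · left
      refine hext _ _ ?_
      rw [map_one, MulAut.one_apply, ← hi, ← zpow_one g, ← zpow_mul, one_mul,
        zpow_eq_zpow_iff_modEq, hog]
      exact (Int.modEq_iff_dvd.2 h).symm
    · right
      have h4 : φ x g = g⁻¹ := by
        rw [← hi, ← zpow_neg_one g, zpow_eq_zpow_iff_modEq, hog]
        refine (Int.modEq_iff_dvd.2 ?_).symm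
        simpa using h
      rw [dif_pos ⟨x, h4⟩]
      exact hext _ _ (h4.trans (Classical.choose_spec (p := fun t => φ t g = g⁻¹) ⟨x, h4⟩).symm)

theorem bound_aux : ∀ (n : ℕ) {V : Type u} [CommGroup V] [Finite V] {S : Type u} [Group S] [Finite S],
    Nat.card V = n → 1 < Nat.card V → Odd (Nat.card V) → IsPGroup 2 S →
    ∀ φ : S →* MulAut V, Function.Injective φ →
    (frattini S).index * 2 ≤ Nat.card V ∨ (Nat.card V = 3 ∧ (frattini S).index ≤ 2) := by
  intro n
  induction n using Nat.strong_induction_on with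
  | _ n ih =>
  intro V _ _ S _ _ hn hV1 hVodd hS φ hφ
  haveI : Fact (Nat.Prime 2) := ⟨Nat.prime_two⟩
  by_cases hprime : (Nat.card V).Prime
  · haveI : Fact (Nat.card V).Prime := ⟨hprime⟩
    have h2 := index_le_two_of_prime hS rfl φ hφ
    by_cases h3 : Nat.card V = 3
    · exact Or.inr ⟨h3, h2⟩
    · left
      obtain ⟨a, ha⟩ := hVodd
      omega
  have hV9 : 9 ≤ Nat.card V := by
    by_contra h
    obtain ⟨a, ha⟩ := hVodd
    interval_cases hc : Nat.card V <;> first | omega | exact hprime (by norm_num)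
  left
  -- invariant subgroups
  by_cases hred : ∃ W : Subgroup V, (∀ s, ∀ w ∈ W, φ s w ∈ W) ∧ W ≠ ⊥ ∧ W ≠ ⊤
  · obtain ⟨W, hW, hW1, hW2⟩ := hred
    have hcard := W.card_mul_index
    have hi2 : 1 < W.index := by
      have h0 : W.index ≠ 1 := fun h => hW2 (index_eq_one.1 h)
      have h1 : W.index ≠ 0 := index_ne_zero_of_finite
      omega
    have hw2 : 1 < Nat.card W := by
      have h0 : Nat.card W ≠ 1 := fun h => hW1 (eq_bot_of_card_eq W h)
      have h1 : 0 < Nat.card W := Nat.card_pos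
      omega
    have hQ : Nat.card (V ⧸ W) = W.index := rfl
    have hoW : Odd (Nat.card W) := hVodd.of_dvd_nat (card_subgroup_dvd_card W)
    have hoQ : Odd (Nat.card (V ⧸ W)) := hVodd.of_dvd_nat ⟨Nat.card W, by rw [hQ, mul_comm, hcard]⟩
    set f := restrictAct φ W hW
    have h1 := ih (Nat.card W) (by rw [← hn, ← hcard]; exact lt_mul_of_one_lt_right Nat.card_pos hi2)
      (S := f.range) rfl hw2 hoW
      (hS.of_surjective f.rangeRestrict f.rangeRestrict_surjective) f.range.subtype
      f.range.subtype_injective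
    have h2 := ih (Nat.card (V ⧸ W))
      (by rw [← hn, ← hcard, hQ]; exact lt_mul_of_one_lt_left (by omega) hw2)
      (S := f.ker) rfl (by rw [hQ]; exact hi2) hoQ (hS.to_subgroup _)
      ((quotAct φ W hW).comp f.ker.subtype) (by
        rw [injective_iff_map_eq_one]
        rintro ⟨s, hs⟩ hq
        refine Subtype.ext (hφ ?_)
        rw [OneMemClass.coe_one, map_one]
        refine MulEquiv.ext fun v => ?_
        rw [MulAut.one_apply]
        have hvW : v⁻¹ * φ s v ∈ W := QuotientGroup.eq.1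
          (congrArg (fun f : MulAut (V ⧸ W) => f (QuotientGroup.mk v)) hq).symm
        set w := v⁻¹ * φ s v with hw
        have hit : ∀ j : ℕ, φ (s ^ j) v = v * w ^ j := by
          intro j
          induction j with
          | zero => simp
          | succ j ihj =>
            rw [pow_succ, map_mul, MulAut.mul_apply, show φ s v = v * w by rw [hw, mul_inv_cancel_left],
              map_mul, ihj, restrictAct_ker φ W hW (pow_mem hs j) w hvW, pow_succ]
            exact mul_assoc _ _ _
        obtain ⟨k, hk⟩ := hS s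
        have h1 := hit (2 ^ k)
        rw [hk, map_one, MulAut.one_apply] at h1
        have hw1 : w = 1 := odd_pgroup_eq_one hVodd (left_eq_mul.1 h1)
        rw [hw] at hw1
        exact (inv_mul_eq_one.1 hw1).symm)
    have h3 := frattini_index_le hS f
    rw [hQ] at h2
    rw [← hcard]
    rcases h1 with h1 | ⟨h1, h1'⟩ <;> rcases h2 with h2 | ⟨h2, h2'⟩
    · nlinarith
    · rw [h2] at hcard ⊢; nlinarith
    · rw [h1] at hcard ⊢; nlinarith
    · rw [h1, h2]; nlinarith
  push Not at hred
  -- irreducible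
  by_cases hS1 : Nat.card S = 1
  · have : (frattini S).index ≤ 1 := Nat.le_of_dvd one_pos (hS1 ▸ index_dvd_card _)
    omega
  haveI : Nontrivial S := Finite.one_lt_card_iff_nontrivial.1 (by
    have : 0 < Nat.card S := Nat.card_pos
    omega)
  -- central involutions invert
  have hinvz : ∀ z : S, z ^ 2 = 1 → z ≠ 1 → z ∈ center S → ∀ v, φ z v = v⁻¹ := by
    intro z hz2 hz1 hzc v
    let W : Subgroup V := MonoidHom.eqLocus (φ z).toMonoidHom (MonoidHom.id V)
    have hW : ∀ s, ∀ w ∈ W, φ s w ∈ W := fun s w hw => by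
      show φ z (φ s w) = φ s w
      rw [← MulAut.mul_apply, ← map_mul, ← mem_center_iff.1 hzc s, map_mul, MulAut.mul_apply]
      exact congrArg _ hw
    have hWb : W = ⊥ := by
      by_contra h
      have ht := hred W hW h
      refine hz1 (hφ ?_)
      rw [map_one]
      exact MulEquiv.ext fun u => (ht ▸ mem_top u : u ∈ W)
    have hmem : v * φ z v ∈ W := by
      show φ z (v * φ z v) = v * φ z v
      rw [map_mul, ← MulAut.mul_apply, ← map_mul, ← sq, hz2, map_one, MulAut.one_apply, mul_comm]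
    rw [hWb, mem_bot] at hmem
    exact (inv_eq_of_mul_eq_one_right hmem).symm
  obtain ⟨z₀, hz₀⟩ := exists_prime_orderOf_dvd_card' (G := center S) 2 (by
    have : Nontrivial (center S) := hS.center_nontrivial
    obtain ⟨k, hk0, hk⟩ := (hS.to_subgroup (center S)).nontrivial_iff_card.1 this
    exact hk ▸ dvd_pow_self 2 hk0.ne')
  set z : S := (z₀ : S) with hzdef
  have hzc : z ∈ center S := z₀.2
  have hz2 : z ^ 2 = 1 := by
    rw [hzdef, ← SubmonoidClass.coe_pow, ← hz₀, pow_orderOf_eq_one, OneMemClass.coe_one]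
  have hz1 : z ≠ 1 := fun h => by
    rw [hzdef, OneMemClass.coe_eq_one] at h
    rw [h, orderOf_one] at hz₀
    omega
  have hzinv := hinvz z hz2 hz1 hzc
  have hzu : ∀ y : S, y ^ 2 = 1 → y ≠ 1 → y ∈ center S → y = z := fun y h1 h2 h3 =>
    hφ (MulEquiv.ext fun v => by rw [hinvz y h1 h2 h3, hzinv])
  by_cases hE : ∃ e : S, e ^ 2 = 1 ∧ e ≠ 1 ∧ e ≠ z ∧ ∀ g, g * e * g⁻¹ = e ∨ g * e * g⁻¹ = e * z
  · obtain ⟨e, he2, he1, hez, hconj⟩ := hE
    set M := centralizer ({e} : Set S) with hM
    have hMn : ∀ g : S, g ∈ M ↔ g * e * g⁻¹ = e := fun g => by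
      rw [hM, mem_centralizer_singleton_iff, mul_inv_eq_iff_eq_mul]
    let P1 : Subgroup V := MonoidHom.eqLocus (φ e).toMonoidHom (MonoidHom.id V)
    let P2 : Subgroup V := MonoidHom.eqLocus (φ e).toMonoidHom (MulEquiv.inv V).toMonoidHom
    have hP1 : ∀ v, v ∈ P1 ↔ φ e v = v := fun v => Iff.rfl
    have hP2 : ∀ v, v ∈ P2 ↔ φ e v = v⁻¹ := fun v => Iff.rfl
    have hee : ∀ v, φ e (φ e v) = v := fun v => by
      rw [← MulAut.mul_apply, ← map_mul, ← sq, he2, map_one, MulAut.one_apply]
    have hP1ne : P1 ≠ ⊥ := by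
      intro h
      refine hez (hφ (MulEquiv.ext fun v => ?_))
      have hmem : v * φ e v ∈ P1 := by rw [hP1, map_mul, hee, mul_comm]
      rw [h, mem_bot] at hmem
      rw [hzinv]
      exact (inv_eq_of_mul_eq_one_right hmem).symm
    have hP1top : P1 ≠ ⊤ := fun h => he1 (hφ (MulEquiv.ext fun v => by
      rw [map_one, MulAut.one_apply]; exact (hP1 v).1 (h ▸ mem_top v)))
    have hsw : ∀ g : S, g * e * g⁻¹ = e * z → ∀ v, φ e v = v → φ e (φ g v) = (φ g v)⁻¹ := by
      intro g hg v hv
      have h0 : e = g * e * g⁻¹ * z := by rw [hg, mul_assoc, ← sq, hz2, mul_one]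
      have h1 : e * g = g * (e * z) := by
        calc e * g = g * e * g⁻¹ * z * g := by rw [← h0]
          _ = g * e * g⁻¹ * (z * g) := by group
          _ = g * e * g⁻¹ * (g * z) := by rw [mem_center_iff.1 hzc g]
          _ = g * (e * z) := by group
      rw [← MulAut.mul_apply, ← map_mul, h1, map_mul, map_mul, MulAut.mul_apply, MulAut.mul_apply,
        hzinv, map_inv, hv, map_inv]
    have hsw2 : ∀ g : S, g * e * g⁻¹ = e * z → ∀ v, φ e v = v⁻¹ → φ e (φ g v) = φ g v := by
      intro g hg v hv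
      have h0 : e = g * e * g⁻¹ * z := by rw [hg, mul_assoc, ← sq, hz2, mul_one]
      have h1 : e * g = g * (e * z) := by
        calc e * g = g * e * g⁻¹ * z * g := by rw [← h0]
          _ = g * e * g⁻¹ * (z * g) := by group
          _ = g * e * g⁻¹ * (g * z) := by rw [mem_center_iff.1 hzc g]
          _ = g * (e * z) := by group
      rw [← MulAut.mul_apply, ← map_mul, h1, map_mul, map_mul, MulAut.mul_apply, MulAut.mul_apply,
        hzinv, map_inv, hv, inv_inv]
    have hMinv : ∀ s ∈ M, ∀ v, φ e (φ s v) = φ s (φ e v) := fun s hs v => by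
      rw [← MulAut.mul_apply, ← map_mul, ← mem_centralizer_singleton_iff.1 hs, map_mul,
        MulAut.mul_apply]
    obtain ⟨g₀, hg₀⟩ : ∃ g, g ∉ M := by
      by_contra h
      push Not at h
      exact hP1top (hred P1 (fun s w hw => by rw [hP1, hMinv s (h s), (hP1 w).1 hw]) hP1ne)
    have hg₀z : g₀ * e * g₀⁻¹ = e * z := (hconj g₀).resolve_left fun h => hg₀ ((hMn g₀).2 h)
    have hg₀z' : g₀⁻¹ * e * g₀⁻¹⁻¹ = e * z :=
      (hconj g₀⁻¹).resolve_left fun h => hg₀ ((inv_mem_iff).1 ((hMn _).2 h))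
    have hMidx : M.index ≤ 2 := by
      rw [Subgroup.index_eq_card]
      refine (Nat.card_le_card_of_surjective
        (fun b : Bool => (QuotientGroup.mk (cond b g₀ 1) : S ⧸ M)) ?_).trans (by simp)
      intro x
      obtain ⟨g, rfl⟩ := QuotientGroup.mk_surjective x
      rcases hconj g with hg | hg
      · exact ⟨false, QuotientGroup.eq.2 (by simpa using (hMn g).2 hg)⟩
      · refine ⟨true, QuotientGroup.eq.2 ?_⟩
        show g₀⁻¹ * g ∈ M
        rw [hMn]
        calc g₀⁻¹ * g * e * (g₀⁻¹ * g)⁻¹ = g₀⁻¹ * (g * e * g⁻¹) * g₀ := by group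
          _ = g₀⁻¹ * (g₀ * e * g₀⁻¹) * g₀ := by rw [hg, hg₀z]
          _ = e := by group
    have hcard12 : Nat.card P1 = Nat.card P2 := Nat.card_congr
      { toFun := fun v => ⟨φ g₀ v, (hP2 _).2 (hsw g₀ hg₀z v v.2)⟩
        invFun := fun v => ⟨φ g₀⁻¹ v, (hP1 _).2 (hsw2 g₀⁻¹ hg₀z' v v.2)⟩
        left_inv := fun v => Subtype.ext (by simp)
        right_inv := fun v => Subtype.ext (by simp) }
    have hprod : Nat.card V = Nat.card P1 * Nat.card P2 := by
      have hsq : Function.Bijective (fun v : V => v * v) := by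
        refine Finite.injective_iff_bijective.1 fun a b hab => ?_
        have h2 : (a * b⁻¹) ^ 2 ^ 1 = 1 := by
          rw [pow_one, sq, mul_mul_mul_comm, show a * a = b * b from hab, ← mul_inv, mul_inv_cancel]
        exact mul_inv_eq_one.1 (odd_pgroup_eq_one hVodd h2)
      rw [← Nat.card_prod]
      refine (Nat.card_eq_of_bijective (fun p : P1 × P2 => (p.1 : V) * p.2) ⟨?_, ?_⟩).symm
      · rintro ⟨⟨a, ha⟩, ⟨b, hb⟩⟩ ⟨⟨a', ha'⟩, ⟨b', hb'⟩⟩ (h : a * b = a' * b')
        have h2 : φ e (a * b) = φ e (a' * b') := by rw [h]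
        rw [map_mul, map_mul, (hP1 a).1 ha, (hP2 b).1 hb, (hP1 a').1 ha', (hP2 b').1 hb'] at h2
        have h3 : a * a = a' * a' := by
          calc a * a = a * b * (a * b⁻¹) := by rw [mul_mul_mul_comm, mul_inv_cancel, mul_one]
            _ = a' * b' * (a' * b'⁻¹) := by rw [h, h2]
            _ = a' * a' := by rw [mul_mul_mul_comm, mul_inv_cancel, mul_one]
        obtain rfl : a = a' := hsq.1 h3
        obtain rfl : b = b' := mul_left_cancel h
        rfl
      · intro v
        obtain ⟨u, rfl⟩ := hsq.2 v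
        refine ⟨(⟨u * φ e u, (hP1 _).2 (by rw [map_mul, hee, mul_comm])⟩,
          ⟨u * (φ e u)⁻¹, (hP2 _).2 (by rw [map_mul, map_inv, hee, mul_inv, inv_inv, mul_comm])⟩), ?_⟩
        show u * φ e u * (u * (φ e u)⁻¹) = u * u
        rw [mul_mul_mul_comm, mul_inv_cancel, mul_one]
    set a := Nat.card P1 with ha
    rw [← hcard12] at hprod
    have ha1 : 1 < a := by
      have h0 : a ≠ 1 := fun h => hP1ne (eq_bot_of_card_eq _ h)
      have : 0 < a := Nat.card_pos
      omega
    let ψ : M →* MulAut V := φ.comp M.subtype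
    have hW1 : ∀ s : M, ∀ w ∈ P1, ψ s w ∈ P1 := fun s w hw => by
      rw [hP1]
      show φ e (φ s w) = φ s w
      rw [hMinv s s.2, (hP1 w).1 hw]
    have hW2 : ∀ s : M, ∀ w ∈ P2, ψ s w ∈ P2 := fun s w hw => by
      rw [hP2]
      show φ e (φ s w) = (φ s w)⁻¹
      rw [hMinv s s.2, (hP2 w).1 hw, map_inv]
    set f := restrictAct ψ P1 hW1
    have hker : Function.Injective ((restrictAct ψ P2 hW2).comp f.ker.subtype) := by
      rw [injective_iff_map_eq_one]
      rintro ⟨s, hs⟩ h2
      refine Subtype.ext (Subtype.ext (hφ ?_))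
      simp only [OneMemClass.coe_one, map_one]
      refine MulEquiv.ext fun v => ?_
      rw [MulAut.one_apply]
      obtain ⟨u, rfl⟩ : ∃ u, u * u = v := by
        have hinj : Function.Injective (fun v : V => v * v) := fun a b hab => by
          have h2 : (a * b⁻¹) ^ 2 ^ 1 = 1 := by
            rw [pow_one, sq, mul_mul_mul_comm, show a * a = b * b from hab, ← mul_inv, mul_inv_cancel]
          exact mul_inv_eq_one.1 (odd_pgroup_eq_one hVodd h2)
        exact (Finite.injective_iff_surjective.1 hinj) v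
      have e1 : φ s (u * φ e u) = u * φ e u :=
        restrictAct_ker ψ P1 hW1 hs _ ((hP1 _).2 (by rw [map_mul, hee, mul_comm]))
      have e2 : φ s (u * (φ e u)⁻¹) = u * (φ e u)⁻¹ :=
        restrictAct_ker ψ P2 hW2 h2 _
          ((hP2 _).2 (by rw [map_mul, map_inv, hee, mul_inv, inv_inv, mul_comm]))
      have : u * u = (u * φ e u) * (u * (φ e u)⁻¹) := by
        rw [mul_mul_mul_comm, mul_inv_cancel, mul_one]
      rw [this, map_mul, e1, e2]
    have halt : a < n := by rw [← hn, hprod]; exact lt_mul_of_one_lt_right (by omega) ha1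
    have h1 := ih a halt (V := P1) (S := f.range) ha.symm (ha ▸ ha1)
      (hVodd.of_dvd_nat (card_subgroup_dvd_card P1))
      ((hS.to_subgroup M).of_surjective f.rangeRestrict f.rangeRestrict_surjective) f.range.subtype
      f.range.subtype_injective
    have h2 := ih a halt (V := P2) (S := f.ker) hcard12.symm (hcard12 ▸ ha1)
      (hVodd.of_dvd_nat (card_subgroup_dvd_card P2)) ((hS.to_subgroup M).to_subgroup _)
      ((restrictAct ψ P2 hW2).comp f.ker.subtype) hker
    rw [← hcard12] at h2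
    have h3 := frattini_index_le (hS.to_subgroup M) f
    -- from `M` to `S`
    have h4 : (frattini S).index ≤ 2 * (frattini M).index := by
      have hle : (frattini M).map M.subtype ≤ frattini S := by
        rw [map_le_iff_le_comap]
        refine CfsgLib.Solvable.frattini_le_of_elementary (p := 2) _ ?_ fun x => ?_
        · rw [_root_.commutator_def, commutator_le]
          intro a _ b _
          exact CfsgLib.PGroup.commutator_le_frattini hS
            (commutator_mem_commutator (mem_top (a : S)) (mem_top (b : S)))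
        · exact CfsgLib.PGroup.pow_mem_frattini hS (x : S)
      calc (frattini S).index ≤ ((frattini M).map M.subtype).index :=
            Nat.le_of_dvd (Nat.pos_of_ne_zero index_ne_zero_of_finite) (index_dvd_of_le hle)
        _ = (frattini M).index * M.index := index_map_subtype _
        _ ≤ (frattini M).index * 2 := Nat.mul_le_mul_left _ hMidx
        _ = 2 * (frattini M).index := mul_comm _ _
    rcases h1 with h1 | ⟨h1, h1'⟩ <;> rcases h2 with h2 | ⟨h2, h2'⟩
    · rw [hprod]; nlinarith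
    · have c1 : (frattini f.range).index ≤ 1 := by omega
      have c2 : (frattini M).index ≤ 1 * 2 := h3.trans (Nat.mul_le_mul c1 h2')
      rw [hprod, show a = 3 from h2]
      omega
    · have c1 : (frattini f.ker).index ≤ 1 := by omega
      have c2 : (frattini M).index ≤ 2 * 1 := h3.trans (Nat.mul_le_mul h1' c1)
      rw [hprod, show a = 3 from h1]
      omega
    · -- `a = 3`: the group is small
      rw [hprod, show a = 3 from h1]
      have hMle : ∀ (T : Type u) [Group T] [Finite T] (P : Subgroup V), Nat.card P = 3 →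
          ∀ χ : T →* MulAut P, Function.Injective χ → Nat.card T ≤ 2 := by
        intro T _ _ P hP χ hχ
        refine (Nat.card_le_card_of_injective χ hχ).trans (le_of_eq ?_)
        haveI : IsCyclic P := isCyclic_of_prime_card (hp := ⟨Nat.prime_three⟩) hP
        rw [IsCyclic.card_mulAut, hP]
        rfl
      have c1 := hMle f.range P1 h1 f.range.subtype f.range.subtype_injective
      have c2 := hMle f.ker P2 (by rw [← hcard12]; exact h1) _ hker
      have c3 := f.ker.card_mul_index
      rw [index_ker] at c3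
      have c4 : Nat.card M ≤ 4 := by rw [← c3]; exact Nat.mul_le_mul c2 c1
      have c5 := M.card_mul_index
      have c6 : Nat.card S ≤ 8 := by rw [← c5]; exact Nat.mul_le_mul c4 hMidx
      have hΦ : frattini S ≠ ⊥ := by
        intro hb
        have hcm : g₀ * e * g₀⁻¹ * e⁻¹ ∈ frattini S :=
          CfsgLib.PGroup.commutator_le_frattini hS (commutator_mem_commutator (mem_top g₀) (mem_top e))
        rw [hb, mem_bot, mul_inv_eq_one] at hcm
        exact hg₀ ((hMn g₀).2 hcm)
      have c7 := (frattini S).card_mul_index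
      have c8 : 1 < Nat.card (frattini S) := (one_lt_card_iff_ne_bot _).2 hΦ
      nlinarith
  push Not at hE
  -- primitive: a maximal abelian normal subgroup is cyclic
  suffices h4 : (frattini S).index ≤ 4 by omega
  obtain ⟨A, hAsup, hAmax⟩ := (Set.toFinite {A : Subgroup S | A.Normal ∧
    ∀ a ∈ A, ∀ b ∈ A, a * b = b * a}).exists_le_maximal (a := center S)
    ⟨inferInstance, fun a _ b hb => mem_center_iff.1 hb a⟩
  obtain ⟨hAn, hAab⟩ := hAmax.1
  haveI := hAn
  have hroots : ∀ x ∈ A, x ^ 2 = 1 → x = 1 ∨ x = z := by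
    by_contra hcon
    push Not at hcon
    obtain ⟨x, hxA, hx2, hx1, hxz⟩ := hcon
    -- the involutions of `A` and their image modulo `z`
    let E : Subgroup S :=
      { carrier := {y | y ∈ A ∧ y ^ 2 = 1}
        one_mem' := ⟨one_mem A, one_pow 2⟩
        mul_mem' := fun {a b} ha hb => ⟨mul_mem ha.1 hb.1, by
          rw [(show Commute a b from hAab a ha.1 b hb.1).mul_pow, ha.2, hb.2, one_mul]⟩
        inv_mem' := fun {a} ha => ⟨inv_mem ha.1, by rw [inv_pow, ha.2, inv_one]⟩ }
    haveI : E.Normal := ⟨fun y hy g => ⟨hAn.conj_mem y hy.1 g, by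
      rw [conj_pow, hy.2, mul_one, mul_inv_cancel]⟩⟩
    haveI hZn : (zpowers z).Normal := normal_of_central (zpowers_le.2 hzc)
    let π := QuotientGroup.mk' (zpowers z)
    haveI : (E.map π).Normal := Subgroup.Normal.map inferInstance π (QuotientGroup.mk'_surjective _)
    have hmemz : ∀ y : S, y ∈ zpowers z → y = 1 ∨ y = z := fun y hy => by
      obtain ⟨i, rfl⟩ := mem_zpowers_iff.1 hy
      have hz2' : z ^ (2 : ℤ) = 1 := by exact_mod_cast hz2
      rcases Int.even_or_odd' i with ⟨l, rfl | rfl⟩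
      · exact Or.inl (by rw [zpow_mul, hz2', one_zpow])
      · exact Or.inr (by rw [zpow_add, zpow_mul, hz2', one_zpow, one_mul, zpow_one])
    have hEne : E.map π ≠ ⊥ := by
      intro h
      have : π x ∈ E.map π := mem_map_of_mem π (show x ∈ E from ⟨hxA, hx2⟩)
      rw [h, mem_bot, QuotientGroup.mk'_apply, QuotientGroup.eq_one_iff] at this
      rcases hmemz x this with h' | h'
      · exact hx1 h'
      · exact hxz h'
    obtain ⟨q, hq, hq1⟩ := (Subgroup.bot_or_exists_ne_one _).resolve_left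
      (CfsgLib.PGroup.inf_center_ne_bot (hS.to_quotient (zpowers z)) _ hEne)
    obtain ⟨⟨e, he, rfl⟩, hqc⟩ := Subgroup.mem_inf.1 hq
    have he' : e ∉ zpowers z := fun h => hq1 ((QuotientGroup.eq_one_iff e).2 h)
    obtain ⟨g, hg1, hg2⟩ := hE e he.2 (fun h => he' (h ▸ one_mem _)) (fun h => he' (h ▸ mem_zpowers z))
    have h1 : π (g * e * g⁻¹) = π e := by
      rw [map_mul, map_mul, map_inv, mem_center_iff.1 hqc (π g), mul_inv_cancel_right]
    rcases hmemz _ (QuotientGroup.eq.1 h1.symm) with h' | h'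
    · exact hg1 (inv_mul_eq_one.1 h').symm
    · exact hg2 (by rw [← h', mul_inv_cancel_left])
  have hAcomm : ∀ a b : A, a * b = b * a := fun a b => Subtype.ext (hAab a a.2 b b.2)
  have hzA : z ∈ A := hAsup hzc
  have hA2 : (frattini A).index ≤ 2 := index_le_two_of_roots (hS.to_subgroup A) hAcomm ⟨z, hzA⟩
    fun x hx => by
      rcases hroots x x.2 (by simpa using congrArg Subtype.val hx) with h | h
      · exact Or.inl (Subtype.ext h)
      · exact Or.inr (Subtype.ext h)
  haveI : IsCyclic A := by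
    obtain ⟨k, hk⟩ := (IsPGroup.iff_card.1 (hS.to_subgroup A))
    haveI : IsCyclic (A ⧸ frattini A) := by
      have h2 : Nat.card (A ⧸ frattini A) = 1 ∨ Nat.card (A ⧸ frattini A) = 2 := by
        have h0 : 0 < Nat.card (A ⧸ frattini A) := Nat.card_pos
        have h1 : Nat.card (A ⧸ frattini A) ≤ 2 := hA2
        omega
      rcases h2 with h2 | h2
      · haveI := (Nat.card_eq_one_iff_unique.1 h2).1
        infer_instance
      · exact isCyclic_of_prime_card (hp := ⟨Nat.prime_two⟩) h2
    exact CfsgLib.PGroup.isCyclic_of_frattini_quotient inferInstance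
  obtain ⟨a₀, ha₀⟩ := IsCyclic.exists_generator (α := A)
  set a : S := (a₀ : S) with hadef
  have hgen : ∀ y, y ∈ A ↔ y ∈ zpowers a := fun y => by
    refine ⟨fun hy => ?_, fun hy => (zpowers_le.2 a₀.2) hy⟩
    obtain ⟨i, hi⟩ := mem_zpowers_iff.1 (ha₀ ⟨y, hy⟩)
    exact mem_zpowers_iff.2 ⟨i, by simpa using congrArg Subtype.val hi⟩
  obtain ⟨k, hk⟩ : ∃ k, orderOf a = 2 ^ k := by
    obtain ⟨j, hj⟩ := hS a
    obtain ⟨i, -, hi⟩ := (Nat.dvd_prime_pow Nat.prime_two).1 (orderOf_dvd_of_pow_eq_one hj)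
    exact ⟨i, hi⟩
  have hk1 : 1 ≤ k := by
    rcases Nat.eq_zero_or_pos k with h | h
    · rw [h, pow_zero, orderOf_eq_one_iff] at hk
      have := (hgen z).1 hzA
      rw [hk, zpowers_one_eq_bot, mem_bot] at this
      exact absurd this hz1
    · exact h
  -- `A` is self-centralising
  have hCA : ∀ g : S, g * a * g⁻¹ = a → g ∈ A := by
    intro g hg
    by_contra hgA
    set C := centralizer (A : Set S)
    have hgC : g ∈ C := mem_centralizer_iff.2 fun y hy => by
      obtain ⟨i, rfl⟩ := mem_zpowers_iff.1 ((hgen y).1 hy)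
      exact ((show Commute g a from mul_inv_eq_iff_eq_mul.1 hg).zpow_right i).eq.symm
    haveI : C.Normal := inferInstance
    haveI : (C.map (QuotientGroup.mk' A)).Normal :=
      Subgroup.Normal.map inferInstance _ (QuotientGroup.mk'_surjective _)
    have hne : C.map (QuotientGroup.mk' A) ≠ ⊥ := fun h => hgA (by
      have := mem_map_of_mem (QuotientGroup.mk' A) hgC
      rwa [h, mem_bot, QuotientGroup.mk'_apply, QuotientGroup.eq_one_iff] at this)
    obtain ⟨q, hq, hq1⟩ := (Subgroup.bot_or_exists_ne_one _).resolve_left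
      (CfsgLib.PGroup.inf_center_ne_bot (hS.to_quotient A) _ hne)
    obtain ⟨⟨b, hbC, rfl⟩, hqc⟩ := Subgroup.mem_inf.1 hq
    have hbA : b ∉ A := fun h => hq1 ((QuotientGroup.eq_one_iff b).2 h)
    have hBn : (A ⊔ zpowers b).Normal := by
      have e : A ⊔ zpowers b = (zpowers (QuotientGroup.mk' A b)).comap (QuotientGroup.mk' A) := by
        rw [← MonoidHom.map_zpowers, comap_map_eq, QuotientGroup.ker_mk', sup_comm]
      haveI : (zpowers (QuotientGroup.mk' A b)).Normal := normal_of_central (zpowers_le.2 hqc)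
      rw [e]
      exact Subgroup.Normal.comap inferInstance _
    have hBab : ∀ x ∈ A ⊔ zpowers b, ∀ y ∈ A ⊔ zpowers b, x * y = y * x := by
      intro x hx y hy
      obtain ⟨c, hc, _, ⟨i, rfl⟩, rfl⟩ := mem_sup_of_normal_left.1 hx
      obtain ⟨d, hd, _, ⟨j, rfl⟩, rfl⟩ := mem_sup_of_normal_left.1 hy
      have hbc : ∀ w ∈ A, Commute b w := fun w hw => (mem_centralizer_iff.1 hbC w hw).symm
      have c1 : Commute c (d * b ^ j) :=
        (show Commute c d from hAab c hc d hd).mul_right (((hbc c hc).symm).zpow_right j)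
      have c2 : Commute (b ^ i) (d * b ^ j) :=
        ((hbc d hd).zpow_left i).mul_right ((Commute.refl b).zpow_zpow i j)
      exact (c1.mul_left c2).eq
    exact hbA (hAmax.2 ⟨hBn, hBab⟩ le_sup_left (mem_sup_right (mem_zpowers b)))
  -- the action on `A`
  have hexp : ∀ g : S, ∃ i : ℤ, a ^ i = g * a * g⁻¹ := fun g =>
    mem_zpowers_iff.1 ((hgen _).1 (hAn.conj_mem a a₀.2 g))
  choose χ hχ using hexp
  have hmod : ∀ i j : ℤ, a ^ i = a ^ j ↔ (i : ZMod (2 ^ k)) = (j : ZMod (2 ^ k)) := fun i j => by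
    rw [zpow_eq_zpow_iff_modEq, hk, ZMod.intCast_eq_intCast_iff]
  let X : S →* ZMod (2 ^ k) :=
    { toFun := fun g => (χ g : ZMod (2 ^ k))
      map_one' := by
        rw [← Int.cast_one, ← hmod, hχ]
        simp
      map_mul' := fun g h => by
        rw [← Int.cast_mul, ← hmod, hχ, zpow_mul, hχ g, conj_zpow, hχ h]
        group }
  let Xu : S →* (ZMod (2 ^ k))ˣ := X.toHomUnits
  have hXker : ∀ g, g ∈ Xu.ker → g ∈ A := fun g hg => hCA g (by
    rw [← hχ g, ← zpow_one a, ← zpow_mul, one_mul, hmod, Int.cast_one]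
    exact congrArg Units.val (MonoidHom.mem_ker.1 hg))
  have hXA : A ≤ Xu.ker := fun g hg => MonoidHom.mem_ker.2 (Units.ext (by
    show (χ g : ZMod (2 ^ k)) = 1
    rw [← Int.cast_one, ← hmod, hχ, zpow_one, mul_inv_eq_iff_eq_mul]
    exact hAab g hg a a₀.2))
  have hker : Xu.ker = A := le_antisymm hXker hXA
  have hno : 3 ≤ k → ∀ g : S, (χ g : ZMod (2 ^ k)) ≠ 1 + 2 ^ (k - 1) := by
    intro hk3 g hg
    set h : ℤ := 2 ^ (k - 1) with hh
    have hh2 : h * 2 = 2 ^ k := by rw [hh, ← pow_succ, show k - 1 + 1 = k by omega]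
    have hconj : g * a * g⁻¹ = a ^ (1 + h) := by
      rw [← hχ g, hmod, hg, hh]; push_cast; rfl
    -- `g` is not in `A`
    have hgA : g ∉ A := fun hgA => by
      have h1 := congrArg Units.val (MonoidHom.mem_ker.1 (hXA hgA))
      change (χ g : ZMod (2 ^ k)) = 1 at h1
      rw [hg, add_eq_left] at h1
      have h2 : ((h : ℤ) : ZMod (2 ^ k)) = 0 := by rw [hh]; push_cast; exact h1
      rw [ZMod.intCast_zmod_eq_zero_iff_dvd] at h2
      push_cast at h2
      have h3 : (0 : ℤ) < h := by rw [hh]; positivity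
      have := Int.le_of_dvd h3 h2
      omega
    -- `g²` lies in `A`
    have hg2conj : g ^ 2 * a * (g ^ 2)⁻¹ = a := by
      have e : g ^ 2 * a * (g ^ 2)⁻¹ = a ^ ((1 + h) * (1 + h)) := by
        rw [zpow_mul, ← hconj, conj_zpow, ← hconj, pow_two]; group
      rw [e, ← zpow_one a, ← zpow_mul, one_mul, zpow_eq_zpow_iff_modEq, hk]
      refine (Int.modEq_iff_dvd.2 ?_).symm
      push_cast
      rw [← hh2]
      refine ⟨2 ^ (k - 2) * h + 1 - 2 ^ (k - 2) * h + 2 ^ (k - 2), ?_⟩
      have h4 : h = 2 * 2 ^ (k - 2) := by rw [hh, ← pow_succ', show k - 2 + 1 = k - 1 by omega]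
      rw [h4]; ring
    obtain ⟨i, hi⟩ := mem_zpowers_iff.1 ((hgen _).1 (hCA _ hg2conj))
    -- the exponent is even
    have hfix : a ^ ((1 + h) * i) = a ^ i := by
      rw [zpow_mul, ← hconj, conj_zpow, hi, pow_two]; group
    obtain ⟨j, rfl⟩ : (2 : ℤ) ∣ i := by
      rw [zpow_eq_zpow_iff_modEq, hk] at hfix
      have h1 := hfix.symm.dvd
      push_cast at h1
      rw [show (1 + h) * i - i = h * i by ring, ← hh2] at h1
      exact Int.dvd_of_mul_dvd_mul_left (by rw [hh]; positivity) h1
    -- adjust to an involution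
    set t : ℤ := 2 ^ (k - 2) with ht
    have ht2 : h = 2 * t := by rw [hh, ht, ← pow_succ', show k - 2 + 1 = k - 1 by omega]
    obtain ⟨l, hl⟩ : ∃ l : ℤ, (2 : ℤ) ^ k ∣ 2 * j + l * (1 + h + 1) := by
      · have hodd : IsCoprime ((2 : ℤ) ^ (k - 1)) (1 + t) :=
          IsCoprime.pow_left ((Int.prime_two).coprime_iff_not_dvd.2 (by
            have h5 : (2 : ℤ) ∣ t := by rw [ht]; exact dvd_pow_self 2 (by omega)
            intro h6
            have := (Int.dvd_add_left h5).1 h6
            norm_num at this))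
        obtain ⟨u, v, huv⟩ := hodd
        refine ⟨-j * v, ⟨j * u, ?_⟩⟩
        rw [← hh] at huv
        rw [← hh2, ht2] at *
        linear_combination (-2 * j) * huv
    set e := g * a ^ l with he
    have he2 : e ^ 2 = 1 := by
      have e1 : e ^ 2 = (g * a ^ l * g⁻¹) * (g ^ 2 * a ^ l) := by rw [he, pow_two, pow_two]; group
      rw [e1, ← conj_zpow, hconj, ← hi, ← zpow_mul, ← zpow_add, ← zpow_add,
        ← orderOf_dvd_iff_zpow_eq_one, hk]
      push_cast
      obtain ⟨c, hc⟩ := hl
      exact ⟨c, by linear_combination hc⟩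
    have heA : e ∉ A := fun h => hgA (by
      have := mul_mem h (inv_mem (zpow_mem a₀.2 l : a ^ l ∈ A))
      rwa [he, mul_inv_cancel_right] at this)
    obtain ⟨y, hy1, hy2⟩ := hE e he2 (fun h => heA (h ▸ one_mem A)) (fun h => heA (h ▸ hzA))
    have hm : e⁻¹ * (y * e * y⁻¹) ∈ A := by
      rw [← hker, MonoidHom.mem_ker, map_mul, map_mul, map_mul, map_inv, map_inv]
      rw [mul_comm (Xu y) (Xu e), mul_inv_cancel_right, inv_mul_cancel]
    obtain ⟨m, hm⟩ := mem_zpowers_iff.1 ((hgen _).1 hm)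
    have hye : y * e * y⁻¹ = e * a ^ m := by rw [hm, mul_inv_cancel_left]
    have hyy : (e * a ^ m) ^ 2 = 1 := by rw [← hye, conj_pow, he2, mul_one, mul_inv_cancel]
    have h7 : a ^ ((1 + h) * m + m) = 1 := by
      have e1 : (e * a ^ m) ^ 2 = (e * a ^ m * e⁻¹) * e ^ 2 * a ^ m := by rw [pow_two, pow_two]; group
      have e2 : e * a ^ m * e⁻¹ = a ^ ((1 + h) * m) := by
        rw [zpow_mul, ← hconj, conj_zpow, he]; group
      rwa [e1, he2, mul_one, e2, ← zpow_add] at hyy
    rw [← orderOf_dvd_iff_zpow_eq_one, hk] at h7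
    push_cast at h7
    have hsq : (a ^ m) ^ 2 = 1 := by
      rw [← zpow_natCast, ← zpow_mul, ← orderOf_dvd_iff_zpow_eq_one, hk]
      push_cast
      · have hodd : IsCoprime ((2 : ℤ) ^ (k - 1)) (1 + t) :=
          IsCoprime.pow_left ((Int.prime_two).coprime_iff_not_dvd.2 (by
            have h5 : (2 : ℤ) ∣ t := by rw [ht]; exact dvd_pow_self 2 (by omega)
            intro h6
            have := (Int.dvd_add_left h5).1 h6
            norm_num at this))
        rw [← hh] at hodd
        have h8 : h ∣ (1 + t) * m := by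
          rw [← hh2, show (1 + h) * m + m = ((1 + t) * m) * 2 by rw [ht2]; ring] at h7
          exact Int.dvd_of_mul_dvd_mul_right two_ne_zero h7
        obtain ⟨c, hc⟩ := hodd.dvd_of_dvd_mul_left h8
        exact ⟨c, by rw [hc, ← hh2]; ring⟩
    rcases hroots _ ((hgen _).2 (zpow_mem (mem_zpowers a) m)) hsq with h' | h'
    · exact hy1 (by rw [hye, h', mul_one])
    · exact hy2 (by rw [hye, h'])
  -- the image in the units needs one generator
  have hrange : (frattini Xu.range).index ≤ 2 := by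
    refine index_le_two_of_roots (hS.of_surjective Xu.rangeRestrict Xu.rangeRestrict_surjective)
      (fun p q => Subtype.ext (mul_comm _ _))
      (by classical exact if h : ∃ t : Xu.range, t ^ 2 = 1 ∧ t ≠ 1 then Classical.choose h else 1) fun x hx => ?_
    by_contra hcon
    rw [not_or] at hcon
    have hex : ∃ t : Xu.range, t ^ 2 = 1 ∧ t ≠ 1 := ⟨x, hx, hcon.1⟩
    rw [dif_pos hex] at hcon
    obtain ⟨hy2, hy1⟩ := Classical.choose_spec hex
    set y := Classical.choose hex
    have hroot : 3 ≤ k → ∀ w : Xu.range, w ^ 2 = 1 → w ≠ 1 →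
        ((w : (ZMod (2 ^ k))ˣ) : ZMod (2 ^ k)) = -1 ∨
        ((w : (ZMod (2 ^ k))ˣ) : ZMod (2 ^ k)) = -1 + 2 ^ (k - 1) := by
      intro hk3 w hw hw1
      obtain ⟨g, hg⟩ := w.2
      have hval : ((w : (ZMod (2 ^ k))ˣ) : ZMod (2 ^ k)) = χ g := by rw [← hg]; rfl
      rcases sq_roots hk1 _ (by
        have := congrArg (fun u : Xu.range => ((u : (ZMod (2 ^ k))ˣ) : ZMod (2 ^ k))) hw
        simpa [pow_two] using this) with h | h | h | h
      · exact absurd (Subtype.ext (Units.ext h)) hw1
      · exact Or.inl h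
      · exact absurd (hval.symm.trans h) (hno hk3 g)
      · exact Or.inr h
    obtain ⟨g, hg⟩ := (x * y).2
    have hval : ((((x * y : Xu.range)) : (ZMod (2 ^ k))ˣ) : ZMod (2 ^ k)) = χ g := by rw [← hg]; rfl
    have hval2 : ((((x * y : Xu.range)) : (ZMod (2 ^ k))ˣ) : ZMod (2 ^ k)) =
        ((x : (ZMod (2 ^ k))ˣ) : ZMod (2 ^ k)) * ((y : (ZMod (2 ^ k))ˣ) : ZMod (2 ^ k)) := rfl
    rw [hval] at hval2
    have hdbl : (2 : ZMod (2 ^ k)) ^ (k - 1) + 2 ^ (k - 1) = 0 := by
      rw [← two_mul, ← pow_succ', show k - 1 + 1 = k by omega]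
      exact_mod_cast ZMod.natCast_self (2 ^ k)
    rcases Nat.lt_or_ge k 3 with hk3 | hk3
    · have hu : ∀ u v : (ZMod (2 ^ k))ˣ, u ≠ 1 → v ≠ 1 → u = v := by
        interval_cases k <;> decide
      exact hcon.2 (Subtype.ext (hu _ _ (fun h => hcon.1 (Subtype.ext h)) (fun h => hy1 (Subtype.ext h))))
    rcases hroot hk3 x hx hcon.1 with hxv | hxv <;> rcases hroot hk3 y hy2 hy1 with hyv | hyv
    · exact hcon.2 (Subtype.ext (Units.ext (hxv.trans hyv.symm)))
    · exact hno hk3 g (by rw [hval2, hxv, hyv]; linear_combination (-1 : ZMod (2 ^ k)) * hdbl)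
    · exact hno hk3 g (by rw [hval2, hxv, hyv]; linear_combination (-1 : ZMod (2 ^ k)) * hdbl)
    · exact hcon.2 (Subtype.ext (Units.ext (hxv.trans hyv.symm)))
  have h5 := frattini_index_le hS Xu
  rw [hker] at h5
  exact h5.trans (Nat.mul_le_mul hrange hA2)

end CfsgLib.FGS.TwoGroupRank
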