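import Cfsg.Agent.Lib.FGS.FreeOverComplement
import Mathlib.LinearAlgebra.Eigenspace.Pi
import Mathlib.LinearAlgebra.Eigenspace.Triangularizable
import Mathlib.LinearAlgebra.TensorProduct.Basis

/-!
Fixed vectors of a 2-group in characteristic two: one for each orbit on the weights of a normal abelian
subgroup of odd order, after extension to an algebraically closed field.
-/

set_option autoImplicit false

namespace CfsgLib.FGS.WeightOrbits

open scoped TensorProduct
open scoped commutatorElement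
open Module
open scoped Classical

/-! ### Submodules over index sets -/

section Indep

variable {ι k M : Type*} [Field k] [AddCommGroup M] [Module k M] {W : ι → Submodule k M}

/-- The sum of the `W i`, `i ∈ A`. -/
def part (W : ι → Submodule k M) (A : Set ι) : Submodule k M := ⨆ i ∈ A, W i

theorem part_mono {A B : Set ι} (h : A ⊆ B) : part W A ≤ part W B := biSup_mono h

theorem le_part {A : Set ι} {i : ι} (hi : i ∈ A) : W i ≤ part W A := le_biSup W hi

theorem disjoint_part (hW : iSupIndep W) {A B : Set ι} (h : Disjoint A B) :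
    Disjoint (part W A) (part W B) := hW.disjoint_biSup_biSup h

theorem part_inter (hW : iSupIndep W) {A B : Set ι} {x : M} (hA : x ∈ part W A) (hB : x ∈ part W B) :
    x ∈ part W (A ∩ B) := by
  have e : part W A = part W (A ∩ B) ⊔ part W (A \ B) := by
    rw [part, part, part, ← iSup_union, Set.inter_union_sdiff]
  rw [e, Submodule.mem_sup] at hA
  obtain ⟨a, ha, b, hb, rfl⟩ := hA
  have hbB : b ∈ part W B := by
    have := Submodule.sub_mem _ hB (part_mono Set.inter_subset_right ha)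
    rwa [add_sub_cancel_left] at this
  have h0 : b ∈ (⊥ : Submodule k M) :=
    (disjoint_part hW Set.disjoint_sdiff_left).le_bot ⟨hb, hbB⟩
  rw [Submodule.mem_bot] at h0
  rw [h0, add_zero]
  exact ha

theorem exists_minimal_support (hW : iSupIndep W) {x : M} {O : Set ι} (hOf : O.Finite)
    (hx : x ∈ part W O) :
    ∃ A ⊆ O, x ∈ part W A ∧ ∀ B : Set ι, x ∈ part W B → A ⊆ B := by
  obtain ⟨A, ⟨hAO, hA⟩, hmin⟩ := (measure (fun A : Set ι => A.ncard)).wf.has_min
    {A | A ⊆ O ∧ x ∈ part W A} ⟨O, Set.Subset.rfl, hx⟩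
  refine ⟨A, hAO, hA, fun B hB => ?_⟩
  have h1 : A ∩ B = A := Set.eq_of_subset_of_ncard_le Set.inter_subset_left
    (not_lt.1 (hmin (A ∩ B) ⟨Set.inter_subset_left.trans hAO, part_inter hW hA hB⟩)) (hOf.subset hAO)
  exact h1.ge.trans Set.inter_subset_right

end Indep

/-! ### Extension of scalars -/

variable {S : Type*} [Group S] {E : Type*} [AddCommGroup E] [Module (ZMod 2) E]

variable (k : Type*) [Field k] [Algebra (ZMod 2) k]

/-- The representation over the larger field. -/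
noncomputable def ext (ρ : Representation (ZMod 2) S E) : S →* Module.End k (k ⊗[ZMod 2] E) where
  toFun g := (ρ g).baseChange k
  map_one' := by rw [map_one]; exact LinearMap.baseChange_id
  map_mul' a b := by rw [map_mul]; exact LinearMap.baseChange_mul (ρ a) (ρ b)

/-- The fixed vectors of a subgroup. -/
def fixedPts (ρ : Representation (ZMod 2) S E) (P : Subgroup S) : Submodule (ZMod 2) E :=
  ⨅ s ∈ P, LinearMap.ker (ρ s - LinearMap.id)

theorem mem_fixedPts {ρ : Representation (ZMod 2) S E} {P : Subgroup S} {v : E} :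
    v ∈ fixedPts ρ P ↔ ∀ s ∈ P, ρ s v = v := by
  simp [fixedPts, Submodule.mem_iInf, sub_eq_zero]

theorem ext_tmul (ρ : Representation (ZMod 2) S E) (g : S) (c : k) (e : E) :
    ext k ρ g (c ⊗ₜ e) = c ⊗ₜ ρ g e := rfl

variable {k}

theorem coord_ext {ι : Type*} [DecidableEq ι] (b : Basis ι (ZMod 2) k) (ρ : Representation (ZMod 2) S E) (g : S)
    (z : k ⊗[ZMod 2] E) (i : ι) :
    TensorProduct.equivFinsuppOfBasisLeft b (ext k ρ g z) i =
      ρ g (TensorProduct.equivFinsuppOfBasisLeft b z i) := by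
  induction z using TensorProduct.induction_on with
  | zero => simp
  | tmul c e =>
    rw [ext_tmul, TensorProduct.equivFinsuppOfBasisLeft_apply_tmul_apply,
      TensorProduct.equivFinsuppOfBasisLeft_apply_tmul_apply, map_smul]
  | add x y hx hy => simp only [map_add, Finsupp.add_apply, hx, hy]

theorem mem_span_fixedPts (ρ : Representation (ZMod 2) S E) (P : Subgroup S) {z : k ⊗[ZMod 2] E}
    (hz : ∀ s ∈ P, ext k ρ s z = z) :
    z ∈ Submodule.span k ((fun e : E => (1 : k) ⊗ₜ[ZMod 2] e) '' (fixedPts ρ P : Set E)) := by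
  let b := Basis.ofVectorSpace (ZMod 2) k
  set φ := TensorProduct.equivFinsuppOfBasisLeft b (N := E)
  have hfix : ∀ i, φ z i ∈ fixedPts ρ P := fun i => mem_fixedPts.2 fun s hs => by
    show ρ s (TensorProduct.equivFinsuppOfBasisLeft b z i) = TensorProduct.equivFinsuppOfBasisLeft b z i
    have h := (coord_ext b ρ s z i).symm.trans (by rw [hz s hs])
    exact h
  have hz' : z = (φ z).sum fun i e => b i ⊗ₜ[ZMod 2] e := by
    conv_lhs => rw [← φ.symm_apply_apply z]
    show φ.symm.toLinearMap (φ z) = _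
    rw [TensorProduct.equivFinsuppOfBasisLeft_symm]
    rfl
  rw [hz']
  refine Submodule.sum_mem _ fun i _ => ?_
  have e : b i ⊗ₜ[ZMod 2] (φ z i) = b i • ((1 : k) ⊗ₜ[ZMod 2] (φ z i)) := by
    rw [TensorProduct.smul_tmul', smul_eq_mul, mul_one]
  show b i ⊗ₜ[ZMod 2] (φ z i) ∈ _
  rw [e]
  exact Submodule.smul_mem _ _ (Submodule.subset_span ⟨_, hfix i, rfl⟩)

theorem finrank_span_fixedPts_le [Finite E] (ρ : Representation (ZMod 2) S E) (P : Subgroup S) :
    finrank k ↥(Submodule.span k ((fun e : E => (1 : k) ⊗ₜ[ZMod 2] e) '' (fixedPts ρ P : Set E))) ≤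
      finrank (ZMod 2) ↥(fixedPts ρ P) := by
  classical
  let b := finBasis (ZMod 2) ↥(fixedPts ρ P)
  have hle : Submodule.span k ((fun e : E => (1 : k) ⊗ₜ[ZMod 2] e) '' (fixedPts ρ P : Set E)) ≤
      Submodule.span k (Set.range fun i => (1 : k) ⊗ₜ[ZMod 2] (b i : E)) := by
    rw [Submodule.span_le]
    rintro _ ⟨e, he, rfl⟩
    have h1 : (⟨e, he⟩ : fixedPts ρ P) = ∑ i, b.repr ⟨e, he⟩ i • b i := (b.sum_repr _).symm
    have h2 : e = ∑ i, b.repr ⟨e, he⟩ i • (b i : E) := by
      have h3 := congrArg (fixedPts ρ P).subtype h1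
      rw [map_sum] at h3
      exact h3.trans (Finset.sum_congr rfl fun i _ => rfl)
    show (1 : k) ⊗ₜ[ZMod 2] e ∈ _
    rw [h2, TensorProduct.tmul_sum]
    refine Submodule.sum_mem _ fun i _ => ?_
    rw [TensorProduct.tmul_smul, ← algebraMap_smul k (b.repr ⟨e, he⟩ i)]
    exact Submodule.smul_mem _ _ (Submodule.subset_span ⟨i, rfl⟩)
  refine (Submodule.finrank_mono hle).trans ?_
  exact (finrank_range_le_card fun i => (1 : k) ⊗ₜ[ZMod 2] (b i : E)).trans
    (Fintype.card_fin _).le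

/-! ### Weights -/

variable (k)

/-- The action of `S` on functions on a normal subgroup. -/
def shift (V : Subgroup S) [hV : V.Normal] (g : S) (χ : ↥V → k) : ↥V → k :=
  fun v => χ ⟨g⁻¹ * v * g, by simpa using hV.conj_mem v v.2 g⁻¹⟩

theorem shift_mul (V : Subgroup S) [V.Normal] (g h : S) (χ : ↥V → k) :
    shift k V (g * h) χ = shift k V g (shift k V h χ) := by
  funext v
  refine congrArg χ (Subtype.ext ?_)
  show (g * h)⁻¹ * v * (g * h) = h⁻¹ * (g⁻¹ * v * g) * h
  group

theorem shift_one (V : Subgroup S) [V.Normal] (χ : ↥V → k) : shift k V 1 χ = χ := by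
  funext v
  refine congrArg χ (Subtype.ext ?_)
  show (1 : S)⁻¹ * v * 1 = v
  group

/-- The common eigenspace of a weight. -/
noncomputable def wt (ρ : Representation (ZMod 2) S E) (V : Subgroup S) (χ : ↥V → k) :
    Submodule k (k ⊗[ZMod 2] E) :=
  ⨅ v : ↥V, Module.End.eigenspace (ext k ρ (v : S)) (χ v)

variable {k}

theorem mem_wt {ρ : Representation (ZMod 2) S E} {V : Subgroup S} {χ : ↥V → k} {w : k ⊗[ZMod 2] E} :
    w ∈ wt k ρ V χ ↔ ∀ v : ↥V, ext k ρ (v : S) w = χ v • w := by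
  simp [wt, Submodule.mem_iInf, Module.End.mem_eigenspace_iff]

theorem ext_mem_wt (ρ : Representation (ZMod 2) S E) (V : Subgroup S) [hV : V.Normal] (g : S)
    {χ : ↥V → k} {w : k ⊗[ZMod 2] E} (hw : w ∈ wt k ρ V χ) :
    ext k ρ g w ∈ wt k ρ V (shift k V g χ) := by
  refine mem_wt.2 fun v => ?_
  have h1 := mem_wt.1 hw ⟨g⁻¹ * v * g, by simpa using hV.conj_mem v v.2 g⁻¹⟩
  calc ext k ρ (v : S) (ext k ρ g w) = ext k ρ g (ext k ρ (g⁻¹ * v * g) w) := by
        rw [← Module.End.mul_apply, ← map_mul, ← Module.End.mul_apply, ← map_mul]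
        congr 2
        group
    _ = shift k V g χ v • ext k ρ g w := by rw [h1, map_smul]; rfl

theorem ext_mem_part (ρ : Representation (ZMod 2) S E) (V : Subgroup S) [V.Normal] (g : S)
    {A : Set (↥V → k)} {w : k ⊗[ZMod 2] E} (hw : w ∈ part (wt k ρ V) A) :
    ext k ρ g w ∈ part (wt k ρ V) (shift k V g '' A) := by
  have hle : part (wt k ρ V) A ≤ (part (wt k ρ V) (shift k V g '' A)).comap (ext k ρ g) :=
    iSup₂_le fun χ hχ u hu => le_part (A := shift k V g '' A) ⟨χ, hχ, rfl⟩ (ext_mem_wt ρ V g hu)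
  exact hle hw

theorem iSupIndep_wt (ρ : Representation (ZMod 2) S E) (V : Subgroup S)
    (hVc : ∀ a ∈ V, ∀ b ∈ V, a * b = b * a) : iSupIndep (wt k ρ V) := by
  have h := Module.End.independent_iInf_maxGenEigenspace_of_forall_mapsTo
    (f := fun v : ↥V => ext k ρ (v : S)) (fun i j φ => Module.End.mapsTo_maxGenEigenspace_of_comm ?_ φ)
  · exact h.mono fun χ => iInf_mono fun v => Module.End.eigenspace_le_maxGenEigenspace
  · show ext k ρ (j : S) * ext k ρ (i : S) = ext k ρ (i : S) * ext k ρ (j : S)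
    rw [← map_mul, ← map_mul, hVc _ j.2 _ i.2]

theorem exists_wt [Finite E] [IsAlgClosed k] [CharP k 2] (ρ : Representation (ZMod 2) S E) (V : Subgroup S) [Finite V]
    (hVc : ∀ a ∈ V, ∀ b ∈ V, a * b = b * a) (hodd : Odd (Nat.card V))
    {v₀ : S} (hv₀ : v₀ ∈ V) (hne : ρ v₀ ≠ 1) :
    ∃ χ : ↥V → k, wt k ρ V χ ≠ ⊥ ∧ χ ⟨v₀, hv₀⟩ ≠ 1 ∧
      ∀ a b : ↥V, χ (a * b) = χ a * χ b := by
  set A := ext k ρ v₀ with hA
  set R := LinearMap.range (A - 1) with hR
  have hR0 : R ≠ ⊥ := by
    intro h0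
    rw [hR, LinearMap.range_eq_bot] at h0
    replace h0 : A = 1 := sub_eq_zero.1 h0
    apply hne
    refine LinearMap.ext fun e => ?_
    have h1 := LinearMap.congr_fun h0 ((1 : k) ⊗ₜ[ZMod 2] e)
    rw [hA, ext_tmul, Module.End.one_apply] at h1
    let b := Basis.ofVectorSpace (ZMod 2) k
    obtain ⟨i, hi⟩ : ∃ i, b.repr (1 : k) i ≠ 0 := by
      by_contra hcon
      push Not at hcon
      exact one_ne_zero (b.repr.map_eq_zero_iff.1 (Finsupp.ext hcon))
    have h2 := congrArg (fun z => TensorProduct.equivFinsuppOfBasisLeft b z i) h1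
    simp only [TensorProduct.equivFinsuppOfBasisLeft_apply_tmul_apply] at h2
    rw [Module.End.one_apply]
    exact smul_right_injective E hi h2
  have hcomm : ∀ v ∈ V, ∀ u ∈ R, ext k ρ v u ∈ R := by
    rintro v hv _ ⟨u, rfl⟩
    refine ⟨ext k ρ v u, ?_⟩
    simp only [LinearMap.sub_apply, Module.End.one_apply, map_sub, hA]
    rw [← Module.End.mul_apply, ← map_mul, hVc v₀ hv₀ v hv, map_mul, Module.End.mul_apply]
  haveI : Nontrivial R := Submodule.nontrivial_iff_ne_bot.2 hR0
  obtain ⟨μ, hμ⟩ := Module.End.exists_eigenvalue (K := k) (V := ↥R)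
    (A.restrict (p := R) (q := R) (hcomm v₀ hv₀) : Module.End k R)
  obtain ⟨⟨w, hwR⟩, hw, hw0⟩ := hμ.exists_hasEigenvector
  have hwμ : A w = μ • w := congrArg Subtype.val (Module.End.mem_eigenspace_iff.1 hw)
  have hw0' : w ≠ 0 := fun e => hw0 (Subtype.ext e)
  have hμ1 : μ ≠ 1 := by
    rintro rfl
    rw [one_smul] at hwμ
    obtain ⟨u, hu⟩ := hwR
    rw [LinearMap.sub_apply, Module.End.one_apply] at hu
    have hit : ∀ n : ℕ, (A ^ n) u = u + (n : k) • w := by
      intro n
      induction n with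
      | zero => simp
      | succ n ih =>
        rw [pow_succ', Module.End.mul_apply, ih, map_add, map_smul, hwμ,
          show A u = u + w by rw [← hu]; abel, Nat.cast_succ, add_smul, one_smul]
        abel
    have h1 := hit (Nat.card V)
    rw [hA, ← map_pow, show v₀ ^ Nat.card V = 1 from
      congrArg Subtype.val (pow_card_eq_one' (x := (⟨v₀, hv₀⟩ : V))), map_one, Module.End.one_apply,
      left_eq_add] at h1
    obtain ⟨m, hm⟩ := hodd
    rw [hm, Nat.cast_add, Nat.cast_mul, show ((2 : ℕ) : k) = 0 from CharP.cast_eq_zero k 2, zero_mul,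
      zero_add, Nat.cast_one, one_smul] at h1
    exact hw0' h1
  set P : Submodule k (k ⊗[ZMod 2] E) → Prop := fun U =>
    U ≠ ⊥ ∧ U ≤ Module.End.eigenspace A μ ∧ ∀ v ∈ V, ∀ u ∈ U, ext k ρ v u ∈ U with hP
  have hP0 : P (Module.End.eigenspace A μ) := by
    refine ⟨fun e => hw0' ?_, le_rfl, fun v hv u hu => ?_⟩
    · have : w ∈ Module.End.eigenspace A μ := Module.End.mem_eigenspace_iff.2 hwμ
      rwa [e, Submodule.mem_bot] at this
    · rw [Module.End.mem_eigenspace_iff] at hu ⊢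
      rw [hA, ← Module.End.mul_apply, ← map_mul, hVc v₀ hv₀ v hv, map_mul, Module.End.mul_apply,
        ← hA, hu, map_smul]
  obtain ⟨U, hU, hmin⟩ := wellFounded_lt.has_min {U | P U} ⟨_, hP0⟩
  obtain ⟨hU0, hUμ, hUinv⟩ := hU
  haveI : Nontrivial U := Submodule.nontrivial_iff_ne_bot.2 hU0
  have hscal : ∀ v : ↥V, ∃ c : k, ∀ u ∈ U, ext k ρ (v : S) u = c • u := by
    intro v
    obtain ⟨c, hc⟩ := Module.End.exists_eigenvalue (K := k) (V := ↥U)
      ((ext k ρ (v : S)).restrict (hUinv v v.2) : Module.End k U)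
    obtain ⟨⟨u, huU⟩, hu, hu0⟩ := hc.exists_hasEigenvector
    have huc : ext k ρ (v : S) u = c • u := congrArg Subtype.val (Module.End.mem_eigenspace_iff.1 hu)
    have hP1 : P (U ⊓ Module.End.eigenspace (ext k ρ (v : S)) c) := by
      refine ⟨fun e => hu0 ?_, inf_le_left.trans hUμ, fun y hy z hz => ⟨hUinv y hy z hz.1, ?_⟩⟩
      · have h3 : u ∈ U ⊓ Module.End.eigenspace (ext k ρ (v : S)) c :=
          ⟨huU, Module.End.mem_eigenspace_iff.2 huc⟩
        rw [e, Submodule.mem_bot] at h3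
        exact Subtype.ext h3
      · refine Module.End.mem_eigenspace_iff.2 ?_
        rw [← Module.End.mul_apply, ← map_mul, hVc _ v.2 y hy, map_mul, Module.End.mul_apply,
          Module.End.mem_eigenspace_iff.1 hz.2, map_smul]
    have hge : U ≤ U ⊓ Module.End.eigenspace (ext k ρ (v : S)) c := by
      by_contra hn
      exact hmin _ hP1 (lt_of_le_of_ne inf_le_left fun e => hn e.ge)
    exact ⟨c, fun z hz => Module.End.mem_eigenspace_iff.1 (hge hz).2⟩
  choose χ hχ using hscal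
  obtain ⟨u, hu, hu0⟩ := Submodule.exists_mem_ne_zero_of_ne_bot hU0
  refine ⟨χ, fun e => hu0 ?_, fun e => hμ1 ?_, fun a b => ?_⟩
  · have : u ∈ wt k ρ V χ := mem_wt.2 fun v => hχ v u hu
    rwa [e, Submodule.mem_bot] at this
  · have h1 := hχ ⟨v₀, hv₀⟩ u hu
    rw [e, ← hA, Module.End.mem_eigenspace_iff.1 (hUμ hu)] at h1
    exact smul_left_injective k hu0 h1
  · have h1 := hχ (a * b) u hu
    rw [Subgroup.coe_mul, map_mul, Module.End.mul_apply, hχ b u hu, map_smul, hχ a u hu, smul_smul] at h1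
    rw [mul_comm (χ a)]
    exact (smul_left_injective k hu0 h1).symm

/-! ### The bound -/

/-- The orbit of a weight. -/
def orb (k : Type*) (V : Subgroup S) [Field k] [V.Normal] (P : Subgroup S) (χ : ↥V → k) : Set (↥V → k) :=
  (fun s => shift k V s χ) '' (P : Set S)

theorem self_mem_orb (V : Subgroup S) [V.Normal] (P : Subgroup S) (χ : ↥V → k) : χ ∈ orb k V P χ :=
  ⟨1, one_mem P, shift_one k V χ⟩

theorem shift_image_orb (V : Subgroup S) [V.Normal] (P : Subgroup S) {s : S} (hs : s ∈ P) (χ : ↥V → k) :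
    shift k V s '' orb k V P χ = orb k V P χ := by
  apply Set.Subset.antisymm
  · rintro _ ⟨_, ⟨t, ht, rfl⟩, rfl⟩
    exact ⟨s * t, mul_mem hs ht, shift_mul k V s t χ⟩
  · rintro _ ⟨t, ht, rfl⟩
    refine ⟨_, ⟨s⁻¹ * t, mul_mem (inv_mem hs) ht, rfl⟩, ?_⟩
    show shift k V s (shift k V (s⁻¹ * t) χ) = _
    rw [← shift_mul, mul_inv_cancel_left]

theorem shift_injective (V : Subgroup S) [V.Normal] (g : S) : Function.Injective (shift k V g) := by
  intro a b h
  have := congrArg (shift k V g⁻¹) h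
  rwa [← shift_mul, ← shift_mul, inv_mul_cancel, shift_one, shift_one] at this

theorem shift_image_mul (V : Subgroup S) [V.Normal] (a b : S) (X : Set (↥V → k)) :
    shift k V (a * b) '' X = shift k V a '' (shift k V b '' X) := by
  rw [Set.image_image]
  exact Set.image_congr fun z _ => shift_mul k V a b z

theorem shift_image_one (V : Subgroup S) [V.Normal] (X : Set (↥V → k)) : shift k V (1 : S) '' X = X := by
  rw [show shift k V (1 : S) = id from funext (shift_one k V), Set.image_id]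

theorem orb_finite [Finite S] (V : Subgroup S) [V.Normal] (P : Subgroup S) (χ : ↥V → k) :
    (orb k V P χ).Finite := (Set.toFinite (P : Set S)).image _

theorem orb_eq_of_mem (V : Subgroup S) [V.Normal] (P : Subgroup S) {χ ψ : ↥V → k}
    (h : ψ ∈ orb k V P χ) : orb k V P ψ = orb k V P χ := by
  obtain ⟨s, hs, rfl⟩ := h
  apply Set.Subset.antisymm
  · rintro _ ⟨t, ht, rfl⟩
    exact ⟨t * s, mul_mem ht hs, shift_mul k V t s χ⟩
  · rintro _ ⟨t, ht, rfl⟩
    refine ⟨t * s⁻¹, mul_mem ht (inv_mem hs), ?_⟩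
    show shift k V (t * s⁻¹) (shift k V s χ) = _
    rw [← shift_mul, inv_mul_cancel_right]

theorem disjoint_orb (V : Subgroup S) [V.Normal] (P : Subgroup S) {χ ψ : ↥V → k}
    (h : orb k V P χ ≠ orb k V P ψ) : Disjoint (orb k V P χ) (orb k V P ψ) := by
  rw [Set.disjoint_left]
  intro z h1 h2
  exact h ((orb_eq_of_mem V P h1).symm.trans (orb_eq_of_mem V P h2))

/-- A nontrivial weight. -/
structure IsWeight (V : Subgroup S) (ψ : ↥V → k) : Prop where
  one : ψ 1 = 1
  mul : ∀ a b, ψ (a * b) = ψ a * ψ b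
  ne : ∃ v, ψ v ≠ 1

theorem IsWeight.shift {V : Subgroup S} [hV : V.Normal] {ψ : ↥V → k} (h : IsWeight V ψ) (g : S) :
    IsWeight V (shift k V g ψ) := by
  refine ⟨?_, fun a b => ?_, ?_⟩
  · show ψ _ = 1
    rw [← h.one]
    refine congrArg ψ (Subtype.ext ?_)
    show g⁻¹ * (1 : S) * g = 1
    group
  · show ψ _ = ψ _ * ψ _
    rw [← h.mul]
    refine congrArg ψ (Subtype.ext ?_)
    show g⁻¹ * ((a : S) * b) * g = g⁻¹ * a * g * (g⁻¹ * b * g)
    group
  · obtain ⟨v, hv⟩ := h.ne
    refine ⟨⟨g * v * g⁻¹, hV.conj_mem v v.2 g⟩, fun e => hv ?_⟩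
    rw [← e]
    refine congrArg ψ (Subtype.ext ?_)
    show (v : S) = g⁻¹ * (g * v * g⁻¹) * g
    group

/-- A subgroup with `[V, Q] = V` fixes no nontrivial weight. -/
theorem not_forall_shift_eq {V : Subgroup S} [hVn : V.Normal] {Q : Subgroup S} (hcomm : ⁅V, Q⁆ = V)
    {ψ : ↥V → k} (hψ : IsWeight V ψ) : ¬ ∀ y ∈ Q, shift k V y ψ = ψ := by
  intro hall
  let K : Subgroup S :=
    { carrier := {v | ∃ h : v ∈ V, ψ ⟨v, h⟩ = 1}
      one_mem' := ⟨one_mem V, hψ.one⟩
      mul_mem' := fun {a b} ha hb => by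
        obtain ⟨ha, ha'⟩ := ha
        obtain ⟨hb, hb'⟩ := hb
        exact ⟨mul_mem ha hb, by
          show ψ (⟨a, ha⟩ * ⟨b, hb⟩) = 1
          rw [hψ.mul, ha', hb', mul_one]⟩
      inv_mem' := fun {a} ha => by
        obtain ⟨ha, ha'⟩ := ha
        refine ⟨inv_mem ha, ?_⟩
        have h1 := hψ.mul ⟨a, ha⟩⁻¹ ⟨a, ha⟩
        rw [inv_mul_cancel, hψ.one, ha', mul_one] at h1
        exact h1.symm }
  have hle : ⁅V, Q⁆ ≤ K := by
    rw [Subgroup.commutator_le]
    intro v hv z hz
    have hzv : z * v⁻¹ * z⁻¹ ∈ V := hVn.conj_mem _ (inv_mem hv) z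
    have h2 : ψ ⟨v⁻¹, inv_mem hv⟩ = ψ ⟨z * v⁻¹ * z⁻¹, hzv⟩ := by
      have := congrFun (hall z hz) ⟨z * v⁻¹ * z⁻¹, hzv⟩
      rw [← this]
      refine congrArg ψ (Subtype.ext ?_)
      show v⁻¹ = z⁻¹ * (z * v⁻¹ * z⁻¹) * z
      group
    have hmem : ⁅v, z⁆ ∈ V := by
      rw [commutatorElement_def, show v * z * v⁻¹ * z⁻¹ = v * (z * v⁻¹ * z⁻¹) by group]
      exact mul_mem hv hzv
    refine ⟨hmem, ?_⟩
    calc ψ ⟨⁅v, z⁆, hmem⟩ = ψ (⟨v, hv⟩ * ⟨z * v⁻¹ * z⁻¹, hzv⟩) := congrArg ψ (Subtype.ext (by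
          show ⁅v, z⁆ = v * (z * v⁻¹ * z⁻¹)
          rw [commutatorElement_def]; group))
      _ = ψ (⟨v, hv⟩ * ⟨v⁻¹, inv_mem hv⟩) := by rw [hψ.mul, hψ.mul, h2]
      _ = 1 := by
        rw [show (⟨v, hv⟩ * ⟨v⁻¹, inv_mem hv⟩ : ↥V) = 1 from Subtype.ext (mul_inv_cancel v)]
        exact hψ.one
  obtain ⟨v, hv⟩ := hψ.ne
  rw [hcomm] at hle
  obtain ⟨_, h1⟩ := hle v.2
  exact hv h1

/-- An orbit of a `2`-group is not invariant under `Q` of odd prime order moving every weight. -/
theorem exists_not_invariant [Finite S] {V : Subgroup S} [V.Normal] {P Q : Subgroup S} (hP : IsPGroup 2 P)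
    {q : ℕ} (hq : q.Prime) (hq2 : q ≠ 2) (hQ : Nat.card Q = q) (hcomm : ⁅V, Q⁆ = V)
    {χ : ↥V → k} (hχ : IsWeight V χ) :
    ∃ y ∈ Q, shift k V y '' orb k V P χ ≠ orb k V P χ := by
  classical
  haveI := Fact.mk Nat.prime_two
  haveI := Fact.mk hq
  by_contra hinv
  push Not at hinv
  set O := orb k V P χ with hO
  letI : MulAction Q O :=
    { smul := fun y z => ⟨shift k V y z, (hinv y y.2).le ⟨z, z.2, rfl⟩⟩
      one_smul := fun z => Subtype.ext (shift_one k V z)
      mul_smul := fun a b z => Subtype.ext (shift_mul k V a b z) }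
  haveI : Finite O := (orb_finite V P χ).to_subtype
  letI : MulAction P O :=
    { smul := fun s z => ⟨shift k V s z, (shift_image_orb V P s.2 χ).le ⟨z, z.2, rfl⟩⟩
      one_smul := fun z => Subtype.ext (shift_one k V z)
      mul_smul := fun a b z => Subtype.ext (shift_mul k V a b z) }
  let z₀ : O := ⟨χ, self_mem_orb V P χ⟩
  have horb : MulAction.orbit P z₀ = Set.univ := by
    refine Set.eq_univ_of_forall fun z => ?_
    obtain ⟨_, s, hs, rfl⟩ := z
    exact ⟨⟨s, hs⟩, rfl⟩
  obtain ⟨n, hn⟩ := hP.card_orbit z₀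
  rw [horb, Nat.card_congr (Equiv.Set.univ O)] at hn
  have hQp : IsPGroup q Q := IsPGroup.of_card (n := 1) (by rw [hQ, pow_one])
  have hmod := hQp.card_modEq_card_fixedPoints O
  haveI : IsEmpty (MulAction.fixedPoints Q O) := by
    refine ⟨fun z => ?_⟩
    obtain ⟨⟨ψ, s, hs, rfl⟩, hz⟩ := z
    refine not_forall_shift_eq hcomm (hχ.shift s) fun y hy => ?_
    exact congrArg Subtype.val (hz ⟨y, hy⟩)
  rw [@Nat.card_of_isEmpty (MulAction.fixedPoints Q O) ‹_›, Nat.modEq_zero_iff_dvd, hn] at hmod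
  exact hq2 ((Nat.prime_dvd_prime_iff_eq hq Nat.prime_two).1 (hq.dvd_of_dvd_pow hmod))

theorem card_le_finrank {E : Type*} [AddCommGroup E] [Module (ZMod 2) E] [Finite E] [Finite S] [CharP k 2]
    (ρ : Representation (ZMod 2) S E) (V : Subgroup S) [V.Normal]
    (hW : iSupIndep (wt k ρ V)) (P : Subgroup S) (hP : IsPGroup 2 P) {m : ℕ} (χ : Fin m → ↥V → k)
    (hχ : ∀ i, wt k ρ V (χ i) ≠ ⊥) (hdist : ∀ i j, i ≠ j → orb k V P (χ i) ≠ orb k V P (χ j)) :
    m ≤ finrank (ZMod 2) ↥(fixedPts ρ P) := by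
  classical
  haveI := Fact.mk Nat.prime_two
  have hex : ∀ i, ∃ u, u ∈ part (wt k ρ V) (orb k V P (χ i)) ∧ u ≠ 0 ∧ ∀ s ∈ P, ext k ρ s u = u := by
    intro i
    set U := part (wt k ρ V) (orb k V P (χ i)) with hU
    haveI : Nontrivial U := Submodule.nontrivial_iff_ne_bot.2
      (ne_bot_of_le_ne_bot (hχ i) (le_part (self_mem_orb V P (χ i))))
    have hinv : ∀ s : P, ∀ u ∈ U, ext k ρ (s : S) u ∈ U := fun s u hu => by
      have h1 := ext_mem_part ρ V (s : S) hu
      rwa [shift_image_orb V P s.2] at h1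
    let r : ↥P →* Module.End k U :=
      { toFun := fun s => (ext k ρ (s : S)).restrict (hinv s)
        map_one' := LinearMap.ext fun u => Subtype.ext (by simp)
        map_mul' := fun a b => LinearMap.ext fun u => Subtype.ext (by simp) }
    obtain ⟨u, hu0, hu⟩ := CfsgLib.FGS.FreeCompl.exists_fixed_of_pGroup (k := k) (U := ↥U) hP r
    exact ⟨u, u.2, fun e => hu0 (Subtype.ext e), fun s hs => congrArg Subtype.val (hu ⟨s, hs⟩)⟩
  choose u huU hu0 hufix using hex
  set F := Submodule.span k ((fun e : E => (1 : k) ⊗ₜ[ZMod 2] e) '' (fixedPts ρ P : Set E)) with hF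
  have huF : ∀ i, u i ∈ F := fun i => mem_span_fixedPts ρ P (hufix i)
  have hind : iSupIndep fun i => part (wt k ρ V) (orb k V P (χ i)) := by
    intro i
    refine Disjoint.mono_right ?_ (disjoint_part hW (A := orb k V P (χ i))
      (B := ⋃ (j) (_ : j ≠ i), orb k V P (χ j)) ?_)
    · exact iSup₂_le fun j hj => part_mono (Set.subset_iUnion₂ (s := fun j _ => orb k V P (χ j)) j hj)
    · simp only [Set.disjoint_iUnion_right]
      exact fun j hj => disjoint_orb V P (hdist i j hj.symm)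
  have hli : LinearIndependent k u := hind.linearIndependent _ huU hu0
  have hli' : LinearIndependent k fun i => (⟨u i, huF i⟩ : F) :=
    LinearIndependent.of_comp F.subtype hli
  have h1 := hli'.fintype_card_le_finrank
  rw [Fintype.card_fin] at h1
  exact h1.trans (finrank_span_fixedPts_le ρ P)

theorem fixed_bound {E : Type*} [AddCommGroup E] [Module (ZMod 2) E] [Finite E] [Finite S]
    (ρ : Representation (ZMod 2) S E) (V : Subgroup S) [hVn : V.Normal]
    (hVc : ∀ a ∈ V, ∀ b ∈ V, a * b = b * a) (hodd : Odd (Nat.card V))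
    {v₀ : S} (hv₀ : v₀ ∈ V) (hne : ρ v₀ ≠ 1)
    (P Q : Subgroup S) (hP : IsPGroup 2 P) {q : ℕ} (hq : q.Prime) (hq2 : q ≠ 2) (hQ : Nat.card Q = q)
    (hPQ : Nat.card ↥(P ⊔ Q) = Nat.card P * q) (hcomm : ⁅V, Q⁆ = V) :
    8 ≤ Nat.card {v : E // ∀ s ∈ P, ρ s v = v} ∨
      (Nat.card {v : E // ∀ s ∈ P, ρ s v = v} = 4 ∧
        ∃ x ∈ Q, ∃ v : E, (∀ s ∈ P, ρ s v = v) ∧ ¬ ∀ s ∈ P, ρ s (ρ x v) = ρ x v) := by
  classical
  haveI := Fact.mk Nat.prime_two
  haveI := Fact.mk hq
  let k := AlgebraicClosure (ZMod 2)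
  haveI : CharP k 2 := charP_of_injective_algebraMap (algebraMap (ZMod 2) k).injective 2
  obtain ⟨χ, hχ0, hχ1, hχm⟩ := exists_wt (k := k) ρ V hVc hodd hv₀ hne
  have hχ : IsWeight V χ := by
    refine ⟨?_, hχm, ⟨⟨v₀, hv₀⟩, hχ1⟩⟩
    obtain ⟨u, hu, hu0⟩ := Submodule.exists_mem_ne_zero_of_ne_bot hχ0
    have h1 := mem_wt.1 hu 1
    rw [OneMemClass.coe_one, map_one, Module.End.one_apply] at h1
    exact (smul_left_injective k hu0 ((one_smul k u).trans h1)).symm
  have hW : iSupIndep (wt k ρ V) := iSupIndep_wt ρ V hVc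
  set O := orb k V P χ with hO
  have hwt : ∀ g : S, wt k ρ V (shift k V g χ) ≠ ⊥ := fun g e => by
    obtain ⟨u, hu, hu0⟩ := Submodule.exists_mem_ne_zero_of_ne_bot hχ0
    have h1 := ext_mem_wt ρ V g hu
    rw [e, Submodule.mem_bot] at h1
    refine hu0 ?_
    have h2 := congrArg (ext k ρ g⁻¹) h1
    rwa [← Module.End.mul_apply, ← map_mul, inv_mul_cancel, map_one, Module.End.one_apply, map_zero] at h2
  obtain ⟨y, hy, hyO⟩ := exists_not_invariant hP hq hq2 hQ hcomm hχ (P := P)
  -- a second orbit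
  obtain ⟨g, hgO⟩ : ∃ g : S, shift k V g χ ∉ O := by
    by_contra hall
    push Not at hall
    refine hyO (Set.eq_of_subset_of_ncard_le ?_ (Set.ncard_image_of_injective _ (shift_injective V y)).ge
      (orb_finite V P χ))
    rintro _ ⟨_, ⟨s, -, rfl⟩, rfl⟩
    show shift k V y (shift k V s χ) ∈ O
    rw [← shift_mul]
    exact hall _
  have htwo : 2 ≤ finrank (ZMod 2) ↥(fixedPts ρ P) := by
    refine card_le_finrank (k := k) ρ V hW P hP ![χ, shift k V g χ] ?_ ?_
    · intro i
      fin_cases i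
      · exact hχ0
      · exact hwt g
    · have hne' : orb k V P χ ≠ orb k V P (shift k V g χ) := fun e => hgO (by
        rw [hO, e]; exact self_mem_orb V P _)
      intro i j hij
      fin_cases i <;> fin_cases j
      · exact absurd rfl hij
      · exact hne'
      · exact hne'.symm
      · exact absurd rfl hij
  have hthree : Q ≤ Subgroup.normalizer (P : Set S) → 3 ≤ finrank (ZMod 2) ↥(fixedPts ρ P) := by
    intro hn
    have himg : ∀ z ∈ Q, orb k V P (shift k V z χ) = shift k V z '' O := by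
      intro z hz
      apply Set.Subset.antisymm
      · rintro _ ⟨s, hs, rfl⟩
        refine ⟨shift k V (z⁻¹ * s * z) χ, ⟨z⁻¹ * s * z, by
          simpa using (Subgroup.mem_normalizer_iff.1 (inv_mem (hn hz)) s).1 hs, rfl⟩, ?_⟩
        show shift k V z (shift k V (z⁻¹ * s * z) χ) = shift k V s (shift k V z χ)
        rw [← shift_mul, ← shift_mul]
        congr 1
        group
      · rintro _ ⟨_, ⟨s, hs, rfl⟩, rfl⟩
        refine ⟨z * s * z⁻¹, (Subgroup.mem_normalizer_iff.1 (hn hz) s).1 hs, ?_⟩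
        show shift k V (z * s * z⁻¹) (shift k V z χ) = shift k V z (shift k V s χ)
        rw [← shift_mul, ← shift_mul]
        congr 1
        group
    have hy1 : y ≠ 1 := by
      rintro rfl
      exact hyO (by rw [show shift k V (1 : S) = id from funext (shift_one k V)]; exact Set.image_id _)
    have hord : orderOf y = q := orderOf_eq_prime (by
      have := congrArg Subtype.val (pow_card_eq_one' (x := (⟨y, hy⟩ : Q)))
      rwa [hQ] at this) hy1
    have hgen : Subgroup.zpowers y = Q := Subgroup.eq_of_le_of_card_ge (Subgroup.zpowers_le.2 hy) (by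
      rw [Nat.card_zpowers, hord, hQ])
    let St : Subgroup S :=
      { carrier := {z | shift k V z '' O = O}
        one_mem' := by
          show shift k V (1 : S) '' O = O
          rw [show shift k V (1 : S) = id from funext (shift_one k V), Set.image_id]
        mul_mem' := fun {a b} (ha : shift k V a '' O = O) (hb : shift k V b '' O = O) => by
          show shift k V (a * b) '' O = O
          rw [show shift k V (a * b) = shift k V a ∘ shift k V b from funext (shift_mul k V a b),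
            Set.image_comp, hb, ha]
        inv_mem' := fun {a} (ha : shift k V a '' O = O) => by
          show shift k V a⁻¹ '' O = O
          conv_lhs => rw [← ha]
          rw [← shift_image_mul, inv_mul_cancel, shift_image_one] }
    have hmove : ∀ z ∈ Q, z ≠ 1 → shift k V z '' O ≠ O := fun z hz hz1 e => hyO <| by
      have hle : Q ≤ St := by
        rw [← Subgroup.eq_of_le_of_card_ge (Subgroup.zpowers_le.2 hz) (le_of_eq (by
          rw [Nat.card_zpowers, hQ, orderOf_eq_prime (by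
            have := congrArg Subtype.val (pow_card_eq_one' (x := (⟨z, hz⟩ : Q)))
            rwa [hQ] at this) hz1]))]
        exact Subgroup.zpowers_le.2 e
      exact hle hy
    refine card_le_finrank (k := k) ρ V hW P hP (fun i : Fin 3 => shift k V (y ^ (i : ℕ)) χ)
      (fun i => hwt _) ?_
    intro i j hij e
    rw [himg _ (pow_mem hy _), himg _ (pow_mem hy _)] at e
    refine hmove ((y ^ (i : ℕ))⁻¹ * y ^ (j : ℕ)) (mul_mem (inv_mem (pow_mem hy _)) (pow_mem hy _)) ?_ ?_
    · intro h1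
      rw [inv_mul_eq_one, pow_eq_pow_iff_modEq, hord] at h1
      have hq3 : 3 ≤ q := by have := hq.two_le; omega
      exact hij (Fin.ext (Nat.ModEq.eq_of_lt_of_lt h1 (i.2.trans_le hq3) (j.2.trans_le hq3)))
    · rw [shift_image_mul, ← e, ← shift_image_mul, inv_mul_cancel, shift_image_one]
  have hcard : Nat.card {v : E // ∀ s ∈ P, ρ s v = v} = 2 ^ finrank (ZMod 2) ↥(fixedPts ρ P) := by
    rw [show Nat.card {v : E // ∀ s ∈ P, ρ s v = v} = Nat.card ↥(fixedPts ρ P) from
      Nat.card_congr (Equiv.subtypeEquivRight fun v => (mem_fixedPts (ρ := ρ) (P := P)).symm),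
      Module.natCard_eq_pow_finrank (K := ZMod 2), Nat.card_zmod]
  by_cases h3 : 3 ≤ finrank (ZMod 2) ↥(fixedPts ρ P)
  · left
    rw [hcard]
    calc 8 = 2 ^ 3 := by norm_num
      _ ≤ _ := Nat.pow_le_pow_right (by norm_num) h3
  right
  refine ⟨by rw [hcard, show finrank (ZMod 2) ↥(fixedPts ρ P) = 2 by omega]; norm_num, ?_⟩
  by_contra hinv
  push Not at hinv
  have hQn : ∀ z ∈ Q, ∀ v ∈ fixedPts ρ P, ρ z v ∈ fixedPts ρ P := fun z hz v hv =>
    mem_fixedPts.2 (hinv z hz v (mem_fixedPts.1 hv))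
  let K : Subgroup S :=
    { carrier := {g | ∀ v ∈ fixedPts ρ P, ρ g v = v}
      one_mem' := fun v _ => by rw [map_one]; rfl
      mul_mem' := fun {a b} ha hb v hv => by rw [map_mul, Module.End.mul_apply, hb v hv, ha v hv]
      inv_mem' := fun {a} ha v hv => by
        conv_lhs => rw [← ha v hv]
        rw [← Module.End.mul_apply, ← map_mul, inv_mul_cancel, map_one]; rfl }
  set K₀ := K ⊓ (P ⊔ Q) with hK₀
  have hPK : P ≤ K₀ := le_inf (fun s hs v hv => mem_fixedPts.1 hv s hs) le_sup_left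
  have hQK : Q ≤ K₀ := by
    obtain ⟨m, hm⟩ := Subgroup.card_dvd_of_le hPK
    have hd := Subgroup.card_dvd_of_le (inf_le_right : K₀ ≤ P ⊔ Q)
    rw [hPQ, hm] at hd
    rcases (Nat.dvd_prime hq).1 (Nat.dvd_of_mul_dvd_mul_left Nat.card_pos hd) with rfl | rfl
    · exfalso
      have e : P = K₀ := Subgroup.eq_of_le_of_card_ge hPK (by rw [hm, mul_one])
      refine h3 (hthree fun z hz => ?_)
      rw [Subgroup.mem_normalizer_iff_map_conj_eq]
      refine Subgroup.eq_of_le_of_card_ge ?_ (Subgroup.card_map_of_injective (MulAut.conj z).injective).ge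
      rintro _ ⟨s, hs, rfl⟩
      rw [e]
      refine ⟨fun v hv => ?_, (P ⊔ Q).mul_mem ((P ⊔ Q).mul_mem (Subgroup.mem_sup_right hz) (Subgroup.mem_sup_left hs))
        ((P ⊔ Q).inv_mem (Subgroup.mem_sup_right hz))⟩
      show ρ (z * s * z⁻¹) v = v
      rw [map_mul, map_mul, Module.End.mul_apply, Module.End.mul_apply,
        mem_fixedPts.1 (hQn _ (inv_mem hz) v hv) s hs, ← Module.End.mul_apply, ← map_mul, mul_inv_cancel,
        map_one]
      rfl
    · have e : K₀ = P ⊔ Q := Subgroup.eq_of_le_of_card_ge inf_le_right (by rw [hPQ, hm])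
      rw [e]
      exact le_sup_right
  -- a fixed vector of `P` in the part of `O` has full support
  set U := part (wt k ρ V) O with hU
  haveI : Nontrivial U := Submodule.nontrivial_iff_ne_bot.2
    (ne_bot_of_le_ne_bot hχ0 (le_part (self_mem_orb V P χ)))
  have hUinv : ∀ s : P, ∀ u ∈ U, ext k ρ (s : S) u ∈ U := fun s u hu => by
    have h1 := ext_mem_part ρ V (s : S) hu
    rwa [shift_image_orb V P s.2] at h1
  let r : ↥P →* Module.End k U :=
    { toFun := fun s => (ext k ρ (s : S)).restrict (hUinv s)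
      map_one' := LinearMap.ext fun u => Subtype.ext (by simp)
      map_mul' := fun a b => LinearMap.ext fun u => Subtype.ext (by simp) }
  obtain ⟨⟨u, huU⟩, hu0, hu⟩ := CfsgLib.FGS.FreeCompl.exists_fixed_of_pGroup (k := k) (U := ↥U) hP r
  have hufix : ∀ s ∈ P, ext k ρ s u = u := fun s hs => congrArg Subtype.val (hu ⟨s, hs⟩)
  obtain ⟨A, hAO, hA, hmin⟩ := exists_minimal_support hW (orb_finite V P χ) huU
  have hAs : ∀ s ∈ P, shift k V s '' A = A := fun s hs => by
    refine (Set.eq_of_subset_of_ncard_le (hmin _ ?_) (Set.ncard_image_le ((orb_finite V P χ).subset hAO))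
      (((orb_finite V P χ).subset hAO).image _)).symm
    have h1 := ext_mem_part ρ V s hA
    rwa [hufix s hs] at h1
  have hAeq : A = O := by
    refine Set.Subset.antisymm hAO ?_
    obtain ⟨ψ, hψ⟩ : A.Nonempty := by
      rcases A.eq_empty_or_nonempty with rfl | h
      · exfalso
        refine hu0 (Subtype.ext ?_)
        simpa [part] using hA
      · exact h
    intro z hz
    obtain ⟨s, hs, e⟩ := (orb_eq_of_mem V P (hAO hψ)).ge hz
    rw [← hAs s hs, ← e]
    exact ⟨ψ, hψ, rfl⟩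
  have hall : ∀ z ∈ Submodule.span k ((fun e : E => (1 : k) ⊗ₜ[ZMod 2] e) '' (fixedPts ρ P : Set E)),
      ext k ρ y z = z := by
    intro z hz
    induction hz using Submodule.span_induction with
    | mem z hz =>
      obtain ⟨e, he, rfl⟩ := hz
      rw [ext_tmul, (hQK hy).1 e he]
    | zero => rw [map_zero]
    | add a b _ _ ha hb => rw [map_add, ha, hb]
    | smul c a _ ha => rw [map_smul, ha]
  have huy : ext k ρ y u = u := hall u (mem_span_fixedPts ρ P hufix)
  have h1 := ext_mem_part ρ V y (hAeq ▸ hA)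
  rw [huy] at h1
  have h2 := hmin _ h1
  rw [hAeq] at h2
  exact hyO (Set.eq_of_subset_of_ncard_le h2
    (Set.ncard_image_le (orb_finite V P χ)) ((orb_finite V P χ).image _)).symm

end CfsgLib.FGS.WeightOrbits
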